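import Groth.Agent.FTDescent.FP
import Groth.Agent.FTDescent.Gen
import Groth.Agent.QCoh.LocFree
import Groth.Agent.KFlatLib.Perfect.FiniteType
import Groth.Agent.KFlatLib.Scheme.TildePC
import Groth.Agent.H23.PullPush
import Mathlib.Algebra.Category.ModuleCat.Sheaf.LocallyFree

/-!
# Finiteness conditions: finite locally free as locally free of finite type, descent along fppf families
-/

set_option autoImplicit false
set_option linter.style.haveILetI false
set_option backward.isDefEq.respectTransparency false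
set_option backward.isDefEq.respectTransparency.types false

universe u

open CategoryTheory CategoryTheory.Limits AlgebraicGeometry Opposite TopologicalSpace

namespace Groth.Agent.StModLib

variable {X : Scheme.{u}} {M : X.Modules}

/-- Over an affine open inside a trivialising open, the basis of a module of finite type is finite. -/
theorem finite_of_freeIso (hM : Coh.IsQCoh M) (hft : CohB1.IsFT M) {U V : X.Opens} (hV : IsAffineOpen V)
    (hle : V ≤ U) {x : X} (hx : x ∈ V) {I : Type u}
    (e : M.restrict U.ι ≅ (SheafOfModules.free.{u} I : (U : Scheme.{u}).Modules)) : Finite I := by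
  let R : CommRingCat.{u} := Γ(X, V)
  let j : Spec R ⟶ (U : Scheme.{u}) := hV.isoSpec.inv ≫ X.homOfLE hle
  have : PreservesColimitsOfSize.{u, u} (Scheme.Modules.restrictFunctor j) := inferInstance
  let e₁ : M.restrict hV.fromSpec ≅ (SheafOfModules.free.{u} I : (Spec R).Modules) :=
    (Scheme.Modules.restrictFunctorCongr (show hV.fromSpec = j ≫ U.ι by
      simp only [j, Category.assoc, Scheme.homOfLE_ι, IsAffineOpen.isoSpec_inv_ι])).app M ≪≫
      (QCoh.restrictRestrict M _ _).symm ≪≫ (Scheme.Modules.restrictFunctor j).mapIso e ≪≫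
      (SheafOfModules.mapFreeIso (Scheme.Modules.restrictFunctor j) I
        (Scheme.Modules.restrictUnitIso j).symm).symm
  let l : moduleSpecΓFunctor.obj (M.restrict hV.fromSpec) ≃ₗ[R] (I →₀ R) :=
    (moduleSpecΓFunctor.mapIso (e₁ ≪≫ (tildeFinsupp (R := R) I).symm) ≪≫
      ((tilde.toTildeΓNatIso (R := R)).app (ModuleCat.of R (I →₀ R))).symm).toLinearEquiv
  haveI := QCoh.finite_of_isFT hM hft hV
  haveI : Module.Finite R (I →₀ R) := Module.Finite.equiv ((QCoh.chartEquiv hV M).trans l)
  haveI : Nontrivial R := (X.presheaf.germ V x hx).hom.domain_nontrivial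
  exact Module.Finite.finite_basis (Finsupp.basisSingleOne (R := R) (ι := I))

/-- Locally free and of finite type is finite locally free. -/
theorem isFinLocFree_of_isLocallyFree (h : SheafOfModules.IsLocallyFree (R := X.ringCatSheaf) M)
    (hft : CohB1.IsFT M) : FlatMod.IsFinLocFree M := by
  have hM : Coh.IsQCoh M := by
    haveI := h; exact (inferInstance : SheafOfModules.IsQuasicoherent (R := X.ringCatSheaf) M)
  obtain ⟨q, hq⟩ := h.exists_isLocallyFreeData
  intro x
  obtain ⟨i, hxU⟩ : ∃ i, x ∈ q.X i :=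
    Opens.mem_iSup.1 (((Opens.coversTop_iff _ _).1 q.coversTop).symm ▸ trivial)
  haveI := hq.isIso i
  let U : X.Opens := q.X i
  let g := (q.generators i).map (Scheme.Modules.overEquiv U).functor
    (TopologicalSpace.Opens.sheafOfModulesEquivOverUnit U X.ringCatSheaf).symm
  haveI : IsIso g.π := by
    show IsIso ((q.generators i).map (Scheme.Modules.overEquiv U).functor _).π
    infer_instance
  let e : M.restrict U.ι ≅ (SheafOfModules.free.{u} g.I : (U : Scheme.{u}).Modules) :=
    ((asIso g.π) ≪≫ (Scheme.Modules.overFunctorEquiv U).app M).symm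
  obtain ⟨_, ⟨V, hV, rfl⟩, hxV, hle⟩ :=
    X.isBasis_affineOpens.exists_subset_of_mem_open (show x ∈ U from hxU) U.2
  haveI := finite_of_freeIso hM hft hV hle hxV e
  letI := Fintype.ofFinite g.I
  exact ⟨U, Fintype.card g.I, hxU, ⟨e ≪≫ (KFlatLib.freeFintypeIso _ g.I).symm⟩⟩

/-- Finite locally free is locally free. -/
theorem isLocallyFree_of_isFinLocFree (h : FlatMod.IsFinLocFree M) :
    SheafOfModules.IsLocallyFree (R := X.ringCatSheaf) M := by
  choose W n hx e using h
  have hg : ∀ x, ∃ g : (SheafOfModules.over M (W x)).GeneratingSections, IsIso g.π := fun x => by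
    obtain ⟨e⟩ := e x
    let q : SheafOfModules.free.{u} (ULift.{u} (Fin (n x))) ⟶ M.restrict (W x).ι :=
      (QCoh.freeModIso _ (n x)).inv ≫ e.inv
    haveI hq : IsIso q :=
      @IsIso.comp_isIso _ _ _ _ _ (QCoh.freeModIso _ (n x)).inv e.inv inferInstance inferInstance
    let g₁ : SheafOfModules.GeneratingSections (M.restrict (W x).ι) :=
      ⟨ULift.{u} (Fin (n x)), SheafOfModules.freeHomEquiv _ q,
        by rw [Equiv.symm_apply_apply]; infer_instance⟩
    have hπ : g₁.π = q := Equiv.symm_apply_apply _ q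
    haveI : IsIso g₁.π := by rw [hπ]; exact hq
    let p := (((Scheme.Modules.overEquiv (W x)).inverse.mapIso
          ((Scheme.Modules.overFunctorEquiv (W x)).app M).symm ≪≫
        ((Scheme.Modules.overEquiv (W x)).unitIso.app (SheafOfModules.over M (W x))).symm))
    refine ⟨(g₁.map (Scheme.Modules.overEquiv (W x)).inverse
      (TopologicalSpace.Opens.sheafOfModulesEquivOverInverseUnit (W x) X.ringCatSheaf).symm).ofEpi p.hom, ?_⟩
    rw [SheafOfModules.GeneratingSections.ofEpi_π]
    infer_instance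
  choose g hg using hg
  let q : SheafOfModules.LocalGeneratorsData.{u} (R := X.ringCatSheaf) M :=
    { I := X, X := W,
      coversTop := (Opens.coversTop_iff _ W).2
        (top_le_iff.1 fun x _ => Opens.mem_iSup.2 ⟨x, hx x⟩),
      generators := g }
  have hq : q.IsLocallyFreeData := by
    constructor
    exact hg
  constructor
  exact ⟨q, hq⟩

theorem isFinLocFree_iff_isLocallyFree :
    FlatMod.IsFinLocFree M ↔ SheafOfModules.IsLocallyFree (R := X.ringCatSheaf) M ∧ CohB1.IsFT M :=
  ⟨fun h => ⟨isLocallyFree_of_isFinLocFree h, QCoh.isFT_of_isFP (QCoh.isFP_of_isFinLocFree h)⟩,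
    fun h => isFinLocFree_of_isLocallyFree h.1 h.2⟩

/-- Finite presentation descends along fpqc families. -/
theorem isFP_of_fpqc_family {ι : Type u} {Xi : ι → Scheme.{u}} (f : ∀ i, Xi i ⟶ X)
    (hf : Presieve.ofArrows Xi f ∈ Scheme.fpqcPrecoverage X) (hM : Coh.IsQCoh M)
    (h : ∀ i, CohB1.IsFP ((Scheme.Modules.pullback (f i)).obj M)) : CohB1.IsFP M := by
  haveI : QuasiCompactCover (⟨ι, Xi, f⟩ : PreZeroHypercover.{u} X) :=
    Scheme.presieve₀_mem_qcPrecoverage_iff.1 hf.1
  have hflat : ∀ i, Flat (f i) := ((Scheme.ofArrows_mem_precoverage_iff _).1 hf.2).2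
  refine (QCoh.isFP_iff hM).2 fun ⟨V, hV⟩ => ?_
  obtain ⟨n, a, W, hW, hUV⟩ := QuasiCompactCover.exists_isAffineOpen_of_isCompact
    (⟨ι, Xi, f⟩ : PreZeroHypercover.{u} X) hV.isCompact
  have hle : ∀ k, W k ≤ f (a k) ⁻¹ᵁ V := fun k z hz => hUV.le (Set.mem_iUnion.2 ⟨k, z, hz, rfl⟩)
  letI : ∀ k, Algebra Γ(X, V) Γ(Xi (a k), W k) := fun k => ((f (a k)).appLE V (W k) (hle k)).hom.toAlgebra
  haveI : ∀ k, Module.Flat Γ(X, V) Γ(Xi (a k), W k) := fun k => by
    haveI := hflat (a k)
    exact (f (a k)).flat_appLE hV (hW k) (hle k)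
  refine FTDescent.finitePresentation_of_forall_baseChange (fun k => Γ(Xi (a k), W k)) (fun p => ?_) fun k => ?_
  · obtain ⟨y, hy, rfl⟩ := QCoh.exists_point hV p
    obtain ⟨k, x', hx, rfl⟩ := Set.mem_iUnion.1 (hUV.ge hy)
    refine ⟨k, (hW k).primeIdealOf ⟨x', hx⟩, PrimeSpectrum.ext (Ideal.ext fun b => ?_)⟩
    show (f (a k)).appLE V (W k) (hle k) b ∈ ((hW k).primeIdealOf ⟨x', hx⟩).asIdeal ↔ _
    rw [← not_iff_not, ← QCoh.mem_basicOpen_iff_notMem (hW k) hx, Scheme.basicOpen_appLE,
      ← QCoh.mem_basicOpen_iff_notMem hV hy]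
    exact ⟨fun h => h.2, fun h => ⟨hx, h⟩⟩
  · let N := (Scheme.Modules.pullback (f (a k))).obj M
    letI : Module Γ(X, V) Γ(N, W k) := Module.compHom _ ((f (a k)).appLE V (W k) (hle k)).hom
    haveI : IsScalarTower Γ(X, V) Γ(Xi (a k), W k) Γ(N, W k) := .of_algebraMap_smul fun _ _ => rfl
    haveI := QCoh.finitePresentation_of_isFP (h (a k)) (hW k)
    let l : Γ(M, V) →ₗ[Γ(X, V)] Γ(N, W k) :=
      { toFun := QCoh.pullSec (f (a k)) M (hle k)
        map_add' := QCoh.pullSec_add (f (a k)) M (hle k)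
        map_smul' := fun r m => QCoh.pullSec_smul (f (a k)) M (hle k) r m }
    exact Module.FinitePresentation.of_equiv
      (QCoh.isBaseChange_pullback hV (f (a k)) (hW k) hM (hle k) (fun _ => rfl) l fun _ => rfl).equiv.symm

/-- Finite local freeness descends along fpqc families. -/
theorem isFinLocFree_of_fpqc_family {ι : Type u} {Xi : ι → Scheme.{u}} (f : ∀ i, Xi i ⟶ X)
    (hf : Presieve.ofArrows Xi f ∈ Scheme.fpqcPrecoverage X) (hM : Coh.IsQCoh M)
    (h : ∀ i, FlatMod.IsFinLocFree ((Scheme.Modules.pullback (f i)).obj M)) : FlatMod.IsFinLocFree M := by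
  refine QCoh.isFlat_and_isFP_iff.1
    ⟨fun y => ?_, isFP_of_fpqc_family f hf hM fun i => QCoh.isFP_of_isFinLocFree (h i)⟩
  obtain ⟨i, x, rfl⟩ : ∃ i x, (f i).base x = y := by
    obtain ⟨i, x, hx⟩ := ((Scheme.ofArrows_mem_precoverage_iff _).1 hf.2).1 y
    exact ⟨i, x, hx⟩
  haveI : Flat (f i) := ((Scheme.ofArrows_mem_precoverage_iff _).1 hf.2).2 i
  have h1 : Module.Flat ((Xi i).presheaf.stalk x)
      ((DerSch.stalkFunctor (Xi i) x).obj ((Scheme.Modules.pullback (f i)).obj M)) :=
    (QCoh.isFlat_and_isFP_iff.2 (h i)).1 x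
  haveI h2 : Module.Flat ((Xi i).presheaf.stalk x)
      ((Scheme.Modules.pullback (f i) ⋙ DerSch.stalkFunctor (Xi i) x).obj M) := h1
  exact FTDescent.flat_of_extend ((f i).stalkMap x) (Flat.stalkMap (f i) x)
    (M := (DerSch.stalkFunctor X ((f i).base x)).obj M)
    (Module.Flat.of_linearEquiv ((KFlatLib.stalkPullbackIso (f i) x).app M).toLinearEquiv.symm)

/-- A flat, locally finitely presented, jointly surjective family is an fpqc covering. -/
theorem mem_fpqcPrecoverage {ι : Type u} {Xi : ι → Scheme.{u}} (f : ∀ i, Xi i ⟶ X) (hfl : ∀ i, Flat (f i))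
    (hfp : ∀ i, LocallyOfFinitePresentation (f i)) (hs : ∀ x : X, ∃ i, x ∈ Set.range (f i)) :
    Presieve.ofArrows Xi f ∈ Scheme.fpqcPrecoverage X :=
  Scheme.fppfPrecoverage_le_fpqcPrecoverage X
    (Scheme.ofArrows_mem_precoverage_iff _ |>.2 ⟨hs, fun i => ⟨hfl i, hfp i⟩⟩)

theorem isFP_of_iso {N : X.Modules} (e : M ≅ N) (h : CohB1.IsFP M) : CohB1.IsFP N :=
  ObjectProperty.prop_of_iso (SheafOfModules.isFinitePresentation X.ringCatSheaf) e h

end Groth.Agent.StModLib
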