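import Groth.Agent.KFlatLib.Scheme.Pullback
import Mathlib.AlgebraicGeometry.Morphisms.Flat
import Mathlib.RingTheory.RingHom.Flat

/-!
# Inverse image along a jointly surjective flat family detects equality of morphisms of modules
-/

set_option autoImplicit false
set_option linter.style.haveILetI false
set_option backward.isDefEq.respectTransparency false
set_option backward.isDefEq.respectTransparency.types false

universe u

open CategoryTheory CategoryTheory.Limits AlgebraicGeometry Opposite TopologicalSpace
open scoped TensorProduct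

namespace Groth.Agent.StModLib

theorem eq_of_extend {R S : CommRingCat.{u}} (φ : R ⟶ S) (hφ : φ.hom.Flat) [IsLocalRing R] [IsLocalRing S]
    [IsLocalHom φ.hom] {M N : ModuleCat.{u} R} {a b : M ⟶ N}
    (h : (ModuleCat.extendScalars φ.hom).map a = (ModuleCat.extendScalars φ.hom).map b) : a = b := by
  letI := φ.hom.toAlgebra
  haveI : IsLocalHom (algebraMap R S) := inferInstanceAs (IsLocalHom φ.hom)
  haveI : Module.Flat R S := hφ
  haveI : Module.FaithfullyFlat R S := Module.FaithfullyFlat.of_flat_of_isLocalHom
  ext m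
  have e : ((1 : S) ⊗ₜ[R] (a m) : S ⊗[R] N) = (1 : S) ⊗ₜ[R] (b m) := congr($h ((1 : S) ⊗ₜ[R] m))
  exact Module.FaithfullyFlat.tensorProduct_mk_injective (A := R) (B := S) N e

/-- Stalks detect equality of morphisms of modules. -/
theorem hom_ext_stalk {X : Scheme.{u}} {M N : X.Modules} (a b : M ⟶ N)
    (h : ∀ x : X, (DerSch.stalkFunctor X x).map a = (DerSch.stalkFunctor X x).map b) : a = b := by
  refine Scheme.Modules.hom_ext _ _ fun U => ?_
  ext s
  refine TopCat.Presheaf.section_ext (⟨N.presheaf, N.isSheaf⟩ : TopCat.Sheaf Ab.{u} X) U _ _ fun y hy => ?_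
  have := congr($(h y) (M.presheaf.germ U y hy s))
  erw [DerSch.stalkFunctor_map_germ y a U hy s, DerSch.stalkFunctor_map_germ y b U hy s] at this
  exact this

/-- Inverse image along a jointly surjective family of flat morphisms is jointly faithful. -/
theorem eq_of_pullback_map_eq {ι : Type*} {X : Scheme.{u}} {Xi : ι → Scheme.{u}} (f : ∀ i, Xi i ⟶ X)
    (hf : ∀ i, Flat (f i)) (hs : ∀ y : X, ∃ i, y ∈ Set.range (f i)) {M N : X.Modules} (a b : M ⟶ N)
    (h : ∀ i, (Scheme.Modules.pullback (f i)).map a = (Scheme.Modules.pullback (f i)).map b) : a = b := by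
  refine hom_ext_stalk a b fun y => ?_
  obtain ⟨i, x, rfl⟩ := hs y
  haveI := hf i
  refine eq_of_extend ((f i).stalkMap x) (Flat.stalkMap (f i) x) ?_
  have e := congrArg (DerSch.stalkFunctor (Xi i) x).map (h i)
  have na := (KFlatLib.stalkPullbackIso (f i) x).hom.naturality a
  have nb := (KFlatLib.stalkPullbackIso (f i) x).hom.naturality b
  simp only [Functor.comp_map] at na nb
  rw [e, nb] at na
  exact (cancel_epi _).1 na.symm

end Groth.Agent.StModLib
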