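import Groth.Agent.StModLib.SysCover
import Groth.Agent.QCoh.PullbackBC

/-!
# The system of global sections of a quasi-coherent module
-/

set_option autoImplicit false
set_option linter.style.haveILetI false
set_option backward.isDefEq.respectTransparency false
set_option backward.isDefEq.respectTransparency.types false

universe u

open CategoryTheory CategoryTheory.Limits AlgebraicGeometry Opposite TopologicalSpace
open scoped TensorProduct

namespace Groth.Agent.StModLib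

/-- If a comparison datum along an open immersion has an isomorphism as adjoint, it is bijective on sections over
every open contained in the image. -/
theorem bijective_app_of_isIso_adjoint {X Y : Scheme.{u}} (g : X ⟶ Y) [IsOpenImmersion g] {M : Y.Modules}
    {N : X.Modules} (m : M ⟶ (Scheme.Modules.pushforward g).obj N)
    (hm : IsIso (((Scheme.Modules.pullbackPushforwardAdjunction g).homEquiv M N).symm m))
    (U : Y.Opens) (hU : U ≤ g.opensRange) : Function.Bijective (m.app U) := by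
  let u := ((Scheme.Modules.restrictAdjunction g).homEquiv M N).symm m
  have hu : u = (Scheme.Modules.restrictFunctorIsoPullback g).hom.app M ≫
      ((Scheme.Modules.pullbackPushforwardAdjunction g).homEquiv M N).symm m := by
    apply ((Scheme.Modules.restrictAdjunction g).homEquiv M N).injective
    rw [Equiv.apply_symm_apply, Adjunction.homEquiv_naturality_right]
    erw [Adjunction.homEquiv_leftAdjointUniq_hom_app]
    rw [← Adjunction.homEquiv_unit, Equiv.apply_symm_apply]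
  haveI : IsIso u := hu ▸ inferInstance
  have hm' : m = (Scheme.Modules.restrictAdjunction g).unit.app M ≫ (Scheme.Modules.pushforward g).map u :=
    (((Scheme.Modules.restrictAdjunction g).homEquiv M N).apply_symm_apply m).symm.trans
      ((Scheme.Modules.restrictAdjunction g).homEquiv_apply M N u)
  haveI : IsIso (u.app (g ⁻¹ᵁ U)) := inferInstance
  have he : g ''ᵁ g ⁻¹ᵁ U = U := by
    rw [g.image_preimage_eq_opensRange_inf, inf_eq_right.2 hU]
  haveI : IsIso (M.presheaf.map (homOfLE (g.image_preimage_le U)).op) := by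
    rw [show (homOfLE (g.image_preimage_le U)).op = eqToHom (congrArg op he.symm) from Subsingleton.elim _ _]
    infer_instance
  rw [hm', Scheme.Modules.Hom.comp_app, Scheme.Modules.restrictAdjunction_unit_app_app]
  haveI : IsIso (((Scheme.Modules.pushforward g).map u).app U) := inferInstanceAs (IsIso (u.app (g ⁻¹ᵁ U)))
  exact ConcreteCategory.bijective_of_isIso _

variable {S : Scheme.{u}} {𝒴 : AlgSt.Cat S}

/-- The global sections of a module, as a system. -/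
noncomputable def modSys (F : StMod.Mod 𝒴) : Sys.{u} 𝒴 where
  obj η := Γ(F.obj η, ⊤)
  res φ := AddMonoidHom.mk' (F.mapTop φ) (F.mapTop_add φ)
  res_smul φ r x := F.mapTop_smul φ r x
  res_id η x := F.mapTop_id η x
  res_comp ψ φ x := F.mapTop_comp ψ φ x

theorem modSys_res (F : StMod.Mod 𝒴) {η' η : 𝒴.obj} (φ : η' ⟶ η) (x : Γ(F.obj η, ⊤)) :
    (modSys F).res φ x = F.mapTop φ x := rfl

theorem hasBC_modSys {F : StMod.Mod 𝒴} (hF : StMod.isQCoh 𝒴 F) : (modSys F).HasBC := by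
  intro y' y f hy hy'
  rw [Sys.bc_iff]
  refine ⟨fun r x => F.mapTop_smul f r x, ?_⟩
  let g := StMod.bmap 𝒴 f
  let P := (Scheme.Modules.pullback g).obj (F.obj y)
  let A := Γ(StMod.sch 𝒴 y, ⊤)
  let B := Γ(StMod.sch 𝒴 y', ⊤)
  letI : Algebra A B := g.appTop.hom.toAlgebra
  letI : Module A Γ(P, ⊤) := Module.compHom _ (algebraMap A B)
  haveI : IsScalarTower A B Γ(P, ⊤) := IsScalarTower.of_algebraMap_smul fun _ _ => rfl
  letI : Module A Γ(F.obj y', ⊤) := Module.compHom _ (algebraMap A B)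
  haveI : IsScalarTower A B Γ(F.obj y', ⊤) := IsScalarTower.of_algebraMap_smul fun _ _ => rfl
  have hle : (⊤ : (StMod.sch 𝒴 y').Opens) ≤ g ⁻¹ᵁ ⊤ := le_rfl
  have hr : ∀ r : A, g.appLE ⊤ ⊤ hle r = g.appTop r := fun r => by
    rw [Scheme.Hom.appLE]
    simp
  let p : Γ(F.obj y, ⊤) →ₗ[A] Γ(P, ⊤) :=
    { toFun := QCoh.pullSec g (F.obj y) hle
      map_add' := QCoh.pullSec_add g (F.obj y) hle
      map_smul' := fun r x => (QCoh.pullSec_smul g (F.obj y) hle r x).trans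
        (congrArg (fun t : B => t • QCoh.pullSec g (F.obj y) hle x) (hr r)) }
  have hp : IsBaseChange B p :=
    QCoh.isBaseChange_pullback (isAffineOpen_top _) g (isAffineOpen_top _) (hF.2 y) hle (fun r => (hr r).symm) p
      fun _ => rfl
  let u := ((Scheme.Modules.pullbackPushforwardAdjunction g).homEquiv (F.obj y) (F.obj y')).symm (F.map f rfl)
  haveI : IsIso u := hF.1 f rfl
  let e : Γ(P, ⊤) →ₗ[B] Γ(F.obj y', ⊤) :=
    { toFun := u.app ⊤
      map_add' := map_add _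
      map_smul' := fun r x => Scheme.Modules.Hom.app_smul u r x }
  have he : Function.Bijective e := ConcreteCategory.bijective_of_isIso (u.app ⊤)
  let eB := LinearEquiv.ofBijective e he
  have hu : ∀ x, u.app ⊤ (p x) = F.mapTop f x := fun x => by
    have h1 : (Scheme.Modules.pullbackPushforwardAdjunction g).unit.app (F.obj y) ≫
        (Scheme.Modules.pushforward g).map u = F.map f rfl :=
      ((Scheme.Modules.pullbackPushforwardAdjunction g).homEquiv_apply _ _ u).symm.trans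
        (Equiv.apply_symm_apply _ _)
    refine Eq.trans (congrArg (u.app ⊤) ?_) (congr($(congrArg (fun m => Scheme.Modules.Hom.app m ⊤) h1) x) :)
    show P.presheaf.map (homOfLE hle).op _ = _
    exact QCoh.map_id' (M := P) (homOfLE hle) _
  refine (isBaseChange_iff_bijective _ (((eB.restrictScalars A).toLinearMap).comp (hp.equiv.restrictScalars A).toLinearMap)
    fun s m => ?_).2 ?_
  · show eB (hp.equiv (s ⊗ₜ m)) = s • F.mapTop f m
    rw [IsBaseChange.equiv_tmul, map_smul]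
    exact congrArg (s • ·) (hu m)
  · exact eB.bijective.comp hp.equiv.bijective

/-- Sections over an open read on an object whose scheme maps into it. -/
noncomputable def toObj (F : StMod.Mod 𝒴) {z η : 𝒴.obj} (φ : z ⟶ η) (U : (StMod.sch 𝒴 η).Opens)
    (h : ⊤ ≤ StMod.bmap 𝒴 φ ⁻¹ᵁ U) : Γ(F.obj η, U) →+ Γ(F.obj z, ⊤) :=
  ((F.obj z).presheaf.map (homOfLE h).op).hom.comp
    (show Γ(F.obj η, U) →+ Γ(F.obj z, StMod.bmap 𝒴 φ ⁻¹ᵁ U) from ((F.map φ rfl).app U).hom)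

theorem toObj_res (F : StMod.Mod 𝒴) {z η : 𝒴.obj} (φ : z ⟶ η) {U V : (StMod.sch 𝒴 η).Opens} (i : V ≤ U)
    (h : ⊤ ≤ StMod.bmap 𝒴 φ ⁻¹ᵁ U) (h' : ⊤ ≤ StMod.bmap 𝒴 φ ⁻¹ᵁ V) (x : Γ(F.obj η, U)) :
    toObj F φ V h' ((F.obj η).presheaf.map (homOfLE i).op x) = toObj F φ U h x := by
  have e := congr($((Scheme.Modules.Hom.mapPresheaf (F.map φ rfl)).naturality (homOfLE i).op) x)
  show (F.obj z).presheaf.map (homOfLE h').op ((F.map φ rfl).app V ((F.obj η).presheaf.map (homOfLE i).op x)) = _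
  refine (congrArg ((F.obj z).presheaf.map (homOfLE h').op) e).trans ?_
  exact QCoh.map_map (M := F.obj z) _ _ _

theorem toObj_top (F : StMod.Mod 𝒴) {z η : 𝒴.obj} (φ : z ⟶ η) (h : ⊤ ≤ StMod.bmap 𝒴 φ ⁻¹ᵁ ⊤)
    (x : Γ(F.obj η, ⊤)) : toObj F φ ⊤ h x = F.mapTop φ x :=
  QCoh.map_id' (M := F.obj z) _ _

theorem map_app_congr (F : StMod.Mod 𝒴) {z η : 𝒴.obj} (φ : z ⟶ η) {g g' : StMod.sch 𝒴 z ⟶ StMod.sch 𝒴 η}
    (hg : StMod.bmap 𝒴 φ = g) (hg' : StMod.bmap 𝒴 φ = g') (U : (StMod.sch 𝒴 η).Opens) (x : Γ(F.obj η, U))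
    (V : (StMod.sch 𝒴 z).Opens) (h : V ≤ g ⁻¹ᵁ U) (h' : V ≤ g' ⁻¹ᵁ U) :
    (F.obj z).presheaf.map (homOfLE h).op (show Γ(F.obj z, g ⁻¹ᵁ U) from (F.map φ hg).app U x) =
      (F.obj z).presheaf.map (homOfLE h').op (show Γ(F.obj z, g' ⁻¹ᵁ U) from (F.map φ hg').app U x) := by
  subst hg; subst hg'; rfl

theorem toObj_congr (F : StMod.Mod 𝒴) {z η : 𝒴.obj} {φ φ' : z ⟶ η} (e : φ = φ') (U : (StMod.sch 𝒴 η).Opens)
    (h : ⊤ ≤ StMod.bmap 𝒴 φ ⁻¹ᵁ U) (h' : ⊤ ≤ StMod.bmap 𝒴 φ' ⁻¹ᵁ U) (x : Γ(F.obj η, U)) :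
    toObj F φ U h x = toObj F φ' U h' x := by
  subst e; rfl

theorem mapTop_toObj (F : StMod.Mod 𝒴) {y z η : 𝒴.obj} (a : y ⟶ z) (φ : z ⟶ η) (U : (StMod.sch 𝒴 η).Opens)
    (h : ⊤ ≤ StMod.bmap 𝒴 φ ⁻¹ᵁ U) (h' : ⊤ ≤ StMod.bmap 𝒴 (a ≫ φ) ⁻¹ᵁ U) (x : Γ(F.obj η, U)) :
    F.mapTop a (toObj F φ U h x) = toObj F (a ≫ φ) U h' x := by
  have hh : ⊤ ≤ (StMod.bmap 𝒴 a ≫ StMod.bmap 𝒴 φ) ⁻¹ᵁ U := by rwa [← StMod.bmap_comp]
  show _ = (F.obj y).presheaf.map (homOfLE h').op ((F.map (a ≫ φ) rfl).app U x)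
  refine Eq.trans ?_ (map_app_congr F (a ≫ φ) (StMod.bmap_comp a φ) rfl U x ⊤ hh h')
  have k := congr($(StMod.Mod.map_comp_app F a φ (h := StMod.bmap 𝒴 a) rfl rfl U) x)
  refine Eq.trans ?_ (congrArg ((F.obj y).presheaf.map (homOfLE hh).op) k).symm
  have e := congr($((Scheme.Modules.Hom.mapPresheaf (F.map a rfl)).naturality (homOfLE h).op)
    ((F.map φ rfl).app U x))
  refine e.trans ?_
  exact congrArg (fun i => (ConcreteCategory.hom ((F.obj y).presheaf.map i)) _) (Subsingleton.elim _ _)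

theorem bijective_toObj {F : StMod.Mod 𝒴} (hF : F.IsCartesian) {z η : 𝒴.obj} (φ : z ⟶ η)
    [IsOpenImmersion (StMod.bmap 𝒴 φ)] (U : (StMod.sch 𝒴 η).Opens) (h : ⊤ ≤ StMod.bmap 𝒴 φ ⁻¹ᵁ U)
    (hU : U ≤ (StMod.bmap 𝒴 φ).opensRange) : Function.Bijective (toObj F φ U h) := by
  have e : StMod.bmap 𝒴 φ ⁻¹ᵁ U = ⊤ := top_le_iff.1 h
  haveI : IsIso ((F.obj z).presheaf.map (homOfLE h).op) := by
    rw [show (homOfLE h).op = eqToHom (congrArg op e) from Subsingleton.elim _ _]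
    infer_instance
  exact (ConcreteCategory.bijective_of_isIso ((F.obj z).presheaf.map (homOfLE h).op)).comp
    (bijective_app_of_isIso_adjoint _ (F.map φ rfl) (hF φ rfl) U hU)

theorem isZarSheaf_modSys (hp : FibCat.IsFibGrpd 𝒴.p) {F : StMod.Mod 𝒴} (hF : StMod.isQCoh 𝒴 F) :
    (modSys F).IsZarSheaf := by
  intro η ι z φ hc ho
  haveI := ho
  let M := F.obj η
  let U : ι → (StMod.sch 𝒴 η).Opens := fun i => (StMod.bmap 𝒴 (φ i)).opensRange
  have hle : ∀ i, ⊤ ≤ StMod.bmap 𝒴 (φ i) ⁻¹ᵁ U i := fun i t _ => ⟨t, rfl⟩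
  have hsup : (⊤ : (StMod.sch 𝒴 η).Opens) ≤ iSup U := fun t _ => by
    obtain ⟨i, hi⟩ := hc.surj t
    exact Opens.mem_iSup.2 ⟨i, hi⟩
  let Msh : TopCat.Sheaf Ab.{u} (StMod.sch 𝒴 η) := ⟨M.presheaf, M.isSheaf⟩
  have hres : ∀ i (x : Γ(M, ⊤)), toObj F (φ i) (U i) (hle i) (M.presheaf.map (homOfLE le_top).op x) =
      F.mapTop (φ i) x := fun i x =>
    (toObj_res F (φ i) le_top le_top (hle i) x).trans (toObj_top F (φ i) le_top x)
  refine ⟨fun s s' hs => Msh.eq_of_locally_eq' U ⊤ (fun i => homOfLE le_top) hsup s s' fun i => ?_, fun t ht => ?_⟩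
  · exact (bijective_toObj hF.1 (φ i) (U i) (hle i) le_rfl).1 ((hres i s).trans ((hs i).trans (hres i s').symm))
  choose sf hsf using fun i => (bijective_toObj hF.1 (φ i) (U i) (hle i) le_rfl).2 (t i)
  have hcomp : TopCat.Presheaf.IsCompatible M.presheaf U sf := fun i j => by
    obtain ⟨P, a, b, hP, -⟩ := exists_isPullback hp (φ i) (φ j)
    have sq := isPullback_bmap hp hP
    haveI : IsOpenImmersion (StMod.bmap 𝒴 a) := MorphismProperty.of_isPullback sq.flip (ho j)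
    haveI : IsOpenImmersion (StMod.bmap 𝒴 (a ≫ φ i)) := by
      rw [StMod.bmap_comp]
      infer_instance
    have hr : (StMod.bmap 𝒴 (a ≫ φ i)).opensRange = U i ⊓ U j := by
      refine Opens.ext (Set.ext fun t => ⟨?_, ?_⟩)
      · rintro ⟨p, rfl⟩
        refine ⟨⟨StMod.bmap 𝒴 a p, ?_⟩, ⟨StMod.bmap 𝒴 b p, ?_⟩⟩
        · rw [StMod.bmap_comp, Scheme.Hom.comp_apply]
        · rw [← Scheme.Hom.comp_apply, ← sq.w, StMod.bmap_comp]
      · rintro ⟨⟨x, hx⟩, ⟨y, hy⟩⟩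
        obtain ⟨p, hp', -⟩ := Scheme.exists_preimage_of_isPullback sq x y (hx.trans hy.symm)
        refine ⟨p, ?_⟩
        show StMod.bmap 𝒴 (a ≫ φ i) p = t
        rw [StMod.bmap_comp, Scheme.Hom.comp_apply, hp', hx]
    have h12 : ⊤ ≤ StMod.bmap 𝒴 (a ≫ φ i) ⁻¹ᵁ (U i ⊓ U j) := fun p _ => by
      rw [← hr]
      exact ⟨p, rfl⟩
    have hi : ⊤ ≤ StMod.bmap 𝒴 (a ≫ φ i) ⁻¹ᵁ U i := h12.trans fun p hp' => hp'.1
    have hj : ⊤ ≤ StMod.bmap 𝒴 (a ≫ φ i) ⁻¹ᵁ U j := h12.trans fun p hp' => hp'.2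
    apply (bijective_toObj hF.1 (a ≫ φ i) (U i ⊓ U j) h12 hr.ge).1
    refine (toObj_res F (a ≫ φ i) inf_le_left hi h12 (sf i)).trans (Eq.trans ?_
      (toObj_res F (a ≫ φ i) inf_le_right hj h12 (sf j)).symm)
    rw [← mapTop_toObj F a (φ i) (U i) (hle i) hi, hsf]
    have hj' : ⊤ ≤ StMod.bmap 𝒴 (b ≫ φ j) ⁻¹ᵁ U j := hP.w ▸ hj
    refine (ht i j P a b hP.w).trans ?_
    show F.mapTop b (t j) = _
    rw [← hsf j, mapTop_toObj F b (φ j) (U j) (hle j) hj']
    exact toObj_congr F hP.w.symm (U j) hj' hj (sf j)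
  obtain ⟨s, hs, -⟩ := Msh.existsUnique_gluing' U ⊤ (fun i => homOfLE le_top) hsup sf hcomp
  exact ⟨s, fun i => (hres i s).symm.trans ((congrArg (toObj F (φ i) (U i) (hle i)) (hs i)).trans (hsf i))⟩

theorem isSheaf_modSys (hp : FibCat.IsFibGrpd 𝒴.p) {F : StMod.Mod 𝒴} (hF : StMod.isQCoh 𝒴 F) :
    (modSys F).IsSheaf :=
  Sys.isSheaf_of_hasBC hp (isZarSheaf_modSys hp hF) (hasBC_modSys hF)

end Groth.Agent.StModLib
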