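import Groth.Agent.StModLib.GerbeSys
import Groth.Agent.StModLib.SysMod
import Groth.Prelude.Def_StMod2

/-!
# Sections of pushforwards over fibre products
-/

set_option autoImplicit false
set_option linter.style.haveILetI false
set_option backward.isDefEq.respectTransparency false
set_option backward.isDefEq.respectTransparency.types false

universe u

open CategoryTheory CategoryTheory.Functor CategoryTheory.Limits AlgebraicGeometry

noncomputable section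

namespace Groth.Agent.StModLib

variable {S : Scheme.{u}} {𝒳 𝒴 𝒵 : AlgSt.Cat S} (g : 𝒵 ⥤ᵇ 𝒴) (π : 𝒳 ⥤ᵇ 𝒴)

/-- The base of a morphism under a functor. -/
theorem map_w (F : 𝒳 ⥤ᵇ 𝒴) {x x' : 𝒳.obj} (φ : x ⟶ x') :
    𝒴.p.map (F.map φ) = eqToHom (F.w_obj x) ≫ 𝒳.p.map φ ≫ eqToHom (F.w_obj x').symm :=
  IsHomLift.fac' 𝒴.p (𝒳.p.map φ) (F.map φ)

/-- The morphism to the image under a morphism of the first factor. -/
def transMor {η' : 𝒵.obj} (x : (FibCat.fp g π).obj) (β : (FibCat.fpFst g π).obj x ⟶ η') :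
    π.obj x.obj.snd ⟶ g.obj η' :=
  x.obj.iso.inv ≫ g.map β

theorem baseOver_transMor {η' : 𝒵.obj} (x : (FibCat.fp g π).obj) (β : (FibCat.fpFst g π).obj x ⟶ η') :
    StMod.baseOver π x.obj.snd (transMor g π x β) =
      eqToHom ((FibCat.fpSnd g π).w_obj x) ≫ StMod.baseOver (FibCat.fpFst g π) x β ≫
        eqToHom (g.w_obj η').symm := by
  haveI hx : 𝒴.p.IsHomLift (𝟙 (𝒵.p.obj x.obj.fst)) x.obj.iso.hom := x.property
  have h : 𝒴.p.map x.obj.iso.inv = eqToHom ((π.w_obj x.obj.snd).trans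
      (((FibCat.fpSnd g π).w_obj x).trans (g.w_obj x.obj.fst).symm)) := by
    refine (cancel_epi (𝒴.p.map x.obj.iso.hom)).1 ?_
    rw [← Functor.map_comp, Iso.hom_inv_id, CategoryTheory.Functor.map_id,
      IsHomLift.fac' 𝒴.p (𝟙 (𝒵.p.obj x.obj.fst)) x.obj.iso.hom]
    simp
  have hb : (FibCat.fp g π).p.obj x = 𝒵.p.obj x.obj.fst := rfl
  show eqToHom _ ≫ 𝒴.p.map (x.obj.iso.inv ≫ g.map β) = _
  rw [Functor.map_comp, h, map_w g β]
  show _ = eqToHom _ ≫ (eqToHom _ ≫ 𝒵.p.map β) ≫ _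
  simp only [eqToHom_trans_assoc, Category.assoc]

theorem transMor_natural {η' : 𝒵.obj} {x' x : (FibCat.fp g π).obj} (m : x' ⟶ x)
    (β : (FibCat.fpFst g π).obj x ⟶ η') :
    π.map m.hom.snd ≫ transMor g π x β = transMor g π x' ((FibCat.fpFst g π).map m ≫ β) := by
  show π.map m.hom.snd ≫ x.obj.iso.inv ≫ g.map β = x'.obj.iso.inv ≫ g.map (m.hom.fst ≫ β)
  rw [Functor.map_comp, Iso.eq_inv_comp, ← reassoc_of% m.hom.w, Iso.hom_inv_id_assoc]

theorem exists_fp_obj (hz : FibCat.IsFibGrpd 𝒵.p) (hp' : FibCat.IsFibGrpd 𝒴.p) {η' : 𝒵.obj} (ξ : 𝒳.obj)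
    (γ : π.obj ξ ⟶ g.obj η') :
    ∃ (x : (FibCat.fp g π).obj) (hx : x.obj.snd = ξ) (β : (FibCat.fpFst g π).obj x ⟶ η'),
      transMor g π x β = π.map (eqToHom hx) ≫ γ := by
  let f : 𝒳.p.obj ξ ⟶ 𝒵.p.obj η' := StMod.baseOver π ξ γ ≫ eqToHom (g.w_obj η')
  obtain ⟨w, φ, hφ⟩ := hz.exists_lift f
  have hw : 𝒵.p.obj w = 𝒳.p.obj ξ := IsHomLift.domain_eq 𝒵.p f φ
  have h0 : eqToHom ((g.w_obj w).trans (hw.trans (π.w_obj ξ).symm)) ≫ 𝒴.p.map γ = 𝒴.p.map (g.map φ) := by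
    rw [map_w g φ, IsHomLift.fac' 𝒵.p f φ]
    simp [f, StMod.baseOver]
  obtain ⟨χ, ⟨hχ, hχγ⟩, -⟩ := existsUnique_lift hp' γ (g.map φ) _ h0
  haveI : IsIso (StMod.bmap 𝒴 χ) := by
    show IsIso (𝒴.p.map χ).left
    rw [hχ]
    infer_instance
  haveI := isIso_of_isIso_bmap hp' χ
  haveI hlift : 𝒴.p.IsHomLift (𝟙 (𝒵.p.obj w)) χ :=
    IsHomLift.of_fac' 𝒴.p _ _ (g.w_obj w) ((π.w_obj ξ).trans hw.symm) (by rw [hχ]; simp)
  refine ⟨⟨{ fst := w, snd := ξ, iso := asIso χ }, hlift⟩, rfl, φ, ?_⟩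
  show inv χ ≫ g.map φ = π.map (𝟙 ξ) ≫ γ
  rw [π.map_id, Category.id_comp, ← hχγ, IsIso.inv_hom_id_assoc]

theorem exists_fp_hom (hz : FibCat.IsFibGrpd 𝒵.p) (hp' : FibCat.IsFibGrpd 𝒴.p) {η' : 𝒵.obj}
    {x' x : (FibCat.fp g π).obj} (β' : (FibCat.fpFst g π).obj x' ⟶ η') (β : (FibCat.fpFst g π).obj x ⟶ η')
    (φ : x'.obj.snd ⟶ x.obj.snd) (h : π.map φ ≫ transMor g π x β = transMor g π x' β') :
    ∃ m : x' ⟶ x, m.hom.snd = φ ∧ (FibCat.fpFst g π).map m ≫ β = β' := by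
  have hb := congrArg (fun γ => StMod.baseOver π _ γ) h
  rw [← StMod.map_comp_baseOver, baseOver_transMor, baseOver_transMor] at hb
  let a₀ : 𝒵.p.obj x'.obj.fst ⟶ 𝒵.p.obj x.obj.fst :=
    eqToHom ((FibCat.fpSnd g π).w_obj x').symm ≫ 𝒳.p.map φ ≫ eqToHom ((FibCat.fpSnd g π).w_obj x)
  have ha₀ : a₀ ≫ 𝒵.p.map β = 𝒵.p.map β' := by
    have hb' := congrArg (fun q => eqToHom ((FibCat.fpSnd g π).w_obj x').symm ≫ q ≫ eqToHom (g.w_obj η')) hb
    simp only [StMod.baseOver, Category.assoc, eqToHom_trans, eqToHom_refl, Category.comp_id, Category.id_comp,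
      eqToHom_trans_assoc] at hb'
    simpa [a₀] using hb'
  obtain ⟨a, ⟨ha, haβ⟩, -⟩ := existsUnique_lift hz β β' a₀ ha₀
  have hw : g.map a ≫ x.obj.iso.hom = x'.obj.iso.hom ≫ π.map φ := by
    have hx : 𝒴.p.IsHomLift (𝟙 (𝒵.p.obj x.obj.fst)) x.obj.iso.hom := x.property
    have hx' : 𝒴.p.IsHomLift (𝟙 (𝒵.p.obj x'.obj.fst)) x'.obj.iso.hom := x'.property
    refine hom_ext_of_map hp' (transMor g π x β) ?_ ?_
    · rw [Functor.map_comp, Functor.map_comp, map_w g a, map_w π φ, ha,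
        IsHomLift.fac' 𝒴.p (𝟙 (𝒵.p.obj x.obj.fst)) x.obj.iso.hom,
        IsHomLift.fac' 𝒴.p (𝟙 (𝒵.p.obj x'.obj.fst)) x'.obj.iso.hom]
      simp [a₀]
    · rw [Category.assoc (g.map a), Category.assoc x'.obj.iso.hom, h]
      show g.map a ≫ x.obj.iso.hom ≫ x.obj.iso.inv ≫ g.map β = x'.obj.iso.hom ≫ x'.obj.iso.inv ≫ g.map β'
      rw [Iso.hom_inv_id_assoc, Iso.hom_inv_id_assoc, ← Functor.map_comp, haβ]
  exact ⟨ObjectProperty.homMk { fst := a, snd := φ, w := hw }, rfl, haβ⟩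

variable (F : StMod.Mod 𝒳) (η' : 𝒵.obj)

/-- Sections over the image give sections on the fibre product. -/
def transMap : StMod.Mod.RelSect π F (g.obj η') →+
    StMod.Mod.RelSect (FibCat.fpFst g π) (StMod.Mod.comap (FibCat.fpSnd g π) F) η' where
  toFun s := ⟨fun x β => (cmp (FibCat.fpSnd g π) F x).symm (s.1 x.obj.snd (transMor g π x β)), fun x' x m β => by
    refine (cmp (FibCat.fpSnd g π) F x').injective ?_
    rw [cmp_mapTop, AddEquiv.apply_symm_apply, AddEquiv.apply_symm_apply]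
    exact (s.2 m.hom.snd _).trans (congrArg (s.1 _) (transMor_natural g π m β))⟩
  map_zero' := StMod.Mod.RelSect.ext _ _ _ fun x β => map_zero (cmp (FibCat.fpSnd g π) F x).symm
  map_add' s t := StMod.Mod.RelSect.ext _ _ _ fun x β => map_add (cmp (FibCat.fpSnd g π) F x).symm _ _

theorem transMap_val (s : StMod.Mod.RelSect π F (g.obj η')) (x : (FibCat.fp g π).obj)
    (β : (FibCat.fpFst g π).obj x ⟶ η') :
    cmp (FibCat.fpSnd g π) F x ((transMap g π F η' s).1 x β) = s.1 x.obj.snd (transMor g π x β) :=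
  AddEquiv.apply_symm_apply _ _

theorem transMap_map {G : StMod.Mod 𝒳} (u : F ⟶ G) (s : StMod.Mod.RelSect π F (g.obj η')) :
    transMap g π G η' (StMod.Mod.relSectMap π u (g.obj η') s) =
      StMod.Mod.relSectMap (FibCat.fpFst g π) (StMod.Mod.comapMap (FibCat.fpSnd g π) u) η'
        (transMap g π F η' s) := by
  refine StMod.Mod.RelSect.ext _ _ _ fun x β => (cmp (FibCat.fpSnd g π) G x).injective ?_
  rw [transMap_val, StMod.Mod.relSectMap_val, StMod.Mod.relSectMap_val, cmp_comapMap, transMap_val]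
  rfl

variable {F η'}

theorem bijective_transMap (hz : FibCat.IsFibGrpd 𝒵.p) (hp' : FibCat.IsFibGrpd 𝒴.p) :
    Function.Bijective (transMap g π F η') := by
  refine ⟨fun s s' h => StMod.Mod.RelSect.ext π _ _ fun ξ γ => ?_, fun t => ?_⟩
  · obtain ⟨x, rfl, β, hβ⟩ := exists_fp_obj g π hz hp' ξ γ
    rw [eqToHom_refl, π.map_id, Category.id_comp] at hβ
    subst hβ
    rw [← transMap_val, ← transMap_val, h]
  · choose x hx β hβ using fun (p : Σ ξ : 𝒳.obj, π.obj ξ ⟶ g.obj η') => exists_fp_obj g π hz hp' p.1 p.2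
    let v : ∀ p : Σ ξ : 𝒳.obj, π.obj ξ ⟶ g.obj η', Γ(F.obj p.1, ⊤) := fun p =>
      F.mapTop (eqToHom (hx p).symm) (cmp (FibCat.fpSnd g π) F (x p) (t.1 (x p) (β p)))
    have key : ∀ (p : Σ ξ : 𝒳.obj, π.obj ξ ⟶ g.obj η') (x₁ : (FibCat.fp g π).obj)
        (β₁ : (FibCat.fpFst g π).obj x₁ ⟶ η') (φ : x₁.obj.snd ⟶ p.1), π.map φ ≫ p.2 = transMor g π x₁ β₁ →
        F.mapTop φ (v p) = cmp (FibCat.fpSnd g π) F x₁ (t.1 x₁ β₁) := fun p x₁ β₁ φ h => by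
      obtain ⟨m, hm, hmβ⟩ := exists_fp_hom g π hz hp' β₁ (β p) (φ ≫ eqToHom (hx p).symm) (by
        rw [hβ, ← Category.assoc, ← Functor.map_comp, Category.assoc, eqToHom_trans, eqToHom_refl,
          Category.comp_id, h])
      rw [← hmβ, ← t.2, cmp_mapTop, ← F.mapTop_comp]
      exact congrArg (fun q => F.mapTop q (cmp (FibCat.fpSnd g π) F (x p) (t.1 (x p) (β p)))) hm.symm
    refine ⟨⟨fun ξ γ => v ⟨ξ, γ⟩, fun ξ' ξ f γ => ?_⟩, ?_⟩
    · have h' := key ⟨ξ, γ⟩ (x ⟨ξ', π.map f ≫ γ⟩) (β ⟨ξ', π.map f ≫ γ⟩) (eqToHom (hx ⟨ξ', π.map f ≫ γ⟩) ≫ f)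
        (by rw [hβ, Functor.map_comp, Category.assoc])
      show F.mapTop f (v ⟨ξ, γ⟩) = F.mapTop (eqToHom (hx ⟨ξ', π.map f ≫ γ⟩).symm) _
      refine Eq.trans ?_ (congrArg (F.mapTop (eqToHom (hx ⟨ξ', π.map f ≫ γ⟩).symm)) h')
      refine Eq.trans (congrArg (fun q => F.mapTop q (v ⟨ξ, γ⟩)) ?_) (F.mapTop_comp _ _ _)
      simp
    · refine StMod.Mod.RelSect.ext _ _ _ fun x₁ β₁ => (cmp (FibCat.fpSnd g π) F x₁).injective ?_
      rw [transMap_val, ← key ⟨_, transMor g π x₁ β₁⟩ x₁ β₁ (𝟙 _) (by rw [π.map_id, Category.id_comp]),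
        F.mapTop_id]

end Groth.Agent.StModLib
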