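import Groth.Agent.StModLib.SectPres
import Groth.Agent.StModLib.RelTrans
import Groth.Agent.AlgStLib.QuasiCompact
import Groth.Agent.AlgStLib.LocSurjObj
import Groth.Agent.AlgStLib.LocQ

/-!
# Presentations exist for quasi-compact quasi-separated morphisms
-/

set_option autoImplicit false
set_option linter.style.haveILetI false
set_option backward.isDefEq.respectTransparency false
set_option backward.isDefEq.respectTransparency.types false

universe u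

open CategoryTheory CategoryTheory.Functor CategoryTheory.Limits AlgebraicGeometry AlgSp
open Groth.Agent.AlgStLib Groth.Agent.AlgSpLib Groth.Agent.AlgSpPts Groth.Agent.FibBase

noncomputable section

namespace Groth.Agent.StModLib

variable {S : Scheme.{u}} {𝒳 𝒴 : AlgSt.Cat S}

/-- The final object of a slice. -/
abbrev topOver (T : Over S) : (FibCat.overCat T : AlgSt.Cat S).obj := Over.mk (𝟙 T)

/-- A quasi-compact fibre product over a slice is covered by one affine object. -/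
theorem exists_cover_of_isQuasiCompact (hp : FibCat.IsFibGrpd 𝒳.p) (hp' : FibCat.IsFibGrpd 𝒴.p) {T : Over S}
    (g : FibCat.overCat T ⥤ᵇ 𝒴) (f : 𝒳 ⥤ᵇ 𝒴) (hq : AlgSt.IsQuasiCompact (FibCat.fp g f)) :
    ∃ (z : 𝒳.obj) (γ₀ : f.obj z ⟶ g.obj (topOver T)), IsAffine (StMod.sch 𝒳 z) ∧
      ∀ (ξ : 𝒳.obj) (γ : f.obj ξ ⟶ g.obj (topOver T)), ∃ (ι : Type u) (y : ι → 𝒳.obj) (φ : ∀ i, y i ⟶ ξ),
        IsCov y φ ∧ ∀ i, ∃ ψ : y i ⟶ z, f.map ψ ≫ γ₀ = f.map (φ i) ≫ γ := by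
  obtain ⟨U, x, hU, hsm, hsu⟩ := hq
  have hW : FibCat.IsFibGrpd (FibCat.fp g f).p := fp_isFibGrpd (isFibGrpd_overCat T) hp hp'
  have hx := locSurjObj_of_locEssSurj hW (locEssSurj_of_repByAlgSp
    (repByAlgSpWith_mono (fun _ _ _ h => locP_mono (Q := @Flat) (fun _ _ k (_ : Smooth k) => inferInstanceAs (Flat k)) h) hsm)
    (repByAlgSpWith_mono (fun _ _ _ h => locP_mono (Q := @LocallyOfFinitePresentation)
      (fun _ _ k (_ : Smooth k) => inferInstanceAs (LocallyOfFinitePresentation k)) h) hsm) hsu)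
  let top : ∀ v : (FibCat.fp g f).obj, (FibCat.fpFst g f).obj v ⟶ topOver T := fun v =>
    Over.homMk v.obj.fst.hom (Category.comp_id _)
  have htop : ∀ (v : (FibCat.fp g f).obj) (b : (FibCat.fpFst g f).obj v ⟶ topOver T), b = top v := fun v b =>
    Over.OverMorphism.ext ((Category.comp_id _).symm.trans (Over.w b))
  let x₀ := x.obj (topOver U)
  refine ⟨x₀.obj.snd, transMor g f x₀ (top x₀), ?_, fun ξ γ => ?_⟩
  · have h0 : (FibCat.fp g f).p.obj x₀ = U := x.w_obj (topOver U)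
    have h1 : 𝒳.p.obj x₀.obj.snd = U := ((FibCat.fpSnd g f).w_obj x₀).trans h0
    show IsAffine (𝒳.p.obj x₀.obj.snd).left
    rw [h1]
    exact hU
  · obtain ⟨v, rfl, β, hβ⟩ := exists_fp_obj g f (isFibGrpd_overCat T) hp' ξ γ
    rw [eqToHom_refl, f.map_id, Category.id_comp] at hβ
    obtain ⟨R, hR, hR'⟩ := hx v
    obtain ⟨ι, y, φ, hc, hP⟩ := exists_isCov_of_mem_J v hR
      (P := fun y φ => ∃ m : y ⟶ x₀, f.map m.hom.snd ≫ transMor g f x₀ (top x₀) = f.map φ.hom.snd ≫ γ)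
      fun V h hh => by
        obtain ⟨x', k, hk⟩ := hR' h hh
        refine ⟨x.obj x', k, hk, x.map (Over.homMk x'.hom (Category.comp_id _) : x' ⟶ topOver U), ?_⟩
        rw [transMor_natural, ← hβ, transMor_natural, htop _ ((FibCat.fpFst g f).map _ ≫ top x₀),
          htop _ ((FibCat.fpFst g f).map k ≫ β)]
    refine ⟨ι, fun i => (y i).obj.snd, fun i => (φ i).hom.snd, isCov_map (FibCat.fpSnd g f) hc, fun i => ?_⟩
    obtain ⟨m, hm⟩ := hP i
    exact ⟨m.hom.snd, hm⟩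

/-- Presentations transport along isomorphisms of the target. -/
def Pres.ofIso {π : 𝒳 ⥤ᵇ 𝒴} {η η' : 𝒴.obj} (c : Pres π η) (e : η ≅ η') : Pres π η' where
  z := c.z
  affz := c.affz
  α := c.α ≫ e.hom
  n := c.n
  w := c.w
  affw := c.affw
  a := c.a
  b := c.b
  eq j := by rw [← Category.assoc, c.eq, Category.assoc]
  cov ξ β := by
    obtain ⟨ι, y, φ, hc, hψ⟩ := c.cov ξ (β ≫ e.inv)
    refine ⟨ι, y, φ, hc, fun i => ?_⟩
    obtain ⟨ψ, hψ⟩ := hψ i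
    exact ⟨ψ, by rw [← Category.assoc, hψ]; simp⟩
  rel y p q h := c.rel y p q (by rwa [← Category.assoc, ← Category.assoc, cancel_mono] at h)

/-- Presentations exist for quasi-compact quasi-separated morphisms. -/
theorem nonempty_pres (hp : FibCat.IsFibGrpd 𝒳.p) (hp' : FibCat.IsFibGrpd 𝒴.p) {π : 𝒳 ⥤ᵇ 𝒴}
    (hqc : AlgSt.IsQuasiCompactMor Scheme.fppfPrecoverage π) (hqs : AlgSt.IsQuasiSeparatedMor π) (η : 𝒴.obj)
    [IsAffine (StMod.sch 𝒴 η)] : Nonempty (Pres π η) := by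
  obtain ⟨g, e, -⟩ := exists_overCat_obj hp' η rfl
  haveI : IsAffine (𝒴.p.obj η).left := ‹IsAffine (StMod.sch 𝒴 η)›
  suffices Nonempty (Pres π (g.obj (topOver (𝒴.p.obj η)))) from this.map fun c => c.ofIso e
  set η₀ := g.obj (topOver (𝒴.p.obj η)) with hη₀
  obtain ⟨z, α, hz, hcov⟩ := exists_cover_of_isQuasiCompact hp hp' g π
    (hqc _ (isAlgStack_overCat _) (isQuasiCompact_overCat _) g)
  haveI : IsAffine (𝒳.p.obj z).left := hz
  haveI : IsAffine (𝒴.p.obj η₀).left := by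
    rw [hη₀, g.w_obj]
    exact ‹IsAffine (𝒴.p.obj η).left›
  let b := (StMod.baseOver π z α).left
  obtain ⟨z₁, e₁, φ₁, hφ₁⟩ := exists_lift_bmap hp (pullback.fst b b)
  haveI : IsAffine (StMod.sch 𝒳 z₁) := IsAffine.of_isIso e₁.hom
  let s₂ : 𝒳.p.obj z₁ ⟶ 𝒳.p.obj z := Over.homMk (e₁.hom ≫ pullback.snd b b) (by
    have h1 := Over.w (StMod.baseOver π z α)
    show (e₁.hom ≫ pullback.snd b b) ≫ (𝒳.p.obj z).hom = (𝒳.p.obj z₁).hom
    rw [← h1, Category.assoc, ← pullback.condition_assoc, h1, ← Category.assoc, ← hφ₁]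
    exact Over.w (𝒳.p.map φ₁))
  obtain ⟨z₂, φ₂, hφ₂⟩ := hp.exists_lift s₂
  have hz₂ : 𝒳.p.obj z₂ = 𝒳.p.obj z₁ := IsHomLift.domain_eq 𝒳.p s₂ φ₂
  have hmap₂ : 𝒳.p.map φ₂ = eqToHom hz₂ ≫ s₂ := by
    rw [IsHomLift.fac' 𝒳.p s₂ φ₂]
    simp
  have hbase : eqToHom ((π.w_obj z₁).trans (hz₂.symm.trans (π.w_obj z₂).symm)) ≫
      𝒴.p.map (π.map φ₂ ≫ α) = 𝒴.p.map (π.map φ₁ ≫ α) := by
    have hs : s₂ ≫ StMod.baseOver π z α = 𝒳.p.map φ₁ ≫ StMod.baseOver π z α := by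
      refine Over.OverMorphism.ext ?_
      show (e₁.hom ≫ pullback.snd b b) ≫ b = StMod.bmap 𝒳 φ₁ ≫ b
      rw [hφ₁, Category.assoc, Category.assoc, pullback.condition]
    rw [Functor.map_comp, Functor.map_comp, map_w π φ₂, map_w π φ₁, hmap₂]
    simp only [Category.assoc, eqToHom_trans_assoc]
    exact congrArg (eqToHom _ ≫ ·) hs
  obtain ⟨χ, ⟨hχ, hχα⟩, -⟩ := existsUnique_lift hp' (π.map φ₂ ≫ α) (π.map φ₁ ≫ α) _ hbase
  haveI : IsIso (StMod.bmap 𝒴 χ) := by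
    show IsIso (𝒴.p.map χ).left
    rw [hχ]
    infer_instance
  haveI := isIso_of_isIso_bmap hp' χ
  have hlift : 𝒴.p.IsHomLift (𝟙 (𝒳.p.obj z₁)) χ :=
    IsHomLift.of_fac' 𝒴.p _ _ (π.w_obj z₁) ((π.w_obj z₂).trans hz₂) (by rw [hχ]; simp)
  let d : (FibCat.fp π π).obj := ⟨{ fst := z₁, snd := z₂, iso := asIso χ }, hlift⟩
  obtain ⟨Y, eY, -⟩ := exists_overCat_obj (fp_isFibGrpd hp hp hp') d (U := 𝒳.p.obj z₁) rfl
  have hqY : AlgSt.IsQuasiCompact (FibCat.fp Y (FibCat.diag π)) := by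
    haveI : IsAffine (𝒳.p.obj z₁).left := ‹IsAffine (StMod.sch 𝒳 z₁)›
    obtain ⟨F, k, hk, ha⟩ := hqs _ Y
    exact isQuasiCompact_of_equiv hk (isQuasiCompact_ofSp F
      (ha.1 (IsAlgSpace.yon_obj _) (isQuasiCompactSp_yon _) (𝟙 _) (𝟙 F.obj) _
        (IsPullback.of_horiz_isIso ⟨(Category.id_comp _).trans (Category.comp_id _).symm⟩)))
  obtain ⟨w, γ₀, hw, hwcov⟩ := exists_cover_of_isQuasiCompact hp (fp_isFibGrpd hp hp hp') Y (FibCat.diag π) hqY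
  let γ₁ : (FibCat.diag π).obj w ⟶ d := γ₀ ≫ eY.hom
  have heq : π.map (γ₁.hom.fst ≫ φ₁) ≫ α = π.map (γ₁.hom.snd ≫ φ₂) ≫ α := by
    have hsq : π.map γ₁.hom.fst ≫ χ = 𝟙 (π.obj w) ≫ π.map γ₁.hom.snd := γ₁.hom.w
    rw [Functor.map_comp, Functor.map_comp, Category.assoc, Category.assoc, ← hχα, ← Category.assoc, hsq,
      Category.id_comp]
  refine ⟨{
    z := z, affz := hz, α := α, n := 1, w := fun _ => w, affw := fun _ => hw
    a := fun _ => γ₁.hom.fst ≫ φ₁, b := fun _ => γ₁.hom.snd ≫ φ₂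
    eq := fun _ => heq, cov := hcov, rel := fun y p q h => ?_ }⟩
  have hpb : StMod.bmap 𝒳 p ≫ b = StMod.bmap 𝒳 q ≫ b := by
    show StMod.bmap 𝒳 p ≫ (StMod.baseOver π z α).left = StMod.bmap 𝒳 q ≫ (StMod.baseOver π z α).left
    rw [StMod.bmap_comp_baseOver_left, StMod.bmap_comp_baseOver_left, h]
  obtain ⟨p', ⟨hp₁, hp₁'⟩, -⟩ := existsUnique_lift_bmap hp φ₁ p (pullback.lift _ _ hpb ≫ e₁.inv) (by
    rw [hφ₁, Category.assoc, Iso.inv_hom_id_assoc, pullback.lift_fst])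
  obtain ⟨q', ⟨hq₁, hq₁'⟩, -⟩ := existsUnique_lift hp φ₂ q (𝒳.p.map p' ≫ eqToHom hz₂.symm) (by
    rw [hmap₂, Category.assoc, eqToHom_trans_assoc, eqToHom_refl, Category.id_comp]
    refine Over.OverMorphism.ext ?_
    show StMod.bmap 𝒳 p' ≫ e₁.hom ≫ pullback.snd b b = StMod.bmap 𝒳 q
    rw [hp₁, Category.assoc, Iso.inv_hom_id_assoc, pullback.lift_snd])
  have hsq : π.map p' ≫ χ = 𝟙 (π.obj y) ≫ π.map q' := by
    rw [Category.id_comp]
    refine hom_ext_of_map hp' (π.map φ₂ ≫ α) ?_ ?_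
    · rw [Functor.map_comp, hχ, map_w π p', map_w π q', hq₁]
      simp
    · rw [Category.assoc, hχα, ← Category.assoc, ← Functor.map_comp, hp₁', ← Category.assoc, ← Functor.map_comp,
        hq₁', h]
  let δ : (FibCat.diag π).obj y ⟶ d := ObjectProperty.homMk { fst := p', snd := q', w := hsq }
  obtain ⟨ι, y', φ, hc, hψ⟩ := hwcov y (δ ≫ eY.inv)
  refine ⟨ι, y', φ, hc, fun i => ⟨0, ?_⟩⟩
  obtain ⟨c, hcψ⟩ := hψ i
  have hcd : (FibCat.diag π).map c ≫ γ₁ = (FibCat.diag π).map (φ i) ≫ δ := by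
    show (FibCat.diag π).map c ≫ γ₀ ≫ eY.hom = _
    rw [← Category.assoc, hcψ]
    simp
  refine ⟨c, ?_, ?_⟩
  · have h1 : c ≫ γ₁.hom.fst = φ i ≫ p' := congrArg (fun m => m.hom.fst) hcd
    rw [← Category.assoc, h1, Category.assoc, hp₁']
  · have h1 : c ≫ γ₁.hom.snd = φ i ≫ q' := congrArg (fun m => m.hom.snd) hcd
    rw [← Category.assoc, h1, Category.assoc, hq₁']

end Groth.Agent.StModLib
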