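import Groth.Agent.StModLib.ExactCore
import Groth.Agent.StModLib.RelTrans
import Groth.Agent.StModLib.PresExist

/-!
# The category over an object of a base change: objects with prescribed images
-/

set_option autoImplicit false
set_option linter.style.haveILetI false
set_option linter.unusedSectionVars false
set_option backward.isDefEq.respectTransparency false
set_option backward.isDefEq.respectTransparency.types false

universe u

open CategoryTheory CategoryTheory.Limits AlgebraicGeometry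
open Groth.Agent.FibBase

noncomputable section

namespace Groth.Agent.StModLib

variable {S : Scheme.{u}} {𝒳 𝒴 𝒵 : AlgSt.Cat S} (g : 𝒵 ⥤ᵇ 𝒴) (π : 𝒳 ⥤ᵇ 𝒴)
  (hz : FibCat.IsFibGrpd 𝒵.p) (hp : FibCat.IsFibGrpd 𝒳.p) (hp' : FibCat.IsFibGrpd 𝒴.p) (η' : 𝒵.obj)

/-- The category over an object of the base change. -/
abbrev fcat : AlgSt.Cat S := StMod.fibCat (FibCat.fpFst g π) η'

/-- Its projection to the source. -/
abbrev fJ : fcat g π η' ⥤ᵇ 𝒳 :=
  BasedFunctor.comp (StMod.fibFst (FibCat.fpFst g π) η') (FibCat.fpSnd g π)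

/-- The canonical morphism of an object to the image of the object of the base. -/
def fCan (z : (fcat g π η').obj) : π.obj ((fJ g π η').obj z) ⟶ g.obj η' := transMor g π z.left z.hom

theorem fCan_natural {z' z : (fcat g π η').obj} (φ : z' ⟶ z) :
    π.map ((fJ g π η').map φ) ≫ fCan g π η' z = fCan g π η' z' := by
  refine (transMor_natural g π φ.left z.hom).trans ?_
  rw [CostructuredArrow.w φ]
  rfl

include hz hp hp' in
theorem isFibGrpd_fcat : FibCat.IsFibGrpd (fcat g π η').p :=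
  isFibGrpd_fibCat (FibCat.fpFst g π) η' (fp_isFibGrpd hz hp hp')

include hz hp in
theorem fp_hom_ext {x' x : (FibCat.fp g π).obj} (β : (FibCat.fpFst g π).obj x ⟶ η') {m m' : x' ⟶ x}
    (h : m.hom.snd = m'.hom.snd)
    (h' : (FibCat.fpFst g π).map m ≫ β = (FibCat.fpFst g π).map m' ≫ β) : m = m' := by
  refine ObjectProperty.hom_ext _ (CategoricalPullback.hom_ext ?_ h)
  refine hom_ext_of_map hz β ?_ h'
  have e₁ := map_w (FibCat.fpSnd g π) m
  have e₂ := map_w (FibCat.fpSnd g π) m'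
  have h1 : 𝒳.p.map ((FibCat.fpSnd g π).map m) = 𝒳.p.map ((FibCat.fpSnd g π).map m') := congrArg 𝒳.p.map h
  rw [e₁, e₂, cancel_epi, cancel_mono] at h1
  exact h1

include hz hp hp' in
/-- An object over a jointly monic pair. -/
theorem exists_fObj {ξ : 𝒳.obj} {ω : 𝒴.obj} (a : ω ⟶ π.obj ξ) (b : ω ⟶ g.obj η')
    (hjm : ∀ {v : 𝒴.obj} (l l' : v ⟶ ω), l ≫ a = l' ≫ a → l ≫ b = l' ≫ b → l = l') :
    ∃ (z : (fcat g π η').obj) (γ : (fJ g π η').obj z ⟶ ξ) (e : π.obj ((fJ g π η').obj z) ≅ ω),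
      e.hom ≫ a = π.map γ ∧ e.hom ≫ b = fCan g π η' z ∧
      ∀ (z' : (fcat g π η').obj) (γ' : (fJ g π η').obj z' ⟶ ξ),
        (∃ l : π.obj ((fJ g π η').obj z') ⟶ ω, l ≫ a = π.map γ' ∧ l ≫ b = fCan g π η' z') →
          ∃! χ : z' ⟶ z, (fJ g π η').map χ ≫ γ = γ' := by
  obtain ⟨p', φ', α', hα, hα', -, huniv⟩ := exists_lift_univ π hp hp' a
  obtain ⟨x, hx, β, hβ⟩ := exists_fp_obj g π hz hp' p' (α' ≫ b)
  subst hx
  rw [eqToHom_refl, π.map_id, Category.id_comp] at hβ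
  refine ⟨CostructuredArrow.mk β, φ', asIso α', hα', hβ.symm, fun z' γ' h => ?_⟩
  obtain ⟨l, hl₁, hl₂⟩ := h
  obtain ⟨ψ, hψ, hψl⟩ := huniv _ γ' l hl₁
  obtain ⟨m, hm, hm'⟩ := exists_fp_hom g π hz hp' z'.hom β ψ (by
    rw [hβ, ← Category.assoc, hψl, hl₂]
    rfl)
  refine ⟨CostructuredArrow.homMk m hm', ?_, fun χ hχ => ?_⟩
  · show m.hom.snd ≫ φ' = γ'
    rw [hm, hψ]
  · have hχ' : χ.left.hom.snd ≫ φ' = γ' := hχ
    have hcan : π.map χ.left.hom.snd ≫ α' ≫ b = π.map m.hom.snd ≫ α' ≫ b := by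
      rw [← hβ]
      refine (transMor_natural g π χ.left β).trans (Eq.trans ?_ (transMor_natural g π m β).symm)
      exact congrArg (transMor g π z'.left) ((CostructuredArrow.w χ).trans hm'.symm)
    have hl : π.map χ.left.hom.snd ≫ α' = π.map m.hom.snd ≫ α' := by
      refine hjm _ _ ?_ (by simpa only [Category.assoc] using hcan)
      rw [Category.assoc, Category.assoc, hα', ← Functor.map_comp, ← Functor.map_comp, hχ', hm, hψ]
    haveI := hα
    rw [cancel_mono] at hl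
    obtain ⟨c, -, hu⟩ := existsUnique_lift_image π hp hp' φ' γ' (π.map χ.left.hom.snd) (by
      rw [← Functor.map_comp, hχ'])
    have hsnd : χ.left.hom.snd = m.hom.snd :=
      (hu _ ⟨hχ', rfl⟩).trans (hu _ ⟨by rw [hm, hψ], hl.symm⟩).symm
    exact CostructuredArrow.hom_ext _ _ (fp_hom_ext g π hz hp η' β hsnd ((CostructuredArrow.w χ).trans hm'.symm))

include hz hp hp' in
/-- The fibre over a pair of a member and a morphism to a fixed object. -/
theorem exists_fibre {η : 𝒴.obj} (b : g.obj η' ⟶ η) {p : 𝒳.obj} (αp : π.obj p ⟶ η)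
    (hP : IsAffine (StMod.sch 𝒳 p)) (hη : IsAffine (StMod.sch 𝒴 η)) (hT : IsAffine (StMod.sch 𝒴 (g.obj η'))) :
    ∃ (xs : (fcat g π η').obj) (γs : (fJ g π η').obj xs ⟶ p), IsAffine (StMod.sch (fcat g π η') xs) ∧
      π.map γs ≫ αp = fCan g π η' xs ≫ b ∧
        ∀ (x : (fcat g π η').obj) (γ : (fJ g π η').obj x ⟶ p), π.map γ ≫ αp = fCan g π η' x ≫ b →
          ∃! χ : x ⟶ xs, (fJ g π η').map χ ≫ γs = γ := by
  haveI := hasPullbacks hp'
  obtain ⟨z, γ, e, h₁, h₂, hu⟩ := exists_fObj g π hz hp hp' η' (pullback.fst αp b) (pullback.snd αp b)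
    fun l l' h h' => pullback.hom_ext h h'
  refine ⟨z, γ, ?_, ?_, fun x δ h => hu x δ ⟨pullback.lift (π.map δ) (fCan g π η' x) h, pullback.lift_fst _ _ _,
    pullback.lift_snd _ _ _⟩⟩
  · haveI := hη
    haveI := hT
    haveI : IsAffine (StMod.sch 𝒴 (π.obj p)) := by rw [StMod.sch_obj_eq π p]; exact hP
    haveI : IsAffineHom (StMod.bmap 𝒴 b) := inferInstance
    haveI : IsAffine (StMod.sch 𝒴 (pullback αp b)) :=
      IsAffine.of_isPullback (isPullback_bmap hp' (IsPullback.of_hasPullback αp b))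
    haveI : IsAffine (StMod.sch 𝒴 (π.obj ((fJ g π η').obj z))) := IsAffine.of_isIso (StMod.bmap 𝒴 e.hom)
    rw [← StMod.sch_obj_eq (BasedFunctor.comp (fJ g π η') π) z]
    assumption
  · rw [← h₁, ← h₂, Category.assoc, Category.assoc, pullback.condition]

/-- A separated quasi-compact object classifying the pairs gives a presentation. -/
theorem nonempty_pres_of_obj {π : 𝒳 ⥤ᵇ 𝒴} (hp : FibCat.IsFibGrpd 𝒳.p) {η : 𝒴.obj} (z : 𝒳.obj)
    (α : π.obj z ⟶ η) [CompactSpace (StMod.sch 𝒳 z)] [(StMod.sch 𝒳 z).IsSeparated]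
    (hu : ∀ (ξ : 𝒳.obj) (β : π.obj ξ ⟶ η), ∃! χ : ξ ⟶ z, π.map χ ≫ α = β) : Nonempty (Pres π η) := by
  haveI := hasPullbacks hp
  let X := StMod.sch 𝒳 z
  let 𝒰 := X.affineCover.finiteSubcover
  let A : Scheme.{u} := ∐ 𝒰.X
  let f : A ⟶ X := Limits.Sigma.desc 𝒰.f
  have hsurj : ∀ t : X, t ∈ Set.range f := fun t => by
    obtain ⟨y, hy⟩ := 𝒰.covers t
    refine ⟨Limits.Sigma.ι 𝒰.X (𝒰.idx t) y, ?_⟩
    rw [← Scheme.Hom.comp_apply, Limits.Sigma.ι_desc]
    exact hy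
  haveI : Flat f := IsZariskiLocalAtSource.sigmaDesc (P := @Flat) fun i => inferInstance
  haveI : LocallyOfFinitePresentation f :=
    IsZariskiLocalAtSource.sigmaDesc (P := @LocallyOfFinitePresentation) fun i => inferInstance
  obtain ⟨a, ea, φ, hφ⟩ := exists_lift_bmap hp f
  have hcov : IsCov (fun _ : PUnit.{u + 1} => a) (fun _ => φ) := ⟨fun _ => by rw [hφ]; infer_instance,
    fun _ => by rw [hφ]; infer_instance, fun t => by
      obtain ⟨y, hy⟩ := hsurj t
      exact ⟨⟨⟩, ea.inv y, by rw [hφ, ← Scheme.Hom.comp_apply, Iso.inv_hom_id_assoc]; exact hy⟩⟩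
  haveI : IsAffine (StMod.sch 𝒳 a) := IsAffine.of_isIso ea.hom
  haveI : IsAffineHom (StMod.bmap 𝒳 φ) := IsAffineHom.of_comp _ (terminal.from (StMod.sch 𝒳 z))
  haveI : IsAffine (StMod.sch 𝒳 (pullback φ φ)) :=
    IsAffine.of_isPullback (isPullback_bmap hp (IsPullback.of_hasPullback φ φ))
  refine ⟨{
    z := a, affz := inferInstance, α := π.map φ ≫ α, n := 1, w := fun _ => pullback φ φ
    affw := fun _ => inferInstance, a := fun _ => pullback.fst φ φ, b := fun _ => pullback.snd φ φ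
    eq := fun _ => by rw [← Category.assoc, ← Functor.map_comp, pullback.condition, Functor.map_comp, Category.assoc]
    cov := fun ξ β => ?_, rel := fun y p q h => ?_ }⟩
  · obtain ⟨χ, hχ, -⟩ := hu ξ β
    obtain ⟨z', c, d, hc, hsq⟩ := hcov.exists_pullback hp χ
    refine ⟨PUnit, z', c, hc, fun i => ⟨d i, ?_⟩⟩
    rw [← Category.assoc, ← Functor.map_comp, ← (hsq i).w, Functor.map_comp, Category.assoc, hχ]
  · obtain ⟨χ, -, huniq⟩ := hu y (π.map p ≫ π.map φ ≫ α)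
    have e : p ≫ φ = q ≫ φ := by
      refine (huniq _ ?_).trans (huniq _ ?_).symm
      · show π.map (p ≫ φ) ≫ α = _
        rw [Functor.map_comp, Category.assoc]
      · show π.map (q ≫ φ) ≫ α = _
        rw [Functor.map_comp, Category.assoc]
        exact h.symm
    exact ⟨PUnit, fun _ => y, fun _ => 𝟙 y, ⟨fun _ => by rw [StMod.bmap_id]; infer_instance,
      fun _ => by rw [StMod.bmap_id]; infer_instance, fun t => ⟨⟨⟩, t, by rw [StMod.bmap_id]; rfl⟩⟩,
      fun _ => ⟨0, pullback.lift p q e, by simp, by simp⟩⟩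

include hz hp hp' in
/-- Presentations of the projection from a separated quasi-compact product. -/
theorem nonempty_pres_fJ {ξ : 𝒳.obj} {ω : 𝒴.obj} (a : ω ⟶ π.obj ξ) (b : ω ⟶ g.obj η')
    [CompactSpace (StMod.sch 𝒴 ω)] [(StMod.sch 𝒴 ω).IsSeparated]
    (hω : ∀ (v : 𝒴.obj) (f : v ⟶ π.obj ξ) (f' : v ⟶ g.obj η'), ∃! l : v ⟶ ω, l ≫ a = f ∧ l ≫ b = f') :
    Nonempty (Pres (fJ g π η') ξ) := by
  obtain ⟨z, γ, e, h₁, h₂, hu⟩ := exists_fObj g π hz hp hp' η' a b fun {v} l l' h h' =>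
    (hω v (l ≫ a) (l ≫ b)).unique ⟨rfl, rfl⟩ ⟨h.symm, h'.symm⟩
  let i : StMod.sch (fcat g π η') z ⟶ StMod.sch 𝒴 ω :=
    eqToHom (StMod.sch_obj_eq (BasedFunctor.comp (fJ g π η') π) z).symm ≫ StMod.bmap 𝒴 e.hom
  haveI : IsIso i := by
    haveI : IsIso (StMod.bmap 𝒴 e.hom) := isIso_bmap e.hom
    infer_instance
  haveI : CompactSpace (StMod.sch (fcat g π η') z) := QuasiCompact.compactSpace_of_compactSpace i
  haveI : (StMod.sch (fcat g π η') z).IsSeparated := ⟨by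
    rw [← terminal.comp_from i]
    infer_instance⟩
  refine nonempty_pres_of_obj (isFibGrpd_fcat g π hz hp hp' η') z γ fun x β => ?_
  obtain ⟨l, hl, -⟩ := hω _ (π.map β) (fCan g π η' x)
  exact hu x β ⟨l, hl⟩

end Groth.Agent.StModLib
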