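import Groth.Agent.StModLib.FlatExt
import Groth.Agent.StModLib.PresExist

/-!
# Atlases of algebraic stacks, and morphisms determined on affine objects flat over an atlas
-/

set_option autoImplicit false
set_option linter.style.haveILetI false
set_option linter.unusedSectionVars false
set_option backward.isDefEq.respectTransparency false
set_option backward.isDefEq.respectTransparency.types false

universe u

open CategoryTheory CategoryTheory.Limits AlgebraicGeometry AlgSp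
open Groth.Agent.AlgStLib Groth.Agent.AlgSpLib Groth.Agent.FibBase

noncomputable section

namespace Groth.Agent.StModLib

variable {S : Scheme.{u}} {𝒳 : AlgSt.Cat S}

/-- An object through which every object factors locally. -/
def IsDenseObj (x₀ : 𝒳.obj) : Prop :=
  ∀ η : 𝒳.obj, ∃ (ι : Type u) (z : ι → 𝒳.obj) (φ : ∀ i, z i ⟶ η), IsCov z φ ∧ ∀ i, Nonempty (z i ⟶ x₀)

/-- An algebraic stack has an atlas object with pairs. -/
theorem exists_atlasObj (h𝒳 : AlgSt.IsAlgStack Scheme.fppfPrecoverage 𝒳) :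
    ∃ x₀ : 𝒳.obj, Nonempty (PairAtlas x₀) ∧ IsDenseObj x₀ := by
  obtain ⟨U, x, hsm, hsu⟩ := h𝒳.atlas
  have hp := h𝒳.isStack.1
  have hfl : AlgSt.RepByAlgSpWith (LocP @Flat) x := repByAlgSpWith_mono (fun _ _ _ h =>
    locP_mono (Q := @Flat) (fun _ _ k (_ : Smooth k) => inferInstanceAs (Flat k)) h) hsm
  have hx := locSurjObj_of_locEssSurj hp (locEssSurj_of_repByAlgSp hfl
    (repByAlgSpWith_mono (fun _ _ _ h => locP_mono (Q := @LocallyOfFinitePresentation)
      (fun _ _ k (_ : Smooth k) => inferInstanceAs (LocallyOfFinitePresentation k)) h) hsm) hsu)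
  refine ⟨x.obj (topOver U), nonempty_pairAtlas hp x hfl, fun η => ?_⟩
  obtain ⟨R, hR, hR'⟩ := hx η
  obtain ⟨ι, y, φ, hc, hP⟩ := exists_isCov_of_mem_J η hR (P := fun y _ => Nonempty (y ⟶ x.obj (topOver U)))
    fun V h hh => by
      obtain ⟨x', k, hk⟩ := hR' h hh
      exact ⟨x.obj x', k, hk, ⟨x.map (Over.homMk x'.hom (Category.comp_id _) : x' ⟶ topOver U)⟩⟩
  exact ⟨ι, y, φ, hc, hP⟩

variable {x₀ : 𝒳.obj} (hp : FibCat.IsFibGrpd 𝒳.p)

theorem isSemiBC_mapTop (G : StMod.QCoh 𝒳) {t p : 𝒳.obj} (a : t ⟶ p) (ht : IsAffine (StMod.sch 𝒳 t))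
    (hpa : IsAffine (StMod.sch 𝒳 p)) :
    IsSemiBC (fn a) (AddMonoidHom.mk' (G.obj.mapTop a) (G.obj.mapTop_add a)) :=
  (Sys.bc_iff (N := modSys G.obj) a).1 (hasBC_modSys G.property a hpa ht)

/-- A natural linear family on the members. -/
structure IsMemFam {G G' : StMod.Mod 𝒳} (m : ∀ p : FMem x₀, Γ(G.obj p.1, ⊤) →+ Γ(G'.obj p.1, ⊤)) : Prop where
  lin : ∀ (p : FMem x₀) (r : Γ(StMod.sch 𝒳 p.1, ⊤)) (x : Γ(G.obj p.1, ⊤)), m p (r • x) = r • m p x
  nat : ∀ {p q : FMem x₀} (f : p.1 ⟶ q.1) (x : Γ(G.obj q.1, ⊤)), G'.mapTop f (m q x) = m p (G.mapTop f x)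

include hp in
/-- Natural linear families on the members extend to morphisms. -/
theorem exists_hom_of_flatMem (P : PairAtlas x₀) (hd : IsDenseObj x₀) {G G' : StMod.QCoh 𝒳}
    {m : ∀ p : FMem x₀, Γ(G.obj.obj p.1, ⊤) →+ Γ(G'.obj.obj p.1, ⊤)} (hm : IsMemFam m) :
    ∃ a : G ⟶ G', ∀ (p : FMem x₀) (x : Γ(G.obj.obj p.1, ⊤)), (a.hom.app p.1).app ⊤ x = m p x := by
  have hex : ∀ (t : DMem x₀) (p : FMem x₀) (a : t.1 ⟶ p.1), ∃ g : Γ(G.obj.obj t.1, ⊤) →+ Γ(G'.obj.obj t.1, ⊤),
      (∀ (r : Γ(StMod.sch 𝒳 t.1, ⊤)) (x : Γ(G.obj.obj t.1, ⊤)), g (r • x) = r • g x) ∧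
      ∀ x, g (G.obj.mapTop a x) = G'.obj.mapTop a (m p x) := fun t p a =>
    (isSemiBC_mapTop G a t.2.1 p.2.1).exists_lift (RingHom.id _)
      ((AddMonoidHom.mk' (G'.obj.mapTop a) (G'.obj.mapTop_add a)).comp (m p)) fun r x => by
        show G'.obj.mapTop a (m p (r • x)) = _
        rw [hm.lin, StMod.Mod.mapTop_smul]
        rfl
  choose g hgl hg using hex
  have hind : ∀ (t : DMem x₀) (p q : FMem x₀) (a : t.1 ⟶ p.1) (b : t.1 ⟶ q.1), g t p a = g t q b :=
    fun t p q a b => by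
      obtain ⟨κ, R, c, d, hc, -, hcov, -⟩ := exists_pair hp P p q
      obtain ⟨ι, z, φ, hφ, hk⟩ := hcov t.1 a b
      refine (isSemiBC_mapTop G a t.2.1 p.2.1).ext (τ := RingHom.id _) (hgl t p a) (hgl t q b) fun x =>
        (isSheaf_modSys hp G'.property).1 z φ hφ _ _ fun i => ?_
      obtain ⟨k, e, he₁, he₂⟩ := (hk i).2
      have hz := (hk i).1
      -- compare on `z i` through the triangle
      have hG : ∀ y, G'.obj.mapTop (φ i) (g t q b (G.obj.mapTop b y)) = G'.obj.mapTop e (m (R k) (G.obj.mapTop (d k) y)) :=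
        fun y => by
          rw [hg, ← hm.nat, ← StMod.Mod.mapTop_comp, ← StMod.Mod.mapTop_comp, he₂]
      let v : FMem x₀ := R k
      let zi : DMem x₀ := ⟨z i, hz, v, ⟨e⟩⟩
      have key : ∀ (w : Γ(G.obj.obj t.1, ⊤)),
          G'.obj.mapTop (φ i) (g t q b w) = g zi v e (G.obj.mapTop (φ i) w) := by
        intro w
        refine congr($((isSemiBC_mapTop G b t.2.1 q.2.1).ext (τ := fn (φ i))
          (g := (AddMonoidHom.mk' (G'.obj.mapTop (φ i)) (G'.obj.mapTop_add _)).comp (g t q b))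
          (g' := (g zi v e).comp (AddMonoidHom.mk' (G.obj.mapTop (φ i)) (G.obj.mapTop_add _)))
          (fun r y => by
            show G'.obj.mapTop (φ i) (g t q b (r • y)) = _
            rw [hgl, StMod.Mod.mapTop_smul]
            rfl)
          (fun r y => by
            show g zi v e (G.obj.mapTop (φ i) (r • y)) = _
            rw [StMod.Mod.mapTop_smul, hgl]
            rfl)
          fun y => by
            show G'.obj.mapTop (φ i) (g t q b (G.obj.mapTop b y)) = g zi v e (G.obj.mapTop (φ i) (G.obj.mapTop b y))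
            rw [hG, ← StMod.Mod.mapTop_comp (F := G.obj), ← he₂, StMod.Mod.mapTop_comp, hg]) w)
      show G'.obj.mapTop (φ i) (g t p a (G.obj.mapTop a x)) = G'.obj.mapTop (φ i) (g t q b (G.obj.mapTop a x))
      rw [key, hg, ← StMod.Mod.mapTop_comp, ← StMod.Mod.mapTop_comp, ← he₁, StMod.Mod.mapTop_comp,
        StMod.Mod.mapTop_comp, hg, hm.nat]
  obtain ⟨a, ha⟩ := exists_hom_of_denseAff hp (isDense_dMem hp hd) isStableAff_dMem (G := G.obj) (G' := G'.obj)
    G'.property (fun t => g t (dp t) (da t)) (fun t r x => hgl t (dp t) (da t) r x) (fun {t' t} ψ x => by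
      show G'.obj.mapTop ψ (g t (dp t) (da t) x) = g t' (dp t') (da t') (G.obj.mapTop ψ x)
      rw [hind t' (dp t') (dp t) (da t') (ψ ≫ da t)]
      exact congr($((isSemiBC_mapTop G (da t) t.2.1 (dp t).2.1).ext (τ := fn ψ)
        (g := (AddMonoidHom.mk' (G'.obj.mapTop ψ) (G'.obj.mapTop_add _)).comp (g t (dp t) (da t)))
        (g' := (g t' (dp t) (ψ ≫ da t)).comp (AddMonoidHom.mk' (G.obj.mapTop ψ) (G.obj.mapTop_add _)))
        (fun r y => by
          show G'.obj.mapTop ψ (g t (dp t) (da t) (r • y)) = _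
          rw [hgl, StMod.Mod.mapTop_smul]
          rfl)
        (fun r y => by
          show g t' (dp t) (ψ ≫ da t) (G.obj.mapTop ψ (r • y)) = _
          rw [StMod.Mod.mapTop_smul, hgl]
          rfl)
        fun y => by
          show G'.obj.mapTop ψ (g t (dp t) (da t) (G.obj.mapTop (da t) y)) =
            g t' (dp t) (ψ ≫ da t) (G.obj.mapTop ψ (G.obj.mapTop (da t) y))
          rw [hg, ← StMod.Mod.mapTop_comp, ← StMod.Mod.mapTop_comp, hg]) x))
  refine ⟨⟨a⟩, fun p x => (ha (toDMem p) x).trans ?_⟩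
  rw [hind (toDMem p) (dp (toDMem p)) p (da (toDMem p)) (𝟙 p.1)]
  have := hg (toDMem p) p (𝟙 p.1) x
  rwa [StMod.Mod.mapTop_id, StMod.Mod.mapTop_id] at this

include hp in
/-- A morphism surjective on the members is surjective. -/
theorem isSurj_of_flatMem (hd : IsDenseObj x₀) {G G' : StMod.QCoh 𝒳} (a : G ⟶ G')
    (h : ∀ p : FMem x₀, Function.Surjective ((a.hom.app p.1).app ⊤)) : StMod.Mod.IsSurj a.hom := by
  refine isSurj_of_denseAff hp (isDense_dMem hp hd) isStableAff_dMem a.hom fun t => ?_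
  let p := dp t
  let b := da t
  intro y
  obtain ⟨L, hL⟩ := exists_tensor_map (σ := fn b) _ (isSemiBC_mapTop G' b t.2.1 p.2.1).choose
  obtain ⟨s, rfl⟩ := (bijective_of_isSemiBC (isSemiBC_mapTop G' b t.2.1 p.2.1) L hL).2 y
  letI := (fn b).toAlgebra
  induction s using TensorProduct.induction_on with
  | zero => exact ⟨0, by rw [map_zero, map_zero]⟩
  | add u v hu hv =>
    obtain ⟨u', hu'⟩ := hu
    obtain ⟨v', hv'⟩ := hv
    exact ⟨u' + v', by rw [map_add, map_add, hu', hv']⟩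
  | tmul r n =>
    obtain ⟨n', rfl⟩ := h p n
    refine ⟨r • G.obj.mapTop b n', ?_⟩
    rw [Scheme.Modules.Hom.app_smul, hL]
    exact congrArg (r • ·) (StMod.Mod.mapTop_app a.hom b n').symm

end Groth.Agent.StModLib
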