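import Groth.Agent.StModLib.PresExist
import Groth.Agent.AlgStLib.OfSp

/-!
# Cohomological affineness is flat local on the target
-/

set_option autoImplicit false
set_option linter.style.haveILetI false
set_option backward.isDefEq.respectTransparency false
set_option backward.isDefEq.respectTransparency.types false

universe u

open CategoryTheory CategoryTheory.Limits AlgebraicGeometry AlgSp Opposite
open Groth.Agent.AlgStLib Groth.Agent.AlgSpLib Groth.Agent.AlgSpPts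

noncomputable section

namespace Groth.Agent.StModLib

variable {S : Scheme.{u}}

/-- Etale schemes over the source covering an etale scheme over the target in a flat manner. -/
theorem exists_flat_family {M M' : Sp S} (hM : IsAlgSpace M) (hM' : IsAlgSpace M') (g : M' ⟶ M)
    (hgf : LocP @Flat g) (hgs : IsSurjectiveMor g) (E : EtOver M) :
    ∃ (J : Type u) (E' : J → EtOver M') (b : ∀ j, (AlgSt.ofSpMap g).obj (StMod.etaOf (E' j)) ⟶ StMod.etaOf E),
      (∀ j, IsAffine (E' j).obj.left.left) ∧ (∀ j, Flat (b j).hom.left) ∧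
        ∀ t : E.obj.left.left, ∃ j, t ∈ Set.range (b j).hom.left := by
  have hE := IsAlgSpace.yon_obj (S := S) E.obj.left
  have sq : IsPullback (pullback.fst E.obj.hom g) (pullback.snd E.obj.hom g) E.obj.hom g :=
    IsPullback.of_hasPullback E.obj.hom g
  have hP := isAlgSpace_of_isPullback sq hE hM' hM
  obtain ⟨V, p, hp, hp'⟩ := hP.atlas
  obtain ⟨c, hc⟩ := (yon S).map_surjective (p ≫ pullback.fst E.obj.hom g)
  have hV := IsAlgSpace.yon_obj (S := S) V
  haveI hcf : Flat c.left := locP_yon_map (P := @Flat) (hc ▸ locP_comp hV hP hE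
    (locP_mono (Q := @Flat) (fun _ _ f (_ : Etale f) => inferInstanceAs (Flat f)) (locP_of_repWith (P := @Etale) hp))
    (locP_of_isPullback sq.flip hM' hM hE hgf))
  have hcs : Function.Surjective c.left := fun x => by
    obtain ⟨x₁, h1⟩ := surjective_map_of_isPullback sq.flip hgs (Points.schemeHomeo E.obj.left x)
    obtain ⟨x₂, h2⟩ := surjective_map_of_repWith hp' x₁
    obtain ⟨t, rfl⟩ := (Points.schemeHomeo V).surjective x₂
    refine ⟨t, (Points.schemeHomeo E.obj.left).injective ?_⟩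
    rw [← h1, ← h2, ← Points.map_comp, ← hc, Points.map_yon_map_eq]
    simp
  let ι : ∀ W : V.left.affineOpens, Over.mk (W.1.ι ≫ V.hom) ⟶ V := fun W => Over.homMk W.1.ι rfl
  let a : ∀ W : V.left.affineOpens, (yon S).obj (Over.mk (W.1.ι ≫ V.hom)) ⟶ M' := fun W =>
    (yon S).map (ι W) ≫ p ≫ pullback.snd E.obj.hom g
  have ha : ∀ W, RepWith @Etale (a W) := fun W =>
    repWith_comp ((repWith_yon_map_iff @Etale _).2 (inferInstanceAs (Etale W.1.ι)))
      (repWith_comp hp (repWith_of_isPullback sq E.property))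
  refine ⟨V.left.affineOpens, fun W => EtOver.mk (a W) (ha W), fun W => ⟨ι W ≫ c, ?_⟩, fun W => W.2,
    fun W => (inferInstance : Flat (W.1.ι ≫ c.left)), fun t => ?_⟩
  · show M.obj.map (ι W ≫ c).op ((AlgSp.J S).uliftYonedaEquiv E.obj.hom) =
      g.hom.app _ ((AlgSp.J S).uliftYonedaEquiv (a W))
    rw [← GrothendieckTopology.uliftYonedaEquiv_comp, GrothendieckTopology.uliftYonedaEquiv_naturality]
    refine congrArg _ ?_
    show (yon S).map (ι W ≫ c) ≫ E.obj.hom = ((yon S).map (ι W) ≫ p ≫ pullback.snd E.obj.hom g) ≫ g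
    rw [Functor.map_comp, hc]
    simp only [Category.assoc, pullback.condition]
  · obtain ⟨v, rfl⟩ := hcs t
    obtain ⟨Z, hZ, hvZ, -⟩ := exists_isAffineOpen_mem_and_subset (U := (⊤ : V.left.Opens)) (trivial : v ∈ (⊤ : V.left.Opens))
    exact ⟨⟨Z, hZ⟩, ⟨v, hvZ⟩, rfl⟩

variable {𝒳 𝒴 𝒵 : AlgSt.Cat S}

theorem isSurj_comapMap (f : 𝒵 ⥤ᵇ 𝒳) {F G : StMod.Mod 𝒳} {u : F ⟶ G} (hu : StMod.Mod.IsSurj u) :
    StMod.Mod.IsSurj (StMod.Mod.comapMap f u) := fun x hx t => by
  haveI : IsAffine (StMod.sch 𝒳 (f.obj x)) := by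
    rw [StMod.sch_obj_eq f x]
    exact hx
  obtain ⟨s, hs⟩ := hu (f.obj x) ‹_› (cmp f G x t)
  exact ⟨(cmp f F x).symm s, (cmp f G x).injective (by rw [cmp_comapMap, AddEquiv.apply_symm_apply, hs])⟩

/-- A covering by morphisms of affine schemes covers the spectrum. -/
theorem exists_prime_of_cover {J : Type u} {η : 𝒴.obj} {y : J → 𝒴.obj} (b : ∀ j, y j ⟶ η)
    [IsAffine (StMod.sch 𝒴 η)] [∀ j, IsAffine (StMod.sch 𝒴 (y j))]
    (hcov : ∀ t : StMod.sch 𝒴 η, ∃ j, t ∈ Set.range (StMod.bmap 𝒴 (b j)))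
    (q : PrimeSpectrum Γ(StMod.sch 𝒴 η, ⊤)) :
    ∃ (j : J) (p : PrimeSpectrum Γ(StMod.sch 𝒴 (y j), ⊤)),
      PrimeSpectrum.comap (StMod.bmap 𝒴 (b j)).appTop.hom p = q := by
  obtain ⟨j, x, hx⟩ := hcov ((StMod.sch 𝒴 η).isoSpec.inv q)
  refine ⟨j, (StMod.sch 𝒴 (y j)).isoSpec.hom x, ?_⟩
  have h1 := congr($(Scheme.isoSpec_hom_naturality (StMod.bmap 𝒴 (b j))) x)
  rw [Scheme.Hom.comp_apply, Scheme.Hom.comp_apply] at h1
  refine h1.trans ?_
  rw [hx, ← Scheme.Hom.comp_apply, Iso.inv_hom_id]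
  rfl

/-- Cohomological affineness descends along flat surjections of algebraic spaces. -/
theorem isCohAffine_of_fpFst {M M' : AlgSp.Space S} (hp : FibCat.IsFibGrpd 𝒳.p) (g : M'.obj ⟶ M.obj)
    (hgf : LocP @Flat g) (hgs : IsSurjectiveMor g) (π : 𝒳 ⥤ᵇ AlgSt.ofSp M.obj)
    (hqc : AlgSt.IsQuasiCompactMor Scheme.fppfPrecoverage π) (hqs : AlgSt.IsQuasiSeparatedMor π)
    (h' : StMod.IsCohAffine (FibCat.fpFst (AlgSt.ofSpMap g) π)) : StMod.IsCohAffine π := by
  intro F G u hu E hE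
  have hM : FibCat.IsFibGrpd (AlgSt.ofSp M.obj).p := (isAlgStack_ofSp M).isStack.1
  have hM' : FibCat.IsFibGrpd (AlgSt.ofSp M'.obj).p := (isAlgStack_ofSp M').isStack.1
  haveI : IsAffine (StMod.sch (AlgSt.ofSp M.obj) (StMod.etaOf E)) := hE
  obtain ⟨c⟩ := nonempty_pres hp hM hqc hqs (StMod.etaOf E)
  obtain ⟨J, E', b, haff, hfl, hcov⟩ := exists_flat_family M.property M'.property g hgf hgs E
  haveI : ∀ j, IsAffine (StMod.sch (AlgSt.ofSp M.obj) ((AlgSt.ofSpMap g).obj (StMod.etaOf (E' j)))) := haff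
  haveI : ∀ j, Flat (StMod.bmap (AlgSt.ofSp M.obj) (b j)) := hfl
  refine surjective_of_forall_semiBC (σ := fun j => (StMod.bmap (AlgSt.ofSp M.obj) (b j)).appTop.hom)
    (fun j => (HasRingHomProperty.iff_of_isAffine (P := @Flat)).1 (hfl j)) (exists_prime_of_cover b hcov)
    (fun j => isSemiBC_relRes (b j) F.obj hp hM c F.property)
    (fun j => isSemiBC_relRes (b j) G.obj hp hM c G.property)
    (StMod.Mod.relSectMap π u.hom (StMod.etaOf E))
    (fun j => StMod.Mod.relSectMap π u.hom ((AlgSt.ofSpMap g).obj (StMod.etaOf (E' j))))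
    (fun j s => relRes_map (b j) F.obj u.hom s) fun j t => ?_
  obtain ⟨s', hs'⟩ := h' ((StMod.comapQ (FibCat.fpSnd (AlgSt.ofSpMap g) π)).map u)
    (isSurj_comapMap _ hu) (E' j) (haff j) (transMap _ π G.obj _ t)
  obtain ⟨s, rfl⟩ := (bijective_transMap (AlgSt.ofSpMap g) π hM' hM).2 s'
  exact ⟨s, (bijective_transMap (AlgSt.ofSpMap g) π hM' hM).1
    ((transMap_map (AlgSt.ofSpMap g) π F.obj _ u.hom s).trans hs')⟩

end Groth.Agent.StModLib
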