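import Groth.Agent.StModLib.SectBC

/-!
# Semilinear base changes: universal property, cancellation and gluing
-/

set_option autoImplicit false

universe w u

open TensorProduct CategoryTheory

namespace Groth.Agent.StModLib

section

variable {A B C : Type u} [CommRing A] [CommRing B] [CommRing C] {M N O : Type w} [AddCommGroup M] [Module A M]
  [AddCommGroup N] [Module B N] [AddCommGroup O] [Module C O]

/-- Linear maps out of a base change are determined by their composite with it. -/
theorem IsSemiBC.ext {σ : A →+* B} {l : M →+ N} (hl : IsSemiBC σ l) {τ : B →+* C} {g g' : N →+ O}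
    (hg : ∀ (r : B) (n : N), g (r • n) = τ r • g n) (hg' : ∀ (r : B) (n : N), g' (r • n) = τ r • g' n)
    (h : ∀ m, g (l m) = g' (l m)) : g = g' := by
  obtain ⟨L, hL⟩ := exists_tensor_map l hl.choose
  refine AddMonoidHom.ext fun n => ?_
  obtain ⟨t, rfl⟩ := (bijective_of_isSemiBC hl L hL).2 n
  induction t using TensorProduct.induction_on with
  | zero => simp
  | add a b ha hb => simp only [map_add, ha, hb]
  | tmul s m => rw [hL, hg, hg', h]

/-- The universal property of a base change. -/
theorem IsSemiBC.exists_lift {σ : A →+* B} {l : M →+ N} (hl : IsSemiBC σ l) (τ : B →+* C) (k : M →+ O)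
    (hk : ∀ (r : A) (m : M), k (r • m) = τ (σ r) • k m) :
    ∃ g : N →+ O, (∀ (r : B) (n : N), g (r • n) = τ r • g n) ∧ ∀ m, g (l m) = k m := by
  letI := σ.toAlgebra
  letI : Module A N := Module.compHom N σ
  letI : Module B O := Module.compHom O τ
  letI : Module A O := Module.compHom O (τ.comp σ)
  haveI : IsScalarTower A B N := IsScalarTower.of_algebraMap_smul fun _ _ => rfl
  haveI : IsScalarTower A B O := IsScalarTower.of_algebraMap_smul fun _ _ => rfl
  obtain ⟨h₁, hb⟩ := hl
  let g := hb.lift ({ toFun := k, map_add' := map_add k, map_smul' := hk } : M →ₗ[A] O)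
  exact ⟨g.toAddMonoidHom, fun r n => g.map_smul r n, fun m => hb.lift_eq _ m⟩

/-- A base change followed by a semilinear map is a base change iff the latter is. -/
theorem IsSemiBC.of_comp {σ : A →+* B} {l : M →+ N} (hl : IsSemiBC σ l) {τ : B →+* C} {k : N →+ O}
    (hk : ∀ (r : B) (n : N), k (r • n) = τ r • k n) (h : IsSemiBC (τ.comp σ) (k.comp l)) : IsSemiBC τ k := by
  obtain ⟨h₁, b₁⟩ := hl
  obtain ⟨h₂, b₂⟩ := h
  letI := σ.toAlgebra
  letI := τ.toAlgebra
  letI := (τ.comp σ).toAlgebra
  letI : Module A N := Module.compHom N σ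
  letI : Module B O := Module.compHom O τ
  letI : Module A O := Module.compHom O (τ.comp σ)
  haveI : IsScalarTower A B N := IsScalarTower.of_algebraMap_smul fun _ _ => rfl
  haveI : IsScalarTower B C O := IsScalarTower.of_algebraMap_smul fun _ _ => rfl
  haveI : IsScalarTower A C O := IsScalarTower.of_algebraMap_smul fun _ _ => rfl
  haveI : IsScalarTower A B O := IsScalarTower.of_algebraMap_smul fun _ _ => rfl
  haveI : IsScalarTower A B C := IsScalarTower.of_algebraMap_eq fun _ => rfl
  refine ⟨hk, ?_⟩
  exact IsBaseChange.of_comp (f := ({ toFun := l, map_add' := map_add l, map_smul' := h₁ } : M →ₗ[A] N)) b₁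
    (h := ({ toFun := k, map_add' := map_add k, map_smul' := hk } : N →ₗ[B] O)) b₂

end

section

variable {A B : Type u} [CommRing A] [CommRing B] {M N N' : Type w} [AddCommGroup M] [Module A M]
  [AddCommGroup N] [Module B N] [AddCommGroup N'] [Module B N']

/-- A linear map between two base changes compatible with them is bijective. -/
theorem IsSemiBC.bijective_of_linear {σ : A →+* B} {l : M →+ N} (hl : IsSemiBC σ l) {g : N →+ N'}
    (hg : ∀ (r : B) (n : N), g (r • n) = r • g n) (h : IsSemiBC σ (g.comp l)) : Function.Bijective g := by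
  obtain ⟨g', hg', hgl⟩ := h.exists_lift (RingHom.id B) l hl.choose
  have e₁ : g'.comp g = AddMonoidHom.id N := hl.ext (τ := RingHom.id B)
    (fun r n => by show g' (g (r • n)) = r • g' (g n); rw [hg, hg']; rfl) (fun r n => rfl)
    fun m => hgl m
  have e₂ : g.comp g' = AddMonoidHom.id N' := h.ext (τ := RingHom.id B)
    (fun r n => by show g (g' (r • n)) = r • g (g' n); rw [hg', RingHom.id_apply, hg]) (fun r n => rfl)
    fun m => congrArg g (hgl m)
  exact Function.bijective_iff_has_inverse.2 ⟨g', fun n => congr($e₁ n), fun n => congr($e₂ n)⟩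

/-- A base change along the identity is bijective. -/
theorem IsSemiBC.bijective_of_id {l : M →+ N'} [Module A N'] (hl : IsSemiBC (RingHom.id A) l) :
    Function.Bijective l :=
  IsSemiBC.bijective_of_linear (l := AddMonoidHom.id M)
    (isSemiBC_of_bijective (fun _ _ => rfl) Function.bijective_id Function.bijective_id)
    (fun r m => hl.choose r m) hl

end

section

variable {A : Type u} [CommRing A] {J : Type} [Fintype J] [DecidableEq J] {B : J → Type u} [∀ j, CommRing (B j)]
  {σ : ∀ j, A →+* B j} (hσ : ∀ j, (σ j).Flat)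
  (hcov : ∀ p : PrimeSpectrum A, ∃ (j : J) (q : PrimeSpectrum (B j)), PrimeSpectrum.comap (σ j) q = p)
  {M : Type u} [AddCommGroup M] [Module A M] {N : J → Type u} [∀ j, AddCommGroup (N j)] [∀ j, Module (B j) (N j)]
  {l : ∀ j, M →+ N j} (hl : ∀ j, IsSemiBC (σ j) (l j))

include hσ hcov hl in
/-- Flat covers separate the elements of a module. -/
theorem eq_of_forall_semiBC {x y : M} (h : ∀ j, l j x = l j y) : x = y := by
  letI : ∀ j, Algebra A (B j) := fun j => (σ j).toAlgebra
  haveI : ∀ j, Module.Flat A (B j) := fun j => hσ j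
  let Q := Submodule.span A {x - y}
  have hz := injective_of_forall_lTensor' (B := B) hcov (0 : Q →ₗ[A] PUnit.{u + 1}) fun j a b _ => ?_
  · exact sub_eq_zero.1 (congrArg Subtype.val
      (hz (a₁ := ⟨x - y, Submodule.mem_span_singleton_self _⟩) (a₂ := 0) rfl))
  obtain ⟨L, hL⟩ := exists_tensor_map (σ := σ j) (l j) (hl j).choose
  have hinj : Function.Injective (Q.subtype.lTensor (B j)) :=
    Module.Flat.lTensor_preserves_injective_linearMap _ Q.injective_subtype
  have h0 : ∀ t, L (Q.subtype.lTensor (B j) t) = 0 := fun t => by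
    induction t using TensorProduct.induction_on with
    | zero => simp
    | add a b ha hb => rw [map_add, map_add, ha, hb, add_zero]
    | tmul s q =>
      obtain ⟨r, hr⟩ := Submodule.mem_span_singleton.1 q.2
      rw [LinearMap.lTensor_tmul, hL, Submodule.subtype_apply, ← hr, (hl j).choose, map_sub, h, sub_self,
        smul_zero, smul_zero]
  exact hinj ((bijective_of_isSemiBC (hl j) L hL).1 ((h0 a).trans (h0 b).symm))

include hσ hcov hl in
/-- Elements of the base changes along a flat cover which agree on the overlaps come from an element. -/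
theorem exists_of_agree {B' : J → J → Type u} [∀ i j, CommRing (B' i j)] {N' : J → J → Type u}
    [∀ i j, AddCommGroup (N' i j)] [∀ i j, Module (B' i j) (N' i j)]
    (κ₀ : ∀ i j, B i →+* B' i j) (κ₁ : ∀ i j, B j →+* B' i j)
    (hpo : ∀ i j, IsPushout (CommRingCat.ofHom (σ i)) (CommRingCat.ofHom (σ j)) (CommRingCat.ofHom (κ₀ i j))
      (CommRingCat.ofHom (κ₁ i j)))
    (p : ∀ i j, N i →+ N' i j) (hp : ∀ i j (r : B i) (n : N i), p i j (r • n) = κ₀ i j r • p i j n)
    (q : ∀ i j, N j →+ N' i j) (hq : ∀ i j, IsSemiBC (κ₁ i j) (q i j))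
    (hpq : ∀ i j m, p i j (l i m) = q i j (l j m))
    (z : ∀ j, N j) (hz : ∀ i j, p i j (z i) = q i j (z j)) : ∃ m, ∀ j, l j m = z j := by
  letI : ∀ j, Algebra A (B j) := fun j => (σ j).toAlgebra
  haveI : ∀ j, Module.Flat A (B j) := fun j => hσ j
  letI : ∀ j, Module A (N j) := fun j => Module.compHom (N j) (σ j)
  let g : M →ₗ[A] ∀ j, N j := LinearMap.pi fun j =>
    { toFun := l j, map_add' := map_add (l j), map_smul' := (hl j).choose }
  suffices hy : (Submodule.Quotient.mk z : (∀ j, N j) ⧸ LinearMap.range g) = 0 by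
    obtain ⟨m, hm⟩ := (Submodule.Quotient.mk_eq_zero _).1 hy
    exact ⟨m, fun j => congrFun hm j⟩
  let Q := Submodule.span A {(Submodule.Quotient.mk z : (∀ j, N j) ⧸ LinearMap.range g)}
  suffices hsub : ∀ i, Subsingleton (B i ⊗[A] Q) by
    exact congrArg Subtype.val (injective_of_forall_lTensor' (B := B) hcov (0 : Q →ₗ[A] PUnit.{u + 1})
      (fun i a b _ => (hsub i).elim a b) (a₁ := ⟨_, Submodule.mem_span_singleton_self _⟩) (a₂ := 0) rfl)
  intro i
  have hinj : Function.Injective (Q.subtype.lTensor (B i)) :=
    Module.Flat.lTensor_preserves_injective_linearMap _ Q.injective_subtype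
  have key : ((1 : B i) ⊗ₜ[A] (Submodule.Quotient.mk z : (∀ j, N j) ⧸ LinearMap.range g)) = 0 := by
    obtain ⟨L, hL⟩ := exists_tensor_map (σ := σ i) (l i) (hl i).choose
    obtain ⟨w, hw⟩ := (bijective_of_isSemiBC (hl i) L hL).2 (z i)
    have hrange : g.lTensor (B i) w = (1 : B i) ⊗ₜ[A] z := by
      refine (TensorProduct.piRight A A (B i) N).injective (funext fun j => ?_)
      rw [TensorProduct.piRight_apply, TensorProduct.piRight_apply, TensorProduct.piRightHom_tmul]
      letI : Module (B i) (N' i j) := Module.compHom (N' i j) (κ₀ i j)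
      have hbc : IsSemiBC (σ i) (q i j) := isSemiBC_of_isPushout (σ := σ i) (ρ := σ j) (ρ' := κ₀ i j) (hpo i j)
        (fun _ _ => rfl) (fun _ _ => rfl) (hq i j)
      obtain ⟨L', hL'⟩ := exists_tensor_map (σ := σ i) (q i j) hbc.choose
      refine (bijective_of_isSemiBC hbc L' hL').1 ?_
      have hv : ∀ v, L' ((TensorProduct.piRightHom A A (B i) N) (g.lTensor (B i) v) j) = p i j (L v) := fun v => by
        induction v using TensorProduct.induction_on with
        | zero => simp
        | add a b ha hb => simp only [map_add, Pi.add_apply, ha, hb]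
        | tmul s m =>
          rw [LinearMap.lTensor_tmul, TensorProduct.piRightHom_tmul, hL', hL, hp]
          exact congrArg (fun n : N' i j => κ₀ i j s • n) (hpq i j m).symm
      rw [hv, hw, hL', one_smul, hz]
    have := congrArg ((LinearMap.range g).mkQ.lTensor (B i)) hrange
    rw [← LinearMap.lTensor_comp_apply, LinearMap.range_mkQ_comp, LinearMap.lTensor_zero,
      LinearMap.lTensor_tmul] at this
    exact this.symm
  have h0 : ∀ t, Q.subtype.lTensor (B i) t = 0 := fun t => by
    induction t using TensorProduct.induction_on with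
    | zero => simp
    | add a b ha hb => rw [map_add, ha, hb, add_zero]
    | tmul s v =>
      obtain ⟨r, hr⟩ := Submodule.mem_span_singleton.1 v.2
      rw [LinearMap.lTensor_tmul, Submodule.subtype_apply, ← hr, ← TensorProduct.smul_tmul]
      have : ((r • s) ⊗ₜ[A] (Submodule.Quotient.mk z : (∀ j, N j) ⧸ LinearMap.range g)) =
          (r • s) • ((1 : B i) ⊗ₜ[A] (Submodule.Quotient.mk z : (∀ j, N j) ⧸ LinearMap.range g)) := by
        rw [TensorProduct.smul_tmul', smul_eq_mul, mul_one]
      rw [this, key, smul_zero]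
  exact ⟨fun a b => hinj ((h0 a).trans (h0 b).symm)⟩

end

section

variable {A B : Type u} [CommRing A] [CommRing B]

/-- The target of a ring map as an algebra over the source. -/
def RingAlg (_ : A →+* B) : Type u := B

instance (σ : A →+* B) : CommRing (RingAlg σ) := inferInstanceAs (CommRing B)

noncomputable instance (σ : A →+* B) : Algebra A (RingAlg σ) := (σ : A →+* RingAlg σ).toAlgebra

/-- The standard base change along a ring map. -/
def Pull (σ : A →+* B) (M : Type u) [AddCommGroup M] [Module A M] : Type u := RingAlg σ ⊗[A] M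

variable (σ : A →+* B) (M : Type u) [AddCommGroup M] [Module A M]

noncomputable instance : AddCommGroup (Pull σ M) := inferInstanceAs (AddCommGroup (RingAlg σ ⊗[A] M))

noncomputable instance : Module B (Pull σ M) := inferInstanceAs (Module (RingAlg σ) (RingAlg σ ⊗[A] M))

/-- The map into the standard base change. -/
noncomputable def Pull.ι : M →+ Pull σ M :=
  ((TensorProduct.mk A (RingAlg σ) M 1).toAddMonoidHom : M →+ RingAlg σ ⊗[A] M)

theorem Pull.isSemiBC_ι : IsSemiBC σ (Pull.ι σ M) := by
  refine ⟨fun r x => ?_, ?_⟩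
  · show (1 : RingAlg σ) ⊗ₜ[A] (r • x) = (show RingAlg σ from σ r) • ((1 : RingAlg σ) ⊗ₜ[A] x)
    rw [← TensorProduct.smul_tmul, TensorProduct.smul_tmul', smul_eq_mul, mul_one, Algebra.smul_def, mul_one]
    rfl
  · exact TensorProduct.isBaseChange A M (RingAlg σ)

end

end Groth.Agent.StModLib
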