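import Groth.Agent.StModLib.GerbeSection

/-!
# The category of a stack over an object of the base, and pullback to it
-/

set_option autoImplicit false
set_option linter.style.haveILetI false
set_option linter.unusedSectionVars false
set_option backward.isDefEq.respectTransparency false
set_option backward.isDefEq.respectTransparency.types false

universe u

open CategoryTheory CategoryTheory.Limits AlgebraicGeometry Opposite

namespace Groth.Agent.StModLib

variable {S : Scheme.{u}} {𝒳 𝒴 : AlgSt.Cat S} (π : 𝒳 ⥤ᵇ 𝒴)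

/-- A morphism between images lifts uniquely through a given morphism. -/
theorem existsUnique_lift_image (hp : FibCat.IsFibGrpd 𝒳.p) (hp' : FibCat.IsFibGrpd 𝒴.p) {z y x : 𝒳.obj}
    (φ : y ⟶ x) (ψ : z ⟶ x) (c : π.obj z ⟶ π.obj y) (hc : c ≫ π.map φ = π.map ψ) :
    ∃! χ : z ⟶ y, χ ≫ φ = ψ ∧ π.map χ = c := by
  have hπ : ∀ {a b : 𝒳.obj} (k : a ⟶ b),
      𝒴.p.map (π.map k) = eqToHom (π.w_obj a) ≫ 𝒳.p.map k ≫ eqToHom (π.w_obj b).symm := fun k =>
    IsHomLift.fac' 𝒴.p (𝒳.p.map k) (π.map k)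
  have hc' := congrArg 𝒴.p.map hc
  rw [Functor.map_comp, hπ φ, hπ ψ] at hc'
  have hg : (eqToHom (π.w_obj z).symm ≫ 𝒴.p.map c ≫ eqToHom (π.w_obj y)) ≫ 𝒳.p.map φ = 𝒳.p.map ψ := by
    rw [← cancel_epi (eqToHom (π.w_obj z)), ← cancel_mono (eqToHom (π.w_obj x).symm)]
    simpa using hc'
  obtain ⟨χ, ⟨hχ, hfac⟩, huniq⟩ := existsUnique_lift hp φ ψ _ hg
  refine ⟨χ, ⟨hfac, ?_⟩, fun χ' h' => huniq χ' ⟨?_, h'.1⟩⟩
  · refine hom_ext_of_map hp' (π.map φ) ?_ ?_
    · rw [hπ χ, hχ]
      simp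
    · rw [← Functor.map_comp, hfac, hc]
  · rw [← h'.2, hπ χ']
    simp

variable (η : 𝒴.obj)

theorem isFibGrpd_fibCat (hp : FibCat.IsFibGrpd 𝒳.p) : FibCat.IsFibGrpd (StMod.fibCat π η).p where
  exists_lift := fun {x} {V} f => by
    obtain ⟨y, φ, hφ⟩ := hp.exists_lift (x := x.left) f
    let Y : CostructuredArrow π.toFunctor η := CostructuredArrow.mk (π.map φ ≫ x.hom)
    let m : Y ⟶ x := CostructuredArrow.homMk φ rfl
    haveI := hφ
    exact ⟨Y, m, IsHomLift.of_fac' (StMod.fibCat π η).p f m (IsHomLift.domain_eq 𝒳.p f φ) rfl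
      (IsHomLift.fac' 𝒳.p f φ)⟩
  isStronglyCartesian := fun {y x} φ =>
    { toIsHomLift := IsHomLift.map (StMod.fibCat π η).p φ
      universal_property' := fun {a'} g φ' hφ' => by
        have hg : g ≫ 𝒳.p.map φ.left = 𝒳.p.map φ'.left := IsHomLift.eq_of_isHomLift (StMod.fibCat π η).p
          (g ≫ (StMod.fibCat π η).p.map φ) φ'
        obtain ⟨χ, ⟨hχ, hfac⟩, huniq⟩ := existsUnique_lift hp φ.left φ'.left g hg
        have w : π.map χ ≫ y.hom = a'.hom := by
          rw [← CostructuredArrow.w φ, ← Category.assoc, ← Functor.map_comp, hfac, CostructuredArrow.w φ']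
        refine ⟨CostructuredArrow.homMk χ w, ⟨?_, CostructuredArrow.hom_ext _ _ hfac⟩, fun χ' h' => ?_⟩
        · have := IsHomLift.map (StMod.fibCat π η).p (CostructuredArrow.homMk χ w : a' ⟶ y)
          rwa [show (StMod.fibCat π η).p.map (CostructuredArrow.homMk χ w : a' ⟶ y) = g from hχ] at this
        · refine CostructuredArrow.hom_ext _ _ (huniq χ'.left ⟨?_, congrArg CommaMorphism.left h'.2⟩)
          haveI := h'.1
          exact (IsHomLift.eq_of_isHomLift (StMod.fibCat π η).p g χ').symm }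

section OverSch

variable {X : Over S}

/-- The scheme itself as an object of its category. -/
noncomputable def topObj (X : Over S) : (AlgSt.ofSch X).obj := ⟨X, ⟨𝟙 X⟩⟩

/-- The structure morphism of an object. -/
noncomputable def toTop (w : (AlgSt.ofSch X).obj) : w ⟶ topObj X := ⟨w.sec.down, congrArg ULift.up (Category.comp_id (w.sec.down : w.base ⟶ X))⟩

theorem hom_to_top_ext {w : (AlgSt.ofSch X).obj} (a b : w ⟶ topObj X) : a = b := by
  have key : ∀ c : w ⟶ topObj X, c.hom = w.sec.down := fun c => by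
    have h := congrArg ULift.down c.map_sec
    exact (Category.comp_id _).symm.trans h
  exact Stk.EltObj.hom_ext ((key a).trans (key b).symm)

variable {π' : 𝒳 ⥤ᵇ AlgSt.ofSch X}

variable (π') in
/-- Pullbacks to the category over an object, with the finiteness they inherit. -/
theorem exists_pullback_obj (hp : FibCat.IsFibGrpd 𝒳.p) (θ : (AlgSt.ofSch X).obj)
    [IsFinite (StMod.bmap (AlgSt.ofSch X) (toTop θ))] (ξ : 𝒳.obj) :
    ∃ (y : (StMod.fibCat π' θ).obj) (φ : y.left ⟶ ξ), IsFinite (StMod.bmap 𝒳 φ) ∧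
      ∀ (z : (StMod.fibCat π' θ).obj) (ψ : z.left ⟶ ξ), ∃! h : z ⟶ y, h.left ≫ φ = ψ := by
  have hp' := hp_ofSch (X := X)
  obtain ⟨P, a, b, hP, -⟩ := exists_isPullback hp' (toTop (π'.obj ξ)) (toTop θ)
  obtain ⟨y', φ', e, h, -, he⟩ := exists_lift_map π' hp hp' a
  refine ⟨CostructuredArrow.mk (e.inv ≫ b), φ', ?_, fun z ψ => ?_⟩
  · haveI : IsFinite (StMod.bmap (AlgSt.ofSch X) a) :=
      MorphismProperty.of_isPullback (isPullback_bmap hp' hP).flip inferInstance
    have e' : StMod.bmap (AlgSt.ofSch X) (π'.map φ') =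
        StMod.bmap (AlgSt.ofSch X) e.inv ≫ StMod.bmap (AlgSt.ofSch X) a := by
      rw [← StMod.bmap_comp, ← he, ← Category.assoc, e.inv_hom_id, Category.id_comp]
    have hf : IsFinite (StMod.bmap (AlgSt.ofSch X) (π'.map φ')) := by
      rw [e']
      infer_instance
    rw [bmap_map] at hf
    exact (MorphismProperty.cancel_right_of_respectsIso @IsFinite _ _).1
      ((MorphismProperty.cancel_left_of_respectsIso @IsFinite _ _).1 hf)
  · let l := hP.lift (π'.map ψ) z.hom (hom_to_top_ext _ _)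
    obtain ⟨χ, ⟨hχ, hπχ⟩, huniq⟩ := existsUnique_lift_image π' hp hp' φ' ψ (l ≫ e.hom)
      (by rw [Category.assoc, he, hP.lift_fst])
    refine ⟨CostructuredArrow.homMk χ ?_, hχ, fun m hm => CostructuredArrow.hom_ext _ _ (huniq _ ⟨hm, ?_⟩)⟩
    · show π'.map χ ≫ e.inv ≫ b = z.hom
      rw [hπχ, Category.assoc, e.hom_inv_id_assoc, hP.lift_snd]
    · rw [← Iso.comp_inv_eq]
      refine hP.hom_ext ?_ ?_
      · rw [hP.lift_fst, Category.assoc, ← he, e.inv_hom_id_assoc, ← Functor.map_comp]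
        exact congrArg π'.map hm
      · rw [hP.lift_snd, Category.assoc]
        exact CostructuredArrow.w m

end OverSch

end Groth.Agent.StModLib
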