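import Groth.Agent.StModLib.PushQCoh
import Groth.Agent.StModLib.FibOver

/-!
# Gluing along affine objects flat over an atlas with a morphism to a fixed object of the target
-/

set_option autoImplicit false
set_option linter.style.haveILetI false
set_option linter.unusedSectionVars false
set_option backward.isDefEq.respectTransparency false
set_option backward.isDefEq.respectTransparency.types false

universe u

open CategoryTheory CategoryTheory.Limits AlgebraicGeometry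

noncomputable section

namespace Groth.Agent.StModLib

variable {S : Scheme.{u}} {𝒵 𝒳 𝒴 : AlgSt.Cat S}

/-- An object which behaves as an etale separated scheme over the target: products with it exist and are flat, and
agreement of two morphisms into it is a clopen condition. -/
structure EtObj (η : 𝒴.obj) : Prop where
  prod : ∀ ζ : 𝒴.obj, ∃ (ζ' : 𝒴.obj) (a : ζ' ⟶ ζ) (b : ζ' ⟶ η), Flat (StMod.bmap 𝒴 a) ∧
    ∀ (ω : 𝒴.obj) (f : ω ⟶ ζ) (g : ω ⟶ η), ∃ l : ω ⟶ ζ', l ≫ a = f ∧ l ≫ b = g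
  eqz : ∀ (ω : 𝒴.obj) (f g : ω ⟶ η), ∃ V : (StMod.sch 𝒴 ω).Opens, IsClosed (V : Set (StMod.sch 𝒴 ω)) ∧
    ∀ (ω' : 𝒴.obj) (k : ω' ⟶ ω), k ≫ f = k ≫ g ↔ Set.range (StMod.bmap 𝒴 k) ⊆ V

/-- Coverings lift through a functor over the base. -/
theorem exists_cov_lift (J : 𝒵 ⥤ᵇ 𝒳) (hz : FibCat.IsFibGrpd 𝒵.p) (hp : FibCat.IsFibGrpd 𝒳.p) {y : 𝒵.obj}
    {ι : Type u} {z : ι → 𝒳.obj} {φ : ∀ i, z i ⟶ J.obj y} (h : IsCov z φ) :
    ∃ (y' : ι → 𝒵.obj) (φ' : ∀ i, y' i ⟶ y) (m : ∀ i, J.obj (y' i) ⟶ z i),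
      IsCov y' φ' ∧ ∀ i, m i ≫ φ i = J.map (φ' i) := by
  choose y' φ' e he _ hh using fun i => exists_lift_map J hz hp (φ i)
  refine ⟨y', φ', fun i => (e i).inv, ?_, fun i => by rw [Iso.inv_comp_eq, hh]⟩
  let ε := eqToHom (StMod.sch_obj_eq J y)
  have hb : ∀ i, StMod.bmap 𝒵 (φ' i) =
      (eqToHom (StMod.sch_obj_eq J (y' i)).symm ≫ StMod.bmap 𝒳 (e i).inv) ≫ StMod.bmap 𝒳 (φ i) ≫ ε := fun i => by
    rw [Category.assoc, ← Category.assoc (StMod.bmap 𝒳 (e i).inv), ← StMod.bmap_comp,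
      show (e i).inv ≫ φ i = J.map (φ' i) by rw [Iso.inv_comp_eq, hh], bmap_map J (φ' i)]
    simp [ε]
  refine ⟨fun i => ?_, fun i => ?_, fun t => ?_⟩
  · haveI := h.flat i
    rw [hb]
    infer_instance
  · haveI := h.lfp i
    rw [hb]
    infer_instance
  · obtain ⟨i, s, hs⟩ := h.surj (inv ε t)
    refine ⟨i, inv (eqToHom (StMod.sch_obj_eq J (y' i)).symm ≫ StMod.bmap 𝒳 (e i).inv) s, ?_⟩
    rw [hb, ← Scheme.Hom.comp_apply, IsIso.inv_hom_id_assoc, Scheme.Hom.comp_apply, hs,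
      ← Scheme.Hom.comp_apply, IsIso.inv_hom_id]
    rfl

variable (π : 𝒳 ⥤ᵇ 𝒴) (hp : FibCat.IsFibGrpd 𝒳.p) (hp' : FibCat.IsFibGrpd 𝒴.p)

include hp hp' in
/-- A morphism to an image lifts to a morphism with prescribed image. -/
theorem exists_lift_univ {ζ' : 𝒴.obj} {p : 𝒳.obj} (a : ζ' ⟶ π.obj p) :
    ∃ (p' : 𝒳.obj) (φ' : p' ⟶ p) (α' : π.obj p' ⟶ ζ'), IsIso α' ∧ α' ≫ a = π.map φ' ∧
      (Flat (StMod.bmap 𝒴 a) → Flat (StMod.bmap 𝒳 φ')) ∧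
      ∀ (z : 𝒳.obj) (ψ₀ : z ⟶ p) (l : π.obj z ⟶ ζ'), l ≫ a = π.map ψ₀ →
        ∃ ψ : z ⟶ p', ψ ≫ φ' = ψ₀ ∧ π.map ψ ≫ α' = l := by
  obtain ⟨p', φ', e, -, -, he⟩ := exists_lift_map π hp hp' a
  refine ⟨p', φ', e.inv, inferInstance, by rw [Iso.inv_comp_eq, he], fun h => ?_, fun z ψ₀ l hl => ?_⟩
  · have h' : Flat (StMod.bmap 𝒴 (π.map φ')) := by
      rw [show π.map φ' = e.inv ≫ a by rw [Iso.eq_inv_comp, he], StMod.bmap_comp]
      infer_instance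
    rw [bmap_map π φ'] at h'
    exact (MorphismProperty.cancel_right_of_respectsIso @Flat _ _).1
      ((MorphismProperty.cancel_left_of_respectsIso @Flat _ _).1 h')
  · obtain ⟨ψ, ⟨hψ, hπψ⟩, -⟩ := existsUnique_lift_image π hp hp' φ' ψ₀ (l ≫ e.hom) (by rw [Category.assoc, he, hl])
    exact ⟨ψ, hψ, by rw [hπψ, Category.assoc, e.hom_inv_id, Category.comp_id]⟩

variable {x₀ : 𝒳.obj} (hd : IsDenseObj x₀) (P : PairAtlas x₀) {η : 𝒴.obj} (hη : EtObj η)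

include hp hp' hd hη in
/-- Pairs of a member and a morphism to the fixed object are locally dense. -/
theorem exists_pair_lift {y : 𝒳.obj} (α : π.obj y ⟶ η) :
    ∃ (ι : Type u) (z : ι → 𝒳.obj) (φ : ∀ i, z i ⟶ y), IsCov z φ ∧
      ∀ i, ∃ (p : FMem x₀) (αp : π.obj p.1 ⟶ η) (ψ : z i ⟶ p.1), π.map ψ ≫ αp = π.map (φ i) ≫ α := by
  obtain ⟨ι, k, g, hg⟩ := isDense_dMem hp hd y
  choose ζ' a b hflat hlift using fun i => hη.prod (π.obj (dp (k i)).1)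
  choose p' φ' α' _ hα' hfl huniv using fun i => exists_lift_univ π hp hp' (a i)
  choose l hl₁ hl₂ using fun i => hlift i _ (π.map (da (k i))) (π.map (g i) ≫ α)
  choose ψ hψ₁ hψ₂ using fun i => huniv i (k i).1 (da (k i)) (l i) (hl₁ i)
  choose μ w χ hχ hwa hwo using fun i => exists_affine_cover hp (p' i)
  choose z' β δ hz' hsq using fun i => (hχ i).exists_pullback hp (ψ i)
  refine ⟨Σ i, μ i, fun j => z' j.1 j.2, fun j => β j.1 j.2 ≫ g j.1, hg.comp hz', fun j =>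
    ⟨⟨w j.1 j.2, IsFlatMem.of_flat (dp (k j.1)).2 (χ j.1 j.2 ≫ φ' j.1) ?_ (hwa j.1 j.2)⟩,
      π.map (χ j.1 j.2) ≫ α' j.1 ≫ b j.1, δ j.1 j.2, ?_⟩⟩
  · haveI := hwo j.1 j.2
    haveI := hfl j.1 (hflat j.1)
    rw [StMod.bmap_comp]
    infer_instance
  · rw [← Category.assoc, ← Functor.map_comp, ← (hsq j.1 j.2).w, Functor.map_comp, Category.assoc,
      ← Category.assoc (π.map (ψ j.1)), hψ₂, hl₂, Functor.map_comp, Category.assoc]

include hp hp' P hη in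
/-- Two such pairs under the same object compare through a third one. -/
theorem exists_pair_tri {p q : FMem x₀} (αp : π.obj p.1 ⟶ η) (αq : π.obj q.1 ⟶ η) {y : 𝒳.obj} (γ : y ⟶ p.1)
    (δ : y ⟶ q.1) (h : π.map γ ≫ αp = π.map δ ≫ αq) :
    ∃ (ι : Type u) (z : ι → 𝒳.obj) (φ : ∀ i, z i ⟶ y), IsCov z φ ∧
      ∀ i, ∃ (r : FMem x₀) (c : r.1 ⟶ p.1) (d : r.1 ⟶ q.1) (e : z i ⟶ r.1),
        e ≫ c = φ i ≫ γ ∧ e ≫ d = φ i ≫ δ ∧ π.map c ≫ αp = π.map d ≫ αq := by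
  obtain ⟨κ, R, c₀, d₀, -, -, hcov, -⟩ := exists_pair hp P p q
  obtain ⟨ι, z, φ, hφ, hk⟩ := hcov y γ δ
  choose k e he₁ he₂ using fun i => (hk i).2
  choose V _ hV using fun i => hη.eqz (π.obj (R (k i)).1) (π.map (c₀ (k i)) ≫ αp) (π.map (d₀ (k i)) ≫ αq)
  choose ζ eV j hj using fun i => exists_lift_bmap hp' (V i).ι
  choose r φ' α' _ hα' hfl huniv using fun i => exists_lift_univ π hp hp' (j i)
  have hrange : ∀ i, Set.range (StMod.bmap 𝒴 (π.map (e i))) ⊆ V i := fun i => by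
    refine (hV i _ (π.map (e i))).1 ?_
    rw [← Category.assoc, ← Functor.map_comp, he₁, ← Category.assoc, ← Functor.map_comp, he₂, Functor.map_comp,
      Functor.map_comp, Category.assoc, Category.assoc, h]
  choose l hl using fun i => (existsUnique_lift_bmap hp' (j i) (π.map (e i))
    (IsOpenImmersion.lift (V i).ι (StMod.bmap 𝒴 (π.map (e i)))
      (by rw [Scheme.Opens.range_ι]; exact hrange i) ≫ (eV i).inv)
    (by rw [hj, Category.assoc, Iso.inv_hom_id_assoc, IsOpenImmersion.lift_fac])).exists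
  choose ψ hψ₁ _ using fun i => huniv i (z i) (e i) (l i) (hl i).2
  choose μ w χ hχ hwa hwo using fun i => exists_affine_cover hp (r i)
  choose z' β δ' hz' hsq using fun i => (hχ i).exists_pullback hp (ψ i)
  have hjflat : ∀ i, Flat (StMod.bmap 𝒴 (j i)) := fun i => by
    rw [hj]
    infer_instance
  refine ⟨Σ i, μ i, fun t => z' t.1 t.2, fun t => β t.1 t.2 ≫ φ t.1, hφ.comp hz', fun t =>
    ⟨⟨w t.1 t.2, IsFlatMem.of_flat (R (k t.1)).2 (χ t.1 t.2 ≫ φ' t.1) ?_ (hwa t.1 t.2)⟩,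
      χ t.1 t.2 ≫ φ' t.1 ≫ c₀ (k t.1), χ t.1 t.2 ≫ φ' t.1 ≫ d₀ (k t.1), δ' t.1 t.2, ?_, ?_, ?_⟩⟩
  · haveI := hwo t.1 t.2
    haveI := hfl t.1 (hjflat t.1)
    rw [StMod.bmap_comp]
    infer_instance
  · rw [← reassoc_of% (hsq t.1 t.2).w, reassoc_of% hψ₁, he₁, Category.assoc]
  · rw [← reassoc_of% (hsq t.1 t.2).w, reassoc_of% hψ₁, he₂, Category.assoc]
  · have hle : Set.range (StMod.bmap 𝒴 (j t.1)) ⊆ V t.1 := by
      rw [hj]
      rintro _ ⟨s, rfl⟩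
      exact ((eV t.1).hom s).2
    have := congrArg (fun m => π.map (χ t.1 t.2) ≫ α' t.1 ≫ m) ((hV t.1 _ (j t.1)).2 hle)
    simp only [reassoc_of% hα' t.1] at this
    simpa only [Functor.map_comp, Category.assoc] using this

variable (J : 𝒵 ⥤ᵇ 𝒳) (hz : FibCat.IsFibGrpd 𝒵.p)

include hp hp' hd P hη hz in
/-- Sections given on pairs glue. -/
theorem existsUnique_glue_pairs {F : StMod.Mod 𝒵} (hF : StMod.isQCoh 𝒵 F) (x : 𝒵.obj)
    (α : π.obj (J.obj x) ⟶ η)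
    (f : ∀ (p : FMem x₀) (αp : π.obj p.1 ⟶ η) (y : 𝒵.obj) (φ : y ⟶ x) (γ : J.obj y ⟶ p.1),
      π.map γ ≫ αp = π.map (J.map φ) ≫ α → Γ(F.obj y, ⊤))
    (hy : ∀ (p : FMem x₀) (αp : π.obj p.1 ⟶ η) (y y' : 𝒵.obj) (k : y' ⟶ y) (φ : y ⟶ x) (γ : J.obj y ⟶ p.1)
      (h : π.map γ ≫ αp = π.map (J.map φ) ≫ α) (h' : π.map (J.map k ≫ γ) ≫ αp = π.map (J.map (k ≫ φ)) ≫ α),
      F.mapTop k (f p αp y φ γ h) = f p αp y' (k ≫ φ) (J.map k ≫ γ) h')
    (hc : ∀ (p r : FMem x₀) (αp : π.obj p.1 ⟶ η) (c : r.1 ⟶ p.1) (y : 𝒵.obj) (φ : y ⟶ x) (γ : J.obj y ⟶ r.1)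
      (h : π.map (γ ≫ c) ≫ αp = π.map (J.map φ) ≫ α) (h' : π.map γ ≫ (π.map c ≫ αp) = π.map (J.map φ) ≫ α),
      f p αp y φ (γ ≫ c) h = f r (π.map c ≫ αp) y φ γ h') :
    ∃! t : Γ(F.obj x, ⊤), ∀ (p : FMem x₀) (αp : π.obj p.1 ⟶ η) (y : 𝒵.obj) (φ : y ⟶ x) (γ : J.obj y ⟶ p.1)
      (h : π.map γ ≫ αp = π.map (J.map φ) ≫ α), F.mapTop φ t = f p αp y φ γ h := by
  have hS := isSheaf_modSys hz hF
  have hcongr : ∀ (p : FMem x₀) (αp : π.obj p.1 ⟶ η) (y : 𝒵.obj) (φ φ' : y ⟶ x) (γ γ' : J.obj y ⟶ p.1)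
      (h : π.map γ ≫ αp = π.map (J.map φ) ≫ α) (h' : π.map γ' ≫ αp = π.map (J.map φ') ≫ α),
      φ = φ' → γ = γ' → f p αp y φ γ h = f p αp y φ' γ' h' := by
    intros
    subst_vars
    rfl
  have hindep : ∀ (p q : FMem x₀) (αp : π.obj p.1 ⟶ η) (αq : π.obj q.1 ⟶ η) (y : 𝒵.obj) (φ : y ⟶ x)
      (γ : J.obj y ⟶ p.1) (δ : J.obj y ⟶ q.1) (h : π.map γ ≫ αp = π.map (J.map φ) ≫ α)
      (h' : π.map δ ≫ αq = π.map (J.map φ) ≫ α), f p αp y φ γ h = f q αq y φ δ h' := by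
    intro p q αp αq y φ γ δ h h'
    obtain ⟨ι, z, ψ, hψ, hr⟩ := exists_pair_tri π hp hp' P hη αp αq γ δ (h.trans h'.symm)
    obtain ⟨y', ψ', m, hψ', hm⟩ := exists_cov_lift J hz hp hψ
    refine hS.1 y' ψ' hψ' _ _ fun i => ?_
    obtain ⟨r, c, d, e, hec, hed, hcd⟩ := hr i
    show F.mapTop (ψ' i) (f p αp y φ γ h) = F.mapTop (ψ' i) (f q αq y φ δ h')
    have h₁ : π.map (J.map (ψ' i) ≫ γ) ≫ αp = π.map (J.map (ψ' i ≫ φ)) ≫ α := by
      rw [Functor.map_comp, Category.assoc, h, Functor.map_comp, Functor.map_comp, Category.assoc]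
    have h₂ : π.map (J.map (ψ' i) ≫ δ) ≫ αq = π.map (J.map (ψ' i ≫ φ)) ≫ α := by
      rw [Functor.map_comp, Category.assoc, h', Functor.map_comp, Functor.map_comp, Category.assoc]
    rw [hy p αp y (y' i) (ψ' i) φ γ h h₁, hy q αq y (y' i) (ψ' i) φ δ h' h₂]
    have e₁ : (m i ≫ e) ≫ c = J.map (ψ' i) ≫ γ := by rw [Category.assoc, hec, reassoc_of% hm i]
    have e₂ : (m i ≫ e) ≫ d = J.map (ψ' i) ≫ δ := by rw [Category.assoc, hed, reassoc_of% hm i]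
    have h₁' : π.map ((m i ≫ e) ≫ c) ≫ αp = π.map (J.map (ψ' i ≫ φ)) ≫ α := by rw [e₁]; exact h₁
    have h₂' : π.map ((m i ≫ e) ≫ d) ≫ αq = π.map (J.map (ψ' i ≫ φ)) ≫ α := by rw [e₂]; exact h₂
    have h₁'' : π.map (m i ≫ e) ≫ (π.map c ≫ αp) = π.map (J.map (ψ' i ≫ φ)) ≫ α := by
      rw [← Category.assoc, ← Functor.map_comp]; exact h₁'
    have h₂'' : π.map (m i ≫ e) ≫ (π.map d ≫ αq) = π.map (J.map (ψ' i ≫ φ)) ≫ α := by
      rw [← Category.assoc, ← Functor.map_comp]; exact h₂'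
    rw [← hcongr p αp _ _ _ _ _ h₁' h₁ rfl e₁, ← hcongr q αq _ _ _ _ _ h₂' h₂ rfl e₂,
      hc p r αp c _ _ _ h₁' h₁'', hc q r αq d _ _ _ h₂' h₂'']
    congr 1
  obtain ⟨ι, z, ψ, hψ, hk⟩ := exists_pair_lift π hp hp' hd hη α
  choose p αp e he using hk
  obtain ⟨y', ψ', m, hψ', hm⟩ := exists_cov_lift J hz hp hψ
  have hy' : ∀ i, π.map (m i ≫ e i) ≫ αp i = π.map (J.map (ψ' i)) ≫ α := fun i => by
    rw [Functor.map_comp, Category.assoc, he, ← Category.assoc, ← Functor.map_comp, hm]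
  obtain ⟨t, ht⟩ := hS.2 y' ψ' hψ' (fun i => f (p i) (αp i) (y' i) (ψ' i) (m i ≫ e i) (hy' i))
    fun i j v a b eab => by
      show F.mapTop a _ = F.mapTop b _
      have ha : π.map (J.map a ≫ m i ≫ e i) ≫ αp i = π.map (J.map (a ≫ ψ' i)) ≫ α := by
        rw [Functor.map_comp, Category.assoc, hy', Functor.map_comp, Functor.map_comp, Category.assoc]
      have hb : π.map (J.map b ≫ m j ≫ e j) ≫ αp j = π.map (J.map (b ≫ ψ' j)) ≫ α := by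
        rw [Functor.map_comp, Category.assoc, hy', Functor.map_comp, Functor.map_comp, Category.assoc]
      have hb' : π.map (J.map b ≫ m j ≫ e j) ≫ αp j = π.map (J.map (a ≫ ψ' i)) ≫ α := by rw [eab]; exact hb
      rw [hy _ _ _ _ a _ _ _ ha, hy _ _ _ _ b _ _ _ hb, hindep _ _ _ _ _ _ _ _ ha hb']
      exact hcongr _ _ _ _ _ _ _ hb' hb eab rfl
  refine ⟨t, fun q αq y φ γ h => ?_, fun t' ht' => hS.1 y' ψ' hψ' _ _ fun i =>
    (ht' _ _ _ _ _ (hy' i)).trans (ht i).symm⟩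
  obtain ⟨v, a, b, hv, hsq⟩ := hψ'.exists_pullback hz φ
  refine hS.1 v a hv _ _ fun i => ?_
  show F.mapTop (a i) (F.mapTop φ t) = F.mapTop (a i) _
  rw [← F.mapTop_comp, (hsq i).w, F.mapTop_comp, show F.mapTop (ψ' i) t = _ from ht i]
  have hb : π.map (J.map (b i) ≫ m i ≫ e i) ≫ αp i = π.map (J.map (b i ≫ ψ' i)) ≫ α := by
    rw [Functor.map_comp, Category.assoc, hy', Functor.map_comp, Functor.map_comp, Category.assoc]
  have ha : π.map (J.map (a i) ≫ γ) ≫ αq = π.map (J.map (a i ≫ φ)) ≫ α := by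
    rw [Functor.map_comp, Category.assoc, h, Functor.map_comp, Functor.map_comp, Category.assoc]
  have ha' : π.map (J.map (a i) ≫ γ) ≫ αq = π.map (J.map (b i ≫ ψ' i)) ≫ α := by rw [← (hsq i).w]; exact ha
  rw [hy _ _ _ _ (b i) _ _ _ hb, hy _ _ _ _ (a i) _ _ _ ha, hindep _ _ _ _ _ _ _ _ hb ha']
  exact hcongr _ _ _ _ _ _ _ ha' ha (hsq i).w.symm rfl

end Groth.Agent.StModLib
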