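import Groth.Agent.StModLib.PresExist
import Groth.Agent.StModLib.CohDescent
import Groth.Agent.AlgStLib.OfSp

/-!
# Affine morphisms are cohomologically affine
-/

set_option autoImplicit false
set_option linter.style.haveILetI false
set_option backward.isDefEq.respectTransparency false
set_option backward.isDefEq.respectTransparency.types false

universe u

open CategoryTheory CategoryTheory.Functor CategoryTheory.Limits AlgebraicGeometry AlgSp Opposite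
open Groth.Agent.AlgStLib Groth.Agent.AlgSpLib Groth.Agent.AlgSpPts Groth.Agent.FibBase

noncomputable section

namespace Groth.Agent.StModLib

variable {S : Scheme.{u}} {𝒳 𝒴 : AlgSt.Cat S}

/-- An equivalence of categories preserves terminal objects. -/
theorem existsUnique_hom_map {𝒜 ℬ : AlgSt.Cat S} {k : 𝒜 ⥤ᵇ ℬ} (hk : FibCat.IsEquivOver k) (v : 𝒜.obj)
    (hv : ∀ y, ∃! m : y ⟶ v, True) (y : ℬ.obj) : ∃! m : y ⟶ k.obj v, True := by
  have := full_of_isEquivOver hk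
  have := faithful_of_isEquivOver hk
  obtain ⟨G, -, ⟨ε⟩⟩ := hk
  let e : k.obj (G.obj y) ≅ y := ((BasedNatTrans.forgetful _ _).mapIso ε).app y
  obtain ⟨m, -, hm⟩ := hv (G.obj y)
  refine ⟨e.inv ≫ k.map m, trivial, fun m' _ => ?_⟩
  rw [← hm (k.toFunctor.preimage (e.hom ≫ m')) trivial, k.toFunctor.map_preimage, Iso.inv_hom_id_assoc]

/-- An affine morphism has a one-object presentation over affine objects. -/
theorem exists_pres_affine (hp : FibCat.IsFibGrpd 𝒳.p) (hp' : FibCat.IsFibGrpd 𝒴.p) {π : 𝒳 ⥤ᵇ 𝒴}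
    (hπ : AlgSt.RepByAlgSpWith IsAffineMor π) (η : 𝒴.obj) [IsAffine (StMod.sch 𝒴 η)] :
    ∃ c : Pres π η, ∀ j, c.a j = c.b j := by
  obtain ⟨g, e, -⟩ := exists_overCat_obj hp' η rfl
  suffices ∃ c : Pres π (g.obj (topOver (𝒴.p.obj η))), ∀ j, c.a j = c.b j by
    obtain ⟨c, hc⟩ := this
    exact ⟨c.ofIso e, hc⟩
  haveI : IsAffine (𝒴.p.obj η).left := ‹IsAffine (StMod.sch 𝒴 η)›
  obtain ⟨F, k, hk, ha⟩ := hπ (𝒴.p.obj η) g
  obtain ⟨W, i, fst, sq, hW⟩ := ha (Z := (𝒴.p.obj η)) inferInstance (𝟙 _)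
  haveI : IsIso fst := sq.isIso_fst_of_isIso
  let K : AlgSt.ofSp ((yon S).obj W) ⥤ᵇ FibCat.fp g π := BasedFunctor.comp (AlgSt.ofSpMap fst) k
  have hK : FibCat.IsEquivOver K := isEquivOver_comp (isEquivOver_ofSpMap fst) hk
  let v₀ : (AlgSt.ofSp ((yon S).obj W)).obj := ⟨W, ⟨𝟙 W⟩⟩
  have hv₀ : ∀ y, ∃! m : y ⟶ v₀, True := fun y => by
    refine ⟨⟨y.sec.down, ULift.ext _ _ (show y.sec.down ≫ 𝟙 W = y.sec.down from Category.comp_id _)⟩, trivial, fun m _ => Stk.EltObj.hom_ext ?_⟩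
    have := congrArg ULift.down m.map_sec
    exact (Category.comp_id _).symm.trans this
  let v := K.obj v₀
  have hv := existsUnique_hom_map hK v₀ hv₀
  let top : ∀ x : (FibCat.fp g π).obj, (FibCat.fpFst g π).obj x ⟶ topOver (𝒴.p.obj η) := fun x =>
    Over.homMk x.obj.fst.hom (Category.comp_id _)
  have htop : ∀ (x : (FibCat.fp g π).obj) (b : (FibCat.fpFst g π).obj x ⟶ topOver (𝒴.p.obj η)), b = top x := fun x b =>
    Over.OverMorphism.ext ((Category.comp_id _).symm.trans (Over.w b))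
  have hz : IsAffine (StMod.sch 𝒳 v.obj.snd) := by
    show IsAffine (𝒳.p.obj v.obj.snd).left
    show IsAffine (𝒳.p.obj ((FibCat.fpSnd g π).obj v)).left
    rw [((FibCat.fpSnd g π).w_obj v).trans (K.w_obj v₀)]
    exact hW
  refine ⟨{
    z := v.obj.snd, affz := hz, α := transMor g π v (top v), n := 1, w := fun _ => v.obj.snd, affw := fun _ => hz
    a := fun _ => 𝟙 _, b := fun _ => 𝟙 _, eq := fun _ => rfl
    cov := fun ξ γ => ?_, rel := fun y p q h => ?_ }, fun _ => rfl⟩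
  · obtain ⟨x, rfl, β, hβ⟩ := exists_fp_obj g π (isFibGrpd_overCat (𝒴.p.obj η)) hp' ξ γ
    rw [eqToHom_refl, π.map_id, Category.id_comp] at hβ
    obtain ⟨m, -, -⟩ := hv x
    refine ⟨PUnit, fun _ => x.obj.snd, fun _ => 𝟙 _, ⟨fun _ => ?_, fun _ => ?_, fun t => ⟨⟨⟩, t, ?_⟩⟩,
      fun _ => ⟨m.hom.snd, ?_⟩⟩
    · rw [StMod.bmap_id]; infer_instance
    · rw [StMod.bmap_id]; infer_instance
    · rw [StMod.bmap_id]; rfl
    · rw [transMor_natural, π.map_id, Category.id_comp, ← hβ, htop x β, htop x ((FibCat.fpFst g π).map m ≫ top v)]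
  · obtain ⟨x, rfl, β, hβ⟩ := exists_fp_obj g π (isFibGrpd_overCat (𝒴.p.obj η)) hp' y (π.map p ≫ transMor g π v (top v))
    rw [eqToHom_refl, π.map_id, Category.id_comp] at hβ
    obtain ⟨mp, hmp, -⟩ := exists_fp_hom g π (isFibGrpd_overCat (𝒴.p.obj η)) hp' β (top v) p hβ.symm
    obtain ⟨mq, hmq, -⟩ := exists_fp_hom g π (isFibGrpd_overCat (𝒴.p.obj η)) hp' β (top v) q (h.symm.trans hβ.symm)
    have hpq : p = q := by
      obtain ⟨m, -, hu⟩ := hv x
      rw [← hmp, ← hmq, (hu mp trivial).trans (hu mq trivial).symm]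
    subst hpq
    refine ⟨PUnit, fun _ => x.obj.snd, fun _ => 𝟙 _, ⟨fun _ => ?_, fun _ => ?_, fun t => ⟨⟨⟩, t, ?_⟩⟩,
      fun _ => ⟨0, p, by simp, by simp⟩⟩
    · rw [StMod.bmap_id]; infer_instance
    · rw [StMod.bmap_id]; infer_instance
    · rw [StMod.bmap_id]; rfl

/-- Sections over an affine object along an affine morphism are exact. -/
theorem surjective_relSectMap_of_affine (hp : FibCat.IsFibGrpd 𝒳.p) (hp' : FibCat.IsFibGrpd 𝒴.p) {π : 𝒳 ⥤ᵇ 𝒴}
    (hπ : AlgSt.RepByAlgSpWith IsAffineMor π) (η : 𝒴.obj) [IsAffine (StMod.sch 𝒴 η)] {F G : StMod.QCoh 𝒳}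
    (u : F ⟶ G) (hu : StMod.Mod.IsSurj u.hom) : Function.Surjective (StMod.Mod.relSectMap π u.hom η) := by
  obtain ⟨c, hc⟩ := exists_pres_affine hp hp' hπ η
  intro t
  obtain ⟨x, hx⟩ := hu c.z c.affz (c.ev G.obj t)
  obtain ⟨s, hs⟩ := c.exists_of_eq hp F.property (x := x) fun j => by rw [hc j]
  exact ⟨s, c.ev_injective hp G.property ((c.ev_map F.obj u.hom s).trans ((congrArg _ hs).trans hx))⟩

theorem isQuasiCompactMor_of_affineMor (h𝒳 : AlgSt.IsAlgStack Scheme.fppfPrecoverage 𝒳)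
    (h𝒴 : AlgSt.IsAlgStack Scheme.fppfPrecoverage 𝒴) {π : 𝒳 ⥤ᵇ 𝒴}
    (hπ : AlgSt.RepByAlgSpWith IsAffineMor π) : AlgSt.IsQuasiCompactMor Scheme.fppfPrecoverage π := by
  refine isQuasiCompactMor_of_affine h𝒳 h𝒴.isStack h𝒴.diag fun U u hU => ?_
  obtain ⟨F, k, hk, ha⟩ := hπ U u
  obtain ⟨W, i, fst, sq, hW⟩ := ha (Z := U) hU (𝟙 _)
  haveI : IsIso fst := sq.isIso_fst_of_isIso
  haveI := hW
  exact isQuasiCompact_of_equiv (isEquivOver_comp (isEquivOver_comp (isEquivOver_ofOverCat W)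
    (isEquivOver_ofSpMap fst)) hk) (isQuasiCompact_overCat W)

end Groth.Agent.StModLib
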