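import Groth.Agent.StModLib.PairGlue

/-!
# Exactness of sections over a category lying over an etale object of the target
-/

set_option autoImplicit false
set_option linter.style.haveILetI false
set_option linter.unusedSectionVars false
set_option backward.isDefEq.respectTransparency false
set_option backward.isDefEq.respectTransparency.types false

universe u

open CategoryTheory CategoryTheory.Limits AlgebraicGeometry

noncomputable section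

namespace Groth.Agent.StModLib

variable {S : Scheme.{u}} {𝒵 𝒳 𝒴 : AlgSt.Cat S}

/-- An object over an open subscheme, receiving the morphisms landing in it. -/
theorem exists_open_obj (hz : FibCat.IsFibGrpd 𝒵.p) {x : 𝒵.obj} (W : (StMod.sch 𝒵 x).Opens) :
    ∃ (v : 𝒵.obj) (j : v ⟶ x), IsOpenImmersion (StMod.bmap 𝒵 j) ∧
      Set.range (StMod.bmap 𝒵 j) = (W : Set (StMod.sch 𝒵 x)) ∧
      ∀ (y : 𝒵.obj) (φ : y ⟶ x), Set.range (StMod.bmap 𝒵 φ) ⊆ W → ∃ a : y ⟶ v, a ≫ j = φ := by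
  obtain ⟨v, e, j, hj⟩ := exists_lift_bmap hz W.ι
  refine ⟨v, j, by rw [hj]; infer_instance, ?_, fun y φ h => ?_⟩
  · rw [hj]
    ext t
    constructor
    · rintro ⟨s, rfl⟩
      exact (e.hom s).2
    · intro ht
      exact ⟨e.inv ⟨t, ht⟩, by rw [← Scheme.Hom.comp_apply, Iso.inv_hom_id_assoc]; rfl⟩
  · obtain ⟨a, ⟨-, ha⟩, -⟩ := existsUnique_lift_bmap hz j φ
      (IsOpenImmersion.lift W.ι (StMod.bmap 𝒵 φ) (by rw [Scheme.Opens.range_ι]; exact h) ≫ e.inv)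
      (by rw [hj, Category.assoc, Iso.inv_hom_id_assoc, IsOpenImmersion.lift_fac])
    exact ⟨a, ha⟩

theorem range_bmap_comp_subset {y' y x : 𝒵.obj} (k : y' ⟶ y) (φ : y ⟶ x) {W : Set (StMod.sch 𝒵 x)}
    (h : Set.range (StMod.bmap 𝒵 φ) ⊆ W) : Set.range (StMod.bmap 𝒵 (k ≫ φ)) ⊆ W := by
  rintro _ ⟨s, rfl⟩
  rw [StMod.bmap_comp, Scheme.Hom.comp_apply]
  exact h ⟨_, rfl⟩

/-- A section prescribed on an open and closed part and zero on the complement. -/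
theorem existsUnique_zeroExt (hz : FibCat.IsFibGrpd 𝒵.p) {F : StMod.Mod 𝒵} (hF : StMod.isQCoh 𝒵 F) {x : 𝒵.obj}
    (W : (StMod.sch 𝒵 x).Opens) (hW : IsClosed (W : Set (StMod.sch 𝒵 x)))
    (v : ∀ (y : 𝒵.obj) (φ : y ⟶ x), Set.range (StMod.bmap 𝒵 φ) ⊆ W → Γ(F.obj y, ⊤))
    (hv : ∀ (y y' : 𝒵.obj) (k : y' ⟶ y) (φ : y ⟶ x) (h : Set.range (StMod.bmap 𝒵 φ) ⊆ W),
      F.mapTop k (v y φ h) = v y' (k ≫ φ) (range_bmap_comp_subset k φ h)) :
    ∃! t : Γ(F.obj x, ⊤), ∀ (y : 𝒵.obj) (φ : y ⟶ x),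
      (∀ h : Set.range (StMod.bmap 𝒵 φ) ⊆ W, F.mapTop φ t = v y φ h) ∧
      (Set.range (StMod.bmap 𝒵 φ) ⊆ (W : Set (StMod.sch 𝒵 x))ᶜ → F.mapTop φ t = 0) := by
  have hS := isSheaf_modSys hz hF
  obtain ⟨a, j, hj, hr, hl⟩ := exists_open_obj hz W
  obtain ⟨b, k, hk, hr', hl'⟩ := exists_open_obj hz (x := x) ⟨(W : Set (StMod.sch 𝒵 x))ᶜ, hW.isOpen_compl⟩
  let z : ULift.{u} Bool → 𝒵.obj := fun i => cond i.down a b
  let φ : ∀ i, z i ⟶ x := fun i => match i with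
    | ⟨true⟩ => j
    | ⟨false⟩ => k
  have hc : IsCov z φ := by
    refine ⟨fun i => ?_, fun i => ?_, fun t => ?_⟩
    · rcases i with ⟨_ | _⟩
      · exact inferInstanceAs (Flat (StMod.bmap 𝒵 k))
      · exact inferInstanceAs (Flat (StMod.bmap 𝒵 j))
    · rcases i with ⟨_ | _⟩
      · exact inferInstanceAs (LocallyOfFinitePresentation (StMod.bmap 𝒵 k))
      · exact inferInstanceAs (LocallyOfFinitePresentation (StMod.bmap 𝒵 j))
    · by_cases ht : t ∈ W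
      · exact ⟨⟨true⟩, hr.symm ▸ ht⟩
      · exact ⟨⟨false⟩, hr'.symm ▸ ht⟩
  have hempty : ∀ (y : 𝒵.obj) (φ : y ⟶ x), Set.range (StMod.bmap 𝒵 φ) ⊆ W →
      Set.range (StMod.bmap 𝒵 φ) ⊆ (W : Set (StMod.sch 𝒵 x))ᶜ → ∀ s s' : Γ(F.obj y, ⊤), s = s' :=
    fun y φ h h' s s' => hS.1 (fun i : PEmpty.{u + 1} => i.elim) (fun i => i.elim)
      ⟨fun i => i.elim, fun i => i.elim, fun t => absurd (h ⟨t, rfl⟩) (h' ⟨t, rfl⟩)⟩ s s' fun i => i.elim
  let val : ∀ i, Γ(F.obj (z i), ⊤) := fun i => match i with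
    | ⟨true⟩ => v a j hr.le
    | ⟨false⟩ => 0
  have hja : ∀ {y : 𝒵.obj} (c : y ⟶ a), Set.range (StMod.bmap 𝒵 (c ≫ j)) ⊆ W := fun c =>
    range_bmap_comp_subset c j hr.le
  have hkb : ∀ {y : 𝒵.obj} (c : y ⟶ b), Set.range (StMod.bmap 𝒵 (c ≫ k)) ⊆ (W : Set (StMod.sch 𝒵 x))ᶜ := fun c =>
    range_bmap_comp_subset c k hr'.le
  obtain ⟨t, ht⟩ := hS.2 z φ hc val fun i i' y c c' e => by
    show F.mapTop c (val i) = F.mapTop c' (val i')
    rcases i with ⟨_ | _⟩ <;> rcases i' with ⟨_ | _⟩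
    · show F.mapTop c 0 = F.mapTop c' 0
      rw [StMod.Mod.mapTop_zero, StMod.Mod.mapTop_zero]
    · exact hempty y (c' ≫ j) (hja c') ((show c ≫ k = c' ≫ j from e) ▸ hkb c) _ _
    · exact hempty y (c ≫ j) (hja c) ((show c ≫ j = c' ≫ k from e) ▸ hkb c') _ _
    · show F.mapTop c (v a j hr.le) = F.mapTop c' (v a j hr.le)
      have hcg : ∀ (φ φ' : y ⟶ x) h h', φ = φ' → v y φ h = v y φ' h' := by
        intros
        subst_vars
        rfl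
      exact (hv a y c j hr.le).trans ((hcg _ _ _ _ e).trans (hv a y c' j hr.le).symm)
  have ht₁ : F.mapTop j t = v a j hr.le := ht ⟨true⟩
  have ht₀ : F.mapTop k t = 0 := ht ⟨false⟩
  refine ⟨t, fun y ψ => ⟨fun h => ?_, fun h => ?_⟩, fun t' ht' => hS.1 z φ hc _ _ fun i => ?_⟩
  · obtain ⟨c, rfl⟩ := hl y ψ h
    rw [F.mapTop_comp, ht₁, hv]
  · obtain ⟨c, rfl⟩ := hl' y ψ h
    rw [F.mapTop_comp, ht₀, StMod.Mod.mapTop_zero]
  · rcases i with ⟨_ | _⟩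
    · exact ((ht' b k).2 hr'.le).trans ht₀.symm
    · exact ((ht' a j).1 hr.le).trans ht₁.symm

theorem range_bmap_map (F : 𝒳 ⥤ᵇ 𝒴) {y x : 𝒳.obj} (φ : y ⟶ x) (V : Set (StMod.sch 𝒴 (F.obj x))) :
    Set.range (StMod.bmap 𝒴 (F.map φ)) ⊆ V ↔
      Set.range (StMod.bmap 𝒳 φ) ⊆ (eqToHom (StMod.sch_obj_eq F x).symm) ⁻¹' V := by
  rw [bmap_map F φ]
  constructor
  · rintro h _ ⟨s, rfl⟩
    refine h ⟨eqToHom (StMod.sch_obj_eq F y).symm s, ?_⟩
    rw [← Scheme.Hom.comp_apply, eqToHom_trans_assoc, eqToHom_refl, Category.id_comp, Scheme.Hom.comp_apply]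
  · rintro h _ ⟨s, rfl⟩
    rw [Scheme.Hom.comp_apply, Scheme.Hom.comp_apply]
    exact h ⟨_, rfl⟩

variable (π : 𝒳 ⥤ᵇ 𝒴) (hp : FibCat.IsFibGrpd 𝒳.p) (hp' : FibCat.IsFibGrpd 𝒴.p) {η : 𝒴.obj} (hη : EtObj η)
  (J : 𝒵 ⥤ᵇ 𝒳) (hz : FibCat.IsFibGrpd 𝒵.p) (can : ∀ x : 𝒵.obj, π.obj (J.obj x) ⟶ η)
  (hcan : ∀ {x' x : 𝒵.obj} (φ : x' ⟶ x), π.map (J.map φ) ≫ can x = can x')

include hη hcan in
/-- The clopen part where a pair agrees with the given morphisms. -/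
theorem exists_agree_locus {p : 𝒳.obj} (αp : π.obj p ⟶ η) (x : 𝒵.obj) (γ : J.obj x ⟶ p) :
    ∃ W : (StMod.sch 𝒵 x).Opens, IsClosed (W : Set (StMod.sch 𝒵 x)) ∧ ∀ (y : 𝒵.obj) (φ : y ⟶ x),
      Set.range (StMod.bmap 𝒵 φ) ⊆ W ↔ π.map (J.map φ ≫ γ) ≫ αp = can y := by
  obtain ⟨V, hV, hVe⟩ := hη.eqz (π.obj (J.obj x)) (π.map γ ≫ αp) (can x)
  let e := eqToHom (StMod.sch_obj_eq (BasedFunctor.comp J π) x).symm
  refine ⟨e ⁻¹ᵁ V, hV.preimage e.continuous, fun y φ => ?_⟩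
  have h1 := range_bmap_map (BasedFunctor.comp J π) φ (show Set (StMod.sch 𝒴 ((BasedFunctor.comp J π).obj x)) from (V : Set (StMod.sch 𝒴 (π.obj (J.obj x)))))
  refine h1.symm.trans ((hVe ((BasedFunctor.comp J π).obj y) ((BasedFunctor.comp J π).map φ)).symm.trans ?_)
  show π.map (J.map φ) ≫ π.map γ ≫ αp = π.map (J.map φ) ≫ can x ↔ _
  rw [hcan, ← Category.assoc, ← Functor.map_comp]

variable {x₀ : 𝒳.obj} (hd : IsDenseObj x₀) (P : PairAtlas x₀)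

include hp hp' hd P hη hz hcan in
/-- Exactness of sections over the target object passes to the global sections of the category over it. -/
theorem exists_globSect_lift (hpres : ∀ ξ : 𝒳.obj, IsAffine (StMod.sch 𝒳 ξ) → Nonempty (Pres J ξ))
    (hfib : ∀ (p : FMem x₀) (αp : π.obj p.1 ⟶ η), ∃ (xs : 𝒵.obj) (γs : J.obj xs ⟶ p.1),
      IsAffine (StMod.sch 𝒵 xs) ∧ π.map γs ≫ αp = can xs ∧
        ∀ (x : 𝒵.obj) (γ : J.obj x ⟶ p.1), π.map γ ≫ αp = can x → ∃! χ : x ⟶ xs, J.map χ ≫ γs = γ)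
    (hex : ∀ (F F' : StMod.QCoh 𝒳) (q : F ⟶ F'), StMod.Mod.IsSurj q.hom →
      Function.Surjective (StMod.Mod.relSectMap π q.hom η))
    {G G' : StMod.QCoh 𝒵} (u : G ⟶ G') (s : ∀ x, Γ(G'.obj.obj x, ⊤))
    (hs : ∀ {x' x : 𝒵.obj} (φ : x' ⟶ x), G'.obj.mapTop φ (s x) = s x')
    (hu : ∀ x, IsAffine (StMod.sch 𝒵 x) → ∃ v, (u.hom.app x).app ⊤ v = s x) :
    ∃ t : ∀ x, Γ(G.obj.obj x, ⊤), (∀ {x' x : 𝒵.obj} (φ : x' ⟶ x), G.obj.mapTop φ (t x) = t x') ∧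
      ∀ x, (u.hom.app x).app ⊤ (t x) = s x := by
  obtain ⟨JG, θ, hθb, hθl, hθn⟩ := exists_push hp P hd hz J hpres G
  obtain ⟨JG', θ', hθb', hθl', hθn'⟩ := exists_push hp P hd hz J hpres G'
  let ρ : ∀ p : FMem x₀, Γ(JG.obj.obj p.1, ⊤) ≃+ StMod.Mod.RelSect J G.obj p.1 := fun p =>
    AddEquiv.ofBijective (θ p) (hθb p)
  choose mv hmv using fun (p : FMem x₀) x => (hθb' p).2 (StMod.Mod.relSectMap J u.hom p.1 (θ p x))
  obtain ⟨a, ha⟩ := exists_hom_of_flatMem hp P hd (G := JG) (G' := JG')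
    (m := fun p => AddMonoidHom.mk' (mv p) fun x y => (hθb' p).1 (by rw [hmv, map_add, map_add, map_add, hmv, hmv]))
    ⟨fun p r x => (hθb' p).1 (by
        show θ' p (mv p (r • x)) = θ' p (r • mv p x)
        rw [hmv, hθl, hθl', hmv, map_smul]),
      fun {p q} f x => (hθb' p).1 (by
        show θ' p (JG'.obj.mapTop f (mv q x)) = θ' p (mv p (JG.obj.mapTop f x))
        rw [hθn', hmv, hmv, hθn]
        rfl)⟩
  have haθ : ∀ (p : FMem x₀) (x : Γ(JG.obj.obj p.1, ⊤)),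
      θ' p ((a.hom.app p.1).app ⊤ x) = StMod.Mod.relSectMap J u.hom p.1 (θ p x) :=
    fun p x => (congrArg (θ' p) (ha p x)).trans (hmv p x)
  obtain ⟨H, q, ι, hq, hι⟩ := exists_image hp P hd a
  choose W hWc hW using fun (p : FMem x₀) (αp : π.obj p.1 ⟶ η) x γ => exists_agree_locus π hη J can hcan αp x γ
  choose xs γs hxs hγs hχ using hfib
  choose lifts hlifts using fun p αp => hu (xs p αp) (hxs p αp)
  choose χ hχ₁ hχ₂ using hχ
  have hWe : ∀ (p : FMem x₀) (αp : π.obj p.1 ⟶ η) (x : 𝒵.obj) (γ : J.obj x ⟶ p.1) (y : 𝒵.obj) (φ : y ⟶ x),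
      Set.range (StMod.bmap 𝒵 φ) ⊆ W p αp x γ → π.map (J.map φ ≫ γ) ≫ αp = can y :=
    fun p αp x γ y φ h => (hW p αp x γ y φ).1 h
  choose tau htau htauu using fun (p : FMem x₀) (αp : π.obj p.1 ⟶ η) (x : 𝒵.obj) (γ : J.obj x ⟶ p.1) =>
    existsUnique_zeroExt hz G.property (W p αp x γ) (hWc p αp x γ)
      (fun y φ h => G.obj.mapTop (χ p αp y _ (hWe p αp x γ y φ h)) (lifts p αp)) fun y y' k φ h => by
        rw [← G.obj.mapTop_comp]
        refine congrArg (fun c => G.obj.mapTop c (lifts p αp)) (hχ₂ p αp y' _ _ (k ≫ χ p αp y _ (hWe p αp x γ y φ h)) ?_)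
        show J.map (k ≫ χ p αp y _ _) ≫ γs p αp = J.map (k ≫ φ) ≫ γ
        rw [Functor.map_comp, Category.assoc, hχ₁ p αp, Functor.map_comp, Category.assoc]
  -- characterisation of the values
  have htau₁ : ∀ (p : FMem x₀) (αp : π.obj p.1 ⟶ η) (x : 𝒵.obj) (γ : J.obj x ⟶ p.1) (y : 𝒵.obj) (φ : y ⟶ x)
      (c : y ⟶ xs p αp), π.map (J.map φ ≫ γ) ≫ αp = can y → J.map c ≫ γs p αp = J.map φ ≫ γ →
      G.obj.mapTop φ (tau p αp x γ) = G.obj.mapTop c (lifts p αp) := fun p αp x γ y φ c h hc =>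
    ((htau p αp x γ y φ).1 ((hW p αp x γ y φ).2 h)).trans
      (congrArg (fun c => G.obj.mapTop c (lifts p αp)) (hχ₂ p αp y _ _ c hc).symm)
  have hnatW : ∀ (p : FMem x₀) (αp : π.obj p.1 ⟶ η) (x x' : 𝒵.obj) (k : x' ⟶ x) (γ : J.obj x ⟶ p.1) (y : 𝒵.obj)
      (φ : y ⟶ x'), Set.range (StMod.bmap 𝒵 φ) ⊆ (W p αp x' (J.map k ≫ γ) : Set (StMod.sch 𝒵 x'))ᶜ →
      Set.range (StMod.bmap 𝒵 (φ ≫ k)) ⊆ (W p αp x γ : Set (StMod.sch 𝒵 x))ᶜ := by
    intro p αp x x' k γ y φ h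
    rintro _ ⟨s, rfl⟩ hs'
    obtain ⟨v, j, -, hr, hl⟩ := exists_open_obj hz (x := y) (StMod.bmap 𝒵 (φ ≫ k) ⁻¹ᵁ W p αp x γ)
    obtain ⟨w, hw⟩ : s ∈ Set.range (StMod.bmap 𝒵 j) := hr ▸ hs'
    have h1 : Set.range (StMod.bmap 𝒵 (j ≫ φ ≫ k)) ⊆ W p αp x γ := by
      rintro _ ⟨w', rfl⟩
      rw [StMod.bmap_comp, Scheme.Hom.comp_apply]
      exact (hr.le ⟨w', rfl⟩ :)
    have h2 : π.map (J.map (j ≫ φ) ≫ J.map k ≫ γ) ≫ αp = can v := by
      rw [← Category.assoc (J.map (j ≫ φ)), ← Functor.map_comp, Category.assoc j]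
      exact (hW p αp x γ _ _).1 h1
    have h3 := (hW p αp x' (J.map k ≫ γ) v (j ≫ φ)).2 h2 ⟨w, rfl⟩
    rw [StMod.bmap_comp, Scheme.Hom.comp_apply, hw] at h3
    exact h ⟨s, rfl⟩ h3
  have htaunat : ∀ (p : FMem x₀) (αp : π.obj p.1 ⟶ η) (x x' : 𝒵.obj) (k : x' ⟶ x) (γ : J.obj x ⟶ p.1),
      G.obj.mapTop k (tau p αp x γ) = tau p αp x' (J.map k ≫ γ) := fun p αp x x' k γ =>
    htauu p αp x' (J.map k ≫ γ) _ fun y φ => ⟨fun h => by
      rw [← G.obj.mapTop_comp]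
      have h' := hWe p αp x' (J.map k ≫ γ) y φ h
      refine htau₁ p αp x γ y (φ ≫ k) _ ?_ ?_
      · rw [J.toFunctor.map_comp, Category.assoc]
        exact h'
      · rw [hχ₁ p αp, Functor.map_comp, Category.assoc],
      fun h => by
        rw [← G.obj.mapTop_comp]
        exact (htau p αp x γ y (φ ≫ k)).2 (hnatW p αp x x' k γ y φ h)⟩
  let tauS : ∀ (p : FMem x₀) (αp : π.obj p.1 ⟶ η), StMod.Mod.RelSect J G.obj p.1 := fun p αp =>
    ⟨fun x γ => tau p αp x γ, fun x' x k γ => htaunat p αp x x' k γ⟩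
  -- the image of `tau` does not depend on the choices
  let σ : ∀ (p : FMem x₀) (αp : π.obj p.1 ⟶ η), StMod.Mod.RelSect J G'.obj p.1 := fun p αp =>
    StMod.Mod.relSectMap J u.hom p.1 (tauS p αp)
  have hσ : ∀ (p : FMem x₀) (αp : π.obj p.1 ⟶ η) (x : 𝒵.obj) (γ : J.obj x ⟶ p.1) (y : 𝒵.obj) (φ : y ⟶ x),
      (π.map (J.map φ ≫ γ) ≫ αp = can y → G'.obj.mapTop φ ((σ p αp).1 x γ) = s y) ∧
      (Set.range (StMod.bmap 𝒵 φ) ⊆ (W p αp x γ : Set (StMod.sch 𝒵 x))ᶜ →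
        G'.obj.mapTop φ ((σ p αp).1 x γ) = 0) := fun p αp x γ y φ => by
    constructor
    · intro h
      show G'.obj.mapTop φ ((u.hom.app x).app ⊤ (tau p αp x γ)) = _
      rw [StMod.Mod.mapTop_app, htau₁ p αp x γ y φ _ h (hχ₁ p αp y _ h), ← StMod.Mod.mapTop_app, hlifts, hs]
    · intro h
      show G'.obj.mapTop φ ((u.hom.app x).app ⊤ (tau p αp x γ)) = _
      rw [StMod.Mod.mapTop_app, (htau p αp x γ y φ).2 h, map_zero]
  have hσc : ∀ (p r : FMem x₀) (αp : π.obj p.1 ⟶ η) (c : r.1 ⟶ p.1),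
      relRes c G'.obj (σ p αp) = σ r (π.map c ≫ αp) := fun p r αp c => by
    refine StMod.Mod.RelSect.ext J _ _ fun x γ => ?_
    rw [relRes_val]
    refine (existsUnique_zeroExt hz G'.property (W p αp x (γ ≫ c)) (hWc p αp x (γ ≫ c)) (fun y φ _ => s y)
      fun y y' k φ _ => hs k).unique (fun y φ => ⟨fun h => (hσ p αp x _ y φ).1 (hWe p αp x _ y φ h),
        (hσ p αp x _ y φ).2⟩) fun y φ => ⟨fun h => (hσ r _ x γ y φ).1 ?_, fun h => (hσ r _ x γ y φ).2 ?_⟩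
    · rw [← hWe p αp x _ y φ h, ← Category.assoc, ← Functor.map_comp, Category.assoc]
    · have heq : (W r (π.map c ≫ αp) x γ : Set (StMod.sch 𝒵 x)) ⊆ W p αp x (γ ≫ c) := by
        intro z hz'
        obtain ⟨v, j, -, hr, -⟩ := exists_open_obj hz (W r (π.map c ≫ αp) x γ)
        have h1 := hWe r _ x γ v j hr.le
        rw [← Category.assoc, ← Functor.map_comp, Category.assoc] at h1
        exact (hW p αp x (γ ≫ c) v j).2 h1 (hr.symm ▸ hz' : z ∈ Set.range (StMod.bmap 𝒵 j))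
      exact h.trans (Set.compl_subset_compl.2 heq)
  let sH : ∀ (p : FMem x₀) (αp : π.obj p.1 ⟶ η), Γ(H.obj.obj p.1, ⊤) := fun p αp =>
    (q.hom.app p.1).app ⊤ ((ρ p).symm (tauS p αp))
  have hsH : ∀ p αp, θ' p ((ι.hom.app p.1).app ⊤ (sH p αp)) = σ p αp := fun p αp => by
    refine (congrArg (θ' p) ((hι p).1 _)).trans ((haθ p _).trans ?_)
    exact congrArg (StMod.Mod.relSectMap J u.hom p.1) ((ρ p).apply_symm_apply _)
  have hsHc : ∀ (p r : FMem x₀) (αp : π.obj p.1 ⟶ η) (c : r.1 ⟶ p.1),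
      H.obj.mapTop c (sH p αp) = sH r (π.map c ≫ αp) := fun p r αp c => (hι r).2 ((hθb' r).1 (by
    rw [hsH, ← StMod.Mod.mapTop_app, hθn', hsH, hσc]))
  -- the section of the image over the target object
  choose SH hSH hSHu using fun (ξ : 𝒳.obj) (α : π.obj ξ ⟶ η) =>
    existsUnique_glue_pairs π hp hp' hd P hη (BasedFunctor.id 𝒳) hp H.property ξ α
      (fun p αp y φ γ _ => H.obj.mapTop γ (sH p αp))
      (fun p αp y y' k φ γ _ _ => (H.obj.mapTop_comp k γ _).symm)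
      fun p r αp c y φ γ _ _ => by
        rw [H.obj.mapTop_comp, hsHc]
  obtain ⟨T, hT⟩ := hex JG H q hq ⟨SH, fun ξ' ξ k α => hSHu ξ' _ _ fun p αp y φ γ h => by
    rw [← H.obj.mapTop_comp]
    exact hSH ξ α p αp y (φ ≫ k) γ (by
      show π.map γ ≫ αp = π.map (φ ≫ k) ≫ α
      rw [Functor.map_comp, Category.assoc]
      exact h)⟩
  have hTq : ∀ (p : FMem x₀) (αp : π.obj p.1 ⟶ η), (q.hom.app p.1).app ⊤ (T.1 p.1 αp) = sH p αp := fun p αp => by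
    have h1 := congrArg (fun S : StMod.Mod.RelSect π H.obj η => S.1 p.1 αp) hT
    refine h1.trans ?_
    have := hSH p.1 αp p αp p.1 (𝟙 _) (𝟙 _) (by rfl)
    exact ((H.obj.mapTop_id _ _).symm.trans this).trans (H.obj.mapTop_id _ _)
  -- the lift
  choose t ht htu using fun (x : 𝒵.obj) =>
    existsUnique_glue_pairs π hp hp' hd P hη J hz G.property x (can x)
      (fun p αp y φ γ _ => (θ p (T.1 p.1 αp)).1 y γ)
      (fun p αp y y' k φ γ _ _ => (θ p (T.1 p.1 αp)).2 k γ)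
      fun p r αp c y φ γ _ _ => by
        rw [← relRes_val c G.obj, ← hθn, T.2 c αp]
  refine ⟨t, fun {x' x} k => htu x' _ fun p αp y φ γ h => ?_, fun x => ?_⟩
  · rw [← G.obj.mapTop_comp]
    exact ht x p αp y (φ ≫ k) γ (by
      rw [h, Functor.map_comp, Functor.map_comp, Category.assoc, hcan k])
  · refine (existsUnique_glue_pairs π hp hp' hd P hη J hz G'.property x (can x) (fun p αp y φ γ _ => s y)
      (fun p αp y y' k φ γ _ _ => hs k) fun p r αp c y φ γ _ _ => rfl).unique (fun p αp y φ γ h => ?_)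
      fun p αp y φ γ _ => hs φ
    rw [StMod.Mod.mapTop_app, ht x p αp y φ γ h]
    show (StMod.Mod.relSectMap J u.hom p.1 (θ p (T.1 p.1 αp))).1 y γ = s y
    rw [← haθ, ← (hι p).1, hTq, hsH]
    have := (hσ p αp y γ y (𝟙 y)).1 (by rw [CategoryTheory.Functor.map_id, Category.id_comp, h, hcan])
    rwa [StMod.Mod.mapTop_id] at this

end Groth.Agent.StModLib
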