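import Groth.Agent.StModLib.SysEff

/-!
# Morphisms of quasi-coherent modules are natural families on global sections
-/

set_option autoImplicit false
set_option linter.style.haveILetI false
set_option backward.isDefEq.respectTransparency false
set_option backward.isDefEq.respectTransparency.types false

universe u

open CategoryTheory CategoryTheory.Limits AlgebraicGeometry Opposite TopologicalSpace

namespace Groth.Agent.StModLib

variable {S : Scheme.{u}} {𝒴 : AlgSt.Cat S}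

theorem toObj_map (F : StMod.Mod 𝒴) {y z η : 𝒴.obj} (a : y ⟶ z) (φ : z ⟶ η)
    {g : StMod.sch 𝒴 z ⟶ StMod.sch 𝒴 η} (hg : StMod.bmap 𝒴 φ = g) (U : (StMod.sch 𝒴 η).Opens)
    (h : ⊤ ≤ StMod.bmap 𝒴 a ⁻¹ᵁ (g ⁻¹ᵁ U)) (h' : ⊤ ≤ StMod.bmap 𝒴 (a ≫ φ) ⁻¹ᵁ U) (x : Γ(F.obj η, U)) :
    toObj F a (g ⁻¹ᵁ U) h (show Γ(F.obj z, g ⁻¹ᵁ U) from (F.map φ hg).app U x) = toObj F (a ≫ φ) U h' x := by
  subst hg
  have hh : ⊤ ≤ (StMod.bmap 𝒴 a ≫ StMod.bmap 𝒴 φ) ⁻¹ᵁ U := by rwa [← StMod.bmap_comp]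
  refine Eq.trans ?_ (map_app_congr F (a ≫ φ) (StMod.bmap_comp a φ) rfl U x ⊤ hh h')
  have k := congr($(StMod.Mod.map_comp_app F a φ (h := StMod.bmap 𝒴 a) rfl rfl U) x)
  exact (congrArg ((F.obj y).presheaf.map (homOfLE hh).op) k).symm

theorem toObj_app {F F' : StMod.Mod 𝒴} (u : F ⟶ F') {z η : 𝒴.obj} (φ : z ⟶ η) (U : (StMod.sch 𝒴 η).Opens)
    (h : ⊤ ≤ StMod.bmap 𝒴 φ ⁻¹ᵁ U) (x : Γ(F.obj η, U)) :
    toObj F' φ U h ((u.app η).app U x) = (u.app z).app ⊤ (toObj F φ U h x) := by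
  have k := congr($(congrArg (fun m => Scheme.Modules.Hom.app m U) (u.comm φ rfl)) x)
  refine Eq.trans (congrArg ((F'.obj z).presheaf.map (homOfLE h).op) k.symm) ?_
  exact congr($((Scheme.Modules.Hom.mapPresheaf (u.app z)).naturality (homOfLE h).op) ((F.map φ rfl).app U x)).symm

theorem toObj_smul (F : StMod.Mod 𝒴) {z η : 𝒴.obj} (φ : z ⟶ η) (U : (StMod.sch 𝒴 η).Opens)
    (h : ⊤ ≤ StMod.bmap 𝒴 φ ⁻¹ᵁ U) (r : Γ(StMod.sch 𝒴 η, U)) (x : Γ(F.obj η, U)) :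
    toObj F φ U h (r • x) = (StMod.bmap 𝒴 φ).appLE U ⊤ h r • toObj F φ U h x := by
  show (F.obj z).presheaf.map (homOfLE h).op ((F.map φ rfl).app U (r • x)) = _
  rw [Scheme.Modules.Hom.app_smul]
  exact QCoh.map_smul' (M := F.obj z) (homOfLE h) _ _

variable (hp : FibCat.IsFibGrpd 𝒴.p)

include hp in
/-- Two morphisms agreeing on global sections are equal. -/
theorem hom_ext_sys {F F' : StMod.Mod 𝒴} (hF' : F'.IsCartesian) {u v : F ⟶ F'}
    (h : ∀ η (x : Γ(F.obj η, ⊤)), (u.app η).app ⊤ x = (v.app η).app ⊤ x) : u = v := by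
  refine StMod.Mod.hom_ext fun η => Scheme.Modules.hom_ext _ _ fun U => ?_
  ext x
  refine (bijective_toObj hF' (lftι hp η U) U (top_le_lftι hp η U) (opensRange_lftι hp η U).ge).1 ?_
  rw [toObj_app, toObj_app, h]

section Build

variable {F F' : StMod.Mod 𝒴} (hF' : F'.IsCartesian) (h : ∀ η, Γ(F.obj η, ⊤) →+ Γ(F'.obj η, ⊤))
  (hsmul : ∀ η (r : Γ(StMod.sch 𝒴 η, ⊤)) (x : Γ(F.obj η, ⊤)), h η (r • x) = r • h η x)
  (hnat : ∀ {η' η : 𝒴.obj} (φ : η' ⟶ η) (x : Γ(F.obj η, ⊤)), F'.mapTop φ (h η x) = h η' (F.mapTop φ x))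

include hp hF' hnat in
theorem existsUnique_app (η : 𝒴.obj) (U : (StMod.sch 𝒴 η).Opens) (x : Γ(F.obj η, U)) :
    ∃! y : Γ(F'.obj η, U), ∀ (z : 𝒴.obj) (φ : z ⟶ η) (hz : ⊤ ≤ StMod.bmap 𝒴 φ ⁻¹ᵁ U),
      toObj F' φ U hz y = h z (toObj F φ U hz x) := by
  have hb := bijective_toObj hF' (lftι hp η U) U (top_le_lftι hp η U) (opensRange_lftι hp η U).ge
  obtain ⟨y, hy⟩ := hb.2 (h _ (toObj F (lftι hp η U) U (top_le_lftι hp η U) x))
  refine ⟨y, fun z φ hz => ?_, fun y' hy' => hb.1 ((hy' _ _ _).trans hy.symm)⟩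
  obtain ⟨χ, rfl⟩ := exists_fac hp φ hz
  rw [← mapTop_toObj F' χ (lftι hp η U) U (top_le_lftι hp η U) hz, hy,
    hnat, mapTop_toObj F χ (lftι hp η U) U (top_le_lftι hp η U) hz]

/-- The component of the morphism. -/
noncomputable def sysApp (η : 𝒴.obj) (U : (StMod.sch 𝒴 η).Opens) (x : Γ(F.obj η, U)) : Γ(F'.obj η, U) :=
  (existsUnique_app hp hF' h hnat η U x).choose

theorem sysApp_spec (η : 𝒴.obj) (U : (StMod.sch 𝒴 η).Opens) (x : Γ(F.obj η, U)) (z : 𝒴.obj) (φ : z ⟶ η)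
    (hz : ⊤ ≤ StMod.bmap 𝒴 φ ⁻¹ᵁ U) :
    toObj F' φ U hz (sysApp hp hF' h hnat η U x) = h z (toObj F φ U hz x) :=
  (existsUnique_app hp hF' h hnat η U x).choose_spec.1 z φ hz

theorem eq_sysApp {η : 𝒴.obj} {U : (StMod.sch 𝒴 η).Opens} {x : Γ(F.obj η, U)} {y : Γ(F'.obj η, U)}
    (hy : toObj F' (lftι hp η U) U (top_le_lftι hp η U) y = h _ (toObj F (lftι hp η U) U (top_le_lftι hp η U) x)) :
    y = sysApp hp hF' h hnat η U x :=
  (bijective_toObj hF' (lftι hp η U) U (top_le_lftι hp η U) (opensRange_lftι hp η U).ge).1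
    (hy.trans (sysApp_spec hp hF' h hnat η U x _ _ _).symm)

theorem sysApp_add (η : 𝒴.obj) (U : (StMod.sch 𝒴 η).Opens) (x y : Γ(F.obj η, U)) :
    sysApp hp hF' h hnat η U (x + y) = sysApp hp hF' h hnat η U x + sysApp hp hF' h hnat η U y :=
  (eq_sysApp hp hF' h hnat (by rw [map_add, map_add, map_add, sysApp_spec, sysApp_spec])).symm

theorem sysApp_res (η : 𝒴.obj) {U V : (StMod.sch 𝒴 η).Opens} (i : V ⟶ U) (x : Γ(F.obj η, U)) :
    (F'.obj η).presheaf.map i.op (sysApp hp hF' h hnat η U x) =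
      sysApp hp hF' h hnat η V ((F.obj η).presheaf.map i.op x) := by
  refine eq_sysApp hp hF' h hnat ?_
  have hle : ⊤ ≤ StMod.bmap 𝒴 (lftι hp η V) ⁻¹ᵁ U :=
    (top_le_lftι hp η V).trans ((Opens.map _).map i).le
  exact (toObj_res F' _ i.le hle _ _).trans ((sysApp_spec hp hF' h hnat η U x _ _ _).trans
    (congrArg (h _) (toObj_res F _ i.le hle _ _).symm))

include hsmul in
theorem sysApp_smul (η : 𝒴.obj) (U : (StMod.sch 𝒴 η).Opens) (r : Γ(StMod.sch 𝒴 η, U)) (x : Γ(F.obj η, U)) :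
    sysApp hp hF' h hnat η U (r • x) = r • sysApp hp hF' h hnat η U x :=
  (eq_sysApp hp hF' h hnat (by rw [toObj_smul, toObj_smul, hsmul, sysApp_spec])).symm

/-- The morphism of abelian presheaves over one object. -/
noncomputable def sysPre (η : 𝒴.obj) : (F.obj η).presheaf ⟶ (F'.obj η).presheaf where
  app U := AddCommGrpCat.ofHom (AddMonoidHom.mk' (fun x : Γ(F.obj η, U.unop) => sysApp hp hF' h hnat η U.unop x)
    (sysApp_add hp hF' h hnat η U.unop))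
  naturality U V i := AddCommGrpCat.ext fun x => (sysApp_res hp hF' h hnat η i.unop x).symm

/-- The morphism of modules over one object. -/
noncomputable def sysHom (η : 𝒴.obj) : F.obj η ⟶ F'.obj η :=
  SheafOfModules.Hom.mk (PresheafOfModules.homMk (sysPre hp hF' h hnat η)
    fun U r x => sysApp_smul hp hF' h hsmul hnat η U.unop r x)

theorem sysHom_app (η : 𝒴.obj) (U : (StMod.sch 𝒴 η).Opens) (x : Γ(F.obj η, U)) :
    (sysHom hp hF' h hsmul hnat η).app U x = sysApp hp hF' h hnat η U x := rfl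

include hp hF' hsmul hnat in
/-- A natural linear family on global sections is a morphism of modules. -/
theorem exists_hom_sys : ∃ u : F ⟶ F', ∀ η (x : Γ(F.obj η, ⊤)), (u.app η).app ⊤ x = h η x := by
  refine ⟨{ app := sysHom hp hF' h hsmul hnat, comm := fun {η' η} φ g hg => ?_ }, fun η x => ?_⟩
  · refine Scheme.Modules.hom_ext _ _ fun U => ?_
    ext x
    show sysApp hp hF' h hnat η' (g ⁻¹ᵁ U) (show Γ(F.obj η', g ⁻¹ᵁ U) from (F.map φ hg).app U x) =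
      (show Γ(F'.obj η', g ⁻¹ᵁ U) from (F'.map φ hg).app U (sysApp hp hF' h hnat η U x))
    refine (eq_sysApp hp hF' h hnat ?_).symm
    have h' : ⊤ ≤ StMod.bmap 𝒴 (lftι hp η' (g ⁻¹ᵁ U) ≫ φ) ⁻¹ᵁ U := by
      subst hg
      exact le_comp hp φ
    rw [toObj_map F' _ φ hg U _ h', toObj_map F _ φ hg U _ h', sysApp_spec]
  · show sysApp hp hF' h hnat η ⊤ x = h η x
    refine (eq_sysApp hp hF' h hnat ?_).symm
    rw [toObj_top, toObj_top, hnat]

end Build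

include hp in
/-- A natural linear bijection on global sections is an isomorphism of modules. -/
theorem nonempty_iso_sys {F F' : StMod.Mod 𝒴} (hF : F.IsCartesian) (hF' : F'.IsCartesian)
    (h : ∀ η, Γ(F.obj η, ⊤) →+ Γ(F'.obj η, ⊤))
    (hsmul : ∀ η (r : Γ(StMod.sch 𝒴 η, ⊤)) (x : Γ(F.obj η, ⊤)), h η (r • x) = r • h η x)
    (hnat : ∀ {η' η : 𝒴.obj} (φ : η' ⟶ η) (x : Γ(F.obj η, ⊤)), F'.mapTop φ (h η x) = h η' (F.mapTop φ x))
    (hbij : ∀ η, Function.Bijective (h η)) : Nonempty (F ≅ F') := by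
  let k : ∀ η, Γ(F'.obj η, ⊤) →+ Γ(F.obj η, ⊤) := fun η => (AddEquiv.ofBijective (h η) (hbij η)).symm.toAddMonoidHom
  have hk : ∀ η y, h η (k η y) = y := fun η y => (AddEquiv.ofBijective (h η) (hbij η)).apply_symm_apply y
  have hk' : ∀ η x, k η (h η x) = x := fun η x => (AddEquiv.ofBijective (h η) (hbij η)).symm_apply_apply x
  obtain ⟨u, hu⟩ := exists_hom_sys hp hF' h hsmul hnat
  obtain ⟨v, hv⟩ := exists_hom_sys hp hF k
    (fun η r y => (hbij η).1 (by rw [hk, hsmul, hk]))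
    (fun {η' η} φ y => (hbij η').1 (by rw [← hnat, hk, hk]))
  refine ⟨⟨u, v, hom_ext_sys hp hF fun η x => ?_, hom_ext_sys hp hF' fun η x => ?_⟩⟩
  · show (v.app η).app ⊤ ((u.app η).app ⊤ x) = x
    rw [hu, hv, hk']
  · show (u.app η).app ⊤ ((v.app η).app ⊤ x) = x
    rw [hv, hu, hk]

end Groth.Agent.StModLib
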