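import Groth.Agent.StModLib.Dense
import Groth.Agent.AlgStLib.FppfSite
import Groth.Prelude.Def_TwSh

/-!
# Local preimages along a banded gerbe, and inertial actions on sections
-/

set_option autoImplicit false
set_option linter.style.haveILetI false
set_option linter.unusedSectionVars false
set_option backward.isDefEq.respectTransparency false
set_option backward.isDefEq.respectTransparency.types false

universe u

open CategoryTheory CategoryTheory.Limits AlgebraicGeometry Opposite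

namespace Groth.Agent.StModLib

variable {S : Scheme.{u}} {𝒳 𝒴 : AlgSt.Cat S}

theorem isCov_of_lift {η : 𝒳.obj} {ι : Type u} {V : ι → Over S} (v : ∀ i, V i ⟶ 𝒳.p.obj η) {z : ι → 𝒳.obj}
    (φ : ∀ i, z i ⟶ η) (hv : ∀ i, 𝒳.p.IsHomLift (v i) (φ i)) (hfl : ∀ i, Flat (v i).left)
    (hfp : ∀ i, LocallyOfFinitePresentation (v i).left)
    (hsurj : ∀ t : (𝒳.p.obj η).left, ∃ i, t ∈ Set.range (v i).left) : IsCov z φ := by
  have key : ∀ i, ∃ e : StMod.sch 𝒳 (z i) ≅ (V i).left, StMod.bmap 𝒳 (φ i) = e.hom ≫ (v i).left := fun i => by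
    haveI := hv i
    refine ⟨(Over.forget S).mapIso (eqToIso (IsHomLift.domain_eq 𝒳.p (v i) (φ i))), ?_⟩
    show (𝒳.p.map (φ i)).left = _
    rw [IsHomLift.fac' 𝒳.p (v i) (φ i)]
    simp [StMod.sch]
  choose e he using key
  refine ⟨fun i => ?_, fun i => ?_, fun t => ?_⟩
  · rw [he i]
    haveI := hfl i
    infer_instance
  · rw [he i]
    haveI := hfp i
    infer_instance
  · obtain ⟨i, s, hs⟩ := hsurj t
    refine ⟨i, (e i).inv s, ?_⟩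
    rw [he i, ← Scheme.Hom.comp_apply, Iso.inv_hom_id_assoc]
    exact hs

theorem exists_isCov_of_mem_J (η : 𝒳.obj) {R : Sieve (𝒳.p.obj η)}
    (hR : R ∈ QuotSh.J Scheme.fppfPrecoverage S (𝒳.p.obj η)) {P : ∀ ⦃z : 𝒳.obj⦄, (z ⟶ η) → Prop}
    (h : ∀ ⦃V : Over S⦄ (f : V ⟶ 𝒳.p.obj η), R f → ∃ (z : 𝒳.obj) (φ : z ⟶ η), 𝒳.p.IsHomLift f φ ∧ P φ) :
    ∃ (ι : Type u) (z : ι → 𝒳.obj) (φ : ∀ i, z i ⟶ η), IsCov z φ ∧ ∀ i, P (φ i) := by
  obtain ⟨ι, V, v, hfl, hfp, hs, hv⟩ := AlgStLib.exists_fppf_of_mem_J hR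
  choose z φ hφ hP using fun i => h (v i) (hv i)
  exact ⟨ι, z, φ, isCov_of_lift v φ hφ hfl hfp hs, hP⟩

variable (π : 𝒳 ⥤ᵇ 𝒴)

theorem bmap_map {x' x : 𝒳.obj} (φ : x' ⟶ x) : StMod.bmap 𝒴 (π.map φ) =
    eqToHom (StMod.sch_obj_eq π x') ≫ StMod.bmap 𝒳 φ ≫ eqToHom (StMod.sch_obj_eq π x).symm := by
  have h := StMod.bmap_map_comm π φ rfl
  rw [← Category.assoc, ← h, Category.assoc, eqToHom_trans, eqToHom_refl, Category.comp_id]

theorem isCov_map {η : 𝒳.obj} {ι : Type u} {z : ι → 𝒳.obj} {φ : ∀ i, z i ⟶ η} (h : IsCov z φ) :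
    IsCov (fun i => π.obj (z i)) fun i => π.map (φ i) where
  flat i := by
    haveI := h.flat i
    rw [bmap_map]
    infer_instance
  lfp i := by
    haveI := h.lfp i
    rw [bmap_map]
    infer_instance
  surj t := by
    obtain ⟨i, s, hs⟩ := h.surj (eqToHom (StMod.sch_obj_eq π η) t)
    refine ⟨i, eqToHom (StMod.sch_obj_eq π (z i)).symm s, ?_⟩
    rw [bmap_map, ← Scheme.Hom.comp_apply, eqToHom_trans_assoc, eqToHom_refl, Category.id_comp,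
      Scheme.Hom.comp_apply, hs, ← Scheme.Hom.comp_apply, eqToHom_trans, eqToHom_refl]
    rfl

theorem isDense_of_locSurjObj (hπ : Gerb.LocSurjObj (QuotSh.J Scheme.fppfPrecoverage S) π) :
    IsDense π.obj := fun η => by
  obtain ⟨R, hR, hR'⟩ := hπ η
  obtain ⟨ι, z, φ, hc, hP⟩ := exists_isCov_of_mem_J η hR (P := fun z _ => ∃ x, π.obj x = z)
    fun V f hf => by
      obtain ⟨x, g, hg⟩ := hR' f hf
      exact ⟨π.obj x, g, hg, x, rfl⟩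
  choose k hk using hP
  exact ⟨ι, k, fun i => eqToHom (hk i) ≫ φ i, hc.iso_comp fun i => eqToIso (hk i)⟩

/-- A morphism into an image factors as an isomorphism over the identity followed by the image of a lift. -/
theorem exists_lift_map (hp : FibCat.IsFibGrpd 𝒳.p) (hp' : FibCat.IsFibGrpd 𝒴.p) {η : 𝒴.obj} {x : 𝒳.obj}
    (φ : η ⟶ π.obj x) : ∃ (x' : 𝒳.obj) (φ' : x' ⟶ x) (e : η ≅ π.obj x') (h : 𝒴.p.obj η = 𝒴.p.obj (π.obj x')),
      𝒴.p.map e.hom = eqToHom h ∧ e.hom ≫ π.map φ' = φ := by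
  obtain ⟨x', φ', hφ'⟩ := hp.exists_lift (𝒴.p.map φ ≫ eqToHom (π.w_obj x))
  have hd : 𝒳.p.obj x' = 𝒴.p.obj η := IsHomLift.domain_eq 𝒳.p (𝒴.p.map φ ≫ eqToHom (π.w_obj x)) φ'
  have h : 𝒴.p.obj η = 𝒴.p.obj (π.obj x') := hd.symm.trans (π.w_obj x').symm
  have hfac : 𝒳.p.map φ' = eqToHom hd ≫ 𝒴.p.map φ ≫ eqToHom (π.w_obj x) := by
    haveI := hφ'
    simpa using IsHomLift.fac' 𝒳.p (𝒴.p.map φ ≫ eqToHom (π.w_obj x)) φ'
  have hπ' : 𝒴.p.map (π.map φ') = eqToHom (π.w_obj x') ≫ 𝒳.p.map φ' ≫ eqToHom (π.w_obj x).symm :=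
    IsHomLift.fac' 𝒴.p (𝒳.p.map φ') (π.map φ')
  obtain ⟨χ, ⟨hχ, hχ'⟩, -⟩ := existsUnique_lift hp' (π.map φ') φ (eqToHom h) (by
    rw [hπ', hfac]
    simp)
  haveI : IsIso (StMod.bmap 𝒴 χ) := by
    show IsIso (𝒴.p.map χ).left
    rw [hχ]
    exact inferInstanceAs (IsIso ((Over.forget S).map (eqToHom h)))
  haveI := isIso_of_isIso_bmap hp' χ
  exact ⟨x', φ', asIso χ, h, hχ, hχ'⟩

theorem isStable_obj (hp : FibCat.IsFibGrpd 𝒳.p) (hp' : FibCat.IsFibGrpd 𝒴.p) : IsStable π.obj :=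
  fun η x φ => by
    obtain ⟨x', -, e, -⟩ := exists_lift_map π hp hp' φ
    exact ⟨x', ⟨e.symm⟩⟩

/-- Morphisms between images lift locally. -/
theorem exists_cov_hom (hπ : Gerb.LocSurjHom (QuotSh.J Scheme.fppfPrecoverage S) π)
    (hp : FibCat.IsFibGrpd 𝒳.p) (hp' : FibCat.IsFibGrpd 𝒴.p) {x x' : 𝒳.obj} (b : π.obj x ⟶ π.obj x') :
    ∃ (ι : Type u) (z : ι → 𝒳.obj) (φ : ∀ i, z i ⟶ x), IsCov z φ ∧
      ∀ i, ∃ ψ : z i ⟶ x', π.map (φ i) ≫ b = π.map ψ := by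
  obtain ⟨x'', φ'', e, h, he, he'⟩ := exists_lift_map π hp hp' b
  have hx : 𝒳.p.obj x'' = 𝒳.p.obj x := (π.w_obj x'').symm.trans (h.symm.trans (π.w_obj x))
  have hlift : 𝒴.p.IsHomLift (𝟙 (𝒳.p.obj x)) e.hom :=
    IsHomLift.of_fac' 𝒴.p _ _ (π.w_obj x) ((π.w_obj x'').trans hx) (by rw [he]; simp)
  obtain ⟨R, hR, hR'⟩ := hπ x x'' e.hom hlift
  refine exists_isCov_of_mem_J x hR (P := fun z φ => ∃ ψ : z ⟶ x', π.map φ ≫ b = π.map ψ) fun V f hf => ?_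
  obtain ⟨z, φ, ψ, hφ, -, hcomp⟩ := hR' f hf
  refine ⟨z, φ, hφ, ψ ≫ φ'', ?_⟩
  rw [Functor.map_comp, ← hcomp, Category.assoc, he']

theorem map_eq_of_map_eq {x₀ x : 𝒳.obj} {φ φ' : x₀ ⟶ x} (h : π.map φ = π.map φ') :
    𝒳.p.map φ = 𝒳.p.map φ' := by
  have e := congrArg 𝒴.p.map h
  rw [IsHomLift.fac' 𝒴.p (𝒳.p.map φ) (π.map φ), IsHomLift.fac' 𝒴.p (𝒳.p.map φ') (π.map φ'),
    cancel_epi, cancel_mono] at e
  exact e

/-- Two morphisms with the same image differ by the band. -/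
theorem exists_band {J : GrothendieckTopology (Over S)} {A : (Over S)ᵒᵖ ⥤ GrpCat.{u}} {ι : TwSh.BandHom 𝒳 A}
    (hπ : TwSh.IsBandedGerbe J π ι) (hp : FibCat.IsFibGrpd 𝒳.p) (hp' : FibCat.IsFibGrpd 𝒴.p) {x₀ x : 𝒳.obj}
    {φ φ' : x₀ ⟶ x} (h : π.map φ = π.map φ') :
    ∃ a : A.obj (op (𝒳.p.obj x₀)), (ι.hom x₀ a).hom.1 ≫ φ = φ' := by
  obtain ⟨γ, ⟨hγ, hγ'⟩, -⟩ := existsUnique_lift hp φ φ' (𝟙 _) (by rw [Category.id_comp, map_eq_of_map_eq π h])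
  haveI : IsIso (StMod.bmap 𝒳 γ) := by
    show IsIso (𝒳.p.map γ).left
    rw [hγ]
    exact inferInstanceAs (IsIso ((Over.forget S).map (𝟙 (𝒳.p.obj x₀))))
  haveI := isIso_of_isIso_bmap hp γ
  have hl : 𝒳.p.IsHomLift (𝟙 (𝒳.p.obj x₀)) γ := IsHomLift.of_fac' 𝒳.p _ _ rfl rfl (by rw [hγ]; simp)
  have hl' : 𝒳.p.IsHomLift (𝟙 (𝒳.p.obj x₀)) (inv γ) := IsHomLift.lift_id_inv_isIso 𝒳.p _ γ
  let α : Gerb.AutO x₀ :=
    { hom := ⟨γ, hl⟩
      inv := ⟨inv γ, hl'⟩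
      hom_inv_id := Subtype.ext (IsIso.hom_inv_id γ)
      inv_hom_id := Subtype.ext (IsIso.inv_hom_id γ) }
  have hα : α ∈ (Gerb.autMap π x₀).ker := by
    rw [MonoidHom.mem_ker]
    apply Aut.ext
    apply Functor.Fiber.hom_ext
    show π.map γ = 𝟙 (π.obj x₀)
    refine hom_ext_of_map hp' (π.map φ) ?_ ?_
    · have e : 𝒴.p.map (π.map γ) = eqToHom (π.w_obj x₀) ≫ 𝒳.p.map γ ≫ eqToHom (π.w_obj x₀).symm :=
        IsHomLift.fac' 𝒴.p (𝒳.p.map γ) (π.map γ)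
      rw [e, hγ]
      simp
    · rw [← Functor.map_comp, hγ', Category.id_comp, h]
  rw [← (hπ.2 x₀).2] at hα
  obtain ⟨a, ha⟩ := hα
  exact ⟨a, by rw [ha]; exact hγ'⟩

theorem mapTop_band {A : (Over S)ᵒᵖ ⥤ GrpCat.{u}} {ι : TwSh.BandHom 𝒳 A} {χ : A ⟶ TwSh.GmPsh S} {d : ℤ}
    {F : StMod.Mod 𝒳} (hF : TwSh.IsTwisted F ι χ d) (x : 𝒳.obj) (a : A.obj (op (𝒳.p.obj x)))
    (s : Γ(F.obj x, ⊤)) :
    F.mapTop (ι.hom x a).hom.1 s = ((TwSh.charUnit χ x a ^ d)⁻¹).val • s := by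
  rw [← TwSh.inert_app_top, hF x a ⊤ s]
  refine congrArg (· • s) ?_
  exact (congr($((StMod.sch 𝒳 x).presheaf.map_id (op ⊤)) (((TwSh.charUnit χ x a ^ d)⁻¹).val)) :)

theorem mapTop_eq_of_zero_twisted {A : (Over S)ᵒᵖ ⥤ GrpCat.{u}} {ι : TwSh.BandHom 𝒳 A} {χ : A ⟶ TwSh.GmPsh S}
    {J : GrothendieckTopology (Over S)} (hπ : TwSh.IsBandedGerbe J π ι)
    (hp : FibCat.IsFibGrpd 𝒳.p) (hp' : FibCat.IsFibGrpd 𝒴.p)
    {F : StMod.Mod 𝒳} (hF : TwSh.IsTwisted F ι χ 0) {x₀ x : 𝒳.obj} {φ φ' : x₀ ⟶ x} (h : π.map φ = π.map φ')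
    (s : Γ(F.obj x, ⊤)) : F.mapTop φ s = F.mapTop φ' s := by
  obtain ⟨a, ha⟩ := exists_band π hπ hp hp' h
  rw [← ha, StMod.Mod.mapTop_comp, mapTop_band hF, zpow_zero, inv_one, Units.val_one, one_smul]

section Cast

/-- Global sections of a module read along an equality of schemes. -/
noncomputable def castSec {X T : Scheme.{u}} (h : X = T) (M : X.Modules) :
    Γ(StMod.castMod h M, ⊤) ≃+ Γ(M, ⊤) := by
  subst h
  exact AddEquiv.refl _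

theorem castSec_smul {X T : Scheme.{u}} (h : X = T) (M : X.Modules) (r : Γ(T, ⊤))
    (s : Γ(StMod.castMod h M, ⊤)) : castSec h M (r • s) = (eqToHom h).appTop r • castSec h M s := by
  subst h
  rfl

theorem castSec_castHom {X T : Scheme.{u}} (h : X = T) {M N : X.Modules} (a : M ⟶ N)
    (s : Γ(StMod.castMod h M, ⊤)) :
    castSec h N ((StMod.castHom h a).app ⊤ s) = a.app ⊤ (castSec h M s) := by
  subst h
  rfl

theorem castSec_castMap {X X' T T' : Scheme.{u}} (hX : X = T) (hX' : X' = T') {g₁ : X' ⟶ X} {g : T' ⟶ T}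
    (hg : g₁ ≫ eqToHom hX = eqToHom hX' ≫ g) {M : X.Modules} {N : X'.Modules}
    (m : M ⟶ (Scheme.Modules.pushforward g₁).obj N) (s : Γ(StMod.castMod hX M, ⊤)) :
    castSec hX' N (show Γ(StMod.castMod hX' N, ⊤) from (StMod.castMap hX hX' hg m).app ⊤ s) =
      (show Γ(N, ⊤) from m.app ⊤ (castSec hX M s)) := by
  subst hX hX'
  obtain rfl : g₁ = g := by simpa using hg
  rw [StMod.castMap_rfl_self]
  rfl

/-- The sections of an inverse image are the sections at the image. -/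
noncomputable def cmp (G : StMod.Mod 𝒴) (x : 𝒳.obj) :
    Γ((StMod.Mod.comap π G).obj x, ⊤) ≃+ Γ(G.obj (π.obj x), ⊤) :=
  castSec (StMod.sch_obj_eq π x) (G.obj (π.obj x))

theorem cmp_smul (G : StMod.Mod 𝒴) (x : 𝒳.obj) (r : Γ(StMod.sch 𝒳 x, ⊤))
    (s : Γ((StMod.Mod.comap π G).obj x, ⊤)) :
    cmp π G x (r • s) = (eqToHom (StMod.sch_obj_eq π x)).appTop r • cmp π G x s :=
  castSec_smul _ _ r s

theorem cmp_mapTop (G : StMod.Mod 𝒴) {x' x : 𝒳.obj} (φ : x' ⟶ x)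
    (s : Γ((StMod.Mod.comap π G).obj x, ⊤)) :
    cmp π G x' ((StMod.Mod.comap π G).mapTop φ s) = G.mapTop (π.map φ) (cmp π G x s) :=
  castSec_castMap _ _ (StMod.bmap_map_comm π φ rfl) (G.map (π.map φ) rfl) s

theorem cmp_comapMap {G G' : StMod.Mod 𝒴} (a : G ⟶ G') (x : 𝒳.obj)
    (s : Γ((StMod.Mod.comap π G).obj x, ⊤)) :
    cmp π G' x (((StMod.Mod.comapMap π a).app x).app ⊤ s) = (a.app (π.obj x)).app ⊤ (cmp π G x s) :=
  castSec_castHom _ _ s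

end Cast

end Groth.Agent.StModLib
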