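import Groth.Agent.StModLib.TwPush
import Mathlib.LinearAlgebra.TensorProduct.Pi
import Mathlib.RingTheory.Flat.Equalizer

/-!
# Flat base change of equalizers
-/

set_option autoImplicit false

universe w' w u

open TensorProduct CategoryTheory

namespace Groth.Agent.StModLib

section

variable {A A' : Type u} [CommRing A] [CommRing A'] {M : Type w} [AddCommGroup M] [Module A M]
  {N : Type w} [AddCommGroup N] [Module A' N] {J : Type} [Fintype J] [DecidableEq J]
  {P P' : Type w'} [AddCommGroup P] [Module A P] [AddCommGroup P'] [Module A' P']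
  {Q Q' : J → Type w'} [∀ j, AddCommGroup (Q j)] [∀ j, Module A (Q j)] [∀ j, AddCommGroup (Q' j)]
  [∀ j, Module A' (Q' j)]

/-- The semilinear map as a linear map on the tensor product. -/
theorem exists_tensor_map {σ : A →+* A'} (l : P →+ P') (hl : ∀ (r : A) (x : P), l (r • x) = σ r • l x) :
    letI := σ.toAlgebra
    ∃ L : A' ⊗[A] P →+ P', ∀ (s : A') (x : P), L (s ⊗ₜ x) = s • l x := by
  letI := σ.toAlgebra
  letI : Module A P' := Module.compHom P' σ
  haveI : IsScalarTower A A' P' := IsScalarTower.of_algebraMap_smul fun _ _ => rfl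
  let f : P →ₗ[A] P' := { toFun := l, map_add' := map_add l, map_smul' := hl }
  refine ⟨(TensorProduct.lift (LinearMap.mk₂ A (fun (s : A') x => s • f x) (fun s s' x => add_smul s s' _)
    (fun r s x => smul_assoc r s _) (fun s x x' => by rw [map_add, smul_add])
    (fun r s x => by rw [map_smul, smul_comm]))).toAddMonoidHom, fun s x => rfl⟩

theorem bijective_of_isSemiBC {σ : A →+* A'} {l : P →+ P'} (h : IsSemiBC σ l)
    (L : letI := σ.toAlgebra; A' ⊗[A] P →+ P')
    (hL : letI := σ.toAlgebra; ∀ (s : A') (x : P), L (s ⊗ₜ x) = s • l x) : Function.Bijective L := by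
  obtain ⟨h₁, hb⟩ := h
  letI := σ.toAlgebra
  letI : Module A P' := Module.compHom P' σ
  haveI : IsScalarTower A A' P' := IsScalarTower.of_algebraMap_smul fun _ _ => rfl
  refine ((isBaseChange_iff_bijective _ ({ toFun := L, map_add' := map_add L, map_smul' := fun r t => ?_ } :
    A' ⊗[A] P →ₗ[A] P') hL).1 hb :)
  induction t using TensorProduct.induction_on with
  | zero => simp
  | add a b ha hb => rw [smul_add, map_add, map_add, ha, hb, smul_add]
  | tmul s x =>
    rw [smul_tmul', hL, hL]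
    exact smul_assoc r s _

theorem isSemiBC_of_bijective' {σ : A →+* A'} {l : P →+ P'} (h₁ : ∀ (r : A) (x : P), l (r • x) = σ r • l x)
    (L : letI := σ.toAlgebra; A' ⊗[A] P →+ P')
    (hL : letI := σ.toAlgebra; ∀ (s : A') (x : P), L (s ⊗ₜ x) = s • l x) (hb : Function.Bijective L) :
    IsSemiBC σ l := by
  refine ⟨h₁, ?_⟩
  letI := σ.toAlgebra
  letI : Module A P' := Module.compHom P' σ
  haveI : IsScalarTower A A' P' := IsScalarTower.of_algebraMap_smul fun _ _ => rfl
  refine (isBaseChange_iff_bijective _ ({ toFun := L, map_add' := map_add L, map_smul' := fun r t => ?_ } :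
    A' ⊗[A] P →ₗ[A] P') hL).2 hb
  induction t using TensorProduct.induction_on with
  | zero => simp
  | add a b ha hb => rw [smul_add, map_add, map_add, ha, hb, smul_add]
  | tmul s x =>
    rw [smul_tmul', hL, hL]
    exact smul_assoc r s _

/-- Equalizers commute with flat base change. -/
theorem isSemiBC_of_equalizer {σ : A →+* A'} (hσ : σ.Flat) {l : M →+ N}
    (hl : ∀ (r : A) (m : M), l (r • m) = σ r • l m) (e : M →ₗ[A] P) (he : Function.Injective e)
    (d : ∀ j, P →ₗ[A] Q j) (hde : ∀ x, (∀ j, d j x = 0) ↔ ∃ m, e m = x)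
    (e' : N →ₗ[A'] P') (he' : Function.Injective e') (d' : ∀ j, P' →ₗ[A'] Q' j)
    (hde' : ∀ j n, d' j (e' n) = 0)
    {p : P →+ P'} (hp : IsSemiBC σ p) {q : ∀ j, Q j →+ Q' j} (hq : ∀ j, IsSemiBC σ (q j))
    (hpe : ∀ m, p (e m) = e' (l m)) (hqd : ∀ j x, q j (d j x) = d' j (p x)) :
    IsSemiBC σ l := by
  letI := σ.toAlgebra
  haveI : Module.Flat A A' := hσ
  obtain ⟨L, hL⟩ := exists_tensor_map l hl
  obtain ⟨Lp, hLp⟩ := exists_tensor_map p hp.choose
  choose Lq hLq using fun j => exists_tensor_map (σ := σ) (q j) (hq j).choose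
  have hbp := bijective_of_isSemiBC hp Lp hLp
  have hbq := fun j => bijective_of_isSemiBC (hq j) (Lq j) (hLq j)
  have h1 : ∀ t, Lp (e.lTensor A' t) = e' (L t) := fun t => by
    induction t using TensorProduct.induction_on with
    | zero => simp
    | add a b ha hb => rw [map_add, map_add, map_add, map_add, ha, hb]
    | tmul s m => rw [LinearMap.lTensor_tmul, hLp, hL, hpe, map_smul]
  have h2 : ∀ j t, Lq j ((d j).lTensor A' t) = d' j (Lp t) := fun j t => by
    induction t using TensorProduct.induction_on with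
    | zero => simp
    | add a b ha hb => rw [map_add, map_add, map_add, map_add, ha, hb]
    | tmul s x => rw [LinearMap.lTensor_tmul, hLp, hLq, hqd, map_smul]
  have hinj := Module.Flat.lTensor_preserves_injective_linearMap (M := A') e he
  refine isSemiBC_of_bijective' hl L hL ⟨fun t t' h => hinj (hbp.1 (by rw [h1, h1, h])), fun n => ?_⟩
  obtain ⟨t, ht⟩ := hbp.2 (e' n)
  have hex : Function.Exact e (LinearMap.pi d) := fun x => by
    rw [Set.mem_range, ← hde x]
    exact funext_iff
  obtain ⟨s, hs⟩ := ((Module.Flat.lTensor_exact (M := A') hex) t).1 (by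
    refine (TensorProduct.piRight A A A' Q).injective (funext fun j => ?_)
    rw [map_zero]
    have : (d j).lTensor A' t = 0 := (hbq j).1 (by rw [h2, ht, hde', map_zero])
    refine Eq.trans ?_ this
    clear this ht h1 h2
    induction t using TensorProduct.induction_on with
    | zero => simp
    | add a b ha hb => simp only [map_add, Pi.add_apply, ha, hb]
    | tmul s x => simp)
  exact ⟨s, he' (by rw [← h1, hs, ht])⟩

/-- Surjectivity descends along faithfully flat base change. -/
theorem surjective_of_isSemiBC {σ : A →+* A'} (hσ : σ.FaithfullyFlat) {F G : Type w} [AddCommGroup F] [Module A F]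
    [AddCommGroup G] [Module A G] {F' G' : Type w} [AddCommGroup F'] [Module A' F'] [AddCommGroup G'] [Module A' G']
    {l : F →+ F'} (hlF : IsSemiBC σ l) {k : G →+ G'} (hk : IsSemiBC σ k) (u : F →ₗ[A] G) (u' : F' →ₗ[A'] G')
    (hc : ∀ x, k (u x) = u' (l x)) (hu' : Function.Surjective u') : Function.Surjective u := by
  letI := σ.toAlgebra
  haveI : Module.FaithfullyFlat A A' := hσ
  obtain ⟨L, hL⟩ := exists_tensor_map l hlF.choose
  obtain ⟨K, hK⟩ := exists_tensor_map k hk.choose
  have hbL := bijective_of_isSemiBC hlF L hL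
  have hbK := bijective_of_isSemiBC hk K hK
  have h1 : ∀ t, K (u.lTensor A' t) = u' (L t) := fun t => by
    induction t using TensorProduct.induction_on with
    | zero => simp
    | add a b ha hb => rw [map_add, map_add, map_add, map_add, ha, hb]
    | tmul s m => rw [LinearMap.lTensor_tmul, hL, hK, hc, map_smul]
  refine (Module.FaithfullyFlat.lTensor_surjective_iff_surjective A A' u).1 fun t => ?_
  obtain ⟨y, hy⟩ := hu' (K t)
  obtain ⟨s, hs⟩ := hbL.2 y
  exact ⟨s, hbK.1 (by rw [h1, hs, hy])⟩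

end

section

variable {A A' B B' : Type u} [CommRing A] [CommRing A'] [CommRing B] [CommRing B'] {J : Type} [Fintype J]
  [DecidableEq J] {C C' : J → Type u} [∀ j, CommRing (C j)] [∀ j, CommRing (C' j)]
  {M : Type w} [AddCommGroup M] [Module A M] {N : Type w} [AddCommGroup N] [Module A' N]
  {P P' : Type w'} [AddCommGroup P] [Module B P] [AddCommGroup P'] [Module B' P']
  {Q Q' : J → Type w'} [∀ j, AddCommGroup (Q j)] [∀ j, Module (C j) (Q j)] [∀ j, AddCommGroup (Q' j)]
  [∀ j, Module (C' j) (Q' j)]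

/-- Equalizers of modules over algebras commute with flat base change. -/
theorem isSemiBC_of_diagram {σ : A →+* A'} (hσ : σ.Flat) {l : M →+ N}
    (hl : ∀ (r : A) (m : M), l (r • m) = σ r • l m)
    {ρ : A →+* B} {ρ' : A' →+* B'} {σ₀ : B →+* B'}
    (hpo : IsPushout (CommRingCat.ofHom σ) (CommRingCat.ofHom ρ) (CommRingCat.ofHom ρ') (CommRingCat.ofHom σ₀))
    {κ : ∀ j, A →+* C j} {κ' : ∀ j, A' →+* C' j} {σ₁ : ∀ j, C j →+* C' j}
    (hpo' : ∀ j, IsPushout (CommRingCat.ofHom σ) (CommRingCat.ofHom (κ j)) (CommRingCat.ofHom (κ' j))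
      (CommRingCat.ofHom (σ₁ j)))
    (e : M →+ P) (hel : ∀ (r : A) (m : M), e (r • m) = ρ r • e m) (he : Function.Injective e)
    (d : ∀ j, P →+ Q j) (hdl : ∀ j (r : A) (x : P), d j (ρ r • x) = κ j r • d j x)
    (hde : ∀ x, (∀ j, d j x = 0) ↔ ∃ m, e m = x)
    (e' : N →+ P') (hel' : ∀ (r : A') (m : N), e' (r • m) = ρ' r • e' m) (he' : ∀ n, e' n = 0 → n = 0)
    (d' : ∀ j, P' →+ Q' j) (hdl' : ∀ j (r : A') (x : P'), d' j (ρ' r • x) = κ' j r • d' j x)
    (hde' : ∀ j n, d' j (e' n) = 0)
    {p : P →+ P'} (hp : IsSemiBC σ₀ p) {q : ∀ j, Q j →+ Q' j} (hq : ∀ j, IsSemiBC (σ₁ j) (q j))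
    (hpe : ∀ m, p (e m) = e' (l m)) (hqd : ∀ j x, q j (d j x) = d' j (p x)) :
    IsSemiBC σ l := by
  letI : Module A P := Module.compHom P ρ
  letI : Module A' P' := Module.compHom P' ρ'
  letI : ∀ j, Module A (Q j) := fun j => Module.compHom (Q j) (κ j)
  letI : ∀ j, Module A' (Q' j) := fun j => Module.compHom (Q' j) (κ' j)
  exact isSemiBC_of_equalizer hσ hl { toFun := e, map_add' := map_add e, map_smul' := hel } he
    (fun j => { toFun := d j, map_add' := map_add (d j), map_smul' := hdl j }) hde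
    { toFun := e', map_add' := map_add e', map_smul' := hel' } ((injective_iff_map_eq_zero e').2 he')
    (fun j => { toFun := d' j, map_add' := map_add (d' j), map_smul' := hdl' j }) hde'
    (isSemiBC_of_isPushout (σ := σ) (ρ := ρ) (ρ' := ρ') hpo (fun _ _ => rfl) (fun _ _ => rfl) hp)
    (fun j => isSemiBC_of_isPushout (σ := σ) (ρ := κ j) (ρ' := κ' j) (hpo' j) (fun _ _ => rfl)
      (fun _ _ => rfl) (hq j)) hpe hqd

end

/-- Injectivity is flat local. -/
theorem injective_of_forall_lTensor' {A : Type u} [CommRing A] {J : Type*} {B : J → Type u} [∀ j, CommRing (B j)]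
    [∀ j, Algebra A (B j)] [∀ j, Module.Flat A (B j)] (hcov : ∀ p : PrimeSpectrum A, ∃ (j : J) (q : PrimeSpectrum (B j)),
    PrimeSpectrum.comap (algebraMap A (B j)) q = p) {M : Type w} {M' : Type w'} [AddCommGroup M] [Module A M]
    [AddCommGroup M'] [Module A M'] (f : M →ₗ[A] M') (hf : ∀ j, Function.Injective (f.lTensor (B j))) :
    Function.Injective f := by
  rw [← LinearMap.ker_eq_bot, eq_bot_iff]
  intro m hm
  rw [LinearMap.mem_ker] at hm
  by_contra hne
  let I : Ideal A := LinearMap.ker (LinearMap.toSpanSingleton A M m)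
  have hI : I ≠ ⊤ := fun hI => hne <| by
    have h1 : (1 : A) ∈ I := hI ▸ Submodule.mem_top
    simpa [I] using h1
  obtain ⟨p, hp, hle⟩ := Ideal.exists_le_maximal I hI
  obtain ⟨j, q, hq⟩ := hcov ⟨p, hp.isPrime⟩
  -- `m` dies in `B j ⊗ M`
  have h1 : ((1 : B j) ⊗ₜ[A] m : B j ⊗[A] M) = 0 := hf j (by simp [hm])
  let ι : A ⧸ I →ₗ[A] M := I.liftQ (LinearMap.toSpanSingleton A M m) le_rfl
  have hι : Function.Injective ι := by
    rw [← LinearMap.ker_eq_bot]
    exact Submodule.ker_liftQ_eq_bot' _ _ rfl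
  have h2 : ((1 : B j) ⊗ₜ[A] (Submodule.Quotient.mk (1 : A) : A ⧸ I)) = 0 :=
    Module.Flat.lTensor_preserves_injective_linearMap (M := B j) ι hι (by
      rw [map_zero, LinearMap.lTensor_tmul]
      convert h1 using 2
      exact (Submodule.liftQ_apply _ _ _).trans (LinearMap.toSpanSingleton_apply_one A M m))
  -- hence the extended ideal is everything
  have h3 : (1 : B j) ∈ I • (⊤ : Submodule A (B j)) := by
    have := congrArg (TensorProduct.tensorQuotEquivQuotSMul (B j) I) h2
    rw [map_zero] at this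
    have e := (TensorProduct.tensorQuotEquivQuotSMul_tmul_mk (M := B j) I 1 (1 : A)).symm.trans this
    rw [one_smul] at e
    exact (Submodule.Quotient.mk_eq_zero _).1 e
  have h4 : I • (⊤ : Submodule A (B j)) ≤ (q.asIdeal.restrictScalars A) := by
    refine Submodule.smul_le.2 fun a ha b _ => ?_
    show a • b ∈ q.asIdeal
    rw [Algebra.smul_def]
    refine q.asIdeal.mul_mem_right _ ?_
    have : q.asIdeal.comap (algebraMap A (B j)) = p := congrArg PrimeSpectrum.asIdeal hq
    rw [← Ideal.mem_comap, this]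
    exact hle ha
  exact q.isPrime.ne_top ((Ideal.eq_top_iff_one _).2 (h4 h3))

section

variable {A : Type u} [CommRing A] {J : Type*} {B : J → Type u} [∀ j, CommRing (B j)] {σ : ∀ j, A →+* B j}
  {F : Type w} {G : Type w'} [AddCommGroup F] [Module A F] [AddCommGroup G] [Module A G] {F' : J → Type w} {G' : J → Type w'}
  [∀ j, AddCommGroup (F' j)] [∀ j, Module (B j) (F' j)] [∀ j, AddCommGroup (G' j)] [∀ j, Module (B j) (G' j)]
  (hσ : ∀ j, (σ j).Flat) (hcov : ∀ p : PrimeSpectrum A, ∃ (j : J) (q : PrimeSpectrum (B j)),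
    PrimeSpectrum.comap (σ j) q = p)
  {l : ∀ j, F →+ F' j} (hl : ∀ j, IsSemiBC (σ j) (l j)) {k : ∀ j, G →+ G' j} (hk : ∀ j, IsSemiBC (σ j) (k j))
  (u : F →ₗ[A] G) (u' : ∀ j, F' j →ₗ[B j] G' j) (hc : ∀ j x, k j (u x) = u' j (l j x))

include hσ hcov hl hk hc in
/-- Surjectivity is flat local. -/
theorem surjective_of_forall_semiBC (hu' : ∀ j, Function.Surjective (u' j)) : Function.Surjective u := by
  letI : ∀ j, Algebra A (B j) := fun j => (σ j).toAlgebra
  haveI : ∀ j, Module.Flat A (B j) := fun j => hσ j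
  have hs : ∀ j, Function.Surjective (u.lTensor (B j)) := fun j t => by
    obtain ⟨L, hL⟩ := exists_tensor_map (σ := σ j) (l j) (hl j).choose
    obtain ⟨K, hK⟩ := exists_tensor_map (σ := σ j) (k j) (hk j).choose
    have h1 : ∀ t, K (u.lTensor (B j) t) = u' j (L t) := fun t => by
      induction t using TensorProduct.induction_on with
      | zero => simp
      | add a b ha hb => rw [map_add, map_add, map_add, map_add, ha, hb]
      | tmul s m => rw [LinearMap.lTensor_tmul, hL, hK, hc, map_smul]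
    obtain ⟨y, hy⟩ := hu' j (K t)
    obtain ⟨s, hs⟩ := (bijective_of_isSemiBC (hl j) L hL).2 y
    exact ⟨s, (bijective_of_isSemiBC (hk j) K hK).1 (by rw [h1, hs, hy])⟩
  rw [← LinearMap.range_eq_top, ← Submodule.ker_mkQ (LinearMap.range u), LinearMap.ker_eq_top]
  refine LinearMap.ext fun y => injective_of_forall_lTensor' (B := B) hcov
    (0 : (G ⧸ LinearMap.range u) →ₗ[A] PUnit.{w' + 1}) (fun j a b _ => ?_) rfl
  have hq : Function.Surjective ((LinearMap.range u).mkQ.lTensor (B j)) :=
    LinearMap.lTensor_surjective _ (Submodule.mkQ_surjective _)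
  obtain ⟨a, rfl⟩ := hq a
  obtain ⟨b, rfl⟩ := hq b
  obtain ⟨a, rfl⟩ := hs j a
  obtain ⟨b, rfl⟩ := hs j b
  rw [← LinearMap.lTensor_comp_apply, ← LinearMap.lTensor_comp_apply,
    show (LinearMap.range u).mkQ.comp u = 0 from
      LinearMap.ext fun x => (Submodule.Quotient.mk_eq_zero _).2 ⟨x, rfl⟩]
  simp

include hσ hcov hl hk hc in
/-- Bijectivity is flat local. -/
theorem bijective_of_forall_semiBC (hu' : ∀ j, Function.Bijective (u' j)) : Function.Bijective u := by
  letI : ∀ j, Algebra A (B j) := fun j => (σ j).toAlgebra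
  haveI : ∀ j, Module.Flat A (B j) := fun j => hσ j
  refine ⟨injective_of_forall_lTensor' (B := B) hcov u fun j t t' h => ?_,
    surjective_of_forall_semiBC hσ hcov hl hk u u' hc fun j => (hu' j).2⟩
  obtain ⟨L, hL⟩ := exists_tensor_map (σ := σ j) (l j) (hl j).choose
  obtain ⟨K, hK⟩ := exists_tensor_map (σ := σ j) (k j) (hk j).choose
  have h1 : ∀ t, K (u.lTensor (B j) t) = u' j (L t) := fun t => by
    induction t using TensorProduct.induction_on with
    | zero => simp
    | add a b ha hb => rw [map_add, map_add, map_add, map_add, ha, hb]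
    | tmul s m => rw [LinearMap.lTensor_tmul, hL, hK, hc, map_smul]
  exact (bijective_of_isSemiBC (hl j) L hL).1 ((hu' j).1 (by rw [← h1, ← h1, h]))

end

end Groth.Agent.StModLib
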