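import Groth.Agent.StModLib.SysMod
import Groth.Agent.StModLib.SectBC

/-!
# Presentations of the sections of a pushforward, and their flat base change
-/

set_option autoImplicit false
set_option linter.style.haveILetI false
set_option backward.isDefEq.respectTransparency false
set_option backward.isDefEq.respectTransparency.types false

universe u

open CategoryTheory CategoryTheory.Limits AlgebraicGeometry Opposite TopologicalSpace

noncomputable section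

namespace Groth.Agent.StModLib

variable {S : Scheme.{u}} {𝒳 𝒴 : AlgSt.Cat S}

/-- A finite affine presentation of the category of pairs `(ξ, π ξ ⟶ η)`. -/
structure Pres (π : 𝒳 ⥤ᵇ 𝒴) (η : 𝒴.obj) where
  /-- the object -/
  z : 𝒳.obj
  affz : IsAffine (StMod.sch 𝒳 z)
  /-- its morphism -/
  α : π.obj z ⟶ η
  /-- the number of relations -/
  n : ℕ
  /-- the relations -/
  w : Fin n → 𝒳.obj
  affw : ∀ j, IsAffine (StMod.sch 𝒳 (w j))
  /-- the first projection -/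
  a : ∀ j, w j ⟶ z
  /-- the second projection -/
  b : ∀ j, w j ⟶ z
  eq : ∀ j, π.map (a j) ≫ α = π.map (b j) ≫ α
  cov : ∀ (ξ : 𝒳.obj) (β : π.obj ξ ⟶ η), ∃ (ι : Type u) (y : ι → 𝒳.obj) (φ : ∀ i, y i ⟶ ξ),
    IsCov y φ ∧ ∀ i, ∃ ψ : y i ⟶ z, π.map ψ ≫ α = π.map (φ i) ≫ β
  rel : ∀ (y : 𝒳.obj) (p q : y ⟶ z), π.map p ≫ α = π.map q ≫ α →
    ∃ (ι : Type u) (y' : ι → 𝒳.obj) (φ : ∀ i, y' i ⟶ y), IsCov y' φ ∧
      ∀ i, ∃ (j : Fin n) (c : y' i ⟶ w j), c ≫ a j = φ i ≫ p ∧ c ≫ b j = φ i ≫ q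

variable {π : 𝒳 ⥤ᵇ 𝒴} {η : 𝒴.obj}

/-- Morphisms from images lift through morphisms of the target. -/
theorem exists_alpha_lift (hp' : FibCat.IsFibGrpd 𝒴.p) {η' : 𝒴.obj} (b : η' ⟶ η) {y : 𝒳.obj} (β : π.obj y ⟶ η)
    (g : StMod.sch 𝒳 y ⟶ StMod.sch 𝒴 η') (hg : g ≫ StMod.bmap 𝒴 b = (StMod.baseOver π y β).left) :
    ∃ α' : π.obj y ⟶ η', (StMod.baseOver π y α').left = g ∧ α' ≫ b = β := by
  let e : 𝒴.p.obj (π.obj y) ⟶ 𝒳.p.obj y := eqToHom (π.w_obj y)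
  have hβ : e.left ≫ (StMod.baseOver π y β).left = (𝒴.p.map β).left := by
    rw [← Over.comp_left, show e ≫ StMod.baseOver π y β = 𝒴.p.map β from by simp [e, StMod.baseOver]]
  obtain ⟨α', ⟨h₁, h₂⟩, -⟩ := existsUnique_lift_bmap hp' b β (e.left ≫ g) (by
    rw [Category.assoc, hg]; exact hβ)
  refine ⟨α', ?_, h₂⟩
  have h₁' : (𝒴.p.map α').left = e.left ≫ g := h₁
  rw [show (StMod.baseOver π y α').left = (eqToHom (π.w_obj y).symm).left ≫ (𝒴.p.map α').left from rfl, h₁',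
    ← Category.assoc, ← Over.comp_left]
  simp [e]

/-- Morphisms from images are determined by their base and their composite with a morphism of the target. -/
theorem alpha_lift_ext (hp' : FibCat.IsFibGrpd 𝒴.p) {η' : 𝒴.obj} (b : η' ⟶ η) {y : 𝒳.obj}
    {α α' : π.obj y ⟶ η'} (h : StMod.baseOver π y α = StMod.baseOver π y α') (h' : α ≫ b = α' ≫ b) : α = α' :=
  hom_ext_of_map hp' b ((cancel_epi (eqToHom (π.w_obj y).symm)).1 h) h'

namespace Pres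

variable (c : Pres π η) (F : StMod.Mod 𝒳)

/-- Evaluation at the presentation. -/
def ev : StMod.Mod.RelSect π F η →+ Γ(F.obj c.z, ⊤) where
  toFun s := s.1 c.z c.α
  map_zero' := rfl
  map_add' _ _ := rfl

theorem ev_smul (r : Γ(StMod.sch 𝒴 η, ⊤)) (s : StMod.Mod.RelSect π F η) :
    c.ev F (r • s) = (StMod.baseOver π c.z c.α).left.appTop r • c.ev F s := rfl

theorem ev_map {G : StMod.Mod 𝒳} (u : F ⟶ G) (s : StMod.Mod.RelSect π F η) :
    c.ev G (StMod.Mod.relSectMap π u η s) = (u.app c.z).app ⊤ (c.ev F s) := rfl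

theorem ev_eq (s : StMod.Mod.RelSect π F η) (j : Fin c.n) :
    F.mapTop (c.a j) (c.ev F s) = F.mapTop (c.b j) (c.ev F s) := by
  show F.mapTop (c.a j) (s.1 c.z c.α) = F.mapTop (c.b j) (s.1 c.z c.α)
  rw [s.2, s.2, c.eq]

variable {F}

theorem ev_injective (hp : FibCat.IsFibGrpd 𝒳.p) (hF : StMod.isQCoh 𝒳 F) : Function.Injective (c.ev F) := by
  intro s s' h
  refine StMod.Mod.RelSect.ext π _ _ fun ξ β => ?_
  obtain ⟨ι, y, φ, hφ, hψ⟩ := c.cov ξ β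
  refine (isSheaf_modSys hp hF).1 y φ hφ _ _ fun i => ?_
  obtain ⟨ψ, hψ⟩ := hψ i
  show F.mapTop (φ i) (s.1 ξ β) = F.mapTop (φ i) (s'.1 ξ β)
  rw [s.2, s'.2, ← hψ, ← s.2, ← s'.2]
  exact congrArg (F.mapTop ψ) h

theorem mapTop_eq_of_rel (hp : FibCat.IsFibGrpd 𝒳.p) (hF : StMod.isQCoh 𝒳 F) {x : Γ(F.obj c.z, ⊤)}
    (hx : ∀ j, F.mapTop (c.a j) x = F.mapTop (c.b j) x) {y : 𝒳.obj} (p q : y ⟶ c.z)
    (h : π.map p ≫ c.α = π.map q ≫ c.α) : F.mapTop p x = F.mapTop q x := by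
  obtain ⟨ι, y', φ, hφ, hj⟩ := c.rel y p q h
  refine (isSheaf_modSys hp hF).1 y' φ hφ _ _ fun i => ?_
  obtain ⟨j, d, ha, hb⟩ := hj i
  show F.mapTop (φ i) (F.mapTop p x) = F.mapTop (φ i) (F.mapTop q x)
  rw [← F.mapTop_comp, ← F.mapTop_comp, ← ha, ← hb, F.mapTop_comp, F.mapTop_comp, hx]

theorem existsUnique_value (hp : FibCat.IsFibGrpd 𝒳.p) (hF : StMod.isQCoh 𝒳 F) {x : Γ(F.obj c.z, ⊤)}
    (hx : ∀ j, F.mapTop (c.a j) x = F.mapTop (c.b j) x) (ξ : 𝒳.obj) (β : π.obj ξ ⟶ η) :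
    ∃! t : Γ(F.obj ξ, ⊤), ∀ (y : 𝒳.obj) (φ : y ⟶ ξ) (ψ : y ⟶ c.z), π.map ψ ≫ c.α = π.map φ ≫ β →
      F.mapTop φ t = F.mapTop ψ x := by
  obtain ⟨ι, y, φ, hφ, hψ⟩ := c.cov ξ β
  choose ψ hψ using hψ
  have hS := isSheaf_modSys hp hF
  obtain ⟨t, ht⟩ := hS.2 y φ hφ (fun i => F.mapTop (ψ i) x) fun i j v a b e => by
    show F.mapTop a (F.mapTop (ψ i) x) = F.mapTop b (F.mapTop (ψ j) x)
    rw [← F.mapTop_comp, ← F.mapTop_comp]
    refine c.mapTop_eq_of_rel hp hF hx _ _ ?_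
    rw [Functor.map_comp, Functor.map_comp, Category.assoc, Category.assoc, hψ, hψ, ← Category.assoc,
      ← Category.assoc, ← Functor.map_comp, ← Functor.map_comp, e]
  refine ⟨t, fun v φ₀ ψ₀ h₀ => ?_, fun t' ht' => hS.1 y φ hφ _ _ fun i => ((ht' _ _ _ (hψ i)).trans (ht i).symm)⟩
  obtain ⟨v', α, β', hv', hsq⟩ := hφ.exists_pullback hp φ₀
  refine hS.1 v' α hv' _ _ fun i => ?_
  show F.mapTop (α i) (F.mapTop φ₀ t) = F.mapTop (α i) (F.mapTop ψ₀ x)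
  rw [← F.mapTop_comp, (hsq i).w, F.mapTop_comp, show F.mapTop (φ i) t = _ from ht i, ← F.mapTop_comp,
    ← F.mapTop_comp]
  refine c.mapTop_eq_of_rel hp hF hx _ _ ?_
  rw [Functor.map_comp, Functor.map_comp, Category.assoc, Category.assoc, hψ, h₀, ← Category.assoc,
    ← Category.assoc, ← Functor.map_comp, ← Functor.map_comp, (hsq i).w]

theorem exists_of_eq (hp : FibCat.IsFibGrpd 𝒳.p) (hF : StMod.isQCoh 𝒳 F) {x : Γ(F.obj c.z, ⊤)}
    (hx : ∀ j, F.mapTop (c.a j) x = F.mapTop (c.b j) x) : ∃ s, c.ev F s = x := by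
  have H := c.existsUnique_value hp hF hx
  refine ⟨⟨fun ξ β => (H ξ β).choose, fun ξ' ξ f β => ?_⟩, ?_⟩
  · refine (H ξ' (π.map f ≫ β)).choose_spec.2 _ fun y φ ψ h => ?_
    rw [← F.mapTop_comp]
    exact (H ξ β).choose_spec.1 y (φ ≫ f) ψ (by rw [h, Functor.map_comp, Category.assoc])
  · exact ((H c.z c.α).choose_spec.2 x fun y φ ψ h => c.mapTop_eq_of_rel hp hF hx _ _ h.symm).symm

end Pres

section Res

variable {η' : 𝒴.obj} (b : η' ⟶ η) (F : StMod.Mod 𝒳)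

/-- Restriction of sections of a pushforward. -/
def relRes : StMod.Mod.RelSect π F η →+ StMod.Mod.RelSect π F η' where
  toFun s := ⟨fun ξ β => s.1 ξ (β ≫ b), fun ξ' ξ φ β =>
    (s.2 φ (β ≫ b)).trans (congrArg (s.1 ξ') (Category.assoc _ _ _).symm)⟩
  map_zero' := rfl
  map_add' _ _ := rfl

theorem relRes_val (s : StMod.Mod.RelSect π F η) (ξ : 𝒳.obj) (β : π.obj ξ ⟶ η') :
    (relRes b F s).1 ξ β = s.1 ξ (β ≫ b) := rfl

theorem relRes_smul (r : Γ(StMod.sch 𝒴 η, ⊤)) (s : StMod.Mod.RelSect π F η) :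
    relRes b F (r • s) = (StMod.bmap 𝒴 b).appTop r • relRes b F s := by
  refine StMod.Mod.RelSect.ext π _ _ fun ξ β => ?_
  show (StMod.baseOver π ξ (β ≫ b)).left.appTop r • s.1 ξ (β ≫ b) = _
  rw [StMod.baseOver_comp]
  rfl

theorem relRes_map {G : StMod.Mod 𝒳} (u : F ⟶ G) (s : StMod.Mod.RelSect π F η) :
    relRes b G (StMod.Mod.relSectMap π u η s) = StMod.Mod.relSectMap π u η' (relRes b F s) := rfl

/-- The pullback of an object along a morphism of the target. -/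
theorem exists_bc_obj (hp : FibCat.IsFibGrpd 𝒳.p) (hp' : FibCat.IsFibGrpd 𝒴.p) (y : 𝒳.obj) (β : π.obj y ⟶ η) :
    ∃ (y' : 𝒳.obj) (φ : y' ⟶ y) (β' : π.obj y' ⟶ η'), π.map φ ≫ β = β' ≫ b ∧
      IsPullback (StMod.bmap 𝒳 φ) (StMod.baseOver π y' β').left (StMod.baseOver π y β).left (StMod.bmap 𝒴 b) := by
  let f := StMod.bmap 𝒴 b
  obtain ⟨y', e, φ, hφ⟩ := exists_lift_bmap hp (pullback.fst (StMod.baseOver π y β).left f)
  obtain ⟨β', hβ', hb'⟩ := exists_alpha_lift hp' b (π.map φ ≫ β) (e.hom ≫ pullback.snd _ _) (by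
    rw [Category.assoc, ← pullback.condition, ← Category.assoc, ← hφ]
    exact StMod.bmap_comp_baseOver_left π φ β)
  refine ⟨y', φ, β', hb'.symm, ?_⟩
  rw [hφ, hβ']
  exact IsPullback.of_iso (IsPullback.of_hasPullback (StMod.baseOver π y β).left f) e.symm (Iso.refl _)
    (Iso.refl _) (Iso.refl _) (by simp) (by simp) (by simp) (by simp [f])

/-- Morphisms into a pullback object. -/
theorem exists_bc_hom (hp : FibCat.IsFibGrpd 𝒳.p) (hp' : FibCat.IsFibGrpd 𝒴.p) {z z' : 𝒳.obj} {φ₀ : z' ⟶ z}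
    {α : π.obj z ⟶ η} {α' : π.obj z' ⟶ η'} (hα : π.map φ₀ ≫ α = α' ≫ b)
    (hsq : IsPullback (StMod.bmap 𝒳 φ₀) (StMod.baseOver π z' α').left (StMod.baseOver π z α).left (StMod.bmap 𝒴 b))
    {y : 𝒳.obj} (ψ : y ⟶ z) (β' : π.obj y ⟶ η') (h : π.map ψ ≫ α = β' ≫ b) :
    ∃ χ : y ⟶ z', χ ≫ φ₀ = ψ ∧ π.map χ ≫ α' = β' := by
  have hw : StMod.bmap 𝒳 ψ ≫ (StMod.baseOver π z α).left =
      (StMod.baseOver π y β').left ≫ StMod.bmap 𝒴 b := by
    rw [StMod.bmap_comp_baseOver_left, h, StMod.baseOver_comp]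
    rfl
  obtain ⟨χ, ⟨hχb, hχ⟩, -⟩ := existsUnique_lift_bmap hp φ₀ ψ (hsq.lift _ _ hw) (hsq.lift_fst _ _ hw)
  refine ⟨χ, hχ, alpha_lift_ext hp' b (Over.OverMorphism.ext ?_) ?_⟩
  · rw [← StMod.bmap_comp_baseOver_left, hχb, hsq.lift_snd]
  · rw [Category.assoc, ← hα, ← Category.assoc, ← Functor.map_comp, hχ, h]

/-- Sections over the pullback are detected on the pullback of the presentation. -/
theorem eq_zero_of_pres (hp : FibCat.IsFibGrpd 𝒳.p) (hp' : FibCat.IsFibGrpd 𝒴.p) (c : Pres π η)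
    (hF : StMod.isQCoh 𝒳 F) {z' : 𝒳.obj} {φ₀ : z' ⟶ c.z} {α' : π.obj z' ⟶ η'}
    (hα : π.map φ₀ ≫ c.α = α' ≫ b)
    (hsq : IsPullback (StMod.bmap 𝒳 φ₀) (StMod.baseOver π z' α').left (StMod.baseOver π c.z c.α).left
      (StMod.bmap 𝒴 b))
    (s : StMod.Mod.RelSect π F η') (hs : s.1 z' α' = 0) : s = 0 := by
  refine StMod.Mod.RelSect.ext π _ _ fun ξ β' => ?_
  obtain ⟨ι, y, ψ₁, hψ₁, hψ⟩ := c.cov ξ (β' ≫ b)
  refine (isSheaf_modSys hp hF).1 y ψ₁ hψ₁ _ _ fun i => ?_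
  obtain ⟨ψ, hψ⟩ := hψ i
  obtain ⟨χ, -, e⟩ := exists_bc_hom b hp hp' hα hsq ψ (π.map (ψ₁ i) ≫ β') (by rw [hψ, Category.assoc])
  show F.mapTop (ψ₁ i) (s.1 ξ β') = F.mapTop (ψ₁ i) 0
  rw [F.mapTop_zero, s.2, ← e, ← s.2, hs, F.mapTop_zero]

theorem isPushout_ofHom {R R' T T' : CommRingCat.{u}} {f : R ⟶ R'} {g : R ⟶ T} {h : R' ⟶ T'} {i : T ⟶ T'}
    (H : IsPushout f g h i) :
    IsPushout (CommRingCat.ofHom f.hom) (CommRingCat.ofHom g.hom) (CommRingCat.ofHom h.hom)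
      (CommRingCat.ofHom i.hom) :=
  H

theorem appTop_baseOver {y z : 𝒳.obj} (q : y ⟶ z) {α : π.obj z ⟶ η} {γ : π.obj y ⟶ η}
    (h : π.map q ≫ α = γ) (r : Γ(StMod.sch 𝒴 η, ⊤)) :
    (StMod.bmap 𝒳 q).appTop ((StMod.baseOver π z α).left.appTop r) = (StMod.baseOver π y γ).left.appTop r := by
  show (StMod.bmap 𝒳 q ≫ (StMod.baseOver π z α).left).appTop r = _
  rw [StMod.bmap_comp_baseOver_left, h]
  rfl

/-- The difference of the two restrictions. -/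
def diffMap {y z : 𝒳.obj} (p q : y ⟶ z) : Γ(F.obj z, ⊤) →+ Γ(F.obj y, ⊤) :=
  AddMonoidHom.mk' (fun x => F.mapTop p x - F.mapTop q x) fun x y => by rw [F.mapTop_add, F.mapTop_add]; abel

theorem diffMap_smul {y z : 𝒳.obj} (p q : y ⟶ z) {α : π.obj z ⟶ η} {γ : π.obj y ⟶ η}
    (hp : π.map p ≫ α = γ) (hq : π.map q ≫ α = γ) (r : Γ(StMod.sch 𝒴 η, ⊤)) (x : Γ(F.obj z, ⊤)) :
    diffMap F p q ((StMod.baseOver π z α).left.appTop r • x) =
      (StMod.baseOver π y γ).left.appTop r • diffMap F p q x := by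
  show F.mapTop p _ - F.mapTop q _ = _
  rw [F.mapTop_smul, F.mapTop_smul, appTop_baseOver p hp, appTop_baseOver q hq, ← smul_sub]
  rfl

theorem diffMap_comp {y' y z' z : 𝒳.obj} {p q : y ⟶ z} {p' q' : y' ⟶ z'} {φ : y' ⟶ y} {φ₀ : z' ⟶ z}
    (hp : p' ≫ φ₀ = φ ≫ p) (hq : q' ≫ φ₀ = φ ≫ q) (x : Γ(F.obj z, ⊤)) :
    F.mapTop φ (diffMap F p q x) = diffMap F p' q' (F.mapTop φ₀ x) := by
  show _ = F.mapTop p' (F.mapTop φ₀ x) - F.mapTop q' (F.mapTop φ₀ x)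
  rw [← F.mapTop_comp, ← F.mapTop_comp, hp, hq, F.mapTop_comp, F.mapTop_comp]
  exact map_sub ((F.map φ rfl).app ⊤).hom _ _

/-- The sections of the pushforward of a quasi-coherent module commute with flat affine base change. -/
theorem isSemiBC_relRes (hp : FibCat.IsFibGrpd 𝒳.p) (hp' : FibCat.IsFibGrpd 𝒴.p) (c : Pres π η)
    (hF : StMod.isQCoh 𝒳 F) [IsAffine (StMod.sch 𝒴 η)] [IsAffine (StMod.sch 𝒴 η')]
    [Flat (StMod.bmap 𝒴 b)] :
    IsSemiBC (StMod.bmap 𝒴 b).appTop.hom (relRes (π := π) b F) := by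
  haveI := c.affz
  haveI := fun j => c.affw j
  obtain ⟨z', φ₀, α', hα', hsq₀⟩ := exists_bc_obj b hp hp' c.z c.α
  choose w' φ γ' hγ hsq using fun j => exists_bc_obj b hp hp' (c.w j) (π.map (c.a j) ≫ c.α)
  haveI : IsAffine (𝒴.p.obj η).left := ‹IsAffine (StMod.sch 𝒴 η)›
  haveI : IsAffine (𝒴.p.obj η').left := ‹IsAffine (StMod.sch 𝒴 η')›
  haveI : IsAffine (𝒳.p.obj c.z).left := ‹IsAffine (StMod.sch 𝒳 c.z)›
  haveI : ∀ j, IsAffine (𝒳.p.obj (c.w j)).left := fun j => c.affw j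
  haveI : IsAffine (StMod.sch 𝒳 z') := IsAffine.of_isIso hsq₀.isoPullback.hom
  haveI : ∀ j, IsAffine (StMod.sch 𝒳 (w' j)) := fun j => IsAffine.of_isIso (hsq j).isoPullback.hom
  choose a' ha' hab using fun j => exists_bc_hom b hp hp' hα' hsq₀ (φ j ≫ c.a j) (γ' j)
    (by rw [Functor.map_comp, Category.assoc, hγ])
  choose b' hb' hbb using fun j => exists_bc_hom b hp hp' hα' hsq₀ (φ j ≫ c.b j) (γ' j)
    (by rw [Functor.map_comp, Category.assoc, ← c.eq, hγ])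
  have h₀ := isPushout_appTop_of_isPullback hsq₀.flip
  have h₁ := fun j => isPushout_appTop_of_isPullback (hsq j).flip
  exact isSemiBC_of_diagram (A := Γ(StMod.sch 𝒴 η, ⊤)) (A' := Γ(StMod.sch 𝒴 η', ⊤)) (J := Fin c.n)
    (B := Γ(StMod.sch 𝒳 c.z, ⊤)) (B' := Γ(StMod.sch 𝒳 z', ⊤)) (C := fun j => Γ(StMod.sch 𝒳 (c.w j), ⊤))
    (C' := fun j => Γ(StMod.sch 𝒳 (w' j), ⊤)) (P := Γ(F.obj c.z, ⊤)) (P' := Γ(F.obj z', ⊤))
    (Q := fun j => Γ(F.obj (c.w j), ⊤)) (Q' := fun j => Γ(F.obj (w' j), ⊤))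
    (σ := (StMod.bmap 𝒴 b).appTop.hom) (ρ := (StMod.baseOver π c.z c.α).left.appTop.hom)
    (ρ' := (StMod.baseOver π z' α').left.appTop.hom)
    (κ := fun j => (StMod.baseOver π (c.w j) (π.map (c.a j) ≫ c.α)).left.appTop.hom)
    (κ' := fun j => (StMod.baseOver π (w' j) (γ' j)).left.appTop.hom)
    (σ₀ := (StMod.bmap 𝒳 φ₀).appTop.hom) (σ₁ := fun j => (StMod.bmap 𝒳 (φ j)).appTop.hom)
    (p := ((F.map φ₀ rfl).app ⊤).hom) (q := fun j => ((F.map (φ j) rfl).app ⊤).hom)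
    ((HasRingHomProperty.iff_of_isAffine (P := @Flat)).1 ‹_›)
    (relRes_smul b F) (isPushout_ofHom h₀) (fun j => isPushout_ofHom (h₁ j))
    (c.ev F) (fun r s => rfl) (c.ev_injective hp hF)
    (fun j => diffMap F (c.a j) (c.b j)) (fun j => diffMap_smul F (c.a j) (c.b j) rfl (c.eq j).symm)
    (fun x => ⟨fun h => c.exists_of_eq hp hF fun j => sub_eq_zero.1 (h j), by
      rintro ⟨s, rfl⟩ j; exact sub_eq_zero.2 (c.ev_eq F s j)⟩)
    (AddMonoidHom.mk' (fun s : StMod.Mod.RelSect π F η' => s.1 z' α') fun _ _ => rfl) (fun r s => rfl)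
    (eq_zero_of_pres b F hp hp' c hF hα' hsq₀)
    (fun j => diffMap F (a' j) (b' j)) (fun j => diffMap_smul F (a' j) (b' j) (hab j) (hbb j))
    (fun j s => sub_eq_zero.2 (by
      show F.mapTop (a' j) (s.1 z' α') = F.mapTop (b' j) (s.1 z' α')
      rw [s.2, s.2, hab, hbb]))
    ((Sys.bc_iff φ₀).1 (hasBC_modSys hF φ₀ inferInstance inferInstance))
    (fun j => (Sys.bc_iff (φ j)).1 (hasBC_modSys hF (φ j) inferInstance inferInstance))
    (fun s => by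
      show F.mapTop φ₀ (s.1 c.z c.α) = s.1 z' (α' ≫ b)
      rw [s.2, hα'])
    (fun j x => diffMap_comp F (ha' j) (hb' j) x)

end Res

end Groth.Agent.StModLib
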