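import Groth.Agent.StModLib.FlatHom
import Groth.Agent.StModLib.SectPres

/-!
# Pushforwards and images of quasi-coherent modules on an algebraic stack
-/

set_option autoImplicit false
set_option linter.style.haveILetI false
set_option linter.unusedSectionVars false
set_option backward.isDefEq.respectTransparency false
set_option backward.isDefEq.respectTransparency.types false

universe u

open CategoryTheory CategoryTheory.Limits AlgebraicGeometry

noncomputable section

namespace Groth.Agent.StModLib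

theorem addEquiv_symm_smul {R : Type*} [CommRing R] {A B : Type*} [AddCommGroup A] [AddCommGroup B] [Module R A]
    [Module R B] (ρ : A ≃+ B) (h : ∀ (r : R) (x : A), ρ (r • x) = r • ρ x) (r : R) (y : B) :
    ρ.symm (r • y) = r • ρ.symm y :=
  ρ.injective (by rw [h, ρ.apply_symm_apply, ρ.apply_symm_apply])

/-- Base change transports along linear isomorphisms. -/
theorem isSemiBC_conj {A B : Type u} [CommRing A] [CommRing B] {σ : A →+* B} {M N : Type*} [AddCommGroup M]
    [Module A M] [AddCommGroup N] [Module B N] {M' N' : Type*} [AddCommGroup M'] [Module A M'] [AddCommGroup N']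
    [Module B N'] {l : M →+ N} (h : ∃ L, (letI := σ.toAlgebra
      ∀ (s : B) (x : M), (L : TensorProduct A B M →+ N) (s ⊗ₜ x) = s • l x) ∧ Function.Bijective L)
    (eM : M' ≃ₗ[A] M) (eN : N ≃ₗ[B] N') :
    letI := σ.toAlgebra
    ∃ L' : TensorProduct A B M' →+ N', (∀ (s : B) (x : M'), L' (s ⊗ₜ x) = s • eN (l (eM x))) ∧
      Function.Bijective L' := by
  letI := σ.toAlgebra
  obtain ⟨L, hL, hb⟩ := h
  refine ⟨eN.toAddEquiv.toAddMonoidHom.comp (L.comp (eM.lTensor B).toAddEquiv.toAddMonoidHom), fun s x => ?_,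
    eN.bijective.comp (hb.comp (eM.lTensor B).bijective)⟩
  show eN (L (eM.lTensor B (s ⊗ₜ x))) = _
  rw [LinearEquiv.lTensor_tmul, hL, map_smul]

variable {S : Scheme.{u}} {𝒵 𝒳 : AlgSt.Cat S} {x₀ : 𝒳.obj} (hp : FibCat.IsFibGrpd 𝒳.p)

include hp in
/-- The pushforward of a quasi-coherent module, known by its sections over affine objects flat over the atlas. -/
theorem exists_push (P : PairAtlas x₀) (hd : IsDenseObj x₀) (hz : FibCat.IsFibGrpd 𝒵.p) (π : 𝒵 ⥤ᵇ 𝒳)
    (hpres : ∀ η : 𝒳.obj, IsAffine (StMod.sch 𝒳 η) → Nonempty (Pres π η)) (F : StMod.QCoh 𝒵) :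
    ∃ (G : StMod.QCoh 𝒳) (θ : ∀ p : FMem x₀, Γ(G.obj.obj p.1, ⊤) →+ StMod.Mod.RelSect π F.obj p.1),
      (∀ p, Function.Bijective (θ p)) ∧
      (∀ (p : FMem x₀) (r : Γ(StMod.sch 𝒳 p.1, ⊤)) (x : Γ(G.obj.obj p.1, ⊤)), θ p (r • x) = r • θ p x) ∧
      ∀ {p q : FMem x₀} (f : p.1 ⟶ q.1) (x : Γ(G.obj.obj q.1, ⊤)),
        θ p (G.obj.mapTop f x) = relRes f F.obj (θ q x) := by
  let c : ∀ p : FMem x₀, Pres π p.1 := fun p => (hpres p.1 p.2.1).some
  haveI hs : ∀ p : FMem x₀, Small.{u} (StMod.Mod.RelSect π F.obj p.1) := fun p =>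
    small_of_injective ((c p).ev_injective hz F.property)
  let e : ∀ p : FMem x₀, StMod.Mod.RelSect π F.obj p.1 ≃ Shrink.{u} (StMod.Mod.RelSect π F.obj p.1) :=
    fun p => equivShrink _
  let N : DSys (Subtype.val : FMem x₀ → 𝒳.obj) :=
    { obj := fun p => Shrink.{u} (StMod.Mod.RelSect π F.obj p.1)
      res := fun {p q} f => AddMonoidHom.mk' (fun x => e p (relRes f F.obj ((e q).symm x))) fun x y => by
        simp only [e, equivShrink_symm_add, map_add, equivShrink_add]
      res_smul := fun {p q} f r x => by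
        show e p (relRes f F.obj ((e q).symm (r • x))) = _ • e p _
        simp only [e, equivShrink_symm_smul, relRes_smul, equivShrink_smul]
      res_id := fun p x => by
        show e p (relRes (𝟙 p.1) F.obj ((e p).symm x)) = x
        refine (e p).eq_symm_apply.1 (StMod.Mod.RelSect.ext π _ _ fun ξ β => ?_)
        rw [relRes_val, Category.comp_id]
      res_comp := fun {p q r} f g x => by
        show e p (relRes (f ≫ g) F.obj ((e r).symm x)) = e p (relRes f F.obj ((e q).symm (e q _)))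
        rw [Equiv.symm_apply_apply]
        refine congrArg (e p) (StMod.Mod.RelSect.ext π _ _ fun ξ β => ?_)
        rw [relRes_val, relRes_val, relRes_val, Category.assoc] }
  have hfl : FlatBC N := fun p q f hf => by
    haveI := p.2.1
    haveI := q.2.1
    haveI := hf
    have hbc := isSemiBC_relRes f F.obj hz hp (c q) F.property
    obtain ⟨L, hL⟩ := exists_tensor_map (σ := fn f) (relRes f F.obj) hbc.choose
    obtain ⟨L', hL', hb'⟩ := isSemiBC_conj ⟨L, hL, bijective_of_isSemiBC hbc L hL⟩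
      (Shrink.linearEquiv.{u} Γ(StMod.sch 𝒳 q.1, ⊤) (StMod.Mod.RelSect π F.obj q.1))
      (Shrink.linearEquiv.{u} Γ(StMod.sch 𝒳 p.1, ⊤) (StMod.Mod.RelSect π F.obj p.1)).symm
    exact isSemiBC_of_bijective' (N.res_smul f) L' hL' hb'
  obtain ⟨G, θ, hb, hl, hn⟩ := exists_qcoh_of_flatBC hp P hd N hfl
  refine ⟨G, fun p => (Shrink.addEquiv (α := StMod.Mod.RelSect π F.obj p.1)).toAddMonoidHom.comp (θ p),
    fun p => (Shrink.addEquiv (α := StMod.Mod.RelSect π F.obj p.1)).bijective.comp (hb p), fun p r x => ?_, fun {p q} f x => ?_⟩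
  · exact (congrArg (e p).symm (hl p r x)).trans (equivShrink_symm_smul r (θ p x))
  · exact (congrArg (e p).symm (hn f x)).trans ((e p).symm_apply_apply _)

include hp in
/-- The image of a morphism of quasi-coherent modules. -/
theorem exists_image (P : PairAtlas x₀) (hd : IsDenseObj x₀) {G G' : StMod.QCoh 𝒳} (a : G ⟶ G') :
    ∃ (H : StMod.QCoh 𝒳) (q : G ⟶ H) (ι : H ⟶ G'), StMod.Mod.IsSurj q.hom ∧
      ∀ p : FMem x₀, (∀ x, (ι.hom.app p.1).app ⊤ ((q.hom.app p.1).app ⊤ x) = (a.hom.app p.1).app ⊤ x) ∧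
        Function.Injective ((ι.hom.app p.1).app ⊤) := by
  let l : ∀ p : FMem x₀, Γ(G.obj.obj p.1, ⊤) →ₗ[Γ(StMod.sch 𝒳 p.1, ⊤)] Γ(G'.obj.obj p.1, ⊤) := fun p =>
    { toFun := (a.hom.app p.1).app ⊤
      map_add' := map_add _
      map_smul' := fun r v => Scheme.Modules.Hom.app_smul (a.hom.app p.1) r v }
  have hl : ∀ {p q : FMem x₀} (f : p.1 ⟶ q.1) x, G'.obj.mapTop f (l q x) = l p (G.obj.mapTop f x) :=
    fun f x => StMod.Mod.mapTop_app a.hom f x
  let N : DSys (Subtype.val : FMem x₀ → 𝒳.obj) :=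
    { obj := fun p => LinearMap.range (l p)
      res := fun {p q} f => AddMonoidHom.mk' (fun x => ⟨G'.obj.mapTop f x.1, by
          obtain ⟨y, hy⟩ := x.2
          exact ⟨G.obj.mapTop f y, by rw [← hl, hy]⟩⟩) fun x y => Subtype.ext (G'.obj.mapTop_add f x.1 y.1)
      res_smul := fun f r x => Subtype.ext (G'.obj.mapTop_smul f r x.1)
      res_id := fun p x => Subtype.ext (G'.obj.mapTop_id _ x.1)
      res_comp := fun f g x => Subtype.ext (G'.obj.mapTop_comp f g x.1) }
  have hfl : FlatBC N := fun p q f hf => by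
    refine ⟨N.res_smul f, ?_⟩
    obtain ⟨L, hL⟩ := exists_tensor_map (σ := fn f) _ (isSemiBC_mapTop G f p.2.1 q.2.1).choose
    obtain ⟨L', hL'⟩ := exists_tensor_map (σ := fn f) _ (isSemiBC_mapTop G' f p.2.1 q.2.1).choose
    obtain ⟨K, hK⟩ := exists_tensor_map (σ := fn f) (N.res (t' := p) (t := q) f) (N.res_smul f)
    letI := (fn f).toAlgebra
    haveI : Module.Flat Γ(StMod.sch 𝒳 q.1, ⊤) Γ(StMod.sch 𝒳 p.1, ⊤) := flat_fn f p.2.1 q.2.1 hf
    refine (isSemiBC_of_bijective' (N.res_smul f) K hK ⟨fun s s' h => ?_, fun y => ?_⟩).2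
    · have hι : ∀ t, (K t).1 = L' ((LinearMap.range (l q)).subtype.lTensor _ t) := fun t => by
        induction t using TensorProduct.induction_on with
        | zero => simp
        | add u v hu hv => rw [map_add, map_add, map_add, ← hu, ← hv]; rfl
        | tmul r x =>
          rw [LinearMap.lTensor_tmul, hL', hK]
          rfl
      refine Module.Flat.lTensor_preserves_injective_linearMap _ (LinearMap.range (l q)).injective_subtype ?_
      exact (bijective_of_isSemiBC (isSemiBC_mapTop G' f p.2.1 q.2.1) L' hL').1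
        (((hι s).symm.trans (congrArg Subtype.val h)).trans (hι s'))
    · obtain ⟨y, ⟨z, rfl⟩⟩ := y
      obtain ⟨t, rfl⟩ := (bijective_of_isSemiBC (isSemiBC_mapTop G f p.2.1 q.2.1) L hL).2 z
      refine ⟨(l q).rangeRestrict.lTensor _ t, Subtype.ext ?_⟩
      let V : N.obj p →+ Γ(G'.obj.obj p.1, ⊤) := (LinearMap.range (l p)).subtype.toAddMonoidHom
      show V (K ((l q).rangeRestrict.lTensor _ t)) = l p (L t)
      induction t using TensorProduct.induction_on with
      | zero => simp only [map_zero]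
      | add u v hu hv => simp only [map_add, hu, hv]
      | tmul r x =>
        simp only [LinearMap.lTensor_tmul, hK, hL, map_smul]
        show r • V (N.res (t' := p) (t := q) f _) = _
        exact congrArg (r • ·) (hl f x)
  obtain ⟨H, θ, hb, hlin, hn⟩ := exists_qcoh_of_flatBC hp P hd N hfl
  let j : ∀ p : FMem x₀, Γ(H.obj.obj p.1, ⊤) →+ Γ(G'.obj.obj p.1, ⊤) := fun p =>
    AddMonoidHom.mk' (fun x => (θ p x).1) fun x y => congrArg Subtype.val (map_add (θ p) x y)
  have hj : ∀ p, Function.Injective (j p) := fun p x y h => (hb p).1 (Subtype.ext h)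
  have hjl : ∀ (p : FMem x₀) (r : Γ(StMod.sch 𝒳 p.1, ⊤)) (x : Γ(H.obj.obj p.1, ⊤)),
      j p (r • x) = r • j p x := fun p r x => congrArg Subtype.val (hlin p r x)
  have hjn : ∀ {p q : FMem x₀} (f : p.1 ⟶ q.1) (x : Γ(H.obj.obj q.1, ⊤)),
      j p (H.obj.mapTop f x) = G'.obj.mapTop f (j q x) := fun f x => congrArg Subtype.val (hn f x)
  have hjs : ∀ p y, (∃ x, l p x = y) → ∃ x, j p x = y := fun p y hy => by
    obtain ⟨x, hx⟩ := (hb p).2 ⟨y, hy⟩
    exact ⟨x, congrArg Subtype.val hx⟩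
  choose m hm using fun p x => hjs p (l p x) ⟨x, rfl⟩
  obtain ⟨q, hq⟩ := exists_hom_of_flatMem hp P hd (G := G) (G' := H)
    (m := fun p => AddMonoidHom.mk' (m p) fun x y => hj p (by rw [hm, map_add, map_add, hm, hm]))
    ⟨fun p r x => hj p (by
        show j p (m p (r • x)) = j p (r • m p x)
        rw [hjl, hm, hm, map_smul]),
      fun {p q} f x => hj p (by
        show j p (H.obj.mapTop f (m q x)) = j p (m p (G.obj.mapTop f x))
        rw [hjn, hm, hm, hl])⟩
  obtain ⟨ι, hι⟩ := exists_hom_of_flatMem hp P hd (G := H) (G' := G') (m := j) ⟨hjl, fun f x => (hjn f x).symm⟩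
  refine ⟨H, q, ι, isSurj_of_flatMem hp hd q fun p y => ?_, fun p => ⟨fun x => ?_, fun x y h => ?_⟩⟩
  · obtain ⟨x, hx⟩ := (θ p y).2
    exact ⟨x, (hq p x).trans (hj p ((hm p x).trans hx))⟩
  · exact ((congrArg ((ι.hom.app p.1).app ⊤) (hq p x)).trans (hι p _)).trans (hm p x)
  · exact hj p (((hι p x).symm.trans h).trans (hι p y))

end Groth.Agent.StModLib
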