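import Groth.Agent.StModLib.SysMod
import Groth.Agent.StModLib.SectPres
import Groth.Agent.AlgStLib.OfSp
import Groth.Agent.AlgStLib.LocQ
import Groth.Agent.AlgSpLib.Rep
import Groth.Prelude.Def_StMod2

/-!
# The unit of a pushforward is an isomorphism as soon as it is over affine schemes
-/

set_option autoImplicit false
set_option linter.style.haveILetI false
set_option backward.isDefEq.respectTransparency false
set_option backward.isDefEq.respectTransparency.types false

universe u

open CategoryTheory CategoryTheory.Limits AlgebraicGeometry Opposite TopologicalSpace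

noncomputable section

namespace Groth.Agent.StModLib

variable {S : Scheme.{u}} {M : AlgSp.Sp S} {𝒳 : AlgSt.Cat S} {π : 𝒳 ⥤ᵇ AlgSt.ofSp M}

/-- The restriction of an etale scheme to an open subscheme. -/
def restrictEt (E : AlgSp.EtOver M) (W : E.obj.left.left.Opens) :
    AlgSp.EtOver M :=
  AlgSp.EtOver.mk ((AlgSp.yon S).map (Over.homMk W.ι rfl : Over.mk (W.ι ≫ E.obj.left.hom) ⟶ E.obj.left) ≫ E.obj.hom)
    (AlgSpLib.repWith_comp ((AlgSp.repWith_yon_map_iff @Etale _).2 (inferInstanceAs (Etale W.ι))) E.property)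

/-- The inclusion. -/
def restrictIncl (E : AlgSp.EtOver M) (W : E.obj.left.left.Opens) :
    (restrictEt E W).obj.left ⟶ E.obj.left :=
  Over.homMk W.ι rfl

/-- The morphism of etale objects. -/
def restrictHom (E : AlgSp.EtOver M) (W : E.obj.left.left.Opens) :
    StMod.etaOf (restrictEt E W) ⟶ StMod.etaOf E :=
  ⟨restrictIncl E W, GrothendieckTopology.uliftYonedaEquiv_naturality _ E.obj.hom (restrictIncl E W)⟩

theorem baseOver_restrictHom (E : AlgSp.EtOver M) (W : E.obj.left.left.Opens) {ξ : 𝒳.obj}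
    (α : π.obj ξ ⟶ StMod.etaOf (restrictEt E W)) :
    StMod.baseOver π ξ (α ≫ restrictHom E W) = StMod.baseOver π ξ α ≫ restrictIncl E W := by
  rw [StMod.baseOver_comp]
  rfl

/-- Functions on the open subscheme as functions on the open. -/
def toOpen (E : AlgSp.EtOver M) (W : E.obj.left.left.Opens) :
    Γ((restrictEt E W).obj.left.left, ⊤) →+ Γ(E.obj.left.left, W) :=
  W.topIso.hom.hom.toAddMonoidHom

theorem toOpen_injective (E : AlgSp.EtOver M) (W : E.obj.left.left.Opens) :
    Function.Injective (toOpen E W) :=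
  (ConcreteCategory.bijective_of_isIso W.topIso.hom).1

theorem toOpen_surjective (E : AlgSp.EtOver M) (W : E.obj.left.left.Opens) :
    Function.Surjective (toOpen E W) :=
  (ConcreteCategory.bijective_of_isIso W.topIso.hom).2

theorem toOpen_appTop (E : AlgSp.EtOver M) (W : E.obj.left.left.Opens)
    (r : Γ(E.obj.left.left, ⊤)) :
    toOpen E W ((restrictIncl E W).left.appTop r) = E.obj.left.left.presheaf.map (homOfLE le_top).op r := by
  show W.topIso.hom (W.ι.appTop r) = _
  rw [Scheme.Opens.ι_appTop, Scheme.Opens.topIso_hom, ← ConcreteCategory.comp_apply, ← Functor.map_comp]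
  exact congr($(congrArg E.obj.left.left.presheaf.map (Subsingleton.elim _ _)) r)

/-- A family restricted to an open subscheme. -/
def restrictSect {F : StMod.Mod 𝒳} (E : AlgSp.EtOver M) (W : E.obj.left.left.Opens)
    (v : StMod.Mod.RelSect π F (StMod.etaOf E)) : StMod.Mod.RelSect π F (StMod.etaOf (restrictEt E W)) :=
  ⟨fun ξ α => v.1 ξ (α ≫ restrictHom E W), fun ξ' ξ φ α =>
    (v.2 φ (α ≫ restrictHom E W)).trans (congrArg (v.1 ξ') (Category.assoc _ _ _).symm)⟩

theorem unitSect_restrict (E : AlgSp.EtOver M) (W : E.obj.left.left.Opens)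
    (r : Γ(E.obj.left.left, ⊤)) :
    restrictSect E W (StMod.unitSect π (StMod.etaOf E) r) =
      StMod.unitSect π (StMod.etaOf (restrictEt E W)) ((restrictIncl E W).left.appTop r) := by
  refine StMod.Mod.RelSect.ext π _ _ fun ξ α => ?_
  show (StMod.baseOver π ξ (α ≫ restrictHom E W)).left.appTop r =
    (StMod.baseOver π ξ α).left.appTop ((restrictIncl E W).left.appTop r)
  rw [baseOver_restrictHom]
  rfl

theorem isAffine_restrictEt (E : AlgSp.EtOver M) (W : E.obj.left.left.affineOpens) :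
    IsAffine (restrictEt E W.1).obj.left.left :=
  W.2

theorem unitSect_injective
    (h : ∀ E : AlgSp.EtOver M, IsAffine E.obj.left.left →
      Function.Bijective (StMod.unitSect π (StMod.etaOf E)))
    (E : AlgSp.EtOver M) : Function.Injective (StMod.unitSect π (StMod.etaOf E)) := by
  intro r r' e
  refine E.obj.left.left.sheaf.eq_of_locally_eq' (fun W : E.obj.left.left.affineOpens => W.1) ⊤
    (fun _ => homOfLE le_top) ?_ r r' fun W => ?_
  · rw [iSup_affineOpens_eq_top]
  · refine (toOpen_appTop E W.1 r).symm.trans (Eq.trans ?_ (toOpen_appTop E W.1 r'))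
    refine congrArg (toOpen E W.1) ((h _ (isAffine_restrictEt E W)).1 ?_)
    rw [← unitSect_restrict, ← unitSect_restrict, e]

/-- The inclusion of a smaller open subscheme. -/
def inclHom (E : AlgSp.EtOver M) {W W' : E.obj.left.left.Opens} (hle : W' ≤ W) :
    (restrictEt E W').obj.left ⟶ (restrictEt E W).obj.left :=
  Over.homMk (E.obj.left.left.homOfLE hle) (by
    show E.obj.left.left.homOfLE hle ≫ W.ι ≫ E.obj.left.hom = W'.ι ≫ E.obj.left.hom
    rw [Scheme.homOfLE_ι_assoc])

theorem inclHom_comp (E : AlgSp.EtOver M) {W W' : E.obj.left.left.Opens} (hle : W' ≤ W) :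
    inclHom E hle ≫ restrictIncl E W = restrictIncl E W' :=
  Over.OverMorphism.ext (Scheme.homOfLE_ι _ hle)

/-- The morphism of etale objects. -/
def inclEta (E : AlgSp.EtOver M) {W W' : E.obj.left.left.Opens} (hle : W' ≤ W) :
    StMod.etaOf (restrictEt E W') ⟶ StMod.etaOf (restrictEt E W) :=
  ⟨inclHom E hle, by
    refine (GrothendieckTopology.uliftYonedaEquiv_naturality _ _ (inclHom E hle)).trans (congrArg _ ?_)
    show (AlgSp.yon S).map (inclHom E hle) ≫ (AlgSp.yon S).map (restrictIncl E W) ≫ E.obj.hom =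
      (AlgSp.yon S).map (restrictIncl E W') ≫ E.obj.hom
    rw [← Category.assoc, ← Functor.map_comp, inclHom_comp]⟩

theorem inclEta_comp (E : AlgSp.EtOver M) {W W' : E.obj.left.left.Opens} (hle : W' ≤ W) :
    inclEta E hle ≫ restrictHom E W = restrictHom E W' :=
  Stk.EltObj.hom_ext (inclHom_comp E hle)

theorem baseOver_inclEta (E : AlgSp.EtOver M) {W W' : E.obj.left.left.Opens} (hle : W' ≤ W)
    {ξ : 𝒳.obj} (α : π.obj ξ ⟶ StMod.etaOf (restrictEt E W')) :
    StMod.baseOver π ξ (α ≫ inclEta E hle) = StMod.baseOver π ξ α ≫ inclHom E hle := by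
  rw [StMod.baseOver_comp]
  rfl

theorem unitSect_incl (E : AlgSp.EtOver M) {W W' : E.obj.left.left.Opens} (hle : W' ≤ W)
    (r : Γ((restrictEt E W).obj.left.left, ⊤)) (v : StMod.Mod.RelSect π (StMod.O 𝒳) (StMod.etaOf E))
    (hr : StMod.unitSect π (StMod.etaOf (restrictEt E W)) r = restrictSect E W v) :
    StMod.unitSect π (StMod.etaOf (restrictEt E W')) ((inclHom E hle).left.appTop r) = restrictSect E W' v := by
  refine StMod.Mod.RelSect.ext π _ _ fun ξ α => ?_
  have e1 : (StMod.baseOver π ξ (α ≫ inclEta E hle)).left.appTop r = v.1 ξ ((α ≫ inclEta E hle) ≫ restrictHom E W) :=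
    congrArg (fun s : StMod.Mod.RelSect π (StMod.O 𝒳) _ => s.1 ξ (α ≫ inclEta E hle)) hr
  rw [baseOver_inclEta, Category.assoc, inclEta_comp] at e1
  exact e1

theorem toOpen_inclHom (E : AlgSp.EtOver M) {W W' : E.obj.left.left.Opens} (hle : W' ≤ W)
    (r : Γ((restrictEt E W).obj.left.left, ⊤)) :
    E.obj.left.left.presheaf.map (homOfLE hle).op (toOpen E W r) = toOpen E W' ((inclHom E hle).left.appTop r) := by
  show E.obj.left.left.presheaf.map (homOfLE hle).op (W.topIso.hom r) =
    W'.topIso.hom ((E.obj.left.left.homOfLE hle).appTop r)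
  rw [Scheme.homOfLE_appTop, Scheme.Opens.topIso_hom, Scheme.Opens.topIso_hom, ← ConcreteCategory.comp_apply,
    ← ConcreteCategory.comp_apply, ← Functor.map_comp, ← Functor.map_comp]
  exact congr($(congrArg E.obj.left.left.presheaf.map (Subsingleton.elim _ _)) r)

theorem unitSect_eq_on_le
    (h : ∀ E : AlgSp.EtOver M, IsAffine E.obj.left.left →
      Function.Bijective (StMod.unitSect π (StMod.etaOf E)))
    (E : AlgSp.EtOver M) (v : StMod.Mod.RelSect π (StMod.O 𝒳) (StMod.etaOf E))
    {W W' : E.obj.left.left.affineOpens} (hle : W'.1 ≤ W.1)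
    {r : Γ((restrictEt E W.1).obj.left.left, ⊤)} {r' : Γ((restrictEt E W'.1).obj.left.left, ⊤)}
    (hr : StMod.unitSect π (StMod.etaOf (restrictEt E W.1)) r = restrictSect E W.1 v)
    (hr' : StMod.unitSect π (StMod.etaOf (restrictEt E W'.1)) r' = restrictSect E W'.1 v) :
    E.obj.left.left.presheaf.map (homOfLE hle).op (toOpen E W.1 r) = toOpen E W'.1 r' := by
  rw [(h _ (isAffine_restrictEt E W')).1 (hr'.trans (unitSect_incl E hle r v hr).symm)]
  exact toOpen_inclHom E hle r

theorem unitIsIso_of_affine (hp : FibCat.IsFibGrpd 𝒳.p)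
    (h : ∀ E : AlgSp.EtOver M, IsAffine E.obj.left.left →
      Function.Bijective (StMod.unitSect π (StMod.etaOf E))) :
    StMod.UnitIsIso π := by
  refine fun E => ⟨unitSect_injective h E, fun v => ?_⟩
  let X := E.obj.left.left
  choose r hr using fun W : X.affineOpens => (h _ (isAffine_restrictEt E W)).2 (restrictSect E W.1 v)
  have hcompat : TopCat.Presheaf.IsCompatible X.sheaf.1 (fun W : X.affineOpens => W.1)
      fun W => toOpen E W.1 (r W) := fun W₁ W₂ => by
    refine X.sheaf.eq_of_locally_eq' (fun W : {W : X.affineOpens // W.1 ≤ W₁.1 ⊓ W₂.1} => W.1.1) _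
      (fun W => homOfLE W.2) ?_ _ _ fun W => ?_
    · intro x hx
      obtain ⟨Z, hZ, hxZ, hle⟩ := exists_isAffineOpen_mem_and_subset hx
      exact Opens.mem_iSup.2 ⟨⟨⟨Z, hZ⟩, hle⟩, hxZ⟩
    · refine Eq.trans ?_ ((unitSect_eq_on_le h E v (W := W₁) (W' := W.1) (W.2.trans inf_le_left) (hr W₁)
        (hr W.1)).trans (Eq.trans (unitSect_eq_on_le h E v (W := W₂) (W' := W.1) (W.2.trans inf_le_right) (hr W₂)
        (hr W.1)).symm ?_))
      · show X.presheaf.map _ (X.presheaf.map _ _) = _
        rw [← ConcreteCategory.comp_apply, ← Functor.map_comp]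
        exact congr($(congrArg X.presheaf.map (Subsingleton.elim _ _)) _)
      · show _ = X.presheaf.map _ (X.presheaf.map _ _)
        rw [← ConcreteCategory.comp_apply, ← Functor.map_comp]
        exact congr($(congrArg X.presheaf.map (Subsingleton.elim _ _)) _)
  obtain ⟨s, hs, -⟩ := X.sheaf.existsUnique_gluing' (fun W : X.affineOpens => W.1) ⊤ (fun _ => homOfLE le_top)
    (by rw [iSup_affineOpens_eq_top]) _ hcompat
  refine ⟨s, ?_⟩
  have hW : ∀ W : X.affineOpens, (restrictIncl E W.1).left.appTop s = r W := fun W =>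
    toOpen_injective E W.1 ((toOpen_appTop E W.1 s).trans (hs W))
  refine StMod.Mod.RelSect.ext π _ _ fun ξ α => ?_
  let b := (StMod.baseOver π ξ α).left
  choose z eiso φ heq using fun W : X.affineOpens => exists_lift_bmap hp (b ⁻¹ᵁ W.1).ι
  have hcov : IsCov z φ := by
    refine ⟨fun W => ?_, fun W => ?_, fun t => ?_⟩
    · rw [heq W]; infer_instance
    · rw [heq W]; infer_instance
    · obtain ⟨Z, hZ, htZ, -⟩ := exists_isAffineOpen_mem_and_subset (U := (⊤ : X.Opens)) (trivial : b t ∈ (⊤ : X.Opens))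
      refine ⟨⟨Z, hZ⟩, (eiso ⟨Z, hZ⟩).inv ⟨t, htZ⟩, ?_⟩
      rw [heq, ← Scheme.Hom.comp_apply, Iso.inv_hom_id_assoc]
      rfl
  refine (isSheaf_modSys hp (StMod.OQ (𝒳 := 𝒳)).property).1 z φ hcov _ _ fun W => ?_
  show (StMod.O 𝒳).mapTop (φ W) ((StMod.baseOver π ξ α).left.appTop s) = (StMod.O 𝒳).mapTop (φ W) (v.1 ξ α)
  rw [v.2]
  let g : StMod.sch 𝒳 (z W) ⟶ (restrictEt E W.1).obj.left.left :=
    (eiso W).hom ≫ b.resLE W.1 (b ⁻¹ᵁ W.1) le_rfl
  have hg : g ≫ (restrictIncl E W.1).left = StMod.bmap 𝒳 (φ W) ≫ b := by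
    show ((eiso W).hom ≫ b.resLE W.1 (b ⁻¹ᵁ W.1) le_rfl) ≫ W.1.ι = StMod.bmap 𝒳 (φ W) ≫ b
    rw [Category.assoc, Scheme.Hom.resLE_comp_ι, heq W, Category.assoc]
  obtain ⟨α', hα', hα⟩ := exists_alpha_lift (AlgStLib.isFibGrpd_ofSp M) (restrictHom E W.1)
    (π.map (φ W) ≫ α) g (hg.trans (StMod.bmap_comp_baseOver_left π (φ W) α))
  rw [← hα]
  refine Eq.trans ?_ (congrArg (fun q : StMod.Mod.RelSect π (StMod.O 𝒳) _ => q.1 (z W) α') (hr W))
  show (StMod.bmap 𝒳 (φ W)).appTop ((StMod.baseOver π ξ α).left.appTop s) =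
    (StMod.baseOver π (z W) α').left.appTop (r W)
  rw [← hW, hα']
  exact congr($(congrArg Scheme.Hom.appTop hg.symm) s)

end Groth.Agent.StModLib
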