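import Mathlib.RingTheory.Flat.Equalizer
import Mathlib.LinearAlgebra.TensorProduct.Pi
import Mathlib.RingTheory.Ideal.Maximal
import Mathlib.RingTheory.Spectrum.Prime.Basic
import Mathlib.RingTheory.Flat.FaithfullyFlat.Algebra

/-!
# Descent of modules along a finite jointly surjective family of flat algebras, in simplicial form

The datum: modules `N j` over the `B j`, `P j l`, `Q j l m` over the base with the face maps `r₀, r₁`, `s₀₁, s₀₂`,
degeneracy maps `δ, ρ` and the base change maps `u`, `w`, subject to simplicial identities.  Conclusion: the module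
`glue` of compatible families becomes `N j` after base change to `B j`.
-/

set_option autoImplicit false
set_option linter.unusedSectionVars false

universe w w' u

open TensorProduct

namespace Groth.Agent.StModLib.DescAlg

variable {A : Type u} [CommRing A] {J : Type} [Fintype J] [DecidableEq J]
variable {B : J → Type u} [∀ j, CommRing (B j)] [∀ j, Algebra A (B j)] [∀ j, Module.Flat A (B j)]
variable {N : J → Type w} [∀ j, AddCommGroup (N j)] [∀ j, Module A (N j)] [∀ j, Module (B j) (N j)]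
  [∀ j, IsScalarTower A (B j) (N j)]
variable {P : J → J → Type w} [∀ j l, AddCommGroup (P j l)] [∀ j l, Module A (P j l)]
variable {Q : J → J → J → Type w} [∀ j l m, AddCommGroup (Q j l m)] [∀ j l m, Module A (Q j l m)]
variable (r₀ : ∀ j l, N j →ₗ[A] P j l) (r₁ : ∀ j l, N l →ₗ[A] P j l)

/-- First map out of the product. -/
def F₀ : (∀ j, N j) →ₗ[A] (∀ k : J × J, P k.1 k.2) :=
  LinearMap.pi fun k => (r₀ k.1 k.2).comp (LinearMap.proj k.1)

/-- Second map out of the product. -/
def F₁ : (∀ j, N j) →ₗ[A] (∀ k : J × J, P k.1 k.2) :=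
  LinearMap.pi fun k => (r₁ k.1 k.2).comp (LinearMap.proj k.2)

/-- The glued module: families agreeing on overlaps. -/
abbrev glue : Submodule A (∀ j, N j) := LinearMap.eqLocus (F₀ r₀) (F₁ r₁)

theorem mem_glue_iff (n : ∀ j, N j) : n ∈ glue r₀ r₁ ↔ ∀ j l, r₀ j l (n j) = r₁ j l (n l) :=
  ⟨fun h j l => congrFun h (j, l), fun h => funext fun k => h k.1 k.2⟩

/-- Evaluation at `j`, extended to `B j`. -/
noncomputable def ev (j : J) : B j ⊗[A] glue r₀ r₁ →ₗ[A] N j :=
  TensorProduct.lift
    (LinearMap.mk₂ A (fun b g => b • (g : ∀ j, N j) j)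
      (fun b b' g => add_smul b b' _) (fun a b g => smul_assoc a b _)
      (fun b g g' => by simp only [Submodule.coe_add, Pi.add_apply, smul_add])
      (fun a b g => by
        simp only [SetLike.val_smul, Pi.smul_apply]
        exact smul_comm b a _))

theorem ev_tmul (j : J) (b : B j) (g : glue r₀ r₁) : ev r₀ r₁ j (b ⊗ₜ g) = b • (g : ∀ j, N j) j := rfl

variable (δ : ∀ j, P j j →ₗ[A] N j) (u : ∀ j l, B j ⊗[A] N l →ₗ[A] P j l)
variable (s₀₁ : ∀ j l m, P j l →ₗ[A] Q j l m) (s₀₂ : ∀ j l m, P j m →ₗ[A] Q j l m)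
variable (w : ∀ j l m, B j ⊗[A] P l m →ₗ[A] Q j l m) (ρ : ∀ j l, Q j l j →ₗ[A] P j l)

/-- The simplicial identities of a descent datum. -/
structure IsDatum : Prop where
  u_bij : ∀ j l, Function.Bijective (u j l)
  w_inj : ∀ j l m, Function.Injective (w j l m)
  δ_r₀ : ∀ j (n : N j), δ j (r₀ j j n) = n
  δ_u : ∀ j (b : B j) (n : N j), δ j (u j j (b ⊗ₜ n)) = b • n
  w_r₀ : ∀ j l m (b : B j) (n : N l), w j l m (b ⊗ₜ r₀ l m n) = s₀₁ j l m (u j l (b ⊗ₜ n))
  w_r₁ : ∀ j l m (b : B j) (n : N m), w j l m (b ⊗ₜ r₁ l m n) = s₀₂ j l m (u j m (b ⊗ₜ n))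
  ρ_s₀₁ : ∀ j l (p : P j l), ρ j l (s₀₁ j l j p) = p
  ρ_s₀₂ : ∀ j l (p : P j j), ρ j l (s₀₂ j l j p) = r₀ j l (δ j p)
  s_r₀ : ∀ j l m (n : N j), s₀₁ j l m (r₀ j l n) = s₀₂ j l m (r₀ j m n)

variable {r₀ r₁ δ u s₀₁ s₀₂ w ρ}

theorem bijective_ev (h : IsDatum (A := A) (J := J) (B := B) (N := N) (P := P) (Q := Q) r₀ r₁ δ u s₀₁ s₀₂ w ρ) (j : J) : Function.Bijective (ev (B := B) r₀ r₁ j) := by
  classical
  -- the components of an element of `B j ⊗ ∏ N`
  let T : B j ⊗[A] (∀ l, N l) →ₗ[A] (∀ l, P j l) :=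
    (LinearMap.pi fun l => (u j l).comp (LinearMap.proj l)).comp
      (TensorProduct.piRight A A (B j) N).toLinearMap
  have hT : Function.Bijective T := by
    have h' : Function.Bijective (fun (x : ∀ l, B j ⊗[A] N l) l => u j l (x l)) := by
      refine ⟨fun a b hab => funext fun l => (h.u_bij j l).1 (congrFun hab l), fun p => ?_⟩
      choose x hx using fun l => (h.u_bij j l).2 (p l)
      exact ⟨x, funext hx⟩
    exact h'.comp (TensorProduct.piRight A A (B j) N).bijective
  have hTt : ∀ (b : B j) (n : ∀ l, N l) (l : J), T (b ⊗ₜ n) l = u j l (b ⊗ₜ n l) := fun b n l => rfl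
  let W : B j ⊗[A] (∀ k : J × J, P k.1 k.2) →ₗ[A] (∀ k : J × J, Q j k.1 k.2) :=
    (LinearMap.pi fun k => (w j k.1 k.2).comp (LinearMap.proj k)).comp
      (TensorProduct.piRight A A (B j) fun k : J × J => P k.1 k.2).toLinearMap
  have hW : Function.Injective W := fun a b hab =>
    (TensorProduct.piRight A A (B j) fun k : J × J => P k.1 k.2).injective
      (funext fun k => h.w_inj j k.1 k.2 (congrFun hab k))
  have hW0 : ∀ x (k : J × J), W ((F₀ r₀).lTensor (B j) x) k = s₀₁ j k.1 k.2 (T x k.1) := fun x k => by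
    induction x with
    | zero => simp
    | add a b ha hb => simp only [map_add, Pi.add_apply, ha, hb]
    | tmul b n => exact h.w_r₀ j k.1 k.2 b (n k.1)
  have hW1 : ∀ x (k : J × J), W ((F₁ r₁).lTensor (B j) x) k = s₀₂ j k.1 k.2 (T x k.2) := fun x k => by
    induction x with
    | zero => simp
    | add a b ha hb => simp only [map_add, Pi.add_apply, ha, hb]
    | tmul b n => exact h.w_r₁ j k.1 k.2 b (n k.2)
  let i : B j ⊗[A] glue r₀ r₁ →ₗ[A] B j ⊗[A] (∀ l, N l) := (glue r₀ r₁).subtype.lTensor (B j)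
  have hi : Function.Injective i :=
    Module.Flat.lTensor_preserves_injective_linearMap (M := B j) _ (Submodule.injective_subtype _)
  have hev : ∀ z, ev r₀ r₁ j z = δ j (T (i z) j) := fun z => by
    induction z with
    | zero => simp
    | add a b ha hb => simp only [map_add, Pi.add_apply, ha, hb]
    | tmul b g => exact (h.δ_u j b _).symm
  have hrec : ∀ z l, T (i z) l = r₀ j l (ev r₀ r₁ j z) := fun z l => by
    have e : (F₀ r₀).lTensor (B j) (i z) = (F₁ r₁).lTensor (B j) (i z) := by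
      rw [← LinearMap.lTensor_comp_apply, ← LinearMap.lTensor_comp_apply]
      congr 2
      exact LinearMap.ext fun g => g.2
    have e' := congrFun (congrArg W e) (l, j)
    rw [hW0, hW1] at e'
    have e'' := congrArg (ρ j l) e'
    rw [h.ρ_s₀₁, h.ρ_s₀₂] at e''
    rw [hev]
    exact e''
  refine ⟨fun a b hab => hi (hT.1 (funext fun l => by rw [hrec, hrec, hab])), fun n => ?_⟩
  obtain ⟨x, hx⟩ := hT.2 fun l => r₀ j l n
  have hx' : x ∈ LinearMap.eqLocus ((F₀ r₀).lTensor (B j)) ((F₁ r₁).lTensor (B j)) := by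
    refine hW (funext fun k => ?_)
    rw [hW0, hW1, congrFun hx k.1, congrFun hx k.2]
    exact h.s_r₀ j k.1 k.2 n
  refine ⟨(LinearMap.tensorEqLocusEquiv A (B j) (F₀ r₀) (F₁ r₁)).symm ⟨x, hx'⟩, ?_⟩
  have e : i ((LinearMap.tensorEqLocusEquiv A (B j) (F₀ r₀) (F₁ r₁)).symm ⟨x, hx'⟩) = x :=
    LinearMap.lTensor_eqLocus_subtype_tensoreqLocusEquiv_symm A (B j) (F₀ r₀) (F₁ r₁) ⟨x, hx'⟩
  rw [hev, e, congrFun hx j, h.δ_r₀]

/-- Injectivity after every member of a covering family detects injectivity. -/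
theorem injective_of_forall_lTensor (hcov : ∀ p : PrimeSpectrum A, ∃ (j : J) (q : PrimeSpectrum (B j)),
    PrimeSpectrum.comap (algebraMap A (B j)) q = p) {M : Type w} {M' : Type w'} [AddCommGroup M] [Module A M]
    [AddCommGroup M'] [Module A M'] (f : M →ₗ[A] M') (hf : ∀ j, Function.Injective (f.lTensor (B j))) :
    Function.Injective f := by
  rw [← LinearMap.ker_eq_bot, eq_bot_iff]
  intro m hm
  rw [LinearMap.mem_ker] at hm
  by_contra hne
  let I : Ideal A := LinearMap.ker (LinearMap.toSpanSingleton A M m)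
  have hI : I ≠ ⊤ := fun hI => hne <| by
    have h1 : (1 : A) ∈ I := hI ▸ Submodule.mem_top
    simpa [I] using h1
  obtain ⟨p, hp, hle⟩ := Ideal.exists_le_maximal I hI
  obtain ⟨j, q, hq⟩ := hcov ⟨p, hp.isPrime⟩
  -- `m` dies in `B j ⊗ M`
  have h1 : ((1 : B j) ⊗ₜ[A] m : B j ⊗[A] M) = 0 := hf j (by simp [hm])
  let ι : A ⧸ I →ₗ[A] M := I.liftQ (LinearMap.toSpanSingleton A M m) le_rfl
  have hι : Function.Injective ι := by
    rw [← LinearMap.ker_eq_bot]
    exact Submodule.ker_liftQ_eq_bot' _ _ rfl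
  have h2 : ((1 : B j) ⊗ₜ[A] (Submodule.Quotient.mk (1 : A) : A ⧸ I)) = 0 :=
    Module.Flat.lTensor_preserves_injective_linearMap (M := B j) ι hι (by
      rw [map_zero, LinearMap.lTensor_tmul]
      convert h1 using 2
      exact (Submodule.liftQ_apply _ _ _).trans (LinearMap.toSpanSingleton_apply_one A M m))
  -- hence the extended ideal is everything
  have h3 : (1 : B j) ∈ I • (⊤ : Submodule A (B j)) := by
    have := congrArg (TensorProduct.tensorQuotEquivQuotSMul (B j) I) h2
    rw [map_zero] at this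
    have e := (TensorProduct.tensorQuotEquivQuotSMul_tmul_mk (M := B j) I 1 (1 : A)).symm.trans this
    rw [one_smul] at e
    exact (Submodule.Quotient.mk_eq_zero _).1 e
  have h4 : I • (⊤ : Submodule A (B j)) ≤ (q.asIdeal.restrictScalars A) := by
    refine Submodule.smul_le.2 fun a ha b _ => ?_
    show a • b ∈ q.asIdeal
    rw [Algebra.smul_def]
    refine q.asIdeal.mul_mem_right _ ?_
    have : q.asIdeal.comap (algebraMap A (B j)) = p := congrArg PrimeSpectrum.asIdeal hq
    rw [← Ideal.mem_comap, this]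
    exact hle ha
  exact q.isPrime.ne_top ((Ideal.eq_top_iff_one _).2 (h4 h3))

theorem bijective_of_forall_lTensor (hcov : ∀ p : PrimeSpectrum A, ∃ (j : J) (q : PrimeSpectrum (B j)),
    PrimeSpectrum.comap (algebraMap A (B j)) q = p) {M : Type w} {M' : Type w'} [AddCommGroup M] [Module A M]
    [AddCommGroup M'] [Module A M'] (f : M →ₗ[A] M') (hf : ∀ j, Function.Bijective (f.lTensor (B j))) :
    Function.Bijective f := by
  refine ⟨injective_of_forall_lTensor hcov f fun j => (hf j).1, ?_⟩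
  rw [← LinearMap.range_eq_top, ← Submodule.ker_mkQ (LinearMap.range f), LinearMap.ker_eq_top]
  refine LinearMap.ext fun y => injective_of_forall_lTensor hcov (0 : (M' ⧸ LinearMap.range f) →ₗ[A] PUnit.{w' + 1})
    (fun j a b _ => ?_) rfl
  have hs : Function.Surjective ((LinearMap.range f).mkQ.lTensor (B j)) :=
    LinearMap.lTensor_surjective _ (Submodule.mkQ_surjective _)
  obtain ⟨a, rfl⟩ := hs a
  obtain ⟨b, rfl⟩ := hs b
  obtain ⟨a, rfl⟩ := (hf j).2 a
  obtain ⟨b, rfl⟩ := (hf j).2 b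
  rw [← LinearMap.lTensor_comp_apply, ← LinearMap.lTensor_comp_apply,
    show (LinearMap.range f).mkQ.comp f = 0 from
      LinearMap.ext fun x => (Submodule.Quotient.mk_eq_zero _).2 ⟨x, rfl⟩]
  simp

/-- A module whose base changes give the datum is the glued module. -/
theorem bijective_of_datum (h : IsDatum (A := A) (J := J) (B := B) (N := N) (P := P) (Q := Q) r₀ r₁ δ u s₀₁ s₀₂ w ρ)
    (hcov : ∀ p : PrimeSpectrum A, ∃ (j : J) (q : PrimeSpectrum (B j)),
      PrimeSpectrum.comap (algebraMap A (B j)) q = p)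
    {M : Type w} [AddCommGroup M] [Module A M] (c : M →ₗ[A] glue r₀ r₁)
    (hc : ∀ j, Function.Bijective fun z : B j ⊗[A] M => ev (B := B) r₀ r₁ j (c.lTensor (B j) z)) :
    Function.Bijective c :=
  bijective_of_forall_lTensor hcov c fun j =>
    (Function.Bijective.of_comp_iff' (bijective_ev h j) _).1 (hc j)

end Groth.Agent.StModLib.DescAlg
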