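import Mathlib.RingTheory.IsTensorProduct
import Mathlib.RingTheory.RingHom.Flat
import Groth.Agent.StModLib.DescAlg

/-!
# Base change for semilinear maps, without algebra instances
-/

set_option autoImplicit false

universe w u

open TensorProduct

namespace Groth.Agent.StModLib

section

variable {A B : Type u} [CommRing A] [CommRing B] {M N : Type w} [AddCommGroup M] [Module A M]
  [AddCommGroup N] [Module B N]

/-- The semilinear map `l` exhibits `N` as the base change of `M` along `σ`. -/
def IsSemiBC (σ : A →+* B) (l : M →+ N) : Prop :=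
  ∃ h : ∀ (r : A) (m : M), l (r • m) = σ r • l m,
    letI := σ.toAlgebra
    letI : Module A N := Module.compHom N σ
    haveI : IsScalarTower A B N := IsScalarTower.of_algebraMap_smul fun _ _ => rfl
    IsBaseChange B ({ toFun := l, map_add' := map_add l, map_smul' := h } : M →ₗ[A] N)

end

theorem isBaseChange_iff_bijective {R S : Type*} [CommRing R] [CommRing S] [Algebra R S] {M N : Type*}
    [AddCommGroup M] [Module R M] [AddCommGroup N] [Module R N] [Module S N] [IsScalarTower R S N]
    (f : M →ₗ[R] N) (L : S ⊗[R] M →ₗ[R] N) (hL : ∀ s m, L (s ⊗ₜ m) = s • f m) :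
    IsBaseChange S f ↔ Function.Bijective L := by
  have e : (L : S ⊗[R] M → N) =
      ⇑(TensorProduct.lift (((Algebra.linearMap S <| Module.End S (M →ₗ[R] N)).flip f).restrictScalars R)) :=
    funext fun t => by
      induction t using TensorProduct.induction_on with
      | zero => rw [map_zero, map_zero]
      | add a b ha hb => rw [map_add, map_add, ha, hb]
      | tmul s m =>
        rw [hL, TensorProduct.lift.tmul, LinearMap.restrictScalars_apply, LinearMap.flip_apply,
          Algebra.linearMap_apply, Module.algebraMap_end_apply, LinearMap.smul_apply]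
  exact Iff.of_eq (congrArg Function.Bijective e.symm)

variable {A B C : Type u} [CommRing A] [CommRing B] [CommRing C] {M N O : Type w} [AddCommGroup M] [Module A M]
  [AddCommGroup N] [Module B N] [AddCommGroup O] [Module C O]

theorem IsSemiBC.comp {σ : A →+* B} {τ : B →+* C} {l : M →+ N} {k : N →+ O} (hl : IsSemiBC σ l)
    (hk : IsSemiBC τ k) : IsSemiBC (τ.comp σ) (k.comp l) := by
  obtain ⟨h₁, b₁⟩ := hl
  obtain ⟨h₂, b₂⟩ := hk
  letI := σ.toAlgebra
  letI := τ.toAlgebra
  letI := (τ.comp σ).toAlgebra
  letI : Module A N := Module.compHom N σ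
  letI : Module B O := Module.compHom O τ
  letI : Module A O := Module.compHom O (τ.comp σ)
  haveI : IsScalarTower A B N := IsScalarTower.of_algebraMap_smul fun _ _ => rfl
  haveI : IsScalarTower B C O := IsScalarTower.of_algebraMap_smul fun _ _ => rfl
  haveI : IsScalarTower A C O := IsScalarTower.of_algebraMap_smul fun _ _ => rfl
  haveI : IsScalarTower A B O := IsScalarTower.of_algebraMap_smul fun _ _ => rfl
  haveI : IsScalarTower A B C := IsScalarTower.of_algebraMap_eq fun _ => rfl
  refine ⟨fun r m => by
    show k (l (r • m)) = τ (σ r) • k (l m)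
    rw [h₁, h₂], ?_⟩
  let f : M →ₗ[A] N := { toFun := l, map_add' := map_add l, map_smul' := h₁ }
  let g : N →ₗ[B] O := { toFun := k, map_add' := map_add k, map_smul' := h₂ }
  have := IsBaseChange.comp (R := A) (S := B) (T := C) (f := f) b₁ (g := g) b₂
  exact this

/-- Base change descends: if, after flat jointly surjective `τ j`, both `N` and the composite are base changes, so is `l`. -/
theorem IsSemiBC.of_cover {J : Type} [Fintype J] [DecidableEq J] {σ : A →+* B} {l : M →+ N}
    (hl : ∀ (r : A) (m : M), l (r • m) = σ r • l m)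
    {C' : J → Type u} [∀ j, CommRing (C' j)] {O' : J → Type w} [∀ j, AddCommGroup (O' j)]
    [∀ j, Module (C' j) (O' j)] (τ : ∀ j, B →+* C' j) (k : ∀ j, N →+ O' j) (hflat : ∀ j, (τ j).Flat)
    (hcov : ∀ p : PrimeSpectrum B, ∃ (j : J) (q : PrimeSpectrum (C' j)), PrimeSpectrum.comap (τ j) q = p)
    (hk : ∀ j, IsSemiBC (τ j) (k j)) (hc : ∀ j, IsSemiBC ((τ j).comp σ) ((k j).comp l)) : IsSemiBC σ l := by
  refine ⟨hl, ?_⟩
  letI := σ.toAlgebra
  letI : Module A N := Module.compHom N σ
  haveI : IsScalarTower A B N := IsScalarTower.of_algebraMap_smul fun _ _ => rfl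
  let f : M →ₗ[A] N := { toFun := l, map_add' := map_add l, map_smul' := hl }
  let c : B ⊗[A] M →ₗ[B] N := (TensorProduct.isBaseChange A M B).lift f
  have hct : ∀ (b : B) (m : M), c (b ⊗ₜ m) = b • l m := fun b m => by
    have e : (b ⊗ₜ[A] m : B ⊗[A] M) = b • (TensorProduct.mk A B M 1 m) := by simp [TensorProduct.smul_tmul']
    rw [e, map_smul]
    exact congrArg (b • ·) (IsBaseChange.lift_eq (TensorProduct.isBaseChange A M B) f m)
  refine (isBaseChange_iff_bijective f (c.restrictScalars A) hct).2 ?_
  letI : ∀ j, Algebra B (C' j) := fun j => (τ j).toAlgebra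
  haveI : ∀ j, Module.Flat B (C' j) := fun j => hflat j
  refine DescAlg.bijective_of_forall_lTensor (A := B) (B := C') hcov c fun j => ?_
  letI := ((τ j).comp σ).toAlgebra
  letI : Module B (O' j) := Module.compHom (O' j) (τ j)
  letI : Module A (O' j) := Module.compHom (O' j) ((τ j).comp σ)
  haveI : IsScalarTower B (C' j) (O' j) := IsScalarTower.of_algebraMap_smul fun _ _ => rfl
  haveI : IsScalarTower A (C' j) (O' j) := IsScalarTower.of_algebraMap_smul fun _ _ => rfl
  haveI : IsScalarTower A B (O' j) := IsScalarTower.of_algebraMap_smul fun _ _ => rfl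
  haveI : IsScalarTower A B (C' j) := IsScalarTower.of_algebraMap_eq fun _ => rfl
  obtain ⟨h₁, b₁⟩ := hk j
  obtain ⟨h₂, b₂⟩ := hc j
  let g : N →ₗ[B] O' j := { toFun := k j, map_add' := map_add (k j), map_smul' := h₁ }
  have b₃ : IsBaseChange (C' j) (g.comp c) := by
    refine IsBaseChange.of_comp (R := A) (S := B) (TensorProduct.isBaseChange A M B) ?_
    have e : ((g.comp c).restrictScalars A).comp (TensorProduct.mk A B M 1) =
        ({ toFun := (k j).comp l, map_add' := map_add _, map_smul' := h₂ } : M →ₗ[A] O' j) :=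
      LinearMap.ext fun m => by
        show k j (c (1 ⊗ₜ m)) = k j (l m)
        rw [hct, one_smul]
    rw [e]
    exact b₂
  have hcomp : ∀ t, b₁.equiv (c.lTensor (C' j) t) = b₃.equiv t := fun t => by
    induction t using TensorProduct.induction_on with
    | zero => simp
    | add a b ha hb => simp only [map_add, ha, hb]
    | tmul s m => rw [LinearMap.lTensor_tmul, IsBaseChange.equiv_tmul, IsBaseChange.equiv_tmul]; rfl
  have : Function.Bijective (b₁.equiv ∘ c.lTensor (C' j)) := by
    rw [show (b₁.equiv : _ → O' j) ∘ c.lTensor (C' j) = b₃.equiv from funext hcomp]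
    exact b₃.equiv.bijective
  exact (Function.Bijective.of_comp_iff' b₁.equiv.bijective _).1 this

end Groth.Agent.StModLib
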