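import Groth.Agent.StModLib.Sys
import Groth.Agent.StModLib.SemiBC
import Mathlib.AlgebraicGeometry.Morphisms.UniversallyOpen

/-!
# Coverings, sheaves and base change for systems of sections
-/

set_option autoImplicit false
set_option linter.style.haveILetI false
set_option linter.unusedSectionVars false
set_option backward.isDefEq.respectTransparency false
set_option backward.isDefEq.respectTransparency.types false

universe w u

open CategoryTheory CategoryTheory.Limits AlgebraicGeometry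
open scoped TensorProduct

namespace Groth.Agent.StModLib

variable {S : Scheme.{u}} {𝒴 : AlgSt.Cat S}

theorem surj_of_isPullback {X Y Z P : Scheme.{u}} {a : P ⟶ X} {b : P ⟶ Y} {f : X ⟶ Z} {g : Y ⟶ Z}
    (h : IsPullback a b f g) {x : X} (hx : f x ∈ Set.range g) : x ∈ Set.range a := by
  obtain ⟨y, hy⟩ := hx
  obtain ⟨w, hw, -⟩ := Scheme.exists_preimage_of_isPullback h x y hy.symm
  exact ⟨w, hw⟩

/-- Coverings pull back. -/
theorem IsCov.exists_pullback (hp : FibCat.IsFibGrpd 𝒴.p) {η η' : 𝒴.obj} {ι : Type u} {z : ι → 𝒴.obj}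
    {φ : ∀ i, z i ⟶ η} (h : IsCov z φ) (ψ : η' ⟶ η) :
    ∃ (z' : ι → 𝒴.obj) (φ' : ∀ i, z' i ⟶ η') (χ : ∀ i, z' i ⟶ z i),
      IsCov z' φ' ∧ ∀ i, IsPullback (φ' i) (χ i) ψ (φ i) := by
  choose P a b hP hP' using fun i => exists_isPullback hp ψ (φ i)
  have hb : ∀ i, IsPullback (StMod.bmap 𝒴 (a i)) (StMod.bmap 𝒴 (b i)) (StMod.bmap 𝒴 ψ) (StMod.bmap 𝒴 (φ i)) :=
    fun i => isPullback_bmap hp (hP i)
  refine ⟨P, a, b, ⟨fun i => MorphismProperty.of_isPullback (hb i).flip (h.flat i),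
    fun i => MorphismProperty.of_isPullback (hb i).flip (h.lfp i), fun t => ?_⟩, hP⟩
  obtain ⟨i, hi⟩ := h.surj (StMod.bmap 𝒴 ψ t)
  exact ⟨i, surj_of_isPullback (hb i) hi⟩

/-- An affine open covering by objects. -/
theorem exists_affine_cover (hp : FibCat.IsFibGrpd 𝒴.p) (η : 𝒴.obj) :
    ∃ (ι : Type u) (z : ι → 𝒴.obj) (φ : ∀ i, z i ⟶ η), IsCov z φ ∧
      (∀ i, IsAffine (StMod.sch 𝒴 (z i))) ∧ ∀ i, IsOpenImmersion (StMod.bmap 𝒴 (φ i)) := by
  let 𝒰 := (StMod.sch 𝒴 η).affineCover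
  choose z e φ hφ using fun i => exists_lift_bmap hp (𝒰.f i)
  have ho : ∀ i, IsOpenImmersion (StMod.bmap 𝒴 (φ i)) := fun i => by
    rw [hφ i]
    infer_instance
  refine ⟨𝒰.I₀, z, φ, ⟨fun i => ?_, fun i => ?_, fun t => ?_⟩, fun i => IsAffine.of_isIso (e i).hom, ho⟩
  · haveI := ho i
    infer_instance
  · haveI := ho i
    infer_instance
  · obtain ⟨y, hy⟩ := 𝒰.covers t
    refine ⟨𝒰.idx t, (e _).inv y, ?_⟩
    rw [hφ, ← Scheme.Hom.comp_apply, ← Category.assoc, Iso.inv_hom_id, Category.id_comp]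
    exact hy

namespace Sys

variable {η : 𝒴.obj}

/-- An affine finite family as a covering. -/
theorem AffFam.isCov (c : AffFam η) (hlfp : ∀ j, LocallyOfFinitePresentation (StMod.bmap 𝒴 (c.z j).hom)) :
    IsCov (fun j : ULift.{u} c.J => (c.z j.down).left) (fun j => (c.z j.down).hom) :=
  ⟨fun j => c.flat j.down, fun j => hlfp j.down, fun t => by
    obtain ⟨j, hj⟩ := c.surj t
    exact ⟨⟨j⟩, hj⟩⟩

/-- Over an affine object every covering has a finite affine refinement. -/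
theorem exists_affFam (hp : FibCat.IsFibGrpd 𝒴.p) [IsAffine (StMod.sch 𝒴 η)] {ι : Type u} {z : ι → 𝒴.obj}
    {φ : ∀ i, z i ⟶ η} (h : IsCov z φ) :
    ∃ (c : AffFam η) (k : c.J → ι) (χ : ∀ j, (c.z j).left ⟶ z (k j)),
      (∀ j, χ j ≫ φ (k j) = (c.z j).hom) ∧ ∀ j, LocallyOfFinitePresentation (StMod.bmap 𝒴 (c.z j).hom) := by
  classical
  let T := StMod.sch 𝒴 η
  choose i s hs using h.surj
  choose W hW hsW _ using fun t : T =>
    exists_isAffineOpen_mem_and_subset (x := s t) (U := (⊤ : (StMod.sch 𝒴 (z (i t))).Opens)) trivial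
  let f : ∀ t : T, (W t : Scheme.{u}) ⟶ T := fun t => (W t).ι ≫ StMod.bmap 𝒴 (φ (i t))
  have hfl : ∀ t, Flat (f t) := fun t => by
    haveI := h.flat (i t)
    infer_instance
  have hfp : ∀ t, LocallyOfFinitePresentation (f t) := fun t => by
    haveI := h.lfp (i t)
    infer_instance
  have hopen : ∀ t, IsOpen (Set.range (f t)) := fun t => by
    haveI := hfl t
    haveI := hfp t
    exact (f t).isOpenMap.isOpen_range
  obtain ⟨F, hF⟩ := isCompact_univ.elim_finite_subcover (fun t : T => Set.range (f t)) hopen fun t _ => by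
    refine Set.mem_iUnion.2 ⟨t, ⟨s t, hsW t⟩, ?_⟩
    exact hs t
  let pt : Fin (Fintype.card F) → T := fun j => ((Fintype.equivFin F).symm j).1
  choose y e χ hχ using fun j => exists_lift_bmap hp (W (pt j)).ι
  have hb : ∀ j, StMod.bmap 𝒴 (χ j ≫ φ (i (pt j))) = (e j).hom ≫ f (pt j) := fun j => by
    rw [StMod.bmap_comp, hχ, Category.assoc]
  let c : AffFam η :=
    { J := Fin (Fintype.card F)
      z := fun j => Over.mk (χ j ≫ φ (i (pt j)))
      aff := fun j => by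
        haveI : IsAffine (W (pt j) : Scheme.{u}) := hW (pt j)
        exact IsAffine.of_isIso (e j).hom
      flat := fun j => by
        show Flat (StMod.bmap 𝒴 (χ j ≫ φ (i (pt j))))
        rw [hb]
        haveI := hfl (pt j)
        infer_instance
      surj := fun t => by
        obtain ⟨a, ha, w, hw⟩ := Set.mem_iUnion₂.1 (hF (Set.mem_univ t))
        let j := Fintype.equivFin F ⟨a, ha⟩
        have hj : pt j = a := congrArg Subtype.val ((Fintype.equivFin F).symm_apply_apply ⟨a, ha⟩)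
        obtain ⟨w', hw'⟩ : t ∈ Set.range (f (pt j)) := by rw [hj]; exact ⟨w, hw⟩
        refine ⟨j, (e j).inv w', ?_⟩
        show StMod.bmap 𝒴 (χ j ≫ φ (i (pt j))) _ = t
        rw [hb, Scheme.Hom.comp_apply, ← Scheme.Hom.comp_apply (e j).inv, Iso.inv_hom_id]
        exact hw' }
  refine ⟨c, fun j => i (pt j), χ, fun j => rfl, fun j => ?_⟩
  show LocallyOfFinitePresentation (StMod.bmap 𝒴 (χ j ≫ φ (i (pt j))))
  rw [hb]
  haveI := hfp (pt j)
  infer_instance

variable (N : Sys.{w} 𝒴)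

/-- Separatedness and gluing along open coverings. -/
def IsZarSheaf : Prop := ∀ ⦃η : 𝒴.obj⦄ ⦃ι : Type u⦄ (z : ι → 𝒴.obj) (φ : ∀ i, z i ⟶ η), IsCov z φ →
  (∀ i, IsOpenImmersion (StMod.bmap 𝒴 (φ i))) →
  (∀ s s' : N.obj η, (∀ i, N.res (φ i) s = N.res (φ i) s') → s = s') ∧
  ∀ t : ∀ i, N.obj (z i), N.Agree φ t → ∃ s : N.obj η, ∀ i, N.res (φ i) s = t i

variable {N}

theorem bc_iff {y z : 𝒴.obj} (f : y ⟶ z) : N.BC f ↔ IsSemiBC (StMod.bmap 𝒴 f).appTop.hom (N.res f) := by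
  let Y : Over z := Over.mk f
  let Z : Over z := Over.mk (𝟙 z)
  let m : Y ⟶ Z := Over.homMk f (Category.comp_id f)
  have hid : ∀ (r : Γ(StMod.sch 𝒴 z, ⊤)) (x : N.obj z),
      (show N.Val Z from r • x) = r • (show N.Val Z from x) := fun r x =>
    congrArg (fun t : Γ(StMod.sch 𝒴 z, ⊤) => t • x)
      (congr($(congrArg Scheme.Hom.appTop (StMod.bmap_id (𝒳 := 𝒴) z)) r) :).symm
  letI := (StMod.bmap 𝒴 f).appTop.hom.toAlgebra
  letI : Module Γ(StMod.sch 𝒴 z, ⊤) (N.obj y) := Module.compHom _ (StMod.bmap 𝒴 f).appTop.hom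
  haveI : IsScalarTower Γ(StMod.sch 𝒴 z, ⊤) Γ(StMod.sch 𝒴 y, ⊤) (N.obj y) :=
    IsScalarTower.of_algebraMap_smul fun _ _ => rfl
  let ψ : Fn Y ⊗[Γ(StMod.sch 𝒴 z, ⊤)] N.Val Z ≃+ Γ(StMod.sch 𝒴 y, ⊤) ⊗[Γ(StMod.sch 𝒴 z, ⊤)] N.obj z :=
    (TensorProduct.congr (LinearEquiv.refl _ (Fn Y))
      ({ toFun := fun x => x, map_add' := fun _ _ => rfl, map_smul' := fun r x => by
          rw [RingHom.id_apply]; exact (hid r x).symm,
         invFun := fun x => x, left_inv := fun _ => rfl, right_inv := fun _ => rfl } :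
        N.Val Z ≃ₗ[Γ(StMod.sch 𝒴 z, ⊤)] N.obj z)).toAddEquiv
  let l : N.obj z →ₗ[Γ(StMod.sch 𝒴 z, ⊤)] N.obj y :=
    { toFun := N.res f, map_add' := map_add _, map_smul' := fun r x => N.res_smul f r x }
  let L : Γ(StMod.sch 𝒴 y, ⊤) ⊗[Γ(StMod.sch 𝒴 z, ⊤)] N.obj z →ₗ[Γ(StMod.sch 𝒴 z, ⊤)] N.obj y :=
    TensorProduct.lift (LinearMap.mk₂ _ (fun b x => b • l x) (fun b b' x => add_smul b b' _)
      (fun r b x => smul_assoc r b _) (fun b x x' => by rw [map_add, smul_add])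
      (fun r b x => by rw [map_smul, smul_comm]))
  have hψ : ∀ t, N.mulRes (x := Y) (y := Y) (z := Z) (𝟙 _) m t = L (ψ t) := fun t => by
    induction t using TensorProduct.induction_on with
    | zero => rw [map_zero, map_zero, map_zero]
    | add a b ha hb => rw [map_add, map_add, map_add, ha, hb]
    | tmul b x =>
      rw [mulRes_tmul, resFn_id]
      rfl
  have h1 : N.BC f ↔ Function.Bijective L := by
    show Function.Bijective (N.mulRes (x := Y) (y := Y) (z := Z) (𝟙 _) m) ↔ _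
    rw [show (N.mulRes (x := Y) (y := Y) (z := Z) (𝟙 _) m : _ → N.Val Y) = L ∘ ψ from funext hψ]
    exact Function.Bijective.of_comp_iff L ψ.bijective
  have h2 := isBaseChange_iff_bijective l L fun s x => rfl
  exact ⟨fun h => ⟨fun r x => N.res_smul f r x, h2.2 (h1.1 h)⟩, fun ⟨_, h⟩ => h1.2 (h2.1 h)⟩

theorem bc_comp {x y z : 𝒴.obj} {g : x ⟶ y} {f : y ⟶ z} (hg : N.BC g) (hf : N.BC f) : N.BC (g ≫ f) := by
  rw [bc_iff] at hg hf ⊢
  have h := hf.comp hg
  have e₁ : ((N.res g).comp (N.res f) : N.obj z →+ N.obj x) = N.res (g ≫ f) :=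
    AddMonoidHom.ext fun a => (N.res_comp g f a).symm
  have e₂ : (StMod.bmap 𝒴 g).appTop.hom.comp (StMod.bmap 𝒴 f).appTop.hom = (StMod.bmap 𝒴 (g ≫ f)).appTop.hom := by
    rw [StMod.bmap_comp, Scheme.Hom.comp_appTop]
    rfl
  rwa [e₁, e₂] at h

variable (N) in
/-- Base change between affine objects. -/
def HasBC : Prop := ∀ ⦃y' y : 𝒴.obj⦄ (f : y' ⟶ y),
  IsAffine (StMod.sch 𝒴 y) → IsAffine (StMod.sch 𝒴 y') → N.BC f

theorem HasBC.above (h : N.HasBC) (c : AffFam η) : N.BCAbove c := fun _ _ f _ _ h₁ h₂ => h f h₁ h₂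

theorem agree_res_two {ι : Type*} {z : ι → 𝒴.obj} {φ : ∀ i, z i ⟶ η} {t : ∀ i, N.obj (z i)} (ht : N.Agree φ t)
    [HasPullbacks 𝒴.obj] (c : AffFam η) (k : c.J → ι) (χ : ∀ j, (c.z j).left ⟶ z (k j))
    (hχ : ∀ j, χ j ≫ φ (k j) = (c.z j).hom) :
    (fun j => (show N.Val (c.z j) from N.res (χ j) (t (k j)))) ∈ N.glueFam c := by
  refine (DescAlg.mem_glue_iff _ _ _).2 fun j l => ?_
  show N.res _ (N.res _ _) = N.res _ (N.res _ _)
  rw [← N.res_comp, ← N.res_comp]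
  refine ht _ _ _ _ _ ?_
  rw [Category.assoc, Category.assoc, hχ, hχ]
  exact pullback.condition

/-- A Zariski sheaf with base change between affines is a sheaf. -/
theorem isSheaf_of_hasBC (hp : FibCat.IsFibGrpd 𝒴.p) (hZ : N.IsZarSheaf) (hBC : N.HasBC) : N.IsSheaf := by
  haveI := hasPullbacks hp
  have hsep : N.IsSep := by
    intro η ι z φ hc s s' hs
    obtain ⟨κ, v, ψ, hψ, haff, hop⟩ := exists_affine_cover hp η
    refine (hZ v ψ hψ hop).1 s s' fun l => ?_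
    haveI := haff l
    obtain ⟨z', φ', χ', hc', hsq⟩ := hc.exists_pullback hp (ψ l)
    obtain ⟨c, k, χ, hχ, -⟩ := exists_affFam hp hc'
    refine (bijective_toGlue hp (hBC.above c) fun j => hBC _ inferInstance (c.aff j)).1
      (Subtype.ext (funext fun j => ?_))
    show N.res (c.z j).hom (N.res (ψ l) s) = N.res (c.z j).hom (N.res (ψ l) s')
    rw [← N.res_comp, ← N.res_comp, ← hχ j, Category.assoc, (hsq (k j)).w, ← Category.assoc,
      N.res_comp, N.res_comp _ (φ (k j)), hs]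
  refine ⟨hsep, fun η ι z φ hc t ht => ?_⟩
  obtain ⟨κ, v, ψ, hψ, haff, hop⟩ := exists_affine_cover hp η
  have hloc : ∀ l, ∃ s : N.obj (v l), ∀ (y : 𝒴.obj) (a : y ⟶ v l) (i : ι) (b : y ⟶ z i),
      a ≫ ψ l = b ≫ φ i → N.res a s = N.res b (t i) := by
    intro l
    haveI := haff l
    obtain ⟨z', φ', χ', hc', hsq⟩ := hc.exists_pullback hp (ψ l)
    obtain ⟨c, k, χ, hχ, hlfp⟩ := exists_affFam hp hc'
    have hmem : N.Agree φ' fun i => N.res (χ' i) (t i) := fun i j y a b e => by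
      rw [← N.res_comp, ← N.res_comp]
      refine ht _ _ _ _ _ ?_
      rw [Category.assoc, Category.assoc, ← (hsq i).w, ← (hsq j).w, ← Category.assoc, e, Category.assoc]
    obtain ⟨s, hs⟩ := (bijective_toGlue hp (hBC.above c) fun j => hBC _ inferInstance (c.aff j)).2
      ⟨_, agree_res_two hmem c k χ hχ⟩
    refine ⟨s, fun y a i b e => ?_⟩
    obtain ⟨y', α, β, hy', hsq'⟩ := (c.isCov hlfp).exists_pullback hp a
    refine hsep y' α hy' _ _ fun j => ?_
    have hs' : N.res (c.z j.down).hom s = N.res (χ j.down) (N.res (χ' (k j.down)) (t (k j.down))) :=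
      congrFun (congrArg Subtype.val hs) j.down
    rw [← N.res_comp, (hsq' j).w, N.res_comp, hs', ← N.res_comp, ← N.res_comp, ← N.res_comp]
    refine ht _ _ _ _ _ ?_
    rw [Category.assoc (α j), ← e, ← Category.assoc (α j), (hsq' j).w, Category.assoc,
      ← hχ j.down, Category.assoc, Category.assoc, Category.assoc, (hsq (k j.down)).w]
  choose s hs using hloc
  have hag : N.Agree ψ s := fun l l' y a b e => by
    obtain ⟨y', α, β, hy', hsq'⟩ := hc.exists_pullback hp (a ≫ ψ l)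
    refine hsep y' α hy' _ _ fun i => ?_
    rw [← N.res_comp, ← N.res_comp, hs l _ (α i ≫ a) i (β i) (by rw [Category.assoc]; exact (hsq' i).w),
      hs l' _ (α i ≫ b) i (β i) (by rw [Category.assoc, ← e]; exact (hsq' i).w)]
  obtain ⟨s₀, hs₀⟩ := (hZ v ψ hψ hop).2 s hag
  refine ⟨s₀, fun i => ?_⟩
  obtain ⟨y', α, β, hy', hsq'⟩ := hψ.exists_pullback hp (φ i)
  refine hsep y' α hy' _ _ fun l => ?_
  rw [← N.res_comp, (hsq' l).w, N.res_comp, hs₀, hs l _ (β l) i (α l) (hsq' l).w.symm]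

/-- Base change holds everywhere once it holds over the members of a covering of every object. -/
theorem hasBC_of_local (hp : FibCat.IsFibGrpd 𝒴.p) (hN : N.IsSheaf) (Good : 𝒴.obj → Prop)
    (hgood : ∀ ⦃y' y : 𝒴.obj⦄, (y' ⟶ y) → Good y → Good y')
    (hbc : ∀ ⦃y' y : 𝒴.obj⦄ (f : y' ⟶ y), Good y → IsAffine (StMod.sch 𝒴 y) → IsAffine (StMod.sch 𝒴 y') → N.BC f)
    (hex : ∀ η : 𝒴.obj, ∃ (ι : Type u) (z : ι → 𝒴.obj) (φ : ∀ i, z i ⟶ η), IsCov z φ ∧ ∀ i, Good (z i)) :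
    N.HasBC := by
  haveI := hasPullbacks hp
  have hmem : ∀ (η : 𝒴.obj) [IsAffine (StMod.sch 𝒴 η)] (c : AffFam η),
      (∀ j, LocallyOfFinitePresentation (StMod.bmap 𝒴 (c.z j).hom)) → (∀ j, Good (c.z j).left) →
      ∀ j, N.BC (c.z j).hom := by
    intro η _ c hlfp hg j
    refine bc_of_bijective_toGlue hp
      (fun y y' f l ⟨m⟩ h₁ h₂ => hbc f (hgood m (hg l)) h₁ h₂) ⟨fun a b hab => ?_, fun g => ?_⟩ j
    · exact hN.1 _ _ (c.isCov hlfp) a b fun l => congrFun (congrArg Subtype.val hab) l.down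
    · have hg' := (DescAlg.mem_glue_iff _ _ _).1 g.2
      have hag : N.Agree (fun l : ULift.{u} c.J => (c.z l.down).hom) (fun l => (g.1 l.down : N.obj _)) :=
        fun l l' y a b e => by
          have h₁ : N.res a (g.1 l.down : N.obj _) =
              N.res (pullback.lift a b e) (N.res (pullback.fst (c.z l.down).hom (c.z l'.down).hom) (g.1 l.down : N.obj _)) := by
            rw [← N.res_comp, pullback.lift_fst]
          have h₂ : N.res b (g.1 l'.down : N.obj _) =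
              N.res (pullback.lift a b e) (N.res (pullback.snd (c.z l.down).hom (c.z l'.down).hom) (g.1 l'.down : N.obj _)) := by
            rw [← N.res_comp, pullback.lift_snd]
          exact h₁.trans ((congrArg (N.res (pullback.lift a b e)) (hg' l.down l'.down)).trans h₂.symm)
      obtain ⟨x, hx⟩ := hN.2 _ _ (c.isCov hlfp) _ hag
      exact ⟨x, Subtype.ext (funext fun l => hx ⟨l⟩)⟩
  intro η' η f h₁ h₂
  obtain ⟨ι, z, φ, hc, hg⟩ := hex η
  haveI := h₁
  haveI := h₂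
  obtain ⟨c, k, χ, hχ, hlfp⟩ := exists_affFam hp hc
  obtain ⟨z', α, β, hc', hsq⟩ := (c.isCov hlfp).exists_pullback hp f
  have hgj : ∀ j, Good (c.z j).left := fun j => hgood (χ j) (hg (k j))
  haveI : ∀ j : c.J, IsAffine (StMod.sch 𝒴 (z' ⟨j⟩)) := fun j => by
    haveI := c.aff j
    haveI : IsAffineHom (StMod.bmap 𝒴 (c.z j).hom) := inferInstance
    exact IsAffine.of_isPullback (isPullback_bmap hp (hsq ⟨j⟩))
  let c' : AffFam η' :=
    { J := c.J
      z := fun j => Over.mk (α ⟨j⟩)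
      aff := fun j => inferInstanceAs (IsAffine (StMod.sch 𝒴 (z' ⟨j⟩)))
      flat := fun j => hc'.flat ⟨j⟩
      surj := fun t => by
        obtain ⟨⟨j⟩, hj⟩ := hc'.surj t
        exact ⟨j, hj⟩ }
  have h₀ : ∀ j, N.BC (c'.z j).hom :=
    hmem η' c' (fun j => hc'.lfp ⟨j⟩) fun j => hgood (β ⟨j⟩) (hgj j)
  have h₁' : ∀ j : c.J, N.BC (α ⟨j⟩ ≫ f) := fun j => by
    rw [(hsq ⟨j⟩).w]
    exact bc_comp (hbc (β ⟨j⟩) (hgj j) (c.aff j) inferInstance) (hmem η c hlfp hgj j)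
  rw [bc_iff]
  refine IsSemiBC.of_cover (fun r x => N.res_smul f r x)
    (fun j : c.J => (StMod.bmap 𝒴 (α ⟨j⟩)).appTop.hom) (fun j => N.res (α ⟨j⟩)) (fun j => ?_) (fun p => ?_)
    (fun j => (bc_iff _).1 (h₀ j)) fun j => ?_
  · haveI := hc'.flat ⟨j⟩
    exact (HasRingHomProperty.iff_of_isAffine (P := @Flat)).1 inferInstance
  · obtain ⟨j, q, hq⟩ := covers (c := c') p
    exact ⟨j, q, hq⟩
  · have h := (bc_iff _).1 (h₁' j)
    have e₁ : ((N.res (α ⟨j⟩)).comp (N.res f) : N.obj η →+ N.obj (z' ⟨j⟩)) = N.res (α ⟨j⟩ ≫ f) :=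
      AddMonoidHom.ext fun a => (N.res_comp _ f a).symm
    have e₂ : (StMod.bmap 𝒴 (α ⟨j⟩)).appTop.hom.comp (StMod.bmap 𝒴 f).appTop.hom =
        (StMod.bmap 𝒴 (α ⟨j⟩ ≫ f)).appTop.hom := by
      rw [StMod.bmap_comp, Scheme.Hom.comp_appTop]
      rfl
    rw [e₁, e₂]
    exact h

end Sys

end Groth.Agent.StModLib
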