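import Groth.Agent.StModLib.FibPullback
import Groth.Agent.StModLib.SysCover
import Groth.Agent.StModLib.GerbeSys
import Groth.Agent.AlgStLib.SpProps
import Groth.Agent.AlgStLib.LocQ
import Groth.Agent.AlgStLib.OfSp

/-!
# Pairs of points of an atlas
-/

set_option autoImplicit false
set_option linter.style.haveILetI false
set_option backward.isDefEq.respectTransparency false
set_option backward.isDefEq.respectTransparency.types false

universe u

open CategoryTheory CategoryTheory.Functor CategoryTheory.Limits AlgebraicGeometry AlgSp Opposite TopologicalSpace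
open Groth.Agent.AlgStLib Groth.Agent.AlgSpLib Groth.Agent.FibBase

noncomputable section

namespace Groth.Agent.StModLib

variable {S : Scheme.{u}} {𝒳 : AlgSt.Cat S}

/-- Coverings are transported along isomorphisms of the covered object. -/
theorem IsCov.comp_isIso {η η' : 𝒳.obj} {ι : Type u} {z : ι → 𝒳.obj} {φ : ∀ i, z i ⟶ η} (h : IsCov z φ)
    (θ : η ⟶ η') [IsIso θ] : IsCov z fun i => φ i ≫ θ where
  flat i := by haveI := h.flat i; rw [StMod.bmap_comp]; infer_instance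
  lfp i := by haveI := h.lfp i; rw [StMod.bmap_comp]; infer_instance
  surj t := by
    obtain ⟨i, s, hs⟩ := h.surj (inv (StMod.bmap 𝒳 θ) t)
    refine ⟨i, s, ?_⟩
    rw [StMod.bmap_comp, Scheme.Hom.comp_apply, hs, ← Scheme.Hom.comp_apply, IsIso.inv_hom_id]
    rfl

/-- Every point of a sheaf is etale locally a point of an etale chart, and the charts compare. -/
theorem exists_chart_points {F : Sp S} {V : Over S} (p : (yon S).obj V ⟶ F) (hp : RepWith @Etale p)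
    (hp' : RepWith @Surjective p) (o : (AlgSt.ofSp F).obj) :
    ∃ (P : Over S) (fst : P ⟶ V) (snd : P ⟶ o.base), Etale snd.left ∧ Surjective snd.left ∧
      (yon S).map fst ≫ p = (yon S).map snd ≫ (AlgSp.J S).uliftYonedaEquiv.symm o.sec ∧
      ∀ (Z : Over S) (a : Z ⟶ V) (b : Z ⟶ o.base),
        (yon S).map a ≫ p = (yon S).map b ≫ (AlgSp.J S).uliftYonedaEquiv.symm o.sec →
          ∃ l : Z ⟶ P, l ≫ fst = a ∧ l ≫ snd = b := by
  let g : (yon S).obj o.base ⟶ F := (AlgSp.J S).uliftYonedaEquiv.symm o.sec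
  have sq := hp.rep.isPullback g
  obtain ⟨fst, hfst⟩ := (yon S).map_surjective (hp.rep.fst g)
  refine ⟨hp.rep.pullback g, fst, hp.rep.snd g, hp.property_snd g, hp'.property_snd g, ?_, fun Z a b h => ?_⟩
  · rw [hfst]
    exact sq.w
  · obtain ⟨l, hl⟩ := (yon S).map_surjective (sq.lift ((yon S).map a) ((yon S).map b) h)
    refine ⟨l, (yon S).map_injective ?_, (yon S).map_injective ?_⟩
    · rw [Functor.map_comp, hl, hfst, sq.lift_fst]
    · rw [Functor.map_comp, hl, sq.lift_snd]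

/-- The section of a composite. -/
theorem uliftYonedaEquiv_map_comp {F : Sp S} {V W : Over S} (w : W ⟶ V) (g : (yon S).obj V ⟶ F) :
    F.obj.map w.op ((AlgSp.J S).uliftYonedaEquiv g) = (AlgSp.J S).uliftYonedaEquiv ((yon S).map w ≫ g) :=
  GrothendieckTopology.uliftYonedaEquiv_naturality _ g w

/-- Charts of a sheaf by affine schemes cover every point and compare flatly. -/
theorem exists_chart_family {F : Sp S} {V : Over S} (p : (yon S).obj V ⟶ F) (hp : RepWith @Etale p)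
    (hp' : RepWith @Surjective p) (o : (AlgSt.ofSp F).obj) :
    ∃ (κ : Type u) (W : κ → V.left.affineOpens) (y : κ → (AlgSt.ofSp F).obj) (φ : ∀ i, y i ⟶ o)
      (e : ∀ i, y i ⟶ eltOfMap ((yon S).map (Over.homMk (W i).1.ι rfl : Over.mk ((W i).1.ι ≫ V.hom) ⟶ V) ≫ p)),
      IsCov y φ ∧ (∀ i, IsAffine (y i).base.left) ∧
      ∀ (o' : (AlgSt.ofSp F).obj) (W' : V.left.affineOpens) (f : o' ⟶ o)
        (f' : o' ⟶ eltOfMap ((yon S).map (Over.homMk W'.1.ι rfl : Over.mk (W'.1.ι ≫ V.hom) ⟶ V) ≫ p)),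
        ∃ (μ : Type u) (z : μ → (AlgSt.ofSp F).obj) (ψ : ∀ j, z j ⟶ o'), IsCov z ψ ∧
          ∀ j, ∃ (i : κ) (_ : W i = W') (m : z j ⟶ y i), m ≫ φ i = ψ j ≫ f ∧
            m.hom ≫ (e i).hom ≫ (Over.homMk (W i).1.ι rfl : Over.mk ((W i).1.ι ≫ V.hom) ⟶ V) =
              (ψ j).hom ≫ f'.hom ≫ (Over.homMk W'.1.ι rfl : Over.mk (W'.1.ι ≫ V.hom) ⟶ V) := by
  obtain ⟨P, fst, snd, hsnd, hsndS, hw, hlift⟩ := exists_chart_points p hp hp' o
  let κ := {WA : V.left.affineOpens × P.left.affineOpens // WA.2.1 ≤ fst.left ⁻¹ᵁ WA.1.1}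
  let a : ∀ i : κ, Over.mk (i.1.2.1.ι ≫ P.hom) ⟶ P := fun i => Over.homMk i.1.2.1.ι rfl
  let y : κ → (AlgSt.ofSp F).obj := fun i =>
    ⟨Over.mk (i.1.2.1.ι ≫ P.hom), F.obj.map (a i ≫ snd).op o.sec⟩
  let wι : ∀ W : V.left.affineOpens, Over.mk (W.1.ι ≫ V.hom) ⟶ V := fun W => Over.homMk W.1.ι rfl
  have hfac : ∀ i : κ, ∃ c : Over.mk (i.1.2.1.ι ≫ P.hom) ⟶ Over.mk (i.1.1.1.ι ≫ V.hom),
      c ≫ wι i.1.1 = a i ≫ fst := fun i => by
    refine ⟨Over.homMk (fst.left.resLE i.1.1.1 i.1.2.1 i.2) ?_, Over.OverMorphism.ext ?_⟩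
    · show fst.left.resLE _ _ _ ≫ i.1.1.1.ι ≫ V.hom = i.1.2.1.ι ≫ P.hom
      rw [Scheme.Hom.resLE_comp_ι_assoc, Over.w fst]
    · show fst.left.resLE _ _ _ ≫ i.1.1.1.ι = i.1.2.1.ι ≫ fst.left
      rw [Scheme.Hom.resLE_comp_ι]
  choose c hc using hfac
  have hsec : ∀ i : κ, F.obj.map (c i).op ((AlgSp.J S).uliftYonedaEquiv ((yon S).map (wι i.1.1) ≫ p)) =
      F.obj.map (a i ≫ snd).op o.sec := fun i => by
    rw [uliftYonedaEquiv_map_comp, ← Category.assoc, ← Functor.map_comp, hc, Functor.map_comp, Category.assoc, hw,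
      ← Category.assoc, ← Functor.map_comp, ← uliftYonedaEquiv_map_comp, Equiv.apply_symm_apply]
  have hmem : ∀ (W : V.left.affineOpens) (t : P.left), fst.left t ∈ W.1 → ∃ i : κ, i.1.1 = W ∧ t ∈ i.1.2.1 :=
    fun W t ht => by
      obtain ⟨A, hA, htA, hle⟩ := exists_isAffineOpen_mem_and_subset (U := fst.left ⁻¹ᵁ W.1) ht
      exact ⟨⟨(W, ⟨A, hA⟩), hle⟩, rfl, htA⟩
  refine ⟨κ, fun i => i.1.1, y, fun i => ⟨a i ≫ snd, rfl⟩, fun i => ⟨c i, hsec i⟩, ⟨fun i => ?_, fun i => ?_,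
    fun t => ?_⟩, fun i => i.1.2.2, fun o' W' f f' => ?_⟩
  · haveI := hsnd
    exact inferInstanceAs (Flat (i.1.2.1.ι ≫ snd.left))
  · haveI := hsnd
    exact inferInstanceAs (LocallyOfFinitePresentation (i.1.2.1.ι ≫ snd.left))
  · obtain ⟨t', rfl⟩ := hsndS.surj t
    obtain ⟨W, hW, htW, -⟩ := exists_isAffineOpen_mem_and_subset (U := (⊤ : V.left.Opens))
      (trivial : fst.left t' ∈ (⊤ : V.left.Opens))
    obtain ⟨i, -, hti⟩ := hmem ⟨W, hW⟩ t' htW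
    exact ⟨i, ⟨t', hti⟩, rfl⟩
  · obtain ⟨l, hl₁, hl₂⟩ := hlift o'.base (f'.hom ≫ wι W') f.hom (by
      refine (AlgSp.J S).uliftYonedaEquiv.injective ?_
      rw [← uliftYonedaEquiv_map_comp f.hom, Equiv.apply_symm_apply, Functor.map_comp, Category.assoc,
        ← uliftYonedaEquiv_map_comp]
      exact f'.map_sec.trans f.map_sec.symm)
    let μ := {i : κ // i.1.1 = W'}
    let b : ∀ j : μ, Over.mk ((l.left ⁻¹ᵁ j.1.1.2.1).ι ≫ o'.base.hom) ⟶ o'.base := fun j => Over.homMk (Scheme.Opens.ι _) rfl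
    let bl : ∀ j : μ, Over.mk ((l.left ⁻¹ᵁ j.1.1.2.1).ι ≫ o'.base.hom) ⟶ Over.mk (j.1.1.2.1.ι ≫ P.hom) := fun j =>
      Over.homMk (l.left.resLE _ _ le_rfl) (by
        show l.left.resLE _ _ _ ≫ j.1.1.2.1.ι ≫ P.hom = _
        rw [Scheme.Hom.resLE_comp_ι_assoc, Over.w l]
        rfl)
    have hbl : ∀ j : μ, bl j ≫ a j.1 = b j ≫ l := fun j => Over.OverMorphism.ext (by
      show l.left.resLE _ _ _ ≫ j.1.1.2.1.ι = Scheme.Opens.ι _ ≫ l.left
      rw [Scheme.Hom.resLE_comp_ι])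
    refine ⟨μ, fun j => ⟨_, F.obj.map (b j).op o'.sec⟩, fun j => ⟨b j, rfl⟩,
      ⟨fun j => inferInstanceAs (Flat (Scheme.Opens.ι _)),
        fun j => inferInstanceAs (LocallyOfFinitePresentation (Scheme.Opens.ι _)), fun t => ?_⟩, fun j => ?_⟩
    · have ht : fst.left (l.left t) ∈ W'.1 := by
        rw [← Scheme.Hom.comp_apply, ← Over.comp_left, hl₁, Over.comp_left, Scheme.Hom.comp_apply]
        exact (f'.hom.left t).2
      obtain ⟨i, hi, hti⟩ := hmem W' _ ht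
      exact ⟨⟨i, hi⟩, ⟨t, hti⟩, rfl⟩
    · have hm : bl j ≫ a j.1 ≫ snd = b j ≫ f.hom := by rw [← Category.assoc, hbl, Category.assoc, hl₂]
      refine ⟨j.1, j.2, ⟨bl j, ?_⟩, Stk.EltObj.hom_ext hm, ?_⟩
      · show F.obj.map (bl j).op (F.obj.map (a j.1 ≫ snd).op o.sec) = F.obj.map (b j).op o'.sec
        rw [← f.map_sec, ← FunctorToTypes.map_comp_apply, ← FunctorToTypes.map_comp_apply, ← op_comp, ← op_comp, hm]
      · show bl j ≫ c j.1 ≫ wι _ = b j ≫ f'.hom ≫ wι W'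
        rw [hc, ← Category.assoc, hbl, Category.assoc, hl₁]

/-- The final object of a slice. -/
abbrev toTopOver {U : Over S} (V : (FibCat.overCat U : AlgSt.Cat S).obj) :
    V ⟶ (Over.mk (𝟙 U) : (FibCat.overCat U : AlgSt.Cat S).obj) :=
  Over.homMk V.hom (Category.comp_id _)

theorem map_toTopOver {U : Over S} (x : FibCat.overCat U ⥤ᵇ 𝒳) {V' V : (FibCat.overCat U : AlgSt.Cat S).obj}
    (a : V' ⟶ V) : x.map a ≫ x.map (toTopOver V) = x.map (toTopOver V') := by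
  rw [← Functor.map_comp]
  exact congrArg x.map (Over.OverMorphism.ext (Over.w a))

theorem exists_preimage_over (hp : FibCat.IsFibGrpd 𝒳.p) {U : Over S} (x : FibCat.overCat U ⥤ᵇ 𝒳)
    {V' V : (FibCat.overCat U : AlgSt.Cat S).obj} (φ : x.obj V' ⟶ x.obj V)
    (h : φ ≫ x.map (toTopOver V) = x.map (toTopOver V')) : ∃ a : V' ⟶ V, x.map a = φ := by
  let a₀ : V'.left ⟶ V.left := eqToHom (x.w_obj V').symm ≫ 𝒳.p.map φ ≫ eqToHom (x.w_obj V)
  have h1 := congrArg (fun k => eqToHom (x.w_obj V').symm ≫ 𝒳.p.map k ≫ eqToHom (x.w_obj (Over.mk (𝟙 U)))) h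
  simp only [Functor.map_comp, IsHomLift.fac' 𝒳.p ((FibCat.overCat U).p.map (toTopOver V)) (x.map (toTopOver V)),
    IsHomLift.fac' 𝒳.p ((FibCat.overCat U).p.map (toTopOver V')) (x.map (toTopOver V'))] at h1
  simp only [Category.assoc, eqToHom_trans_assoc, eqToHom_trans, eqToHom_refl, Category.comp_id, Category.id_comp]
    at h1
  have hw : a₀ ≫ V.hom = V'.hom := by
    simp only [a₀, Category.assoc]
    exact h1
  refine ⟨Over.homMk a₀ hw, hom_ext_of_map hp (x.map (toTopOver V)) ?_ ((map_toTopOver x _).trans h.symm)⟩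
  rw [IsHomLift.fac' 𝒳.p ((FibCat.overCat U).p.map (Over.homMk a₀ hw : V' ⟶ V))
    (x.map (Over.homMk a₀ hw : V' ⟶ V))]
  show eqToHom _ ≫ a₀ ≫ eqToHom _ = _
  simp [a₀]

theorem exists_obj_over (hp : FibCat.IsFibGrpd 𝒳.p) {U : Over S} (x : FibCat.overCat U ⥤ᵇ 𝒳) {y : 𝒳.obj}
    (u : y ⟶ x.obj (Over.mk (𝟙 U))) :
    ∃ (V : (FibCat.overCat U : AlgSt.Cat S).obj) (i : x.obj V ≅ y) (h : 𝒳.p.obj (x.obj V) = 𝒳.p.obj y),
      i.hom ≫ u = x.map (toTopOver V) ∧ 𝒳.p.map i.hom = eqToHom h := by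
  let V : (FibCat.overCat U : AlgSt.Cat S).obj := Over.mk (𝒳.p.map u ≫ eqToHom (x.w_obj (Over.mk (𝟙 U))))
  have h : 𝒳.p.obj (x.obj V) = 𝒳.p.obj y := x.w_obj V
  obtain ⟨χ, ⟨hχ, hu⟩, -⟩ := existsUnique_lift hp u (x.map (toTopOver V)) (eqToHom h) (by
    rw [IsHomLift.fac' 𝒳.p ((FibCat.overCat U).p.map (toTopOver V)) (x.map (toTopOver V))]
    show _ = eqToHom _ ≫ (𝒳.p.map u ≫ eqToHom _) ≫ eqToHom _
    simp)
  haveI : IsIso (StMod.bmap 𝒳 χ) := by
    show IsIso (𝒳.p.map χ).left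
    rw [hχ]
    infer_instance
  haveI := isIso_of_isIso_bmap hp χ
  exact ⟨V, asIso χ, h, hu, hχ⟩

/-- Affine objects over pairs of points of an atlas. -/
structure PairAtlas (x₀ : 𝒳.obj) where
  /-- the index -/
  κ : Type u
  /-- the objects -/
  R : κ → 𝒳.obj
  aff : ∀ k, IsAffine (StMod.sch 𝒳 (R k))
  /-- the first point -/
  c : ∀ k, R k ⟶ x₀
  /-- the second point -/
  d : ∀ k, R k ⟶ x₀
  flatc : ∀ k, Flat (StMod.bmap 𝒳 (c k))
  flatd : ∀ k, Flat (StMod.bmap 𝒳 (d k))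
  cov : ∀ (y : 𝒳.obj) (u v : y ⟶ x₀), ∃ (ι : Type u) (z : ι → 𝒳.obj) (φ : ∀ i, z i ⟶ y),
    IsCov z φ ∧ ∀ i, ∃ (k : κ) (e : z i ⟶ R k), e ≫ c k = φ i ≫ u ∧ e ≫ d k = φ i ≫ v
  cmp : ∀ (w : 𝒳.obj) (u v : w ⟶ x₀) (y : 𝒳.obj) (k : κ) (e : y ⟶ w) (e' : y ⟶ R k),
    e ≫ u = e' ≫ c k → e ≫ v = e' ≫ d k →
    ∃ (ι : Type u) (z : ι → 𝒳.obj) (φ : ∀ i, z i ⟶ y), IsCov z φ ∧ ∀ i, ∃ (r : 𝒳.obj) (a : r ⟶ w) (b : r ⟶ R k)
      (m : z i ⟶ r), Flat (StMod.bmap 𝒳 a) ∧ IsAffine (StMod.sch 𝒳 r) ∧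
        a ≫ u = b ≫ c k ∧ a ≫ v = b ≫ d k ∧ m ≫ a = φ i ≫ e ∧ m ≫ b = φ i ≫ e'

theorem flat_bmap_map_toTop {U : Over S} (x : FibCat.overCat U ⥤ᵇ 𝒳) (V : (FibCat.overCat U : AlgSt.Cat S).obj)
    [Flat V.hom.left] : Flat (StMod.bmap 𝒳 (x.map (toTopOver V))) := by
  show Flat (𝒳.p.map (x.map (toTopOver V))).left
  rw [IsHomLift.fac' 𝒳.p ((FibCat.overCat U).p.map (toTopOver V)) (x.map (toTopOver V))]
  haveI : Flat (toTopOver V).left.left := ‹Flat V.hom.left›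
  haveI : ∀ {A B : Over S} (e : A = B), IsIso (eqToHom e).left := fun e =>
    inferInstanceAs (IsIso ((Over.forget S).map (eqToHom e)))
  simp only [Over.comp_left]
  exact inferInstanceAs (Flat (_ ≫ (toTopOver V).left.left ≫ _))

/-- An atlas has pairs. -/
theorem nonempty_pairAtlas (hp : FibCat.IsFibGrpd 𝒳.p) {U : Over S} (x : FibCat.overCat U ⥤ᵇ 𝒳)
    (hx : AlgSt.RepByAlgSpWith (LocP @Flat) x) : Nonempty (PairAtlas (x.obj (Over.mk (𝟙 U)))) := by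
  obtain ⟨F, K, hK, hfl⟩ := hx U x
  haveI := full_of_isEquivOver hK
  have hes : ∀ X : (FibCat.fp x x).obj, ∃ o, Nonempty (K.obj o ≅ X) := fun X => by
    obtain ⟨G, -, ⟨ε⟩⟩ := hK
    exact ⟨G.obj X, ⟨((BasedNatTrans.forgetful _ _).mapIso ε).app X⟩⟩
  let K' := BasedFunctor.comp K (fpSwap x x)
  have hK' : FibCat.IsEquivOver K' := isEquivOver_comp hK (fpSwap_isEquivOver x x)
  have hfl' := (RepOver.property_of_stableBC stableBC_locP (hx U x) K' hK').2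
  obtain ⟨V, p, hpe, hps⟩ := F.property.atlas
  let oW : V.left.affineOpens → (AlgSt.ofSp F.obj).obj := fun W =>
    eltOfMap ((yon S).map (Over.homMk W.1.ι rfl : Over.mk (W.1.ι ≫ V.hom) ⟶ V) ≫ p)
  let Ob : AlgSt.ofSp F.obj ⥤ᵇ 𝒳 := BasedFunctor.comp (BasedFunctor.comp K (FibCat.fpFst x x)) x
  let cu : ∀ o : (AlgSt.ofSp F.obj).obj, Ob.obj o ⟶ x.obj (Over.mk (𝟙 U)) := fun o =>
    x.map (toTopOver (K.obj o).obj.fst)
  let cv : ∀ o : (AlgSt.ofSp F.obj).obj, Ob.obj o ⟶ x.obj (Over.mk (𝟙 U)) := fun o =>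
    (K.obj o).obj.iso.hom ≫ x.map (toTopOver (K.obj o).obj.snd)
  have hcu : ∀ {o' o : (AlgSt.ofSp F.obj).obj} (m : o' ⟶ o), Ob.map m ≫ cu o = cu o' := fun m =>
    map_toTopOver x (K.map m).hom.fst
  have hcv : ∀ {o' o : (AlgSt.ofSp F.obj).obj} (m : o' ⟶ o), Ob.map m ≫ cv o = cv o' := fun {o' o} m => by
    show x.map (K.map m).hom.fst ≫ _ ≫ _ = _ ≫ _
    rw [← Category.assoc, (K.map m).hom.w, Category.assoc, map_toTopOver]
  have hflat : ∀ (W : V.left.affineOpens) (Φ : AlgSt.ofSp F.obj ⥤ᵇ FibCat.overCat U),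
      LocP @Flat (AlgSt.spMapOfOver Φ) → Flat (Φ.obj (oW W)).hom.left := fun W Φ hΦ => by
    let wι : Over.mk (W.1.ι ≫ V.hom) ⟶ V := Over.homMk W.1.ι rfl
    have e : ((yon S).map wι ≫ p) ≫ AlgSt.spMapOfOver Φ = (yon S).map (AlgSt.secHom Φ (oW W)) := by
      refine (AlgSp.J S).uliftYonedaEquiv.injective ?_
      rw [GrothendieckTopology.uliftYonedaEquiv_comp]
      exact ((AlgSp.J S).uliftYonedaEquiv_uliftYoneda_map (AlgSt.secHom Φ (oW W))).symm
    have h1 : LocP @Flat ((yon S).map (AlgSt.secHom Φ (oW W))) := e ▸ locP_comp (IsAlgSpace.yon_obj _) F.property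
      (IsAlgSpace.yon_obj U)
      (locP_mono (Q := @Flat) (fun _ _ f (_ : Etale f) => inferInstanceAs (Flat f))
        (locP_of_repWith (P := @Etale) (repWith_comp
          ((repWith_yon_map_iff @Etale wι).2 (inferInstanceAs (Etale W.1.ι))) hpe))) hΦ
    have h2 : Flat (AlgSt.secHom Φ (oW W)).left := locP_yon_map (P := @Flat) h1
    haveI : IsIso (eqToHom (Φ.w_obj (oW W)).symm).left := inferInstanceAs (IsIso ((Over.forget S).map _))
    exact (MorphismProperty.cancel_left_of_respectsIso @Flat (eqToHom (Φ.w_obj (oW W)).symm).left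
      (Φ.obj (oW W)).hom.left).1 h2
  have hpairs : ∀ (y : 𝒳.obj) (u v : y ⟶ x.obj (Over.mk (𝟙 U))), ∃ (o : (AlgSt.ofSp F.obj).obj) (i : Ob.obj o ≅ y),
      i.hom ≫ u = cu o ∧ i.hom ≫ v = cv o := fun y u v => by
    obtain ⟨Vu, iu, hu, hiu, hbu⟩ := exists_obj_over hp x u
    obtain ⟨Vv, iv, hv, hiv, hbv⟩ := exists_obj_over hp x v
    have hl : 𝒳.p.IsHomLift (𝟙 Vu.left) (iu ≪≫ iv.symm).hom := by
      refine IsHomLift.of_fac' 𝒳.p _ _ (x.w_obj Vu) (hv.trans (hu.symm.trans (x.w_obj Vu))) ?_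
      haveI : IsIso (eqToHom hv) := inferInstance
      have : 𝒳.p.map iv.inv = eqToHom hv.symm := by
        refine (cancel_epi (𝒳.p.map iv.hom)).1 ?_
        rw [← Functor.map_comp, Iso.hom_inv_id, CategoryTheory.Functor.map_id, hbv, eqToHom_trans, eqToHom_refl]
      show 𝒳.p.map (iu.hom ≫ iv.inv) = _
      rw [Functor.map_comp, hbu, this]
      simp
    let X : (FibCat.fp x x).obj := ⟨{ fst := Vu, snd := Vv, iso := iu ≪≫ iv.symm }, hl⟩
    obtain ⟨o, ⟨θ⟩⟩ := hes X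
    let θ₁ : x.obj (K.obj o).obj.fst ≅ x.obj Vu :=
      (BasedFunctor.comp (FibCat.fpFst x x) x).toFunctor.mapIso θ
    refine ⟨o, θ₁ ≪≫ iu, ?_, ?_⟩
    · show (x.map θ.hom.hom.fst ≫ iu.hom) ≫ u = _
      rw [Category.assoc, hiu]
      exact map_toTopOver x _
    · show (x.map θ.hom.hom.fst ≫ iu.hom) ≫ v = _ ≫ x.map (toTopOver _)
      rw [← map_toTopOver x θ.hom.hom.snd, ← Category.assoc _ (x.map θ.hom.hom.snd), ← θ.hom.hom.w]
      show _ = (x.map θ.hom.hom.fst ≫ iu.hom ≫ iv.inv) ≫ _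
      rw [← hiv]
      simp
  have hpre : ∀ {o' o : (AlgSt.ofSp F.obj).obj} (φ : Ob.obj o' ⟶ Ob.obj o),
      φ ≫ cu o = cu o' → φ ≫ cv o = cv o' → ∃ m : o' ⟶ o, Ob.map m = φ := fun {o' o} φ h₁ h₂ => by
    obtain ⟨a, ha⟩ := exists_preimage_over hp x φ h₁
    obtain ⟨b, hb⟩ := exists_preimage_over hp x ((K.obj o').obj.iso.inv ≫ φ ≫ (K.obj o).obj.iso.hom) (by
      rw [Category.assoc, Category.assoc]
      exact (congrArg (_ ≫ ·) h₂).trans (Iso.inv_hom_id_assoc _ _))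
    let M : K.obj o' ⟶ K.obj o := ObjectProperty.homMk
      { fst := a, snd := b, w := by
          show x.map a ≫ _ = _ ≫ x.map b
          rw [ha, hb, Iso.hom_inv_id_assoc] }
    refine ⟨K.toFunctor.preimage M, ?_⟩
    show x.map (K.map (K.toFunctor.preimage M)).hom.fst = φ
    rw [K.toFunctor.map_preimage]
    exact ha
  have haffOb : ∀ o : (AlgSt.ofSp F.obj).obj, IsAffine o.base.left → IsAffine (StMod.sch 𝒳 (Ob.obj o)) := fun o h => by
    show IsAffine (𝒳.p.obj (Ob.obj o)).left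
    rw [Ob.w_obj o]
    exact h
  refine ⟨{
    κ := V.left.affineOpens, R := fun W => Ob.obj (oW W), aff := fun W => haffOb _ W.2
    c := fun W => cu (oW W), d := fun W => cv (oW W)
    flatc := fun W => ?_, flatd := fun W => ?_, cov := fun y u v => ?_, cmp := fun w u v y W e e' h₁ h₂ => ?_ }⟩
  · haveI : Flat (K.obj (oW W)).obj.fst.hom.left := hflat W (BasedFunctor.comp K (FibCat.fpFst x x)) hfl
    exact flat_bmap_map_toTop x (K.obj (oW W)).obj.fst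
  · haveI : Flat (K.obj (oW W)).obj.snd.hom.left := hflat W (BasedFunctor.comp K' (FibCat.fpFst x x)) hfl'
    haveI := flat_bmap_map_toTop x (K.obj (oW W)).obj.snd
    show Flat (StMod.bmap 𝒳 ((K.obj (oW W)).obj.iso.hom ≫ _))
    rw [StMod.bmap_comp]
    infer_instance
  · obtain ⟨o, i, hiu, hiv⟩ := hpairs y u v
    obtain ⟨κ, W, z, φ, ez, hcov, -, -⟩ := exists_chart_family p hpe hps o
    refine ⟨κ, fun j => Ob.obj (z j), fun j => Ob.map (φ j) ≫ i.hom, (isCov_map Ob hcov).comp_isIso i.hom,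
      fun j => ⟨W j, Ob.map (ez j), ?_, ?_⟩⟩
    · rw [Category.assoc, hiu]
      exact (hcu (ez j)).trans (hcu (φ j)).symm
    · rw [Category.assoc, hiv]
      exact (hcv (ez j)).trans (hcv (φ j)).symm
  · obtain ⟨o, i, hiu, hiv⟩ := hpairs w u v
    obtain ⟨oy, iy, hyu, hyv⟩ := hpairs y (e ≫ u) (e ≫ v)
    obtain ⟨m₁, hm₁⟩ := hpre (iy.hom ≫ e ≫ i.inv) (o' := oy) (o := o)
      (by rw [← hiu, ← hyu]; simp) (by rw [← hiv, ← hyv]; simp)
    obtain ⟨m₂, hm₂⟩ := hpre (iy.hom ≫ e') (o' := oy) (o := oW W)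
      (by rw [← hyu, Category.assoc, h₁]) (by rw [← hyv, Category.assoc, h₂])
    obtain ⟨κ, W', z, φ, ez, hcov, haff, hcmp⟩ := exists_chart_family p hpe hps o
    obtain ⟨μ, z', ψ, hψ, hm⟩ := hcmp oy W m₁ m₂
    refine ⟨μ, fun j => Ob.obj (z' j), fun j => Ob.map (ψ j) ≫ iy.hom, (isCov_map Ob hψ).comp_isIso iy.hom,
      fun j => ?_⟩
    obtain ⟨k, rfl, m, hmφ, hme⟩ := hm j
    have hme' : m ≫ ez k = ψ j ≫ m₂ := Stk.EltObj.hom_ext (by
      show m.hom ≫ (ez k).hom = (ψ j).hom ≫ m₂.hom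
      refine Over.OverMorphism.ext ((cancel_mono (W' k).1.ι).1 ?_)
      exact congrArg CommaMorphism.left ((Category.assoc _ _ _).trans (hme.trans (Category.assoc _ _ _).symm)))
    refine ⟨Ob.obj (z k), Ob.map (φ k) ≫ i.hom, Ob.map (ez k), Ob.map m, ?_, haffOb _ (haff k), ?_, ?_, ?_, ?_⟩
    · haveI := (isCov_map Ob hcov).flat k
      rw [StMod.bmap_comp]
      infer_instance
    · rw [Category.assoc, hiu, hcu]
      exact (hcu (ez k)).symm
    · rw [Category.assoc, hiv, hcv]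
      exact (hcv (ez k)).symm
    · rw [← Category.assoc, ← Functor.map_comp, hmφ, Functor.map_comp, Category.assoc, hm₁]
      simp
    · rw [← Functor.map_comp, hme', Functor.map_comp, hm₂, Category.assoc]

end Groth.Agent.StModLib
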