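import Groth.Agent.StModLib.PairGlue
import Groth.Agent.AlgSpPts.OpenSub
import Groth.Agent.AlgStLib.OfSp

/-!
# Products of schemes over an algebraic space
-/

set_option autoImplicit false
set_option linter.style.haveILetI false
set_option linter.unusedSectionVars false
set_option backward.isDefEq.respectTransparency false
set_option backward.isDefEq.respectTransparency.types false

universe u

open CategoryTheory CategoryTheory.Limits AlgebraicGeometry AlgSp Opposite
open Groth.Agent.AlgSpLib Groth.Agent.AlgStLib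

noncomputable section

namespace Groth.Agent.StModLib

variable {S : Scheme.{u}}

/-- The map of sheaves of an object. -/
def eltMap {F : Sp S} (o : (AlgSt.ofSp F).obj) : (yon S).obj o.base ⟶ F :=
  (AlgSp.J S).uliftYonedaEquiv.symm o.sec

theorem map_sec_iff {F : Sp S} {o' o : (AlgSt.ofSp F).obj} (f : o'.base ⟶ o.base) :
    F.obj.map f.op o.sec = o'.sec ↔ (yon S).map f ≫ eltMap o = eltMap o' := by
  rw [← (AlgSp.J S).uliftYonedaEquiv.injective.eq_iff, eltMap, eltMap, Equiv.apply_symm_apply,
    ← GrothendieckTopology.uliftYonedaEquiv_naturality, Equiv.apply_symm_apply]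

theorem yon_map_eltMap {F : Sp S} {o' o : (AlgSt.ofSp F).obj} (f : o' ⟶ o) :
    (yon S).map f.hom ≫ eltMap o = eltMap o' :=
  (map_sec_iff f.hom).1 f.map_sec

section Pullback

variable {F : Sp S} {A B : Over S} {a : (yon S).obj A ⟶ F} (ha : Representable a) (b : (yon S).obj B ⟶ F)

/-- The first projection of a product over a sheaf. -/
def repFst : ha.pullback b ⟶ A := (yon S).preimage (ha.fst b)

theorem map_repFst : (yon S).map (repFst ha b) = ha.fst b := (yon S).map_preimage _

theorem repFst_w : (yon S).map (repFst ha b) ≫ a = (yon S).map (ha.snd b) ≫ b := by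
  rw [map_repFst]
  exact (ha.isPullback b).w

theorem rep_hom_ext {T : Over S} {f g : T ⟶ ha.pullback b} (h₁ : f ≫ repFst ha b = g ≫ repFst ha b)
    (h₂ : f ≫ ha.snd b = g ≫ ha.snd b) : f = g := by
  refine (yon S).map_injective ((ha.isPullback b).hom_ext ?_ ?_)
  · rw [← map_repFst, ← Functor.map_comp, ← Functor.map_comp, h₁]
  · rw [← Functor.map_comp, ← Functor.map_comp, h₂]

theorem exists_rep_lift {T : Over S} (f : T ⟶ A) (g : T ⟶ B) (h : (yon S).map f ≫ a = (yon S).map g ≫ b) :
    ∃ l : T ⟶ ha.pullback b, l ≫ repFst ha b = f ∧ l ≫ ha.snd b = g := by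
  obtain ⟨l, hl⟩ := (yon S).map_surjective ((ha.isPullback b).lift ((yon S).map f) ((yon S).map g) h)
  refine ⟨l, (yon S).map_injective ?_, (yon S).map_injective ?_⟩
  · rw [Functor.map_comp, hl, map_repFst, IsPullback.lift_fst]
  · rw [Functor.map_comp, hl, IsPullback.lift_snd]

/-- The product of two affine schemes over a sheaf is separated. -/
theorem isSeparated_rep [IsAffine A.left] [IsAffine B.left] : (ha.pullback b).left.IsSeparated := by
  let m : (ha.pullback b).left ⟶ pullback (terminal.from A.left) (terminal.from B.left) :=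
    pullback.lift (repFst ha b).left (ha.snd b).left (terminal.hom_ext _ _)
  haveI : Mono m := ⟨fun {T} f g h => by
    have h₁ : f ≫ (repFst ha b).left = g ≫ (repFst ha b).left := by
      have := congrArg (fun k => k ≫ pullback.fst _ _) h
      simpa [m] using this
    have h₂ : f ≫ (ha.snd b).left = g ≫ (ha.snd b).left := by
      have := congrArg (fun k => k ≫ pullback.snd _ _) h
      simpa [m] using this
    have hw : g ≫ (ha.pullback b).hom = f ≫ (ha.pullback b).hom := by
      rw [← Over.w (repFst ha b), ← Category.assoc, ← Category.assoc, h₁]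
    let f' : Over.mk (f ≫ (ha.pullback b).hom) ⟶ ha.pullback b := Over.homMk f rfl
    let g' : Over.mk (f ≫ (ha.pullback b).hom) ⟶ ha.pullback b := Over.homMk g hw
    exact congrArg CommaMorphism.left (rep_hom_ext ha b (f := f') (g := g') (Over.OverMorphism.ext h₁)
      (Over.OverMorphism.ext h₂))⟩
  haveI : IsSeparated m := inferInstance
  exact ⟨by rw [← terminal.comp_from m]; infer_instance⟩

end Pullback

/-- Morphisms from affine schemes are quasi-compact. -/
def HasQcProd (F : Sp S) : Prop :=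
  ∀ (A : Over S) (a : (yon S).obj A ⟶ F), IsAffine A.left → AlgSp.IsQuasiCompactMor a

theorem hasQcProd_of_qs [QuasiSeparatedSpace S] (M : Space S) (hM : IsQuasiSeparatedSp M.obj) :
    HasQcProd M.obj := fun A a hA =>
  AlgSpPts.isQuasiCompactMor_of_qc_qs (IsAlgSpace.yon_obj A) M.property
    ((AlgSpPts.isQuasiCompactSp_yon_iff A).2 inferInstance) hM a

theorem hasQcProd_yon (M : Over S) [QuasiSeparatedSpace M.left] : HasQcProd ((yon S).obj M) := fun A a hA => by
  obtain ⟨f, rfl⟩ := (yon S).map_surjective a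
  haveI := hA
  haveI : QuasiCompact (f.left ≫ terminal.from M.left) := by
    rw [terminal.comp_from]
    infer_instance
  exact AlgSpPts.isQuasiCompactMor_of_repWith ((repWith_yon_map_iff @QuasiCompact f).2
    (QuasiCompact.of_comp f.left (terminal.from M.left)))

/-- Two affine schemes over a space have a separated quasi-compact product. -/
theorem exists_prod_obj (M : Space S) (hM : HasQcProd M.obj)
    (o₁ o₂ : (AlgSt.ofSp M.obj).obj) (h₁ : IsAffine o₁.base.left) (h₂ : IsAffine o₂.base.left) :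
    ∃ (ω : (AlgSt.ofSp M.obj).obj) (a : ω ⟶ o₁) (b : ω ⟶ o₂), CompactSpace ω.base.left ∧ ω.base.left.IsSeparated ∧
      ∀ (v : (AlgSt.ofSp M.obj).obj) (f : v ⟶ o₁) (f' : v ⟶ o₂), ∃! l : v ⟶ ω, l ≫ a = f ∧ l ≫ b = f' := by
  haveI := h₁
  haveI := h₂
  have ha := M.property.representable_from_yon (eltMap o₁)
  have hcpt : CompactSpace (ha.pullback (eltMap o₂)).left := by
    refine (AlgSpPts.isQuasiCompactSp_yon_iff _).1 (hM _ (eltMap o₁) h₁ (IsAlgSpace.yon_obj o₂.base)
      ((AlgSpPts.isQuasiCompactSp_yon_iff _).2 inferInstance) (eltMap o₂) _ _ (ha.isPullback (eltMap o₂)))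
  let ω : (AlgSt.ofSp M.obj).obj :=
    ⟨ha.pullback (eltMap o₂), M.obj.obj.map (ha.snd (eltMap o₂)).op o₂.sec⟩
  have hb : (yon S).map (ha.snd (eltMap o₂)) ≫ eltMap o₂ = eltMap ω :=
    (map_sec_iff (o' := ω) (o := o₂) _).1 rfl
  let a : ω ⟶ o₁ := ⟨repFst ha (eltMap o₂), (map_sec_iff (o' := ω) (o := o₁) _).2 ((repFst_w ha _).trans hb)⟩
  let b : ω ⟶ o₂ := ⟨ha.snd (eltMap o₂), rfl⟩
  refine ⟨ω, a, b, hcpt, isSeparated_rep ha _, fun v f f' => ?_⟩
  obtain ⟨l, hl₁, hl₂⟩ := exists_rep_lift ha (eltMap o₂) f.hom f'.hom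
    ((yon_map_eltMap f).trans (yon_map_eltMap f').symm)
  have hl : M.obj.obj.map l.op ω.sec = v.sec := (map_sec_iff (o' := v) (o := ω) l).2 (by
    rw [← hb, ← Category.assoc, ← Functor.map_comp, hl₂, yon_map_eltMap])
  refine ⟨⟨l, hl⟩, ⟨Stk.EltObj.hom_ext hl₁, Stk.EltObj.hom_ext hl₂⟩, fun l' h => Stk.EltObj.hom_ext ?_⟩
  exact rep_hom_ext ha _ ((congrArg Stk.EltObj.Hom.hom h.1).trans hl₁.symm)
    ((congrArg Stk.EltObj.Hom.hom h.2).trans hl₂.symm)

theorem eltMap_etaOf {M : Sp S} (E : EtOver M) : eltMap (StMod.etaOf E) = E.obj.hom :=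
  (AlgSp.J S).uliftYonedaEquiv.symm_apply_apply _

/-- Affine schemes etale over a space are etale separated objects. -/
theorem etObj_etaOf {M : Sp S} (E : EtOver M) (hE : IsAffine E.obj.left.left) : EtObj (StMod.etaOf E) := by
  haveI := hE
  have ha : RepWith @Etale (eltMap (StMod.etaOf E)) := (eltMap_etaOf E).symm ▸ E.property
  refine ⟨fun ζ => ?_, fun ω f g => ?_⟩
  · let ω : (AlgSt.ofSp M).obj := ⟨ha.rep.pullback (eltMap ζ), M.obj.map (ha.rep.snd (eltMap ζ)).op ζ.sec⟩
    have hb : (yon S).map (ha.rep.snd (eltMap ζ)) ≫ eltMap ζ = eltMap ω :=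
      (map_sec_iff (o' := ω) (o := ζ) _).1 rfl
    let a : ω ⟶ StMod.etaOf E :=
      ⟨repFst ha.rep (eltMap ζ), (map_sec_iff (o' := ω) (o := StMod.etaOf E) _).2 ((repFst_w ha.rep _).trans hb)⟩
    let b : ω ⟶ ζ := ⟨ha.rep.snd (eltMap ζ), rfl⟩
    refine ⟨ω, b, a, ?_, fun v f f' => ?_⟩
    · have : Etale (ha.rep.snd (eltMap ζ)).left := ha.property_snd (eltMap ζ)
      exact inferInstanceAs (Flat (ha.rep.snd (eltMap ζ)).left)
    · obtain ⟨l, hl₁, hl₂⟩ := exists_rep_lift ha.rep (eltMap ζ) f'.hom f.hom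
        ((yon_map_eltMap f').trans (yon_map_eltMap f).symm)
      have hl : M.obj.map l.op ω.sec = v.sec := (map_sec_iff (o' := v) (o := ω) l).2 (by
        rw [← hb, ← Category.assoc, ← Functor.map_comp, hl₂, yon_map_eltMap])
      exact ⟨⟨l, hl⟩, Stk.EltObj.hom_ext hl₂, Stk.EltObj.hom_ext hl₁⟩
  · obtain ⟨δ, hδ₁, hδ₂⟩ := exists_rep_lift ha.rep (eltMap (StMod.etaOf E)) (𝟙 _) (𝟙 _) rfl
    obtain ⟨l, hl₁, hl₂⟩ := exists_rep_lift ha.rep (eltMap (StMod.etaOf E)) f.hom g.hom
      ((yon_map_eltMap f).trans (yon_map_eltMap g).symm)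
    let q := (ha.rep.snd (eltMap (StMod.etaOf E))).left
    have hq : δ.left ≫ q = 𝟙 _ := congrArg CommaMorphism.left hδ₂
    haveI : Etale q := ha.property_snd (eltMap (StMod.etaOf E))
    haveI : IsAffine (StMod.etaOf E).base.left := hE
    haveI : (ha.rep.pullback (eltMap (StMod.etaOf E))).left.IsSeparated := isSeparated_rep ha.rep _
    haveI : IsSeparated q := by
      haveI : IsSeparated (q ≫ terminal.from _) := by
        rw [terminal.comp_from]
        infer_instance
      exact IsSeparated.of_comp q (terminal.from _)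
    haveI hopen : IsOpenImmersion δ.left := by
      haveI hI : MorphismProperty.HasOfPostcompProperty @IsOpenImmersion
          (@FormallyUnramified ⊓ @LocallyOfFiniteType : MorphismProperty Scheme.{u}) :=
        MorphismProperty.hasOfPostcompProperty_iff_le_diagonal.mpr fun _ _ f hf => by
          haveI := hf.1
          haveI := hf.2
          exact inferInstanceAs (IsOpenImmersion (pullback.diagonal f))
      exact hI.of_postcomp δ.left q ⟨inferInstance, inferInstance⟩ (by rw [hq]; infer_instance)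
    haveI : IsClosedImmersion (δ.left ≫ q) := by rw [hq]; infer_instance
    haveI : IsClosedImmersion δ.left := IsClosedImmersion.of_comp δ.left q
    refine ⟨l.left ⁻¹ᵁ δ.left.opensRange,
      δ.left.isClosedEmbedding.isClosed_range.preimage l.left.continuous, fun ω' k => ⟨fun h => ?_, fun h => ?_⟩⟩
    · rintro _ ⟨s, rfl⟩
      have hk : k.hom ≫ l = (k.hom ≫ f.hom) ≫ δ := by
        refine rep_hom_ext ha.rep _ ?_ ?_
        · rw [Category.assoc, hl₁, Category.assoc, hδ₁, Category.comp_id]
        · rw [Category.assoc, hl₂, Category.assoc, hδ₂, Category.comp_id]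
          exact (congrArg Stk.EltObj.Hom.hom h).symm
      exact ⟨(k.hom ≫ f.hom).left s, (congr($(congrArg CommaMorphism.left hk) s) :).symm⟩
    · have hsub : Set.range (k.hom ≫ l).left ⊆ Set.range δ.left := by
        rintro _ ⟨s, rfl⟩
        exact (h ⟨s, rfl⟩ :)
      let c₀ := IsOpenImmersion.lift δ.left (k.hom ≫ l).left hsub
      have hc₀ : c₀ ≫ δ.left = (k.hom ≫ l).left := IsOpenImmersion.lift_fac _ _ hsub
      let c : ω'.base ⟶ (StMod.etaOf E).base := Over.homMk c₀ (by
        rw [← Over.w δ, ← Category.assoc, hc₀, Over.w])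
      have hc : c ≫ δ = k.hom ≫ l := Over.OverMorphism.ext hc₀
      refine Stk.EltObj.hom_ext ?_
      show k.hom ≫ f.hom = k.hom ≫ g.hom
      rw [← hl₁, ← hl₂, ← Category.assoc, ← Category.assoc, ← hc, Category.assoc, Category.assoc, hδ₁, hδ₂]

end Groth.Agent.StModLib
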