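import Groth.Agent.StModLib.FibObj
import Groth.Agent.StModLib.BCGeom
import Groth.Agent.StModLib.CohDescent
import Groth.Agent.StModLib.AtlasPairs
import Groth.Agent.AlgStLib.QuasiCompact
import Groth.Agent.AlgStLib.Diag

/-!
# Base change of cohomological affineness
-/

set_option autoImplicit false
set_option linter.style.haveILetI false
set_option backward.isDefEq.respectTransparency false
set_option backward.isDefEq.respectTransparency.types false

universe u

open CategoryTheory CategoryTheory.Limits AlgebraicGeometry AlgSp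
open Groth.Agent.AlgStLib Groth.Agent.AlgSpLib Groth.Agent.FibBase

noncomputable section

namespace Groth.Agent.StModLib

variable {S : Scheme.{u}} {𝒳 𝒴 : AlgSt.Cat S}

/-- Surjectivity on sections over an object is surjectivity on global sections of the category over it. -/
theorem surjective_relSectMap_of_fibCat {π : 𝒳 ⥤ᵇ 𝒴} {η : 𝒴.obj} {F G : StMod.Mod 𝒳} (u : F ⟶ G)
    (h : ∀ s : ∀ x, Γ((StMod.Mod.comap (StMod.fibFst π η) G).obj x, ⊤),
      (∀ {x' x : (StMod.fibCat π η).obj} (φ : x' ⟶ x),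
        (StMod.Mod.comap (StMod.fibFst π η) G).mapTop φ (s x) = s x') →
      ∃ t : ∀ x, Γ((StMod.Mod.comap (StMod.fibFst π η) F).obj x, ⊤),
        (∀ {x' x : (StMod.fibCat π η).obj} (φ : x' ⟶ x),
          (StMod.Mod.comap (StMod.fibFst π η) F).mapTop φ (t x) = t x') ∧
        ∀ x, ((StMod.Mod.comapMap (StMod.fibFst π η) u).app x).app ⊤ (t x) = s x) :
    Function.Surjective (StMod.Mod.relSectMap π u η) := by
  intro s
  let f := StMod.fibFst π η
  obtain ⟨t, ht, htu⟩ := h (fun x => (cmp f G x).symm (s.1 x.left x.hom)) fun {x' x} φ => (cmp f G x').injective (by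
    rw [cmp_mapTop, AddEquiv.apply_symm_apply, AddEquiv.apply_symm_apply]
    refine (s.2 φ.left x.hom).trans (congrArg (s.1 x'.left) ?_)
    exact CostructuredArrow.w φ)
  refine ⟨⟨fun ξ β => cmp f F (CostructuredArrow.mk β) (t (CostructuredArrow.mk β)), fun ξ' ξ φ β => ?_⟩, ?_⟩
  · have := congrArg (cmp f F (CostructuredArrow.mk (π.map φ ≫ β)))
      (ht (CostructuredArrow.homMk φ rfl : (CostructuredArrow.mk (π.map φ ≫ β) : (StMod.fibCat π η).obj) ⟶
        CostructuredArrow.mk β))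
    rw [cmp_mapTop] at this
    exact this
  · refine StMod.Mod.RelSect.ext π _ _ fun ξ β => ?_
    show (u.app ξ).app ⊤ (cmp f F (CostructuredArrow.mk β) (t (CostructuredArrow.mk β))) = s.1 ξ β
    have := congrArg (cmp f G (CostructuredArrow.mk β)) (htu (CostructuredArrow.mk β))
    rw [cmp_comapMap, AddEquiv.apply_symm_apply] at this
    exact this

/-- Cohomological affineness is stable under base change. -/
theorem isCohAffine_fpFst (h𝒳 : AlgSt.IsAlgStack Scheme.fppfPrecoverage 𝒳)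
    (M M' : AlgSp.Space S) (hM : HasQcProd M.obj) (g : M'.obj ⟶ M.obj)
    (π : 𝒳 ⥤ᵇ AlgSt.ofSp M.obj) (hqc : AlgSt.IsQuasiCompactMor Scheme.fppfPrecoverage π)
    (hqs : AlgSt.IsQuasiSeparatedMor π) (h : StMod.IsCohAffine π) :
    StMod.IsCohAffine (FibCat.fpFst (AlgSt.ofSpMap g) π) := by
  intro F G u hu E' hE'
  let g' := AlgSt.ofSpMap g
  let π' := FibCat.fpFst g' π
  have hp := h𝒳.isStack.1
  have hp' : FibCat.IsFibGrpd (AlgSt.ofSp M.obj).p := isFibGrpd_ofSp M.obj
  have hz : FibCat.IsFibGrpd (AlgSt.ofSp M'.obj).p := isFibGrpd_ofSp M'.obj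
  obtain ⟨x₀, ⟨P⟩, hd⟩ := exists_atlasObj h𝒳
  haveI : IsAffine (StMod.sch (AlgSt.ofSp M'.obj) (StMod.etaOf E')) := hE'
  have hfp := fp_isFibGrpd (F := g') (G := π) hz hp hp'
  obtain ⟨c⟩ := nonempty_pres hfp hz (isQuasiCompactMor_fpFst g' hqc) (repByAlgSpWith_diag_fpFst hqs)
    (StMod.etaOf E')
  obtain ⟨V, p, hpe, hps⟩ := M.property.atlas
  obtain ⟨κ, W, y, φ, e, hcov, -, -⟩ := exists_chart_family p hpe hps (g'.obj (StMod.etaOf E'))
  obtain ⟨y', φ', m, hcov', hm⟩ := exists_cov_lift g' hz hp' hcov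
  choose μ w χ hχ hwa _ using fun i => exists_affine_cover hz (y' i)
  let η : (Σ i, μ i) → (AlgSt.ofSp M'.obj).obj := fun j => w j.1 j.2
  let b : ∀ j, η j ⟶ StMod.etaOf E' := fun j => χ j.1 j.2 ≫ φ' j.1
  have hb := hcov'.comp hχ
  haveI : ∀ j, IsAffine (StMod.sch (AlgSt.ofSp M'.obj) (η j)) := fun j => hwa j.1 j.2
  haveI : ∀ j, Flat (StMod.bmap (AlgSt.ofSp M'.obj) (b j)) := fun j => hb.flat j
  refine surjective_of_forall_semiBC (σ := fun j => (StMod.bmap (AlgSt.ofSp M'.obj) (b j)).appTop.hom)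
    (fun j => (HasRingHomProperty.iff_of_isAffine (P := @Flat)).1 (hb.flat j))
    (exists_prime_of_cover b fun t => hb.surj t)
    (fun j => isSemiBC_relRes (b j) F.obj hfp hz c F.property)
    (fun j => isSemiBC_relRes (b j) G.obj hfp hz c G.property)
    (StMod.Mod.relSectMap π' u.hom (StMod.etaOf E'))
    (fun j => StMod.Mod.relSectMap π' u.hom (η j))
    (fun j s => relRes_map (b j) F.obj u.hom s) fun j => ?_
  let EW : EtOver M.obj := EtOver.mk
    ((yon S).map (Over.homMk (W j.1).1.ι rfl : Over.mk ((W j.1).1.ι ≫ V.hom) ⟶ V) ≫ p)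
    (repWith_comp ((repWith_yon_map_iff @Etale _).2 (inferInstanceAs (Etale (W j.1).1.ι))) hpe)
  have hEW : IsAffine EW.obj.left.left := (W j.1).2
  let B : g'.obj (η j) ⟶ StMod.etaOf EW := g'.map (χ j.1 j.2) ≫ m j.1 ≫ e j.1
  haveI hT : IsAffine (StMod.sch (AlgSt.ofSp M.obj) (g'.obj (η j))) := hwa j.1 j.2
  have hzf := isFibGrpd_fcat g' π hz hp hp' (η j)
  refine surjective_relSectMap_of_fibCat u.hom fun s hs => ?_
  refine exists_globSect_lift π hp hp' (etObj_etaOf EW hEW) (fJ g' π (η j)) hzf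
    (fun x => fCan g' π (η j) x ≫ B) (fun φ => by rw [← Category.assoc, fCan_natural]) hd P
    (fun ξ hξ => ?_) (fun r αr => exists_fibre g' π hz hp hp' (η j) B αr r.2.1 hEW hT)
    (fun A A' q hq => h q hq EW hEW)
    ((StMod.comapQ (StMod.fibFst π' (η j))).map u) s hs (fun x hx => isSurj_comapMap _ hu x hx (s x))
  haveI : IsAffine (π.obj ξ).base.left := by
    show IsAffine (StMod.sch (AlgSt.ofSp M.obj) (π.obj ξ))
    rw [StMod.sch_obj_eq π ξ]
    exact hξ
  obtain ⟨ω, a, a', hcpt, hsep, huniv⟩ := exists_prod_obj M hM (π.obj ξ) (g'.obj (η j)) inferInstance hT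
  haveI : CompactSpace (StMod.sch (AlgSt.ofSp M.obj) ω) := hcpt
  haveI : (StMod.sch (AlgSt.ofSp M.obj) ω).IsSeparated := hsep
  exact nonempty_pres_fJ g' π hz hp hp' (η j) a a' huniv

end Groth.Agent.StModLib
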