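import Groth.Agent.StModLib.Dense

/-!
# Modules from data on a dense family of affine objects
-/

set_option autoImplicit false
set_option linter.style.haveILetI false
set_option linter.unusedSectionVars false
set_option backward.isDefEq.respectTransparency false
set_option backward.isDefEq.respectTransparency.types false

universe v w u

open CategoryTheory CategoryTheory.Limits AlgebraicGeometry
open scoped TensorProduct

namespace Groth.Agent.StModLib

variable {S : Scheme.{u}} {𝒴 : AlgSt.Cat S} {T : Type v} {o : T → 𝒴.obj}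

variable (o) in
/-- The family is closed, up to isomorphism, under affine sources of morphisms into its members. -/
def IsStableAff : Prop :=
  ∀ ⦃η : 𝒴.obj⦄ ⦃t : T⦄, (η ⟶ o t) → IsAffine (StMod.sch 𝒴 η) → ∃ t', Nonempty (o t' ≅ η)

/-- A covering pulled back to a member is refined by members. -/
theorem IsStableAff.exists_pullback (hs : IsStableAff o) (hp : FibCat.IsFibGrpd 𝒴.p) {η : 𝒴.obj} {ι : Type u}
    {z : ι → 𝒴.obj} {φ : ∀ i, z i ⟶ η} (h : IsCov z φ) {t : T} (g : o t ⟶ η) :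
    ∃ (κ : Type u) (i : κ → ι) (k : κ → T) (c : ∀ l, o (k l) ⟶ o t) (d : ∀ l, o (k l) ⟶ z (i l)),
      IsCov (fun l => o (k l)) c ∧ ∀ l, c l ≫ g = d l ≫ φ (i l) := by
  obtain ⟨z', α, β, hc, hsq⟩ := h.exists_pullback hp g
  choose μ y ψ hy hya _ using fun i => exists_affine_cover hp (z' i)
  choose k hk using fun p : Σ i, μ i => hs (ψ p.1 p.2 ≫ α p.1) (hya p.1 p.2)
  exact ⟨Σ i, μ i, fun p => p.1, k, fun p => (hk p).some.hom ≫ ψ p.1 p.2 ≫ α p.1,
    fun p => (hk p).some.hom ≫ ψ p.1 p.2 ≫ β p.1, (hc.comp hy).iso_comp fun p => (hk p).some,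
    fun p => by simp only [Category.assoc, (hsq p.1).w]⟩

namespace DSys

variable {N : DSys o} {η : 𝒴.obj}

/-- Separatedness on members. -/
def IsSepAff (N : DSys o) : Prop :=
  ∀ ⦃t : T⦄ ⦃ι : Type u⦄ (k : ι → T) (φ : ∀ i, o (k i) ⟶ o t), IsCov (fun i => o (k i)) φ →
    ∀ s s' : N.obj t, (∀ i, N.res (φ i) s = N.res (φ i) s') → s = s'

variable (hp : FibCat.IsFibGrpd 𝒴.p) (hs : IsStableAff o) (haff : ∀ t, IsAffine (StMod.sch 𝒴 (o t)))

include hp hs haff in
theorem isSepAff_of_hasBC (hBC : N.HasBC) : N.IsSepAff := by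
  intro t ι k φ hφ s₁ s₂ h₁₂
  haveI := haff t
  obtain ⟨c, kk, χ, hχ, -⟩ := Sys.exists_affFam hp hφ
  choose m hm using fun j => hs (χ j) (c.aff j)
  let e := fun j => (hm j).some
  let b : ∀ j, o (m j) ⟶ o t := fun j => (e j).hom ≫ (c.z j).hom
  let s := s₁ - s₂
  have hs0 : ∀ j, N.res (b j) s = 0 := fun j => by
    have hb : b j = ((e j).hom ≫ χ j) ≫ φ (kk j) := by rw [Category.assoc, hχ]
    rw [map_sub, hb, N.res_comp, N.res_comp, h₁₂, sub_self]
  let A := Γ(StMod.sch 𝒴 (o t), ⊤)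
  letI : ∀ j, Algebra A Γ(StMod.sch 𝒴 (o (m j)), ⊤) := fun j => (StMod.bmap 𝒴 (b j)).appTop.hom.toAlgebra
  have hcov : ∀ p : PrimeSpectrum A, ∃ (j : c.J) (q : PrimeSpectrum Γ(StMod.sch 𝒴 (o (m j)), ⊤)),
      PrimeSpectrum.comap (algebraMap A Γ(StMod.sch 𝒴 (o (m j)), ⊤)) q = p := fun p => by
    haveI := hasPullbacks hp
    obtain ⟨j, q, hq⟩ := Sys.covers (c := c) p
    refine ⟨j, PrimeSpectrum.comap ((StMod.bmap 𝒴 (e j).inv).appTop.hom) q, ?_⟩
    refine Eq.trans ?_ hq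
    refine PrimeSpectrum.ext ?_
    ext r
    have k : (StMod.bmap 𝒴 (e j).inv).appTop ((StMod.bmap 𝒴 (b j)).appTop r) =
        (StMod.bmap 𝒴 (c.z j).hom).appTop r := by
      have := congr($(congrArg Scheme.Hom.appTop (StMod.bmap_comp (𝒳 := 𝒴) (e j).inv (b j))) r)
      rw [show (e j).inv ≫ b j = (c.z j).hom from Iso.inv_hom_id_assoc _ _] at this
      exact this.symm
    show (StMod.bmap 𝒴 (e j).inv).appTop ((StMod.bmap 𝒴 (b j)).appTop r) ∈ q.asIdeal ↔
      (StMod.bmap 𝒴 (c.z j).hom).appTop r ∈ q.asIdeal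
    rw [k]
  haveI : ∀ j, Module.Flat A Γ(StMod.sch 𝒴 (o (m j)), ⊤) := fun j => by
    haveI := haff (m j)
    have hfl : Flat (StMod.bmap 𝒴 (b j)) := by
      haveI := c.flat j
      show Flat (StMod.bmap 𝒴 ((e j).hom ≫ (c.z j).hom))
      rw [StMod.bmap_comp]
      infer_instance
    exact (HasRingHomProperty.iff_of_isAffine (P := @Flat)).1 hfl
  let Q : Submodule A (N.obj t) := Submodule.span A {s}
  have hsub : ∀ j, Subsingleton (Γ(StMod.sch 𝒴 (o (m j)), ⊤) ⊗[A] Q) := fun j => by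
    let B := Γ(StMod.sch 𝒴 (o (m j)), ⊤)
    haveI := haff (m j)
    letI : Module A (N.obj (m j)) := Module.compHom _ (algebraMap A B)
    haveI : IsScalarTower A B (N.obj (m j)) := IsScalarTower.of_algebraMap_smul fun _ _ => rfl
    obtain ⟨hl, hb⟩ := hBC (b j) (haff t) (haff (m j))
    have hinj : Function.Injective (Q.subtype.lTensor B) :=
      Module.Flat.lTensor_preserves_injective_linearMap _ Q.injective_subtype
    have h0 : ∀ z, hb.equiv (Q.subtype.lTensor B z) = 0 := fun z => by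
      induction z using TensorProduct.induction_on with
      | zero => rw [map_zero, map_zero]
      | add x y hx hy => rw [map_add, map_add, hx, hy, add_zero]
      | tmul r q =>
        obtain ⟨a, ha⟩ := Submodule.mem_span_singleton.1 q.2
        rw [LinearMap.lTensor_tmul, IsBaseChange.equiv_tmul]
        show r • N.res (b j) (q : N.obj t) = 0
        rw [← ha, N.res_smul, hs0, smul_zero, smul_zero]
    exact ⟨fun x y => hinj (hb.equiv.injective ((h0 x).trans (h0 y).symm))⟩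
  have hz : Subsingleton Q := by
    have hinj := DescAlg.injective_of_forall_lTensor (B := fun j => Γ(StMod.sch 𝒴 (o (m j)), ⊤)) hcov
      (0 : Q →ₗ[A] PUnit.{u + 1}) fun j x y _ => (hsub j).elim x y
    exact ⟨fun x y => hinj rfl⟩
  exact sub_eq_zero.1 (congrArg Subtype.val (hz.elim ⟨s, Submodule.mem_span_singleton_self s⟩ 0))

variable (hsep : N.IsSepAff)

include hp hs hsep in
theorem sect_eq_of_cov_aff {ι : Type u} {z : ι → 𝒴.obj} {φ : ∀ i, z i ⟶ η} (h : IsCov z φ) {s s' : N.Sect η}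
    (e : ∀ i, sectRes (φ i) s = sectRes (φ i) s') : s = s' := by
  refine sect_ext fun t g => ?_
  obtain ⟨κ, i, k, c, d, hc, hcd⟩ := hs.exists_pullback hp h g
  refine hsep k c hc _ _ fun l => ?_
  rw [ev_res, ev_res, hcd, ← ev_sectRes, ← ev_sectRes, e]

include hp hs hsep in
theorem small_sect_aff (hd : IsDense o) (η : 𝒴.obj) : Small.{u} (N.Sect η) := by
  obtain ⟨ι, k, g, hg⟩ := hd η
  refine small_of_injective (f := fun s : N.Sect η => fun i => ev (g i) s) fun s s' h => ?_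
  refine sect_eq_of_cov_aff hp hs hsep hg fun i => sect_ext fun t a => ?_
  rw [ev_sectRes, ev_sectRes, ← ev_res, ← ev_res, show ev (g i) s = ev (g i) s' from congrFun h i]

/-- Base change between objects isomorphic to members. -/
theorem bc_extSys_of_iso [∀ η, Small.{u} (N.Sect η)] (hBC : N.HasBC) {y' y : 𝒴.obj} (f : y' ⟶ y) {t' t : T}
    (e' : o t' ≅ y') (e : o t ≅ y) (h : IsAffine (StMod.sch 𝒴 y)) (h' : IsAffine (StMod.sch 𝒴 y')) :
    (extSys (N := N)).BC f := by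
  haveI := h
  haveI := h'
  haveI : IsAffine (StMod.sch 𝒴 (o t)) := IsAffine.of_isIso (StMod.bmap 𝒴 e.hom)
  haveI : IsAffine (StMod.sch 𝒴 (o t')) := IsAffine.of_isIso (StMod.bmap 𝒴 e'.hom)
  let b : o t' ⟶ o t := e'.hom ≫ f ≫ e.inv
  have hb : e'.hom ≫ f = b ≫ e.hom := by simp [b]
  rw [Sys.bc_iff]
  have hσ : ∀ {a c : 𝒴.obj} (k : a ⟶ c) [IsIso k], Function.Bijective (StMod.bmap 𝒴 k).appTop.hom :=
    fun k _ => ConcreteCategory.bijective_of_isIso _
  let E' : _ →+ (extSys (N := N)).obj y' := (AddEquiv.ofBijective _ (bijective_extEv (N := N) e')).symm.toAddMonoidHom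
  have hE' : ∀ x, E' (extEv e'.hom x) = x := fun x =>
    (AddEquiv.ofBijective _ (bijective_extEv (N := N) e')).symm_apply_apply x
  let τ : Γ(StMod.sch 𝒴 (o t'), ⊤) →+* Γ(StMod.sch 𝒴 y', ⊤) := (StMod.bmap 𝒴 e'.inv).appTop.hom
  have hτ : ∀ r, (StMod.bmap 𝒴 e'.inv).appTop ((StMod.bmap 𝒴 e'.hom).appTop r) = r := fun r => by
    have := congr($(congrArg Scheme.Hom.appTop (StMod.bmap_comp (𝒳 := 𝒴) e'.inv e'.hom)) r)
    rw [Iso.inv_hom_id, StMod.bmap_id] at this
    exact this.symm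
  have h₁ : IsSemiBC (StMod.bmap 𝒴 e.hom).appTop.hom (extEv (N := N) e.hom) :=
    isSemiBC_of_bijective (extEv_smul e.hom) (hσ e.hom) (bijective_extEv e)
  have h₂ : IsSemiBC τ E' := by
    refine isSemiBC_of_bijective (fun r m => ?_) (hσ e'.inv) (AddEquiv.bijective _)
    obtain ⟨x, rfl⟩ := (bijective_extEv (N := N) e').2 m
    obtain ⟨r', rfl⟩ := (hσ e'.hom).2 r
    rw [← extEv_smul, hE', hE']
    exact congrArg (fun c : Γ(StMod.sch 𝒴 y', ⊤) => c • x) (hτ r').symm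
  have h₃ := (h₁.comp (hBC b inferInstance inferInstance)).comp h₂
  have e₁ : (E'.comp ((N.res b).comp (extEv (N := N) e.hom))) = (extSys (N := N)).res f :=
    AddMonoidHom.ext fun x => by
      show E' (N.res b (extEv e.hom x)) = _
      rw [← extEv_res f e'.hom e.hom b hb, hE']
  have e₂ : τ.comp ((StMod.bmap 𝒴 b).appTop.hom.comp (StMod.bmap 𝒴 e.hom).appTop.hom) =
      (StMod.bmap 𝒴 f).appTop.hom := by
    refine RingHom.ext fun r => ?_
    show (StMod.bmap 𝒴 e'.inv).appTop ((StMod.bmap 𝒴 b).appTop ((StMod.bmap 𝒴 e.hom).appTop r)) = _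
    have := congr($(congrArg Scheme.Hom.appTop (StMod.bmap_comp (𝒳 := 𝒴) b e.hom)) r)
    rw [← hb, StMod.bmap_comp] at this
    refine Eq.trans (congrArg (StMod.bmap 𝒴 e'.inv).appTop this.symm) ?_
    exact hτ _
  rw [e₁, e₂] at h₃
  exact h₃

include hp hs haff in
/-- Base change between affine members gives gluing. -/
theorem isSheaf_of_hasBC_aff (hd : IsDense o) (hBC : N.HasBC) : N.IsSheaf := by
  have hsep := isSepAff_of_hasBC hp hs haff hBC
  haveI : ∀ η, Small.{u} (N.Sect η) := small_sect_aff hp hs hsep hd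
  haveI := hasPullbacks hp
  intro t ι k φ hφ
  refine ⟨hsep k φ hφ, fun x hx => ?_⟩
  haveI := haff t
  obtain ⟨c, kk, χ, hχ, hlfp⟩ := Sys.exists_affFam hp hφ
  choose m hm using fun j => hs (χ j) (c.aff j)
  let e := fun j => (hm j).some
  let M := extSys (N := N)
  have hmem : ∀ ⦃y : 𝒴.obj⦄ (j : c.J), (y ⟶ (c.z j).left) → IsAffine (StMod.sch 𝒴 y) → ∃ s, Nonempty (o s ≅ y) :=
    fun y j a ha => hs (a ≫ χ j) ha
  have hab : M.BCAbove c := fun y y' f j ⟨a⟩ h₁ h₂ => by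
    obtain ⟨s, ⟨es⟩⟩ := hmem j a h₁
    obtain ⟨s', ⟨es'⟩⟩ := hmem j (f ≫ a) h₂
    exact bc_extSys_of_iso hBC f es' es h₁ h₂
  have hb : ∀ j, M.BC (c.z j).hom := fun j =>
    bc_extSys_of_iso hBC (c.z j).hom (e j) (Iso.refl (o t)) inferInstance (c.aff j)
  choose xx hxx using fun j => (bijective_extEv (N := N) (e j)).2 (N.res ((e j).hom ≫ χ j) (x (kk j)))
  have hg : (fun j => (xx j : M.Val (c.z j))) ∈ M.glueFam c := (DescAlg.mem_glue_iff _ _ _).2 fun j l => by
    haveI := Sys.isAffine_two (c := c) hp j l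
    obtain ⟨s, ⟨es⟩⟩ := hmem j (Sys.two₀ c j l).left inferInstance
    refine (bijective_extEv (N := N) es).1 ?_
    show extEv es.hom (M.res (Sys.two₀ c j l).left (xx j)) = extEv es.hom (M.res (Sys.two₁ c j l).left (xx l))
    let a := es.hom ≫ (Sys.two₀ c j l).left ≫ (e j).inv
    let b := es.hom ≫ (Sys.two₁ c j l).left ≫ (e l).inv
    rw [extEv_res _ es.hom (e j).hom a (by simp [a]), extEv_res _ es.hom (e l).hom b (by simp [b]), hxx, hxx,
      ← N.res_comp, ← N.res_comp]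
    refine hx (kk j) (kk l) s _ _ ?_
    simp only [a, b, Category.assoc, Iso.inv_hom_id_assoc, hχ]
    exact congrArg (es.hom ≫ ·) pullback.condition
  obtain ⟨S', hS'⟩ := (Sys.bijective_toGlue hp hab hb).2 ⟨_, hg⟩
  let s := extEv (𝟙 (o t)) S'
  refine ⟨s, fun i => ?_⟩
  obtain ⟨κ, ii, k', p, d, hp', hpd⟩ := hs.exists_pullback hp (Sys.AffFam.isCov c hlfp) (φ i)
  refine hsep k' p hp' _ _ fun l => ?_
  have h₁ : N.res (p l) (x i) = N.res (d l ≫ (e (ii l).down).inv) (N.res ((e (ii l).down).hom ≫ χ (ii l).down)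
      (x (kk (ii l).down))) := by
    rw [← N.res_comp]
    refine hx i (kk (ii l).down) (k' l) _ _ ?_
    simp only [Category.assoc, Iso.inv_hom_id_assoc, hχ]
    exact hpd l
  rw [← N.res_comp, h₁, ← hxx]
  have h₂ : xx (ii l).down = M.res (c.z (ii l).down).hom S' :=
    (congrFun (congrArg Subtype.val hS') (ii l).down).symm.trans (Sys.toGlue_apply S' (ii l).down)
  rw [h₂, extEv_res (c.z (ii l).down).hom (e (ii l).down).hom (𝟙 (o t)) ((e (ii l).down).hom ≫ (c.z (ii l).down).hom)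
    (by simp), ← N.res_comp]
  refine congrArg (fun q => N.res q s) ?_
  rw [hpd l, Category.assoc, Iso.inv_hom_id_assoc]

variable (hN : N.IsSheaf)

include hp hs hN in
theorem exists_glue_aff {ι : Type u} {z : ι → 𝒴.obj} {φ : ∀ i, z i ⟶ η} (h : IsCov z φ) (x : ∀ i, N.Sect (z i))
    (hx : ∀ (i j : ι) (y : 𝒴.obj) (a : y ⟶ z i) (b : y ⟶ z j), a ≫ φ i = b ≫ φ j →
      sectRes a (x i) = sectRes b (x j)) :
    ∃ s : N.Sect η, ∀ i, sectRes (φ i) s = x i := by
  have hx' : ∀ (i j : ι) (t : T) (a : o t ⟶ z i) (b : o t ⟶ z j), a ≫ φ i = b ≫ φ j →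
      ev a (x i) = ev b (x j) := fun i j t a b e => by
    have := congrArg (ev (𝟙 (o t))) (hx i j (o t) a b e)
    rwa [ev_sectRes, ev_sectRes, Category.id_comp, Category.id_comp] at this
  have key : ∀ t (g : o t ⟶ η), ∃! m : N.obj t, ∀ t' (a : o t' ⟶ o t) (i : ι) (p : o t' ⟶ z i),
      p ≫ φ i = a ≫ g → N.res a m = ev p (x i) := fun t g => by
    obtain ⟨κ, ii, k, c, d, hc, hcd⟩ := hs.exists_pullback hp h g
    obtain ⟨m, hm⟩ := (hN k c hc).2 (fun l => ev (d l) (x (ii l))) fun i j t' a b e => by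
      rw [ev_res, ev_res]
      refine hx' (ii i) (ii j) t' _ _ ?_
      rw [Category.assoc, Category.assoc, ← hcd, ← hcd, ← Category.assoc, e, Category.assoc]
    refine ⟨m, fun t' a i p hp' => ?_, fun m' hm' => (hN k c hc).1 _ _ fun l => ?_⟩
    · obtain ⟨κ', jj, k', c', d', hc', hcd'⟩ := hs.exists_pullback hp hc a
      refine (hN k' c' hc').1 _ _ fun l => ?_
      rw [← N.res_comp, hcd' l, N.res_comp, hm (jj l), ev_res, ev_res]
      refine hx' (ii (jj l)) i _ _ _ ?_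
      rw [Category.assoc, Category.assoc, hp', ← hcd, ← Category.assoc, ← hcd' l, Category.assoc]
    · rw [hm l]
      exact hm' _ (c l) (ii l) (d l) (hcd l).symm
  choose m hm hu using key
  refine ⟨⟨m, fun t' t b g => ?_⟩, fun i => sect_ext fun t a => ?_⟩
  · refine hu t' (b ≫ g) _ fun t'' a i p hp' => ?_
    rw [← N.res_comp]
    exact hm t g t'' (a ≫ b) i p (by rw [hp', Category.assoc])
  · rw [ev_sectRes]
    show m t (a ≫ φ i) = _
    exact (N.res_id t _).symm.trans (hm t (a ≫ φ i) t (𝟙 _) i a (Category.id_comp _).symm)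

include hp hs hN in
theorem isSheaf_extSys_aff [∀ η, Small.{u} (N.Sect η)] : (extSys (N := N)).IsSheaf := by
  have hsep : N.IsSepAff := fun _ _ k φ h => (hN k φ h).1
  refine ⟨fun η ι z φ h s s' e => (equivShrink _).symm.injective (sect_eq_of_cov_aff hp hs hsep h fun i => ?_),
    fun η ι z φ h x hx => ?_⟩
  · rw [← extSys_symm_res, ← extSys_symm_res, e]
  · obtain ⟨s, hs'⟩ := exists_glue_aff hp hs hN h (fun i => (equivShrink _).symm (x i)) fun i j y a b e => by
      rw [← extSys_symm_res, ← extSys_symm_res, hx i j y a b e]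
    refine ⟨equivShrink _ s, fun i => (equivShrink _).symm.injective ?_⟩
    rw [extSys_symm_res, Equiv.symm_apply_apply, hs']

include hp hs hN in
theorem hasBC_extSys_aff [∀ η, Small.{u} (N.Sect η)] (hd : IsDense o) (hBC : N.HasBC) :
    (extSys (N := N)).HasBC := by
  refine Sys.hasBC_of_local hp (isSheaf_extSys_aff hp hs hN) (fun η => ∃ t, Nonempty (η ⟶ o t))
    (fun y' y f ⟨t, ⟨a⟩⟩ => ⟨t, ⟨f ≫ a⟩⟩) (fun y' y f ⟨t, ⟨a⟩⟩ h h' => ?_) fun η => ?_
  · obtain ⟨s, ⟨e⟩⟩ := hs a h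
    obtain ⟨s', ⟨e'⟩⟩ := hs (f ≫ a) h'
    exact bc_extSys_of_iso hBC f e' e h h'
  · obtain ⟨ι, k, g, hg⟩ := hd η
    exact ⟨ι, fun i => o (k i), g, hg, fun i => ⟨k i, ⟨𝟙 _⟩⟩⟩

end DSys

/-- Data with base change on a dense family of affine objects glue to a quasi-coherent module. -/
theorem exists_qcoh_of_denseAff (hp : FibCat.IsFibGrpd 𝒴.p) (hd : IsDense o) (hs : IsStableAff o)
    (haff : ∀ t, IsAffine (StMod.sch 𝒴 (o t))) (N : DSys o) (hBC : N.HasBC) :
    ∃ (G : StMod.QCoh 𝒴) (θ : ∀ t, Γ(G.obj.obj (o t), ⊤) →+ N.obj t),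
      (∀ t, Function.Bijective (θ t)) ∧
      (∀ t (r : Γ(StMod.sch 𝒴 (o t), ⊤)) (x : Γ(G.obj.obj (o t), ⊤)), θ t (r • x) = r • θ t x) ∧
      ∀ {t' t : T} (φ : o t' ⟶ o t) (x : Γ(G.obj.obj (o t), ⊤)), θ t' (G.obj.mapTop φ x) = N.res φ (θ t x) := by
  have hN := DSys.isSheaf_of_hasBC_aff hp hs haff hd hBC
  haveI : ∀ η, Small.{u} (N.Sect η) := DSys.small_sect_aff hp hs (DSys.isSepAff_of_hasBC hp hs haff hBC) hd
  obtain ⟨G, θ, hb, hl, hn⟩ := exists_qcoh_of_sys hp (DSys.extSys (N := N))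
    (DSys.isSheaf_extSys_aff hp hs hN) (DSys.hasBC_extSys_aff hp hs hN hd hBC)
  refine ⟨G, fun t => (DSys.extEv (𝟙 (o t))).comp (θ (o t)), fun t => ?_, fun t r x => ?_, fun {t' t} φ x => ?_⟩
  · exact (DSys.bijective_extEv (Iso.refl (o t))).comp (hb _)
  · show DSys.extEv (𝟙 (o t)) (θ (o t) (r • x)) = r • DSys.extEv (𝟙 (o t)) (θ (o t) x)
    rw [hl, DSys.extEv_smul, StMod.bmap_id]
    rfl
  · show DSys.extEv (𝟙 (o t')) (θ (o t') (G.obj.mapTop φ x)) = N.res φ (DSys.extEv (𝟙 (o t)) (θ (o t) x))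
    rw [hn, DSys.extEv_res φ (𝟙 (o t')) (𝟙 (o t)) φ (by simp)]

/-- Natural linear families on a dense family of affine objects extend to morphisms of modules. -/
theorem exists_hom_of_denseAff (hp : FibCat.IsFibGrpd 𝒴.p) (hd : IsDense o) (hs : IsStableAff o)
    {G G' : StMod.Mod 𝒴} (hG' : StMod.isQCoh 𝒴 G')
    (m : ∀ t, Γ(G.obj (o t), ⊤) →+ Γ(G'.obj (o t), ⊤))
    (hlin : ∀ t (r : Γ(StMod.sch 𝒴 (o t), ⊤)) (x : Γ(G.obj (o t), ⊤)), m t (r • x) = r • m t x)
    (hnat : ∀ {t' t : T} (φ : o t' ⟶ o t) (x : Γ(G.obj (o t), ⊤)), G'.mapTop φ (m t x) = m t' (G.mapTop φ x)) :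
    ∃ a : G ⟶ G', ∀ t (x : Γ(G.obj (o t), ⊤)), (a.app (o t)).app ⊤ x = m t x := by
  have hS := isSheaf_modSys hp hG'
  have key : ∀ η (x : Γ(G.obj η, ⊤)), ∃! y : Γ(G'.obj η, ⊤), ∀ t (g : o t ⟶ η),
      G'.mapTop g y = m t (G.mapTop g x) := fun η x => by
    obtain ⟨ι, k, g, hg⟩ := hd η
    obtain ⟨y, hy⟩ := hS.2 _ g hg (fun i => m (k i) (G.mapTop (g i) x)) fun i j z a b e => by
      obtain ⟨μ, w, ψ, hw, hwa, -⟩ := exists_affine_cover hp z
      refine hS.1 w ψ hw _ _ fun l => ?_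
      obtain ⟨t', ⟨c⟩⟩ := hs (ψ l ≫ a) (hwa l)
      refine mapTop_injective_of_isIso G' c.hom ?_
      show G'.mapTop c.hom (G'.mapTop (ψ l) (G'.mapTop a _)) = G'.mapTop c.hom (G'.mapTop (ψ l) (G'.mapTop b _))
      rw [← StMod.Mod.mapTop_comp, ← StMod.Mod.mapTop_comp, hnat, ← StMod.Mod.mapTop_comp, ← StMod.Mod.mapTop_comp,
        ← StMod.Mod.mapTop_comp, hnat, ← StMod.Mod.mapTop_comp]
      simp only [Category.assoc, e]
    refine ⟨y, fun t g' => ?_, fun y' hy' => hS.1 _ g hg _ _ fun i => (hy' _ (g i)).trans (hy i).symm⟩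
    obtain ⟨κ, ii, k', c, d, hc, hcd⟩ := hs.exists_pullback hp hg g'
    refine hS.1 _ c hc _ _ fun l => ?_
    show G'.mapTop (c l) _ = G'.mapTop (c l) _
    rw [← StMod.Mod.mapTop_comp, hnat, ← StMod.Mod.mapTop_comp, hcd, StMod.Mod.mapTop_comp,
      show G'.mapTop (g (ii l)) y = m _ _ from hy (ii l), hnat, ← StMod.Mod.mapTop_comp]
  choose h hh hu using key
  have hadd : ∀ η (x y : Γ(G.obj η, ⊤)), h η (x + y) = h η x + h η y := fun η x y =>
    (hu η (x + y) _ fun t g => by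
      rw [StMod.Mod.mapTop_add, hh, hh, ← map_add, ← StMod.Mod.mapTop_add]).symm
  obtain ⟨a, ha⟩ := exists_hom_sys hp hG'.1 (fun η => AddMonoidHom.mk' (h η) (hadd η))
    (fun η r x => (hu η (r • x) _ fun t g => by
      show G'.mapTop g (r • h η x) = _
      rw [StMod.Mod.mapTop_smul, hh, StMod.Mod.mapTop_smul, hlin]).symm)
    (fun {η' η} φ x => hu η' (G.mapTop φ x) _ fun t g => by
      show G'.mapTop g (G'.mapTop φ (h η x)) = _
      rw [← StMod.Mod.mapTop_comp, hh, StMod.Mod.mapTop_comp])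
  refine ⟨a, fun t x => (ha (o t) x).trans ?_⟩
  have := hh (o t) x t (𝟙 _)
  rwa [StMod.Mod.mapTop_id, StMod.Mod.mapTop_id] at this

/-- A morphism surjective on the members of a dense family is surjective over affine objects. -/
theorem isSurj_of_denseAff (hp : FibCat.IsFibGrpd 𝒴.p) (hd : IsDense o) (hs : IsStableAff o)
    {G G' : StMod.QCoh 𝒴} (a : G.obj ⟶ G'.obj)
    (h : ∀ t, Function.Surjective ((a.app (o t)).app ⊤)) : StMod.Mod.IsSurj a := by
  intro η hη y
  haveI := hη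
  haveI := hasPullbacks hp
  obtain ⟨ι, k, g, hg⟩ := hd η
  obtain ⟨c, kk, χ, hχ, -⟩ := Sys.exists_affFam hp hg
  let R := Γ(StMod.sch 𝒴 η, ⊤)
  let l : Γ(G.obj.obj η, ⊤) →ₗ[R] Γ(G'.obj.obj η, ⊤) :=
    { toFun := (a.app η).app ⊤
      map_add' := map_add _
      map_smul' := fun r v => Scheme.Modules.Hom.app_smul (a.app η) r v }
  have hsub : ∀ j, Subsingleton (Sys.Fn (c.z j) ⊗[R] (Γ(G'.obj.obj η, ⊤) ⧸ LinearMap.range l)) := fun j => by
    obtain ⟨hl', hbc⟩ := (Sys.bc_iff (c.z j).hom).1 (hasBC_modSys G'.property (c.z j).hom hη (c.aff j))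
    letI := (StMod.bmap 𝒴 (c.z j).hom).appTop.hom.toAlgebra
    letI : Module R ((modSys G'.obj).obj (c.z j).left) :=
      Module.compHom _ (StMod.bmap 𝒴 (c.z j).hom).appTop.hom
    haveI : IsScalarTower R Γ(StMod.sch 𝒴 (c.z j).left, ⊤) ((modSys G'.obj).obj (c.z j).left) :=
      IsScalarTower.of_algebraMap_smul fun _ _ => rfl
    obtain ⟨t', ⟨e⟩⟩ := hs (χ j) (c.aff j)
    let B := Γ(StMod.sch 𝒴 (c.z j).left, ⊤)
    have hsj : Function.Surjective ((a.app (c.z j).left).app ⊤) := fun v => by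
      obtain ⟨u, hu⟩ := h t' (G'.obj.mapTop e.hom v)
      refine ⟨G.obj.mapTop e.inv u, ?_⟩
      rw [← StMod.Mod.mapTop_app, hu, ← StMod.Mod.mapTop_comp, e.inv_hom_id, StMod.Mod.mapTop_id]
    obtain ⟨hl'', hbc'⟩ := (Sys.bc_iff (c.z j).hom).1 (hasBC_modSys G.property (c.z j).hom hη (c.aff j))
    letI : Module R ((modSys G.obj).obj (c.z j).left) :=
      Module.compHom _ (StMod.bmap 𝒴 (c.z j).hom).appTop.hom
    haveI : IsScalarTower R Γ(StMod.sch 𝒴 (c.z j).left, ⊤) ((modSys G.obj).obj (c.z j).left) :=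
      IsScalarTower.of_algebraMap_smul fun _ _ => rfl
    have hcomm : ∀ s, hbc.equiv (l.lTensor B s) = ((a.app (c.z j).left).app ⊤) (hbc'.equiv s) := fun s => by
      induction s using TensorProduct.induction_on with
      | zero => simp only [map_zero]
      | add p q hp hq =>
        simp only [map_add, hp, hq]
      | tmul b v =>
        rw [LinearMap.lTensor_tmul, IsBaseChange.equiv_tmul, IsBaseChange.equiv_tmul]
        refine Eq.trans ?_ (Scheme.Modules.Hom.app_smul (a.app (c.z j).left) b _).symm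
        exact congrArg (fun v : Γ(G'.obj.obj (c.z j).left, ⊤) => b • v)
          (StMod.Mod.mapTop_app a (c.z j).hom v)
    have hzero : ∀ q, (LinearMap.range l).mkQ.lTensor B q = 0 := fun q => by
      obtain ⟨u, hu⟩ := hsj (hbc.equiv q)
      obtain ⟨s, rfl⟩ := hbc'.equiv.surjective u
      rw [← hcomm] at hu
      rw [← hbc.equiv.injective hu]
      show ((LinearMap.range l).mkQ.lTensor B).comp (l.lTensor B) s = 0
      rw [← LinearMap.lTensor_comp, LinearMap.range_mkQ_comp, LinearMap.lTensor_zero]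
      rfl
    refine ⟨fun p q => ?_⟩
    obtain ⟨p', rfl⟩ := LinearMap.lTensor_surjective B (Submodule.mkQ_surjective (LinearMap.range l)) p
    obtain ⟨q', rfl⟩ := LinearMap.lTensor_surjective B (Submodule.mkQ_surjective (LinearMap.range l)) q
    rw [hzero, hzero]
  haveI : Subsingleton (Γ(G'.obj.obj η, ⊤) ⧸ LinearMap.range l) := by
    have hinj := DescAlg.injective_of_forall_lTensor (B := fun j => Sys.Fn (c.z j)) (Sys.covers (c := c))
      (0 : (Γ(G'.obj.obj η, ⊤) ⧸ LinearMap.range l) →ₗ[R] PUnit.{u + 1}) fun j p q _ => (hsub j).elim p q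
    exact ⟨fun p q => hinj rfl⟩
  have := (Submodule.Quotient.subsingleton_iff (p := LinearMap.range l)).1 inferInstance
  exact LinearMap.range_eq_top.1 this y

end Groth.Agent.StModLib
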