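import Groth.Agent.StModLib.PairTri
import Groth.Agent.StModLib.SemiPull
import Groth.Agent.StModLib.DenseAff

/-!
# Quasi-coherent modules from data with flat base change on affine objects flat over an atlas
-/

set_option autoImplicit false
set_option linter.style.haveILetI false
set_option linter.unusedSectionVars false
set_option backward.isDefEq.respectTransparency false
set_option backward.isDefEq.respectTransparency.types false

universe u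

open CategoryTheory CategoryTheory.Limits AlgebraicGeometry

noncomputable section

namespace Groth.Agent.StModLib

variable {S : Scheme.{u}} {𝒳 : AlgSt.Cat S}

/-- The map on global functions. -/
abbrev fn {y x : 𝒳.obj} (φ : y ⟶ x) : Γ(StMod.sch 𝒳 x, ⊤) →+* Γ(StMod.sch 𝒳 y, ⊤) :=
  (StMod.bmap 𝒳 φ).appTop.hom

theorem fn_comp {z y x : 𝒳.obj} (ψ : z ⟶ y) (φ : y ⟶ x) : fn (ψ ≫ φ) = (fn ψ).comp (fn φ) := by
  show (StMod.bmap 𝒳 (ψ ≫ φ)).appTop.hom = _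
  rw [StMod.bmap_comp, Scheme.Hom.comp_appTop]
  rfl

theorem fn_id (x : 𝒳.obj) : fn (𝟙 x) = RingHom.id _ := by
  show (StMod.bmap 𝒳 (𝟙 x)).appTop.hom = _
  rw [StMod.bmap_id]
  rfl

theorem flat_fn {y x : 𝒳.obj} (φ : y ⟶ x) (hy : IsAffine (StMod.sch 𝒳 y)) (hx : IsAffine (StMod.sch 𝒳 x))
    (h : Flat (StMod.bmap 𝒳 φ)) : (fn φ).Flat :=
  (HasRingHomProperty.iff_of_isAffine (P := @Flat)).1 h

theorem Sys.AffFam.covers_fn (hp : FibCat.IsFibGrpd 𝒳.p) {η : 𝒳.obj} (c : Sys.AffFam η)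
    (hη : IsAffine (StMod.sch 𝒳 η)) (p : PrimeSpectrum Γ(StMod.sch 𝒳 η, ⊤)) :
    ∃ (j : c.J) (q : PrimeSpectrum Γ(StMod.sch 𝒳 (c.z j).left, ⊤)), PrimeSpectrum.comap (fn (c.z j).hom) q = p := by
  haveI := hη
  haveI := hasPullbacks hp
  exact Sys.covers (c := c) p

variable {x₀ : 𝒳.obj} (N : DSys (Subtype.val : FMem x₀ → 𝒳.obj))

/-- Base change along flat morphisms of members. -/
def FlatBC : Prop :=
  ∀ ⦃p q : FMem x₀⦄ (f : p.1 ⟶ q.1), Flat (StMod.bmap 𝒳 f) → IsSemiBC (fn f) (N.res f)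

variable {N}

/-- Base change along flat morphisms gives base change along all morphisms of members. -/
theorem hasBC_of_flatBC (hp : FibCat.IsFibGrpd 𝒳.p) (P : PairAtlas x₀) (h : FlatBC N) :
    ∀ ⦃p q : FMem x₀⦄ (f : p.1 ⟶ q.1), IsSemiBC (fn f) (N.res f) := by
  intro p q f
  haveI := p.2.1
  obtain ⟨κ, R, c, d, hc, hd, hcov, -⟩ := exists_pair hp P p q
  obtain ⟨ι, z, φ, hφ, hk⟩ := hcov p.1 (𝟙 _) f
  obtain ⟨C, k, χ, hχ, -⟩ := Sys.exists_affFam hp hφ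
  choose l e he₁ he₂ using fun i => (hk i).2
  let v : C.J → FMem x₀ := fun j => ⟨(C.z j).left, IsFlatMem.of_flat p.2 (C.z j).hom (C.flat j) (C.aff j)⟩
  let g : ∀ j, (v j).1 ⟶ (R (l (k j))).1 := fun j => χ j ≫ e (k j)
  have hg₁ : ∀ j, g j ≫ c (l (k j)) = (C.z j).hom := fun j => by
    simp only [g, Category.assoc, he₁, Category.comp_id, hχ]
  have hg₂ : ∀ j, g j ≫ d (l (k j)) = (C.z j).hom ≫ f := fun j => by
    simp only [g, Category.assoc, he₂]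
    rw [← Category.assoc, hχ]
  refine IsSemiBC.of_cover (O' := fun j => N.obj (v j)) (C' := fun j => Γ(StMod.sch 𝒳 (v j).1, ⊤))
    (N.res_smul f) (fun j => fn (C.z j).hom) (fun j => N.res (t' := v j) (t := p) (C.z j).hom)
    (fun j => flat_fn _ (C.aff j) p.2.1 (C.flat j)) (Sys.AffFam.covers_fn hp C p.2.1)
    (fun j => h (p := v j) (q := p) _ (C.flat j)) fun j => ?_
  have hg : IsSemiBC (fn (g j)) (N.res (t' := v j) (g j)) := by
    refine IsSemiBC.of_comp (h (c (l (k j))) (hc _)) (N.res_smul (g j)) ?_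
    have e₁ : (N.res (t' := v j) (g j)).comp (N.res (c (l (k j)))) = N.res (t' := v j) (t := p) (C.z j).hom :=
      AddMonoidHom.ext fun n => by
        show N.res (g j) (N.res (c _) n) = _
        rw [← N.res_comp, hg₁]
    rw [e₁, ← fn_comp, hg₁]
    exact h (p := v j) (q := p) _ (C.flat j)
  have := (h (d (l (k j))) (hd _)).comp hg
  have e₂ : (N.res (t' := v j) (g j)).comp (N.res (d (l (k j)))) =
      (N.res (t' := v j) (t := p) (C.z j).hom).comp (N.res f) :=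
    AddMonoidHom.ext fun n => by
      show N.res (g j) (N.res (d _) n) = N.res (C.z j).hom (N.res f n)
      rw [← N.res_comp, hg₂, N.res_comp]
  rw [← fn_comp, hg₂, fn_comp, e₂] at this
  exact this

section

variable {t t' t'' : 𝒳.obj} {p p' p'' q q' r : FMem x₀}

variable (N) in
/-- The base change of the sections over a member along a morphism into it. -/
abbrev Val (a : t ⟶ p.1) : Type u := Pull (fn a) (N.obj p)

theorem exists_mor {a : t ⟶ p.1} {a' : t' ⟶ p'.1} {φ : t' ⟶ t} {c : p'.1 ⟶ p.1} (h : a' ≫ c = φ ≫ a) :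
    ∃ g : Val N a →+ Val N a', (∀ (r : Γ(StMod.sch 𝒳 t, ⊤)) (x : Val N a), g (r • x) = fn φ r • g x) ∧
      ∀ n, g (Pull.ι _ _ n) = Pull.ι _ _ (N.res c n) := by
  refine (Pull.isSemiBC_ι (fn a) (N.obj p)).exists_lift (fn φ)
    ((Pull.ι (fn a') (N.obj p')).comp (N.res c)) fun r m => ?_
  show Pull.ι (fn a') (N.obj p') (N.res c (r • m)) = _
  rw [N.res_smul, (Pull.isSemiBC_ι (fn a') (N.obj p')).choose]
  refine congrArg (fun s : Γ(StMod.sch 𝒳 t', ⊤) => s • Pull.ι (fn a') (N.obj p') (N.res c m)) ?_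
  show (fn a').comp (fn c) r = (fn φ).comp (fn a) r
  rw [← fn_comp, ← fn_comp, h]

/-- Transport between base changes. -/
def mor {a : t ⟶ p.1} {a' : t' ⟶ p'.1} {φ : t' ⟶ t} {c : p'.1 ⟶ p.1} (h : a' ≫ c = φ ≫ a) :
    Val N a →+ Val N a' :=
  (exists_mor h).choose

theorem mor_smul {a : t ⟶ p.1} {a' : t' ⟶ p'.1} {φ : t' ⟶ t} {c : p'.1 ⟶ p.1} (h : a' ≫ c = φ ≫ a)
    (r : Γ(StMod.sch 𝒳 t, ⊤)) (x : Val N a) : mor h (r • x) = fn φ r • mor (N := N) h x :=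
  (exists_mor h).choose_spec.1 r x

theorem mor_ι {a : t ⟶ p.1} {a' : t' ⟶ p'.1} {φ : t' ⟶ t} {c : p'.1 ⟶ p.1} (h : a' ≫ c = φ ≫ a) (n : N.obj p) :
    mor h (Pull.ι (fn a) (N.obj p) n) = Pull.ι (fn a') (N.obj p') (N.res c n) :=
  (exists_mor h).choose_spec.2 n

theorem mor_mor {a : t ⟶ p.1} {a' : t' ⟶ p'.1} {a'' : t'' ⟶ p''.1} {φ : t' ⟶ t} {φ' : t'' ⟶ t'} {c : p'.1 ⟶ p.1}
    {c' : p''.1 ⟶ p'.1} {φ'' : t'' ⟶ t} {c'' : p''.1 ⟶ p.1} (h : a' ≫ c = φ ≫ a) (h' : a'' ≫ c' = φ' ≫ a')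
    (h'' : a'' ≫ c'' = φ'' ≫ a) (eφ : φ' ≫ φ = φ'') (ec : c' ≫ c = c'') (x : Val N a) :
    mor h' (mor h x) = mor h'' x := by
  subst eφ ec
  exact congr($((Pull.isSemiBC_ι (fn a) (N.obj p)).ext (τ := fn (φ' ≫ φ)) (g := (mor h').comp (mor h)) (g' := mor h'')
    (fun r x => by
      show mor h' (mor h (r • x)) = _ • mor h' (mor h x)
      rw [mor_smul, mor_smul, fn_comp]
      rfl)
    (mor_smul h'') fun n => by
      show mor h' (mor h _) = _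
      rw [mor_ι, mor_ι, mor_ι, ← N.res_comp]) x)

theorem mor_congr {a : t ⟶ p.1} {a' : t' ⟶ p'.1} {φ φ' : t' ⟶ t} {c c' : p'.1 ⟶ p.1} (h : a' ≫ c = φ ≫ a)
    (h' : a' ≫ c' = φ' ≫ a) (eφ : φ = φ') (ec : c = c') (x : Val N a) : mor h x = mor h' x := by
  subst eφ ec
  rfl

theorem mor_id {a : t ⟶ p.1} (h : a ≫ 𝟙 p.1 = 𝟙 t ≫ a) (x : Val N a) : mor h x = x :=
  congr($((Pull.isSemiBC_ι (fn a) (N.obj p)).ext (τ := RingHom.id _) (g := mor h) (g' := AddMonoidHom.id _)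
    (fun r x => by rw [mor_smul, fn_id]) (fun _ _ => rfl) fun n => by
      rw [mor_ι, N.res_id]
      rfl) x)

/-- Pullback of a base change. -/
def pullR (φ : t' ⟶ t) (a : t ⟶ p.1) : Val N a →+ Val N (φ ≫ a) :=
  mor (c := 𝟙 p.1) (φ := φ) (Category.comp_id _)

variable (N) in
/-- Base change along all morphisms of members. -/
def MemBC : Prop := ∀ ⦃p q : FMem x₀⦄ (f : p.1 ⟶ q.1), IsSemiBC (fn f) (N.res f)

variable (hN : MemBC N)

include hN in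
theorem isSemiBC_mor {a : t ⟶ p.1} {a' : t' ⟶ p'.1} {φ : t' ⟶ t} {c : p'.1 ⟶ p.1} (h : a' ≫ c = φ ≫ a) :
    IsSemiBC (fn φ) (mor (N := N) h) := by
  refine IsSemiBC.of_comp (Pull.isSemiBC_ι (fn a) (N.obj p)) (mor_smul h) ?_
  rw [show (mor (N := N) h).comp (Pull.ι (fn a) (N.obj p)) = (Pull.ι (fn a') (N.obj p')).comp (N.res c) from
    AddMonoidHom.ext (mor_ι h), ← fn_comp, ← h, fn_comp]
  exact (hN c).comp (Pull.isSemiBC_ι (fn a') (N.obj p'))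

include hN in
theorem bijective_mor {a : t ⟶ p.1} {a' : t ⟶ p'.1} {c : p'.1 ⟶ p.1} (h : a' ≫ c = 𝟙 t ≫ a) :
    Function.Bijective (mor (N := N) h) := by
  have := isSemiBC_mor hN h
  rw [fn_id] at this
  exact this.bijective_of_id

variable (hp : FibCat.IsFibGrpd 𝒳.p)

include hN hp in
/-- Base changes are separated along coverings. -/
theorem val_ext {a : t ⟶ p.1} (ht : IsAffine (StMod.sch 𝒳 t)) {ι : Type u} {z : ι → 𝒳.obj} {φ : ∀ i, z i ⟶ t}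
    (hφ : IsCov z φ) {x y : Val N a}
    (h : ∀ i, ∃ (p' : FMem x₀) (a' : z i ⟶ p'.1) (c : p'.1 ⟶ p.1) (h : a' ≫ c = φ i ≫ a), mor h x = mor h y) :
    x = y := by
  haveI := ht
  obtain ⟨C, k, χ, hχ, -⟩ := Sys.exists_affFam hp hφ
  refine eq_of_forall_semiBC (N := fun j => Val N ((C.z j).hom ≫ a))
    (σ := fun j => fn (C.z j).hom) (l := fun j => pullR (C.z j).hom a) (fun j => flat_fn _ (C.aff j) ht (C.flat j))
    (Sys.AffFam.covers_fn hp C ht) (fun j => isSemiBC_mor hN _) fun j => ?_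
  obtain ⟨p', a', c, hc, he⟩ := h (k j)
  have h₁ : (χ j ≫ a') ≫ c = 𝟙 _ ≫ ((C.z j).hom ≫ a) := by
    rw [Category.id_comp, ← hχ, Category.assoc, Category.assoc, hc]
  refine (bijective_mor hN h₁).1 ?_
  have h₂ : (χ j ≫ a') ≫ c = (C.z j).hom ≫ a := by rw [h₁, Category.id_comp]
  have h₃ : (χ j ≫ a') ≫ 𝟙 _ = χ j ≫ a' := Category.comp_id _
  rw [pullR, mor_mor _ h₁ h₂ (Category.id_comp _) (Category.comp_id _),
    mor_mor _ h₁ h₂ (Category.id_comp _) (Category.comp_id _),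
    ← mor_mor hc h₃ h₂ (hχ j) (Category.id_comp _), ← mor_mor hc h₃ h₂ (hχ j) (Category.id_comp _), he]

/-- Two elements agree when they agree on all triangles. -/
def Agree {a : t ⟶ p.1} {b : t ⟶ q.1} (x : Val N a) (y : Val N b) : Prop :=
  ∀ ⦃t' : 𝒳.obj⦄, IsAffine (StMod.sch 𝒳 t') → ∀ (φ : t' ⟶ t) (r : FMem x₀) (e : t' ⟶ r.1) (c : r.1 ⟶ p.1)
    (d : r.1 ⟶ q.1) (hc : e ≫ c = φ ≫ a) (hd : e ≫ d = φ ≫ b), mor hc x = mor hd y

include hN in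
theorem eq_of_span {a : t ⟶ p.1} {b : t ⟶ q.1} {x : Val N a} {y : Val N b} {φ : t' ⟶ t}
    {r r' w : FMem x₀} {e : t' ⟶ r.1} {c : r.1 ⟶ p.1} {d : r.1 ⟶ q.1} {e' : t' ⟶ r'.1} {c' : r'.1 ⟶ p.1}
    {d' : r'.1 ⟶ q.1} (hc : e ≫ c = φ ≫ a) (hd : e ≫ d = φ ≫ b) (hc' : e' ≫ c' = φ ≫ a) (hd' : e' ≫ d' = φ ≫ b)
    {m : t' ⟶ w.1} {g : w.1 ⟶ r.1} {g' : w.1 ⟶ r'.1} (hg : m ≫ g = e) (hg' : m ≫ g' = e')
    (hgc : g ≫ c = g' ≫ c') (hgd : g ≫ d = g' ≫ d') (he : mor hc x = mor hd y) : mor hc' x = mor hd' y := by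
  have h₁ : m ≫ g = 𝟙 t' ≫ e := by rw [hg, Category.id_comp]
  have h₂ : m ≫ g' = 𝟙 t' ≫ e' := by rw [hg', Category.id_comp]
  have ha : m ≫ (g ≫ c) = φ ≫ a := by rw [← Category.assoc, hg, hc]
  have hb : m ≫ (g ≫ d) = φ ≫ b := by rw [← Category.assoc, hg, hd]
  refine (bijective_mor hN h₂).1 ?_
  rw [mor_mor hc' h₂ ha (Category.id_comp _) hgc.symm, mor_mor hd' h₂ hb (Category.id_comp _) hgd.symm,
    ← mor_mor hc h₁ ha (Category.id_comp _) rfl, ← mor_mor hd h₁ hb (Category.id_comp _) rfl, he]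

variable (P : PairAtlas x₀)

include hN hp P in
/-- All triangles over the same object give the same answer. -/
theorem eq_of_triangle {a : t ⟶ p.1} {b : t ⟶ q.1} {x : Val N a} {y : Val N b} (ht' : IsAffine (StMod.sch 𝒳 t'))
    {φ : t' ⟶ t} {r r' : FMem x₀} {e : t' ⟶ r.1} {c : r.1 ⟶ p.1} {d : r.1 ⟶ q.1} {e' : t' ⟶ r'.1}
    {c' : r'.1 ⟶ p.1} {d' : r'.1 ⟶ q.1} (hc : e ≫ c = φ ≫ a) (hd : e ≫ d = φ ≫ b) (hc' : e' ≫ c' = φ ≫ a)
    (hd' : e' ≫ d' = φ ≫ b) (he : mor hc x = mor hd y) : mor hc' x = mor hd' y := by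
  obtain ⟨κ, R, c₀, d₀, -, -, hcov, hcmp⟩ := exists_pair hp P p q
  obtain ⟨ι, z, ψ, hψ, hk⟩ := hcov t' (φ ≫ a) (φ ≫ b)
  choose k e₀ he₁ he₂ using fun i => (hk i).2
  choose ι₁ z₁ ψ₁ hψ₁ hr₁ using fun i => hcmp r c d (z i) (k i) (ψ i ≫ e) (e₀ i)
    (by rw [Category.assoc, hc, he₁]) (by rw [Category.assoc, hd, he₂])
  choose w a₁ b₁ m₁ hw₁ hw₂ hw₃ hw₄ using fun (j : Σ i, ι₁ i) => (hr₁ j.1 j.2).2
  choose ι₂ z₂ ψ₂ hψ₂ hr₂ using fun (j : Σ i, ι₁ i) => hcmp r' c' d' (z₁ j.1 j.2) (k j.1)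
    (ψ₁ j.1 j.2 ≫ ψ j.1 ≫ e') (ψ₁ j.1 j.2 ≫ e₀ j.1)
    (by simp only [Category.assoc, hc', he₁]) (by simp only [Category.assoc, hd', he₂])
  choose w' a₂ b₂ m₂ hv₁ hv₂ hv₃ hv₄ using fun (l : Σ j : (Σ i, ι₁ i), ι₂ j) => (hr₂ l.1 l.2).2
  refine val_ext hN hp ht' ((hψ.comp hψ₁).comp hψ₂) fun l => ?_
  obtain ⟨⟨i, j⟩, n⟩ := l
  let Φ := ψ₂ ⟨i, j⟩ n ≫ ψ₁ i j ≫ ψ i
  have h₀ : (Φ ≫ e') ≫ 𝟙 r'.1 = Φ ≫ e' := Category.comp_id _
  have hC : (Φ ≫ e) ≫ c = (Φ ≫ φ) ≫ a := by simp only [Category.assoc, hc]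
  have hD : (Φ ≫ e) ≫ d = (Φ ≫ φ) ≫ b := by simp only [Category.assoc, hd]
  have hC' : (Φ ≫ e') ≫ c' = (Φ ≫ φ) ≫ a := by simp only [Category.assoc, hc']
  have hD' : (Φ ≫ e') ≫ d' = (Φ ≫ φ) ≫ b := by simp only [Category.assoc, hd']
  refine ⟨r', Φ ≫ e', 𝟙 _, h₀, ?_⟩
  rw [mor_mor hc' h₀ hC' rfl (Category.id_comp _), mor_mor hd' h₀ hD' rfl (Category.id_comp _)]
  have h₁ : mor hC x = mor hD y := by
    have h₀' : (Φ ≫ e) ≫ 𝟙 r.1 = Φ ≫ e := Category.comp_id _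
    rw [← mor_mor hc h₀' hC rfl (Category.id_comp _), ← mor_mor hd h₀' hD rfl (Category.id_comp _), he]
  let E := ψ₂ ⟨i, j⟩ n ≫ ψ₁ i j ≫ e₀ i
  have hEc : E ≫ c₀ (k i) = (Φ ≫ φ) ≫ a := by simp only [E, Φ, Category.assoc, he₁]
  have hEd : E ≫ d₀ (k i) = (Φ ≫ φ) ≫ b := by simp only [E, Φ, Category.assoc, he₂]
  have h₂ : mor hEc x = mor hEd y :=
    eq_of_span hN hC hD hEc hEd (m := ψ₂ ⟨i, j⟩ n ≫ m₁ ⟨i, j⟩) (g := a₁ ⟨i, j⟩) (g' := b₁ ⟨i, j⟩)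
      (by simp only [Φ, Category.assoc]; exact congrArg (ψ₂ ⟨i, j⟩ n ≫ ·) (hw₃ ⟨i, j⟩))
      (by simp only [E, Category.assoc]; exact congrArg (ψ₂ ⟨i, j⟩ n ≫ ·) (hw₄ ⟨i, j⟩))
      (hw₁ ⟨i, j⟩) (hw₂ ⟨i, j⟩) h₁
  exact eq_of_span hN hEc hEd hC' hD' (m := m₂ ⟨⟨i, j⟩, n⟩) (g := b₂ ⟨⟨i, j⟩, n⟩) (g' := a₂ ⟨⟨i, j⟩, n⟩)
    (hv₄ ⟨⟨i, j⟩, n⟩) ((hv₃ ⟨⟨i, j⟩, n⟩).trans (by simp [Φ])) (hv₁ ⟨⟨i, j⟩, n⟩).symm (hv₂ ⟨⟨i, j⟩, n⟩).symm h₂

include hN hp P in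
theorem Agree.of_triangle {a : t ⟶ p.1} {b : t ⟶ q.1} {x : Val N a} {y : Val N b} {e : t ⟶ r.1} {c : r.1 ⟶ p.1}
    {d : r.1 ⟶ q.1} (hc : e ≫ c = 𝟙 t ≫ a) (hd : e ≫ d = 𝟙 t ≫ b) (he : mor hc x = mor hd y) : Agree x y :=
  fun t' ht' φ r' e' c' d' hc' hd' => by
    have h₁ : (φ ≫ e) ≫ c = φ ≫ a := by rw [Category.assoc, hc.trans (Category.id_comp a)]
    have h₂ : (φ ≫ e) ≫ d = φ ≫ b := by rw [Category.assoc, hd.trans (Category.id_comp b)]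
    refine eq_of_triangle hN hp P ht' h₁ h₂ hc' hd' ?_
    have h₀ : (φ ≫ e) ≫ 𝟙 r.1 = φ ≫ e := Category.comp_id _
    rw [← mor_mor hc h₀ h₁ (Category.comp_id _) (Category.id_comp _),
      ← mor_mor hd h₀ h₂ (Category.comp_id _) (Category.id_comp _), he]

include hN hp P in
theorem Agree.refl {a : t ⟶ p.1} (x : Val N a) : Agree x x :=
  Agree.of_triangle hN hp P (r := p) (c := 𝟙 p.1) (d := 𝟙 p.1) (e := a)
    ((Category.comp_id a).trans (Category.id_comp a).symm) ((Category.comp_id a).trans (Category.id_comp a).symm) rfl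

theorem Agree.symm {a : t ⟶ p.1} {b : t ⟶ q.1} {x : Val N a} {y : Val N b} (h : Agree x y) : Agree y x :=
  fun t' ht' φ r e c d hc hd => (h ht' φ r e d c hd hc).symm

theorem Agree.add {a : t ⟶ p.1} {b : t ⟶ q.1} {x x' : Val N a} {y y' : Val N b} (h : Agree x y)
    (h' : Agree x' y') : Agree (x + x') (y + y') :=
  fun t' ht' φ r e c d hc hd => by rw [map_add, map_add, h ht' φ r e c d hc hd, h' ht' φ r e c d hc hd]

theorem Agree.smul {a : t ⟶ p.1} {b : t ⟶ q.1} {x : Val N a} {y : Val N b} (h : Agree x y)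
    (s : Γ(StMod.sch 𝒳 t, ⊤)) : Agree (s • x) (s • y) :=
  fun t' ht' φ r e c d hc hd => by rw [mor_smul, mor_smul, h ht' φ r e c d hc hd]

theorem Agree.map {a : t ⟶ p.1} {b : t ⟶ q.1} {x : Val N a} {y : Val N b} (h : Agree x y) {a' : t' ⟶ p'.1}
    {b' : t' ⟶ q'.1} {φ : t' ⟶ t} {c : p'.1 ⟶ p.1} {d : q'.1 ⟶ q.1} (hc : a' ≫ c = φ ≫ a) (hd : b' ≫ d = φ ≫ b) :
    Agree (mor hc x) (mor hd y) :=
  fun t'' ht'' ψ r e c' d' hc' hd' => by
    rw [mor_mor hc hc' (φ'' := ψ ≫ φ) (c'' := c' ≫ c)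
        (by rw [← Category.assoc, hc', Category.assoc, hc, Category.assoc]) rfl rfl,
      mor_mor hd hd' (φ'' := ψ ≫ φ) (c'' := d' ≫ d)
        (by rw [← Category.assoc, hd', Category.assoc, hd, Category.assoc]) rfl rfl]
    exact h ht'' (ψ ≫ φ) r e _ _ _ _

include hp P in
theorem exists_tri (a : t ⟶ p.1) (b : t ⟶ q.1) : ∃ (ι : Type u) (z : ι → 𝒳.obj) (φ : ∀ i, z i ⟶ t),
    IsCov z φ ∧ ∀ i, IsAffine (StMod.sch 𝒳 (z i)) ∧
      ∃ (r : FMem x₀) (e : z i ⟶ r.1) (c : r.1 ⟶ p.1) (d : r.1 ⟶ q.1), e ≫ c = φ i ≫ a ∧ e ≫ d = φ i ≫ b := by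
  obtain ⟨κ, R, c₀, d₀, -, -, hcov, -⟩ := exists_pair hp P p q
  obtain ⟨ι, z, φ, hφ, hk⟩ := hcov t a b
  refine ⟨ι, z, φ, hφ, fun i => ⟨(hk i).1, ?_⟩⟩
  obtain ⟨k, e, h₁, h₂⟩ := (hk i).2
  exact ⟨R k, e, c₀ k, d₀ k, h₁, h₂⟩

include hN hp P in
theorem Agree.eq {a : t ⟶ p.1} {b : t ⟶ q.1} {x : Val N a} {y y' : Val N b} (ht : IsAffine (StMod.sch 𝒳 t))
    (h : Agree x y) (h' : Agree x y') : y = y' := by
  obtain ⟨ι, z, φ, hφ, hk⟩ := exists_tri hp P a b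
  refine val_ext hN hp ht hφ fun i => ?_
  obtain ⟨hz, r, e, c, d, hc, hd⟩ := hk i
  exact ⟨r, e, d, hd, (h hz _ r e c d hc hd).symm.trans (h' hz _ r e c d hc hd)⟩

include hN hp P in
theorem Agree.trans {a : t ⟶ p.1} {b : t ⟶ q.1} {b' : t ⟶ q'.1} {x : Val N a} {y : Val N b} {w : Val N b'}
    (h : Agree x y) (h' : Agree y w) : Agree x w := by
  intro t' ht' φ r e c d hc hd
  obtain ⟨ι, z, ψ, hψ, hk⟩ := exists_tri hp P (φ ≫ a) (φ ≫ b)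
  choose r₁ e₁ c₁ d₁ hc₁ hd₁ using fun i => (hk i).2
  choose ι₂ z₂ ψ₂ hψ₂ hk₂ using fun i => exists_tri hp P (e₁ i) (ψ i ≫ φ ≫ b')
  refine val_ext hN hp ht' (hψ.comp hψ₂) fun l => ?_
  obtain ⟨i, j⟩ := l
  obtain ⟨hz, r₂, e₂, f, g, hf, hg⟩ := hk₂ i j
  let Φ := (ψ₂ i j ≫ ψ i) ≫ φ
  have h₀ : ((ψ₂ i j ≫ ψ i) ≫ e) ≫ 𝟙 r.1 = (ψ₂ i j ≫ ψ i) ≫ e := Category.comp_id _
  have hC : ((ψ₂ i j ≫ ψ i) ≫ e) ≫ c = Φ ≫ a := by simp only [Φ, Category.assoc, hc]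
  have hD : ((ψ₂ i j ≫ ψ i) ≫ e) ≫ d = Φ ≫ b' := by simp only [Φ, Category.assoc, hd]
  refine ⟨r, (ψ₂ i j ≫ ψ i) ≫ e, 𝟙 _, h₀, ?_⟩
  rw [mor_mor hc h₀ hC rfl (Category.id_comp _), mor_mor hd h₀ hD rfl (Category.id_comp _)]
  have ha : e₂ ≫ (f ≫ c₁ i) = Φ ≫ a := by
    rw [← Category.assoc, hf, Category.assoc, hc₁]
    simp [Φ]
  have hb : e₂ ≫ (f ≫ d₁ i) = Φ ≫ b := by
    rw [← Category.assoc, hf, Category.assoc, hd₁]
    simp [Φ]
  have hb' : e₂ ≫ g = Φ ≫ b' := by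
    rw [hg]
    simp [Φ]
  exact eq_of_triangle hN hp P hz ha hb' hC hD ((h hz Φ r₂ e₂ _ _ ha hb).trans (h' hz Φ r₂ e₂ _ _ hb hb'))

include hN hp P in
theorem Agree.of_cov {a : t ⟶ p.1} {b : t ⟶ q.1} {x : Val N a} {y : Val N b} {ι : Type u} {z : ι → 𝒳.obj}
    {φ : ∀ i, z i ⟶ t} (hφ : IsCov z φ) (h : ∀ i, Agree (pullR (φ i) a x) (pullR (φ i) b y)) : Agree x y := by
  intro t' ht' ψ r e c d hc hd
  obtain ⟨z', α, β, hα, hsq⟩ := hφ.exists_pullback hp ψ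
  choose ν v χ hχ hva _ using fun i => exists_affine_cover hp (z' i)
  refine val_ext hN hp ht' (hα.comp hχ) fun l => ?_
  obtain ⟨i, j⟩ := l
  have h₀ : ((χ i j ≫ α i) ≫ e) ≫ 𝟙 r.1 = (χ i j ≫ α i) ≫ e := Category.comp_id _
  have hC : ((χ i j ≫ α i) ≫ e) ≫ c = (χ i j ≫ β i) ≫ φ i ≫ a := by
    simp only [Category.assoc, hc]
    rw [reassoc_of% (hsq i).w]
  have hD : ((χ i j ≫ α i) ≫ e) ≫ d = (χ i j ≫ β i) ≫ φ i ≫ b := by
    simp only [Category.assoc, hd]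
    rw [reassoc_of% (hsq i).w]
  refine ⟨r, (χ i j ≫ α i) ≫ e, 𝟙 _, h₀, ?_⟩
  have hC' : ((χ i j ≫ α i) ≫ e) ≫ c = ((χ i j ≫ α i) ≫ ψ) ≫ a := by simp only [Category.assoc, hc]
  have hD' : ((χ i j ≫ α i) ≫ e) ≫ d = ((χ i j ≫ α i) ≫ ψ) ≫ b := by simp only [Category.assoc, hd]
  have hw : (χ i j ≫ β i) ≫ φ i = (χ i j ≫ α i) ≫ ψ := by rw [Category.assoc, ← (hsq i).w, Category.assoc]
  rw [mor_mor hc h₀ hC' rfl (Category.id_comp _), mor_mor hd h₀ hD' rfl (Category.id_comp _)]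
  have := h i (hva i j) (χ i j ≫ β i) r ((χ i j ≫ α i) ≫ e) c d hC hD
  rwa [pullR, pullR, mor_mor _ hC hC' hw (Category.comp_id _), mor_mor _ hD hD' hw (Category.comp_id _)] at this

include hN hp P in
theorem exists_agree (a : t ⟶ p.1) (b : t ⟶ q.1) (ht : IsAffine (StMod.sch 𝒳 t)) (x : Val N a) :
    ∃ y : Val N b, Agree x y := by
  haveI := ht
  haveI := hasPullbacks hp
  obtain ⟨ι, z, φ, hφ, hk⟩ := exists_tri hp P a b
  obtain ⟨C, k, χ, hχ, hlfp⟩ := Sys.exists_affFam hp hφ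
  choose r e c d hc hd using fun i => (hk i).2
  have hc₀ : ∀ j, (χ j ≫ e (k j)) ≫ c (k j) = 𝟙 _ ≫ (C.z j).hom ≫ a := fun j => by
    rw [Category.id_comp, ← hχ, Category.assoc, Category.assoc, hc]
  have hd₀ : ∀ j, (χ j ≫ e (k j)) ≫ d (k j) = 𝟙 _ ≫ (C.z j).hom ≫ b := fun j => by
    rw [Category.id_comp, ← hχ, Category.assoc, Category.assoc, hd]
  choose w hw using fun j => (bijective_mor hN (hd₀ j)).2 (mor (hc₀ j) (pullR (C.z j).hom a x))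
  have hag : ∀ j, Agree (pullR (C.z j).hom a x) (w j) := fun j =>
    Agree.of_triangle hN hp P (hc₀ j) (hd₀ j) (hw j).symm
  haveI : ∀ j, IsAffineHom (StMod.bmap 𝒳 (C.z j).hom) := fun j => by
    haveI := C.aff j
    infer_instance
  haveI : ∀ i j : C.J, IsAffine (StMod.sch 𝒳 (pullback (C.z i).hom (C.z j).hom)) := fun i j => by
    haveI := C.aff i
    exact IsAffine.of_isPullback (isPullback_bmap hp (IsPullback.of_hasPullback (C.z i).hom (C.z j).hom))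
  let Φ : ∀ i j : C.J, pullback (C.z i).hom (C.z j).hom ⟶ t := fun i j => pullback.fst _ _ ≫ (C.z i).hom
  have h₀ : ∀ i j, (Φ i j ≫ b) ≫ 𝟙 q.1 = pullback.fst _ _ ≫ (C.z i).hom ≫ b := fun i j => by simp [Φ]
  have h₁ : ∀ i j, (Φ i j ≫ b) ≫ 𝟙 q.1 = pullback.snd _ _ ≫ (C.z j).hom ≫ b := fun i j => by
    simp [Φ, pullback.condition_assoc]
  have ha₀ : ∀ i j, (Φ i j ≫ a) ≫ 𝟙 p.1 = pullback.fst _ _ ≫ (C.z i).hom ≫ a := fun i j => by simp [Φ]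
  have ha₁ : ∀ i j, (Φ i j ≫ a) ≫ 𝟙 p.1 = pullback.snd _ _ ≫ (C.z j).hom ≫ a := fun i j => by
    simp [Φ, pullback.condition_assoc]
  obtain ⟨y, hy⟩ := exists_of_agree (N := fun j => Val N ((C.z j).hom ≫ b))
    (σ := fun j => fn (C.z j).hom) (l := fun j => pullR (C.z j).hom b)
    (fun j => flat_fn _ (C.aff j) ht (C.flat j)) (Sys.AffFam.covers_fn hp C ht) (fun j => isSemiBC_mor hN _)
    (N' := fun i j => Val N (Φ i j ≫ b))
    (fun i j => fn (pullback.fst (C.z i).hom (C.z j).hom)) (fun i j => fn (pullback.snd (C.z i).hom (C.z j).hom))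
    (fun i j => by
      haveI := C.aff i
      haveI := C.aff j
      exact isPushout_appTop_of_isPullback (isPullback_bmap hp (IsPullback.of_hasPullback _ _)))
    (fun i j => mor (h₀ i j)) (fun i j => mor_smul (h₀ i j)) (fun i j => mor (h₁ i j))
    (fun i j => isSemiBC_mor hN (h₁ i j))
    (fun i j m => by
      show mor (h₀ i j) (mor _ m) = mor (h₁ i j) (mor _ m)
      have hh : (Φ i j ≫ b) ≫ 𝟙 q.1 = Φ i j ≫ b := Category.comp_id _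
      rw [mor_mor _ (h₀ i j) hh rfl (Category.comp_id _),
        mor_mor _ (h₁ i j) hh pullback.condition.symm (Category.comp_id _)])
    w fun i j => by
      refine Agree.eq hN hp P inferInstance ((hag i).map (ha₀ i j) (h₀ i j)) ?_
      have hh : (Φ i j ≫ a) ≫ 𝟙 p.1 = Φ i j ≫ a := Category.comp_id _
      have := (hag j).map (ha₁ i j) (h₁ i j)
      rw [pullR, mor_mor _ (ha₁ i j) hh pullback.condition.symm (Category.comp_id _)] at this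
      rw [pullR, mor_mor _ (ha₀ i j) hh rfl (Category.comp_id _)]
      exact this
  refine ⟨y, Agree.of_cov hN hp P (C.isCov hlfp) fun j => ?_⟩
  exact (hy j.down).symm ▸ hag j.down

/-- The comparison of the base changes along two morphisms into members. -/
def memCmp (ht : IsAffine (StMod.sch 𝒳 t)) (a : t ⟶ p.1) (b : t ⟶ q.1) : Val N a →+ Val N b :=
  AddMonoidHom.mk' (fun x => (exists_agree hN hp P a b ht x).choose) fun x x' =>
    Agree.eq hN hp P ht (exists_agree hN hp P a b ht (x + x')).choose_spec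
      ((exists_agree hN hp P a b ht x).choose_spec.add (exists_agree hN hp P a b ht x').choose_spec)

theorem agree_memCmp (ht : IsAffine (StMod.sch 𝒳 t)) (a : t ⟶ p.1) (b : t ⟶ q.1) (x : Val N a) :
    Agree x (memCmp hN hp P ht a b x) :=
  (exists_agree hN hp P a b ht x).choose_spec

theorem memCmp_eq (ht : IsAffine (StMod.sch 𝒳 t)) {a : t ⟶ p.1} {b : t ⟶ q.1} {x : Val N a} {y : Val N b}
    (h : Agree x y) : memCmp hN hp P ht a b x = y :=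
  Agree.eq hN hp P ht (agree_memCmp hN hp P ht a b x) h

theorem memCmp_smul (ht : IsAffine (StMod.sch 𝒳 t)) (a : t ⟶ p.1) (b : t ⟶ q.1) (s : Γ(StMod.sch 𝒳 t, ⊤))
    (x : Val N a) : memCmp hN hp P ht a b (s • x) = s • memCmp hN hp P ht a b x :=
  memCmp_eq hN hp P ht ((agree_memCmp hN hp P ht a b x).smul s)

theorem bijective_memCmp (ht : IsAffine (StMod.sch 𝒳 t)) (a : t ⟶ p.1) (b : t ⟶ q.1) :
    Function.Bijective (memCmp hN hp P ht a b) :=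
  Function.bijective_iff_has_inverse.2 ⟨memCmp hN hp P ht b a,
    fun x => memCmp_eq hN hp P ht (agree_memCmp hN hp P ht a b x).symm,
    fun y => memCmp_eq hN hp P ht (agree_memCmp hN hp P ht b a y).symm⟩

end

variable (x₀) in
/-- The affine objects with a morphism into a member. -/
abbrev DMem : Type (u + 1) := {t : 𝒳.obj // IsAffine (StMod.sch 𝒳 t) ∧ ∃ p : FMem x₀, Nonempty (t ⟶ p.1)}

theorem isStableAff_dMem : IsStableAff (Subtype.val : DMem x₀ → 𝒳.obj) := fun η t g h =>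
  ⟨⟨η, h, t.2.2.choose, ⟨g ≫ t.2.2.choose_spec.some⟩⟩, ⟨Iso.refl _⟩⟩

theorem isDense_dMem (hp : FibCat.IsFibGrpd 𝒳.p)
    (hx₀ : ∀ η : 𝒳.obj, ∃ (ι : Type u) (z : ι → 𝒳.obj) (φ : ∀ i, z i ⟶ η), IsCov z φ ∧ ∀ i, Nonempty (z i ⟶ x₀)) :
    IsDense (Subtype.val : DMem x₀ → 𝒳.obj) := by
  intro η
  obtain ⟨ι, z, φ, hφ, hz⟩ := hx₀ η
  obtain ⟨μ, W, ψ, hψ, hWa, hψo⟩ := exists_affine_cover hp x₀
  choose z' α β hz' hsq using fun i => hψ.exists_pullback hp (hz i).some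
  choose ν v χ hχ hva _ using fun (j : Σ _ : ι, μ) => exists_affine_cover hp (z' j.1 j.2)
  refine ⟨Σ j : (Σ _ : ι, μ), ν j, fun l => ⟨v l.1 l.2, hva l.1 l.2, ⟨W l.1.2, hWa _, ψ _, ?_⟩, ⟨χ l.1 l.2 ≫ β _ _⟩⟩,
    fun l => χ l.1 l.2 ≫ α l.1.1 l.1.2 ≫ φ l.1.1, (hφ.comp hz').comp hχ⟩
  haveI := hψo l.1.2
  infer_instance

variable (hp : FibCat.IsFibGrpd 𝒳.p) (P : PairAtlas x₀) (hN : MemBC N)

/-- The chosen member under an affine object. -/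
def dp (t : DMem x₀) : FMem x₀ := t.2.2.choose

/-- The chosen morphism into the member. -/
def da (t : DMem x₀) : t.1 ⟶ (dp t).1 := t.2.2.choose_spec.some

/-- The extension to affine objects with a morphism into a member. -/
def extDSys : DSys (Subtype.val : DMem x₀ → 𝒳.obj) where
  obj t := Val N (da t)
  res {t' t} ψ := (memCmp hN hp P t'.2.1 (ψ ≫ da t) (da t')).comp (pullR ψ (da t))
  res_smul {t' t} ψ r x := by
    show memCmp hN hp P t'.2.1 _ _ (pullR ψ (da t) (r • x)) = _ • memCmp hN hp P t'.2.1 _ _ _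
    rw [pullR, mor_smul, memCmp_smul]
  res_id t x := by
    refine memCmp_eq hN hp P t.2.1 ?_
    have h : da t ≫ 𝟙 _ = 𝟙 _ ≫ da t := by simp
    have := (Agree.refl hN hp P x).map (a' := 𝟙 t.1 ≫ da t) (φ := 𝟙 t.1) (c := 𝟙 (dp t).1) (Category.comp_id _) h
    rwa [mor_id h] at this
  res_comp {t'' t' t} ψ φ x := by
    refine memCmp_eq hN hp P t''.2.1 ?_
    show Agree (pullR (ψ ≫ φ) (da t) x)
      (memCmp hN hp P t''.2.1 _ _ (pullR ψ (da t') (memCmp hN hp P t'.2.1 _ _ (pullR φ (da t) x))))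
    have h₀ : ((ψ ≫ φ) ≫ da t) ≫ 𝟙 _ = ψ ≫ φ ≫ da t := by simp
    have h₁ := (agree_memCmp hN hp P t'.2.1 _ (da t') (pullR φ (da t) x)).map h₀
      (show (ψ ≫ da t') ≫ 𝟙 _ = ψ ≫ da t' by simp)
    rw [pullR, mor_mor _ h₀ (Category.comp_id _) rfl (Category.comp_id _)] at h₁
    exact h₁.trans hN hp P (agree_memCmp hN hp P t''.2.1 _ _ _)

theorem hasBC_extDSys : (extDSys hp P hN).HasBC := by
  intro t' t ψ _ _
  have h₂ : IsSemiBC (RingHom.id _) (memCmp hN hp P t'.2.1 (ψ ≫ da t) (da t')) :=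
    isSemiBC_of_bijective (fun r x => memCmp_smul hN hp P _ _ _ r x) Function.bijective_id (bijective_memCmp hN hp P _ _ _)
  have := (isSemiBC_mor hN (Category.comp_id (ψ ≫ da t))).comp h₂
  rwa [RingHom.id_comp] at this

/-- A member as an affine object with a morphism into a member. -/
abbrev toDMem (p : FMem x₀) : DMem x₀ := ⟨p.1, p.2.1, p, ⟨𝟙 _⟩⟩

/-- The value at a member. -/
def valMem (p : FMem x₀) : N.obj p →+ (extDSys hp P hN).obj (toDMem p) :=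
  (memCmp hN hp P p.2.1 (𝟙 p.1) (da (toDMem p))).comp (Pull.ι (fn (𝟙 p.1)) (N.obj p))

theorem bijective_valMem (p : FMem x₀) : Function.Bijective (valMem hp P hN p) := by
  refine (bijective_memCmp hN hp P p.2.1 (𝟙 p.1) (da (toDMem p))).comp ?_
  have := Pull.isSemiBC_ι (fn (𝟙 p.1)) (N.obj p)
  exact IsSemiBC.bijective_of_id (N' := Pull (fn (𝟙 p.1)) (N.obj p)) (by simpa only [fn_id] using this)

theorem valMem_smul (p : FMem x₀) (r : Γ(StMod.sch 𝒳 p.1, ⊤)) (n : N.obj p) :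
    valMem hp P hN p (r • n) = (show Γ(StMod.sch 𝒳 (toDMem p).1, ⊤) from r) • valMem hp P hN p n := by
  show memCmp hN hp P p.2.1 _ _ (Pull.ι (fn (𝟙 p.1)) (N.obj p) (r • n)) = r • memCmp hN hp P p.2.1 _ _ _
  rw [(Pull.isSemiBC_ι _ _).choose, memCmp_smul]
  exact congrArg (fun s : Γ(StMod.sch 𝒳 (toDMem p).1, ⊤) =>
    s • memCmp hN hp P p.2.1 (𝟙 p.1) (da (toDMem p)) (Pull.ι (fn (𝟙 p.1)) (N.obj p) n)) (congr($(fn_id p.1) r))

theorem res_valMem {p q : FMem x₀} (f : p.1 ⟶ q.1) (n : N.obj q) :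
    (extDSys hp P hN).res (t' := toDMem p) (t := toDMem q) f (valMem hp P hN q n) =
      valMem hp P hN p (N.res f n) := by
  refine (memCmp_eq hN hp P p.2.1 ?_).symm
  show Agree _ (memCmp hN hp P p.2.1 _ _ (pullR f (da (toDMem q)) (valMem hp P hN q n)))
  have h₀ : 𝟙 p.1 ≫ f = f ≫ 𝟙 q.1 := by simp
  have h₁ := (agree_memCmp hN hp P q.2.1 (𝟙 q.1) (da (toDMem q)) (Pull.ι _ _ n)).map h₀
    (show (f ≫ da (toDMem q)) ≫ 𝟙 _ = f ≫ da (toDMem q) by simp)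
  rw [mor_ι h₀] at h₁
  exact h₁.trans hN hp P (agree_memCmp hN hp P p.2.1 _ _ _)

include hp P in
/-- Data with flat base change on affine objects flat over an atlas extend to a quasi-coherent module. -/
theorem exists_qcoh_of_flatBC
    (hx₀ : ∀ η : 𝒳.obj, ∃ (ι : Type u) (z : ι → 𝒳.obj) (φ : ∀ i, z i ⟶ η), IsCov z φ ∧ ∀ i, Nonempty (z i ⟶ x₀))
    (N : DSys (Subtype.val : FMem x₀ → 𝒳.obj)) (hfl : FlatBC N) :
    ∃ (G : StMod.QCoh 𝒳) (θ : ∀ p : FMem x₀, Γ(G.obj.obj p.1, ⊤) →+ N.obj p),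
      (∀ p, Function.Bijective (θ p)) ∧
      (∀ (p : FMem x₀) (r : Γ(StMod.sch 𝒳 p.1, ⊤)) (x : Γ(G.obj.obj p.1, ⊤)), θ p (r • x) =
        HSMul.hSMul (α := Γ(StMod.sch 𝒳 p.1, ⊤)) (β := N.obj p) (γ := N.obj p) r (θ p x)) ∧
      ∀ {p q : FMem x₀} (f : p.1 ⟶ q.1) (x : Γ(G.obj.obj q.1, ⊤)), θ p (G.obj.mapTop f x) = N.res f (θ q x) := by
  have hN : MemBC N := hasBC_of_flatBC hp P hfl
  obtain ⟨G, θ, hb, hl, hn⟩ := exists_qcoh_of_denseAff hp (isDense_dMem hp hx₀) isStableAff_dMem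
    (fun t => t.2.1) (extDSys hp P hN) (hasBC_extDSys hp P hN)
  let ρ : ∀ p : FMem x₀, N.obj p ≃+ (extDSys hp P hN).obj (toDMem p) := fun p =>
    AddEquiv.ofBijective (valMem hp P hN p) (bijective_valMem hp P hN p)
  have hρ : ∀ (p : FMem x₀) (r : Γ(StMod.sch 𝒳 (toDMem p).1, ⊤)) (y : (extDSys hp P hN).obj (toDMem p)),
      (ρ p).symm (r • y) = (show Γ(StMod.sch 𝒳 p.1, ⊤) from r) • (ρ p).symm y := fun p r y =>
    (ρ p).injective (((ρ p).apply_symm_apply (r • y)).trans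
      (((valMem_smul hp P hN p r ((ρ p).symm y)).trans (congrArg (r • ·) ((ρ p).apply_symm_apply y))).symm))
  have hρ' : ∀ {p q : FMem x₀} (f : p.1 ⟶ q.1) (y : (extDSys hp P hN).obj (toDMem q)),
      (ρ p).symm ((extDSys hp P hN).res (t' := toDMem p) (t := toDMem q) f y) = N.res f ((ρ q).symm y) :=
    fun {p q} f y => (ρ p).injective (((ρ p).apply_symm_apply _).trans
      ((congrArg _ ((ρ q).apply_symm_apply y).symm).trans (res_valMem hp P hN f ((ρ q).symm y))))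
  refine ⟨G, fun p => (ρ p).symm.toAddMonoidHom.comp (θ (toDMem p)),
    fun p => (ρ p).symm.bijective.comp (hb (toDMem p)), fun p r x => ?_, fun {p q} f x => ?_⟩
  · exact (congrArg (ρ p).symm (hl (toDMem p) r x)).trans (hρ p r (θ (toDMem p) x))
  · exact (congrArg (ρ p).symm (hn (t' := toDMem p) (t := toDMem q) f x)).trans (hρ' f (θ (toDMem q) x))

end Groth.Agent.StModLib
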