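import Groth.Agent.StModLib.CohDescent
import Groth.Agent.StModLib.UnitIso
import Mathlib.RingTheory.IsTensorProduct

/-!
# The unit is an isomorphism flat locally on the target
-/

set_option autoImplicit false
set_option linter.style.haveILetI false
set_option backward.isDefEq.respectTransparency false
set_option backward.isDefEq.respectTransparency.types false

universe u

open CategoryTheory CategoryTheory.Limits AlgebraicGeometry
open Groth.Agent.AlgStLib

noncomputable section

namespace Groth.Agent.StModLib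

theorem isSemiBC_self {A B : Type u} [CommRing A] [CommRing B] (σ : A →+* B) :
    IsSemiBC σ σ.toAddMonoidHom := by
  refine ⟨fun r m => map_mul σ r m, ?_⟩
  letI := σ.toAlgebra
  exact IsBaseChange.linearMap A B

variable {S : Scheme.{u}} {𝒳 𝒴 𝒵 : AlgSt.Cat S}

theorem relRes_unitSect {π : 𝒳 ⥤ᵇ 𝒴} {η η' : 𝒴.obj} (b : η' ⟶ η) (r : Γ(StMod.sch 𝒴 η, ⊤)) :
    relRes b (StMod.O 𝒳) (StMod.unitSect π η r) = StMod.unitSect π η' ((StMod.bmap 𝒴 b).appTop r) := by
  refine StMod.Mod.RelSect.ext π _ _ fun ξ β => ?_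
  show (StMod.baseOver π ξ (β ≫ b)).left.appTop r = _
  rw [StMod.baseOver_comp]
  rfl

variable (g : 𝒵 ⥤ᵇ 𝒴) (π : 𝒳 ⥤ᵇ 𝒴)

theorem appTop_transMor {η' : 𝒵.obj} (x : (FibCat.fp g π).obj) (β : (FibCat.fpFst g π).obj x ⟶ η')
    (r : Γ(StMod.sch 𝒴 (g.obj η'), ⊤)) :
    (eqToHom ((FibCat.fpSnd g π).w_obj x).symm).left.appTop
        ((StMod.baseOver π x.obj.snd (transMor g π x β)).left.appTop r) =
      (StMod.baseOver (FibCat.fpFst g π) x β).left.appTop ((eqToHom (g.w_obj η').symm).left.appTop r) := by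
  have e : eqToHom ((FibCat.fpSnd g π).w_obj x).symm ≫ StMod.baseOver π x.obj.snd (transMor g π x β) =
      StMod.baseOver (FibCat.fpFst g π) x β ≫ eqToHom (g.w_obj η').symm := by
    rw [baseOver_transMor]
    simp
  have e' : _ = _ := congrArg CommaMorphism.left e
  exact congr($(congrArg Scheme.Hom.appTop e') r)

/-- The unit over an image is bijective when the unit of the base change is. -/
theorem bijective_unitSect_of_fpFst (hz : FibCat.IsFibGrpd 𝒵.p) (hp' : FibCat.IsFibGrpd 𝒴.p) (η' : 𝒵.obj)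
    (h : Function.Bijective (StMod.unitSect (FibCat.fpFst g π) η')) :
    Function.Bijective (StMod.unitSect π (g.obj η')) := by
  haveI : IsIso (eqToHom (g.w_obj η').symm).left := inferInstanceAs (IsIso ((Over.forget S).map _))
  have he : Function.Bijective (eqToHom (g.w_obj η').symm).left.appTop :=
    ConcreteCategory.bijective_of_isIso _
  have hx : ∀ x : (FibCat.fp g π).obj,
      Function.Injective (eqToHom ((FibCat.fpSnd g π).w_obj x).symm).left.appTop := fun x => by
    haveI : IsIso (eqToHom ((FibCat.fpSnd g π).w_obj x).symm).left := inferInstanceAs (IsIso ((Over.forget S).map _))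
    exact (ConcreteCategory.bijective_of_isIso _).1
  refine ⟨fun r r' e => he.1 (h.1 (StMod.Mod.RelSect.ext _ _ _ fun x β => ?_)), fun v => ?_⟩
  · show (StMod.baseOver (FibCat.fpFst g π) x β).left.appTop _ = (StMod.baseOver (FibCat.fpFst g π) x β).left.appTop _
    rw [← appTop_transMor, ← appTop_transMor]
    exact congrArg _ (congrArg (fun s : StMod.Mod.RelSect π (StMod.O 𝒳) _ => s.1 x.obj.snd (transMor g π x β)) e)
  · let v' : StMod.Mod.RelSect (FibCat.fpFst g π) (StMod.O (FibCat.fp g π)) η' :=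
      ⟨fun x β => (eqToHom ((FibCat.fpSnd g π).w_obj x).symm).left.appTop (v.1 x.obj.snd (transMor g π x β)),
        fun x' x m β => by
          have h1 := (v.2 m.hom.snd (transMor g π x β)).trans (congrArg (v.1 _) (transMor_natural g π m β))
          show (StMod.bmap (FibCat.fp g π) m).appTop ((eqToHom ((FibCat.fpSnd g π).w_obj x).symm).left.appTop _) =
            (eqToHom ((FibCat.fpSnd g π).w_obj x').symm).left.appTop _
          rw [← h1]
          have e : (FibCat.fp g π).p.map m ≫ eqToHom ((FibCat.fpSnd g π).w_obj x).symm =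
              eqToHom ((FibCat.fpSnd g π).w_obj x').symm ≫ 𝒳.p.map m.hom.snd := by
            have := map_w (FibCat.fpSnd g π) m
            show _ = _ ≫ 𝒳.p.map ((FibCat.fpSnd g π).map m)
            rw [this]
            simp
          have e' : _ = _ := congrArg CommaMorphism.left e
          exact congr($(congrArg Scheme.Hom.appTop e') _)⟩
    obtain ⟨r', hr'⟩ := h.2 v'
    obtain ⟨r, rfl⟩ := he.2 r'
    refine ⟨r, StMod.Mod.RelSect.ext π _ _ fun ξ γ => ?_⟩
    obtain ⟨x, rfl, β, hβ⟩ := exists_fp_obj g π hz hp' ξ γ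
    rw [eqToHom_refl, π.map_id, Category.id_comp] at hβ
    subst hβ
    refine hx x ?_
    show (eqToHom ((FibCat.fpSnd g π).w_obj x).symm).left.appTop ((StMod.baseOver π x.obj.snd (transMor g π x β)).left.appTop r) = _
    rw [appTop_transMor]
    exact congrArg (fun s : StMod.Mod.RelSect (FibCat.fpFst g π) _ η' => s.1 x β) hr'

/-- Good moduli spaces descend along flat surjections of algebraic spaces. -/
theorem unitIsIso_of_fpFst {M M' : AlgSp.Space S} (hp : FibCat.IsFibGrpd 𝒳.p) (g : M'.obj ⟶ M.obj)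
    (hgf : AlgSp.LocP @Flat g) (hgs : AlgSp.IsSurjectiveMor g) (π : 𝒳 ⥤ᵇ AlgSt.ofSp M.obj)
    (hqc : AlgSt.IsQuasiCompactMor Scheme.fppfPrecoverage π) (hqs : AlgSt.IsQuasiSeparatedMor π)
    (h' : StMod.UnitIsIso (FibCat.fpFst (AlgSt.ofSpMap g) π)) : StMod.UnitIsIso π := by
  refine unitIsIso_of_affine hp fun E hE => ?_
  have hM : FibCat.IsFibGrpd (AlgSt.ofSp M.obj).p := isFibGrpd_ofSp M.obj
  have hM' : FibCat.IsFibGrpd (AlgSt.ofSp M'.obj).p := isFibGrpd_ofSp M'.obj
  haveI : IsAffine (StMod.sch (AlgSt.ofSp M.obj) (StMod.etaOf E)) := hE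
  obtain ⟨c⟩ := nonempty_pres hp hM hqc hqs (StMod.etaOf E)
  obtain ⟨J, E', b, haff, hfl, hcov⟩ := exists_flat_family M.property M'.property g hgf hgs E
  haveI : ∀ j, IsAffine (StMod.sch (AlgSt.ofSp M.obj) ((AlgSt.ofSpMap g).obj (StMod.etaOf (E' j)))) := haff
  haveI : ∀ j, Flat (StMod.bmap (AlgSt.ofSp M.obj) (b j)) := hfl
  exact bijective_of_forall_semiBC (σ := fun j => (StMod.bmap (AlgSt.ofSp M.obj) (b j)).appTop.hom)
    (fun j => (HasRingHomProperty.iff_of_isAffine (P := @Flat)).1 (hfl j)) (exists_prime_of_cover b hcov)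
    (fun j => isSemiBC_self _)
    (fun j => isSemiBC_relRes (b j) (StMod.O 𝒳) hp hM c (StMod.OQ (𝒳 := 𝒳)).property)
    (StMod.unitSect π (StMod.etaOf E))
    (fun j => StMod.unitSect π ((AlgSt.ofSpMap g).obj (StMod.etaOf (E' j))))
    (fun j r => relRes_unitSect (b j) r)
    fun j => bijective_unitSect_of_fpFst (AlgSt.ofSpMap g) π hM' hM _ (h' (E' j))

end Groth.Agent.StModLib
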