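import Groth.Agent.StModLib.SemiPull
import Groth.Agent.StModLib.DenseAff
import Groth.Agent.StModLib.UnitDescent
import Groth.Agent.StModLib.FlatExt

/-!
# Modules from modules over a ring of global functions, and their sections
-/

set_option autoImplicit false
set_option linter.style.haveILetI false
set_option linter.unusedSectionVars false
set_option backward.isDefEq.respectTransparency false
set_option backward.isDefEq.respectTransparency.types false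

universe u

open CategoryTheory CategoryTheory.Limits AlgebraicGeometry
open scoped TensorProduct

noncomputable section

namespace Groth.Agent.StModLib

variable {S : Scheme.{u}} {𝒵 : AlgSt.Cat S} {A : Type u} [CommRing A]

section PMap

variable {B : Type u} [CommRing B] (σ : A →+* B) {M M' M'' : Type u} [AddCommGroup M] [Module A M]
  [AddCommGroup M'] [Module A M'] [AddCommGroup M''] [Module A M'']

/-- Base change of a linear map. -/
def pmap (l : M →ₗ[A] M') : Pull σ M →+ Pull σ M' := (l.lTensor (RingAlg σ)).toAddMonoidHom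

theorem pmap_ι (l : M →ₗ[A] M') (m : M) : pmap σ l (Pull.ι σ M m) = Pull.ι σ M' (l m) := rfl

theorem pmap_smul (l : M →ₗ[A] M') (r : B) (v : Pull σ M) : pmap σ l (r • v) = r • pmap σ l v := by
  show l.lTensor (RingAlg σ) ((show RingAlg σ from r) • (show RingAlg σ ⊗[A] M from v)) =
    (show RingAlg σ from r) • l.lTensor (RingAlg σ) v
  induction (show RingAlg σ ⊗[A] M from v) using TensorProduct.induction_on with
  | zero => simp
  | add a b ha hb => rw [smul_add, map_add, map_add, ha, hb, smul_add]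
  | tmul c m => rw [TensorProduct.smul_tmul', LinearMap.lTensor_tmul, LinearMap.lTensor_tmul,
      TensorProduct.smul_tmul']

theorem pmap_comp (l : M →ₗ[A] M') (l' : M' →ₗ[A] M'') (v : Pull σ M) :
    pmap σ l' (pmap σ l v) = pmap σ (l'.comp l) v :=
  (LinearMap.lTensor_comp_apply (RingAlg σ) l' l v).symm

theorem mem_range_pmap (l : M →ₗ[A] M') (v : Pull σ M') :
    (∃ w, pmap σ l w = v) ↔ pmap σ (LinearMap.range l).mkQ v = 0 := by
  have hex : Function.Exact l (LinearMap.range l).mkQ :=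
    LinearMap.exact_iff.2 (Submodule.ker_mkQ _)
  exact ((lTensor_exact (RingAlg σ) hex (Submodule.mkQ_surjective _)) v).symm

theorem pull_ext_pi {ι : Type u} [Fintype ι] {v w : Pull σ (ι → A)}
    (h : ∀ i, pmap σ (LinearMap.proj i) v = pmap σ (LinearMap.proj i) w) : v = w := by
  classical
  have hid : ∀ v : Pull σ (ι → A),
      v = ∑ i, pmap σ (LinearMap.single A (fun _ => A) i) (pmap σ (LinearMap.proj i) v) := fun v => by
    show (show RingAlg σ ⊗[A] (ι → A) from v) = ∑ i, LinearMap.lTensor (RingAlg σ) (LinearMap.single A (fun _ => A) i)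
      (LinearMap.lTensor (RingAlg σ) (LinearMap.proj i) (show RingAlg σ ⊗[A] (ι → A) from v))
    induction (show RingAlg σ ⊗[A] (ι → A) from v) using TensorProduct.induction_on with
    | zero => simp only [map_zero, Finset.sum_const_zero]
    | add a b ha hb => simp only [map_add, Finset.sum_add_distrib, ← ha, ← hb]
    | tmul c f =>
      simp only [LinearMap.lTensor_tmul, LinearMap.coe_proj, Function.eval]
      rw [← TensorProduct.tmul_sum]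
      exact congrArg (c ⊗ₜ[A] ·) (Finset.univ_sum_single f).symm
  rw [hid v, hid w]
  simp only [h]

/-- Every element comes from a finite free module. -/
theorem exists_finite_free (v : Pull σ M) :
    ∃ (ι : Type u) (_ : Fintype ι) (l : (ι → A) →ₗ[A] M) (w : Pull σ (ι → A)), pmap σ l w = v := by
  induction (show RingAlg σ ⊗[A] M from v) using TensorProduct.induction_on with
  | zero => exact ⟨PEmpty.{u + 1}, inferInstance, 0, 0, map_zero _⟩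
  | tmul c m =>
    refine ⟨PUnit.{u + 1}, inferInstance, (LinearMap.toSpanSingleton A M m).comp (LinearMap.proj PUnit.unit),
      (c ⊗ₜ[A] (fun _ => (1 : A)) : RingAlg σ ⊗[A] (PUnit.{u + 1} → A)), ?_⟩
    show LinearMap.lTensor (RingAlg σ) _ (c ⊗ₜ[A] (fun _ => (1 : A))) = c ⊗ₜ[A] m
    simp
  | add a b ha hb =>
    obtain ⟨ι, hι, l, w, hw⟩ := ha
    obtain ⟨κ, hκ, k, w', hw'⟩ := hb
    let e₁ : (ι → A) →ₗ[A] (ι ⊕ κ → A) :=
      (LinearEquiv.sumArrowLequivProdArrow ι κ A A).symm.toLinearMap.comp (LinearMap.inl A _ _)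
    let e₂ : (κ → A) →ₗ[A] (ι ⊕ κ → A) :=
      (LinearEquiv.sumArrowLequivProdArrow ι κ A A).symm.toLinearMap.comp (LinearMap.inr A _ _)
    let L : (ι ⊕ κ → A) →ₗ[A] M :=
      (l.coprod k).comp (LinearEquiv.sumArrowLequivProdArrow ι κ A A).toLinearMap
    have h₁ : L.comp e₁ = l := LinearMap.ext fun f => by simp [L, e₁]
    have h₂ : L.comp e₂ = k := LinearMap.ext fun f => by simp [L, e₂]
    refine ⟨ι ⊕ κ, inferInstance, L, pmap σ e₁ w + pmap σ e₂ w', ?_⟩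
    rw [map_add, pmap_comp, pmap_comp, h₁, h₂, hw, hw']

/-- A relation comes from finitely many. -/
theorem exists_free_rel (q : M →ₗ[A] M') (hq : Function.Surjective q) (v : Pull σ M) (hv : pmap σ q v = 0) :
    ∃ (ι : Type u) (_ : Fintype ι) (l : (ι → A) →ₗ[A] M), q.comp l = 0 ∧ ∃ w, pmap σ l w = v := by
  obtain ⟨k, hk⟩ := ((lTensor_exact (M := ↥(LinearMap.ker q)) (f := (LinearMap.ker q).subtype) (RingAlg σ)
    (LinearMap.exact_subtype_ker_map q) hq) (show RingAlg σ ⊗[A] M from v)).1 hv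
  obtain ⟨ι, hι, l, w, hw⟩ := exists_finite_free (M := ↥(LinearMap.ker q)) σ k
  refine ⟨ι, hι, (LinearMap.ker q).subtype.comp l, LinearMap.ext fun a => LinearMap.mem_ker.1 (l a).2, w, ?_⟩
  exact (pmap_comp (M' := ↥(LinearMap.ker q)) σ l (LinearMap.ker q).subtype w).symm.trans
    ((congrArg (pmap (M := ↥(LinearMap.ker q)) σ (LinearMap.ker q).subtype) hw).trans hk)

end PMap

variable (hz : FibCat.IsFibGrpd 𝒵.p) (ρ : ∀ x : 𝒵.obj, A →+* Γ(StMod.sch 𝒵 x, ⊤))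
  (hρ : ∀ {x' x : 𝒵.obj} (φ : x' ⟶ x), (fn φ).comp (ρ x) = ρ x')

variable (𝒵) in
/-- The affine objects. -/
abbrev AffO : Type (u + 1) := {x : 𝒵.obj // IsAffine (StMod.sch 𝒵 x)}

variable (N : Type u) [AddCommGroup N] [Module A N]

include hρ in
theorem exists_tRes {x' x : 𝒵.obj} (φ : x' ⟶ x) : ∃ g : Pull (ρ x) N →+ Pull (ρ x') N,
    (∀ (r : Γ(StMod.sch 𝒵 x, ⊤)) (v : Pull (ρ x) N), g (r • v) = fn φ r • g v) ∧
      ∀ n, g (Pull.ι _ _ n) = Pull.ι _ _ n :=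
  (Pull.isSemiBC_ι (ρ x) N).exists_lift (fn φ) (Pull.ι (ρ x') N) fun r m => by
    rw [(Pull.isSemiBC_ι (ρ x') N).choose]
    exact congrArg (fun s : Γ(StMod.sch 𝒵 x', ⊤) => s • Pull.ι (ρ x') N m) (congr($(hρ φ) r) :).symm

/-- Restriction. -/
def tRes {x' x : 𝒵.obj} (φ : x' ⟶ x) : Pull (ρ x) N →+ Pull (ρ x') N := (exists_tRes ρ hρ N φ).choose

theorem tRes_smul {x' x : 𝒵.obj} (φ : x' ⟶ x) (r : Γ(StMod.sch 𝒵 x, ⊤)) (v : Pull (ρ x) N) :
    tRes ρ hρ N φ (r • v) = fn φ r • tRes ρ hρ N φ v :=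
  (exists_tRes ρ hρ N φ).choose_spec.1 r v

theorem tRes_ι {x' x : 𝒵.obj} (φ : x' ⟶ x) (n : N) : tRes ρ hρ N φ (Pull.ι _ _ n) = Pull.ι _ _ n :=
  (exists_tRes ρ hρ N φ).choose_spec.2 n

variable {N} {N' : Type u} [AddCommGroup N'] [Module A N']

theorem tRes_pmap {x' x : 𝒵.obj} (φ : x' ⟶ x) (l : N →ₗ[A] N') (v : Pull (ρ x) N) :
    tRes ρ hρ N' φ (pmap (ρ x) l v) = pmap (ρ x') l (tRes ρ hρ N φ v) :=
  congr($((Pull.isSemiBC_ι (ρ x) N).ext (τ := fn φ) (g := (tRes ρ hρ N' φ).comp (pmap (ρ x) l))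
    (g' := (pmap (ρ x') l).comp (tRes ρ hρ N φ))
    (fun r v => by
      show tRes ρ hρ N' φ (pmap (ρ x) l (r • v)) = fn φ r • tRes ρ hρ N' φ (pmap (ρ x) l v)
      rw [pmap_smul, tRes_smul])
    (fun r v => by
      show pmap (ρ x') l (tRes ρ hρ N φ (r • v)) = fn φ r • pmap (ρ x') l (tRes ρ hρ N φ v)
      rw [tRes_smul, pmap_smul])
    fun n => by
      show tRes ρ hρ N' φ (pmap (ρ x) l _) = pmap (ρ x') l (tRes ρ hρ N φ _)
      rw [pmap_ι, tRes_ι, tRes_ι, pmap_ι]) v)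

variable (N) in
/-- The system of base changes. -/
def tSys : DSys (Subtype.val : AffO 𝒵 → 𝒵.obj) where
  obj x := Pull (ρ x.1) N
  res φ := tRes ρ hρ N φ
  res_smul φ r v := tRes_smul ρ hρ N φ r v
  res_id x v := congr($((Pull.isSemiBC_ι (ρ x.1) N).ext (τ := RingHom.id _) (g := tRes ρ hρ N (𝟙 x.1))
    (g' := AddMonoidHom.id _) (fun r v => by rw [tRes_smul, fn_id]) (fun _ _ => rfl)
    fun n => tRes_ι ρ hρ N _ n) v)
  res_comp {x'' x' x} ψ φ v := congr($((Pull.isSemiBC_ι (ρ x.1) N).ext (τ := fn (ψ ≫ φ))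
    (g := tRes ρ hρ N (ψ ≫ φ)) (g' := (tRes ρ hρ N ψ).comp (tRes ρ hρ N φ)) (tRes_smul ρ hρ N _)
    (fun r v => by
      show tRes ρ hρ N ψ (tRes ρ hρ N φ (r • v)) = _ • tRes ρ hρ N ψ (tRes ρ hρ N φ v)
      rw [tRes_smul, tRes_smul, fn_comp]
      rfl)
    fun n => by
      show _ = tRes ρ hρ N ψ (tRes ρ hρ N φ _)
      rw [tRes_ι, tRes_ι, tRes_ι]) v)

theorem isStableAff_affO : IsStableAff (Subtype.val : AffO 𝒵 → 𝒵.obj) :=
  fun η _ _ h => ⟨⟨η, h⟩, ⟨Iso.refl η⟩⟩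

include hz in
theorem isDense_affO : IsDense (Subtype.val : AffO 𝒵 → 𝒵.obj) := fun η => by
  obtain ⟨ι, z, φ, hφ, ha, -⟩ := exists_affine_cover hz η
  exact ⟨ι, fun i => ⟨z i, ha i⟩, φ, hφ⟩

variable (N) in
include hz in
theorem exists_tilde : ∃ (G : StMod.QCoh 𝒵) (θ : ∀ x : AffO 𝒵, Γ(G.obj.obj x.1, ⊤) →+ (tSys ρ hρ N).obj x),
      (∀ x, Function.Bijective (θ x)) ∧
      (∀ (x : AffO 𝒵) (r : Γ(StMod.sch 𝒵 x.1, ⊤)) (v : Γ(G.obj.obj x.1, ⊤)), θ x (r • v) =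
        HSMul.hSMul (α := Γ(StMod.sch 𝒵 x.1, ⊤)) (β := (tSys ρ hρ N).obj x) (γ := (tSys ρ hρ N).obj x) r (θ x v)) ∧
      ∀ {x' x : AffO 𝒵} (φ : x'.1 ⟶ x.1) (v : Γ(G.obj.obj x.1, ⊤)),
        θ x' (G.obj.mapTop φ v) = (tSys ρ hρ N).res φ (θ x v) := by
  refine exists_qcoh_of_denseAff hz (isDense_affO hz) isStableAff_affO (fun x => x.2) (tSys ρ hρ N) ?_
  intro x' x φ _ _
  refine IsSemiBC.of_comp (Pull.isSemiBC_ι (ρ x.1) N) (tRes_smul ρ hρ N φ) ?_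
  show IsSemiBC ((fn φ).comp (ρ x.1)) ((tRes ρ hρ N φ).comp (Pull.ι (ρ x.1) N))
  rw [show (tRes ρ hρ N φ).comp (Pull.ι (ρ x.1) N) = Pull.ι (ρ x'.1) N from
    AddMonoidHom.ext (tRes_ι ρ hρ N φ)]
  exact (hρ φ).symm ▸ Pull.isSemiBC_ι (ρ x'.1) N

include hz hρ in
/-- Base changes are separated. -/
theorem tSys_sep {x : AffO 𝒵} {ι : Type u} {y : ι → 𝒵.obj} {φ : ∀ i, y i ⟶ x.1} (hφ : IsCov y φ)
    (ha : ∀ i, IsAffine (StMod.sch 𝒵 (y i))) {v w : Pull (ρ x.1) N}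
    (h : ∀ i, tRes ρ hρ N (φ i) v = tRes ρ hρ N (φ i) w) : v = w := by
  obtain ⟨G, θ, hb, -, hn⟩ := exists_tilde hz ρ hρ N
  obtain ⟨v', rfl⟩ := (hb x).2 v
  obtain ⟨w', rfl⟩ := (hb x).2 w
  refine congrArg (θ x) ((isSheaf_modSys hz G.property).1 y φ hφ _ _ fun i => ?_)
  exact (hb ⟨y i, ha i⟩).1 ((hn (x' := ⟨y i, ha i⟩) (φ i) v').trans ((h i).trans (hn (x' := ⟨y i, ha i⟩) (φ i) w').symm))

include hz in
/-- Families on affine objects extend to all objects. -/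
theorem exists_sect_of_aff (F : StMod.QCoh 𝒵) (f : ∀ x : AffO 𝒵, Γ(F.obj.obj x.1, ⊤))
    (hf : ∀ {x' x : AffO 𝒵} (φ : x'.1 ⟶ x.1), F.obj.mapTop φ (f x) = f x') :
    ∃ s : ∀ x, Γ(F.obj.obj x, ⊤), (∀ {x' x : 𝒵.obj} (φ : x' ⟶ x), F.obj.mapTop φ (s x) = s x') ∧
      ∀ x : AffO 𝒵, s x.1 = f x := by
  have hS := isSheaf_modSys hz F.property
  have key : ∀ x : 𝒵.obj, ∃! s : Γ(F.obj.obj x, ⊤), ∀ (y : AffO 𝒵) (φ : y.1 ⟶ x), F.obj.mapTop φ s = f y := fun x => by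
    obtain ⟨ι, z, φ, hφ, ha, -⟩ := exists_affine_cover hz x
    obtain ⟨s, hs⟩ := hS.2 z φ hφ (fun i => f ⟨z i, ha i⟩) fun i j v a b e => by
      obtain ⟨κ, w, ψ, hψ, hwa, -⟩ := exists_affine_cover hz v
      refine hS.1 w ψ hψ _ _ fun k => ?_
      show F.obj.mapTop (ψ k) (F.obj.mapTop a (f ⟨z i, ha i⟩)) = F.obj.mapTop (ψ k) (F.obj.mapTop b (f ⟨z j, ha j⟩))
      rw [← F.obj.mapTop_comp, ← F.obj.mapTop_comp, hf (x' := ⟨w k, hwa k⟩) (x := ⟨z i, ha i⟩) (ψ k ≫ a),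
        hf (x' := ⟨w k, hwa k⟩) (x := ⟨z j, ha j⟩) (ψ k ≫ b)]
    refine ⟨s, fun y ψ => ?_, fun s' hs' => hS.1 z φ hφ _ _ fun i => (hs' ⟨z i, ha i⟩ (φ i)).trans (hs i).symm⟩
    obtain ⟨z', α, β, hz', hsq⟩ := hφ.exists_pullback hz ψ
    choose ν w χ hχ hwa _ using fun i => exists_affine_cover hz (z' i)
    refine hS.1 _ _ (hz'.comp hχ) _ _ fun l => ?_
    show F.obj.mapTop (χ l.1 l.2 ≫ α l.1) (F.obj.mapTop ψ s) = F.obj.mapTop (χ l.1 l.2 ≫ α l.1) (f y)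
    rw [← F.obj.mapTop_comp, Category.assoc, (hsq l.1).w, ← Category.assoc, F.obj.mapTop_comp,
      show F.obj.mapTop (φ l.1) s = _ from hs l.1,
      hf (x' := ⟨w l.1 l.2, hwa l.1 l.2⟩) (x := ⟨z l.1, ha l.1⟩) (χ l.1 l.2 ≫ β l.1),
      hf (x' := ⟨w l.1 l.2, hwa l.1 l.2⟩) (x := y) (χ l.1 l.2 ≫ α l.1)]
  choose s hs hu using key
  refine ⟨s, fun {x' x} φ => hu x' _ fun y ψ => ?_, fun x => ?_⟩
  · rw [← F.obj.mapTop_comp]
    exact hs x y (ψ ≫ φ)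
  · exact (F.obj.mapTop_id _ _).symm.trans (hs x.1 x (𝟙 _))

variable (hO : ∀ f : ∀ x : AffO 𝒵, Γ(StMod.sch 𝒵 x.1, ⊤), (∀ {x' x : AffO 𝒵} (φ : x'.1 ⟶ x.1), fn φ (f x) = f x') →
    ∃! a : A, ∀ x : AffO 𝒵, f x = ρ x.1 a)
  (z : AffO 𝒵) (hcovz : ∀ x : 𝒵.obj, ∃ (ι : Type u) (y : ι → 𝒵.obj) (φ : ∀ i, y i ⟶ x),
    IsCov y φ ∧ ∀ i, Nonempty (y i ⟶ z.1))
  (hL : ∀ {G G' : StMod.QCoh 𝒵} (u : G ⟶ G') (s : ∀ x, Γ(G'.obj.obj x, ⊤)),
    (∀ {x' x : 𝒵.obj} (φ : x' ⟶ x), G'.obj.mapTop φ (s x) = s x') →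
    (∀ x, IsAffine (StMod.sch 𝒵 x) → ∃ v, (u.hom.app x).app ⊤ v = s x) →
    ∃ t : ∀ x, Γ(G.obj.obj x, ⊤), (∀ {x' x : 𝒵.obj} (φ : x' ⟶ x), G.obj.mapTop φ (t x) = t x') ∧
      ∀ x, (u.hom.app x).app ⊤ (t x) = s x)

include hz hcovz hL in
/-- A family in the image at the covering object comes from a family. -/
theorem exists_lift_family (l : N →ₗ[A] N') (v : ∀ x : AffO 𝒵, Pull (ρ x.1) N')
    (hv : ∀ {x' x : AffO 𝒵} (φ : x'.1 ⟶ x.1), tRes ρ hρ N' φ (v x) = v x')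
    (h : ∃ w, pmap (ρ z.1) l w = v z) :
    ∃ t : ∀ x : AffO 𝒵, Pull (ρ x.1) N, (∀ {x' x : AffO 𝒵} (φ : x'.1 ⟶ x.1), tRes ρ hρ N φ (t x) = t x') ∧
      ∀ x : AffO 𝒵, pmap (ρ x.1) l (t x) = v x := by
  obtain ⟨G, θ, hb, hl, hn⟩ := exists_tilde hz ρ hρ N
  obtain ⟨G', θ', hb', hl', hn'⟩ := exists_tilde hz ρ hρ N'
  choose m hm using fun (x : AffO 𝒵) y => (hb' x).2 (pmap (ρ x.1) l (θ x y))
  obtain ⟨u, hu⟩ := exists_hom_of_denseAff hz (isDense_affO hz) isStableAff_affO (G := G.obj) (G' := G'.obj)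
    G'.property (fun x : AffO 𝒵 => AddMonoidHom.mk' (m x) fun a b => (hb' x).1 (by
      simp only [hm, map_add]))
    (fun x r y => (hb' x).1 (by
      show θ' x (m x (r • y)) = θ' x (r • m x y)
      rw [hl', hm, hm, hl]
      exact pmap_smul (ρ x.1) l r (θ x y)))
    (fun {x' x} φ y => (hb' x').1 (by
      show θ' x' (G'.obj.mapTop φ (m x y)) = θ' x' (m x' (G.obj.mapTop φ y))
      rw [hn', hm, hm, hn]
      exact tRes_pmap ρ hρ φ l (θ x y)))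
  choose f hf using fun x : AffO 𝒵 => (hb' x).2 (v x)
  obtain ⟨s, hs, hsf⟩ := exists_sect_of_aff hz G' f fun {x' x} φ => (hb' x').1 (by
    rw [hn', hf, hf]
    exact hv φ)
  have hrange : ∀ x : AffO 𝒵, ∃ w, pmap (ρ x.1) l w = v x := fun x => (mem_range_pmap _ l _).2 <| by
    obtain ⟨ι, y, φ, hφ, hy⟩ := hcovz x.1
    choose κ w χ hχ hwa _ using fun i => exists_affine_cover hz (y i)
    refine tSys_sep hz ρ hρ (hφ.comp hχ) (fun j => hwa j.1 j.2) fun j => ?_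
    have e := hv (x' := ⟨w j.1 j.2, hwa j.1 j.2⟩) (x := x) (χ j.1 j.2 ≫ φ j.1)
    have e' := hv (x' := ⟨w j.1 j.2, hwa j.1 j.2⟩) (x := z) (χ j.1 j.2 ≫ (hy j.1).some)
    rw [tRes_pmap, e, map_zero, ← e', ← tRes_pmap, (mem_range_pmap _ l _).1 h, map_zero]
  obtain ⟨t, ht, htu⟩ := hL (G := G) (G' := G') ⟨u⟩ s hs fun x hx => by
    obtain ⟨w, hw⟩ := hrange ⟨x, hx⟩
    obtain ⟨y, rfl⟩ := (hb ⟨x, hx⟩).2 w
    refine ⟨y, (hu ⟨x, hx⟩ y).trans ((hb' ⟨x, hx⟩).1 ?_)⟩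
    show θ' ⟨x, hx⟩ (m ⟨x, hx⟩ y) = θ' ⟨x, hx⟩ (s x)
    rw [hm, hw, hsf ⟨x, hx⟩, hf]
  refine ⟨fun x => θ x (t x.1), fun {x' x} φ => (hn φ (t x.1)).symm.trans (congrArg (θ x') (ht φ)), fun x => ?_⟩
  rw [← hm, ← hf]
  exact congrArg (θ' x) ((hu x (t x.1)).symm.trans ((htu x.1).trans (hsf x)))

include hO in
/-- Functions given as compatible elements of the base changes of the ring. -/
theorem existsUnique_const_self (v : ∀ x : AffO 𝒵, Pull (ρ x.1) A)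
    (hv : ∀ {x' x : AffO 𝒵} (φ : x'.1 ⟶ x.1), tRes ρ hρ A φ (v x) = v x') :
    ∃! a : A, ∀ x : AffO 𝒵, v x = Pull.ι (ρ x.1) A a := by
  have h1 : ∀ x : AffO 𝒵, ∀ w : Pull (ρ x.1) A, ∃! r : Γ(StMod.sch 𝒵 x.1, ⊤), w = r • Pull.ι (ρ x.1) A 1 := fun x w => by
    obtain ⟨g, hg, hgι⟩ := (Pull.isSemiBC_ι (ρ x.1) A).exists_lift (RingHom.id _) (ρ x.1).toAddMonoidHom
      fun r m => by
        show ρ x.1 (r • m) = ρ x.1 r • ρ x.1 m
        rw [smul_eq_mul, smul_eq_mul, map_mul]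
    have hb : Function.Bijective g := (Pull.isSemiBC_ι (ρ x.1) A).bijective_of_linear hg (by
      rw [show g.comp (Pull.ι (ρ x.1) A) = (ρ x.1).toAddMonoidHom from AddMonoidHom.ext hgι]
      exact isSemiBC_self (ρ x.1))
    have hg1 : g (Pull.ι (ρ x.1) A 1) = 1 := (hgι 1).trans (ρ x.1).map_one
    refine ⟨g w, hb.1 ?_, fun r hr => ?_⟩
    · rw [hg, hg1]
      exact (mul_one (g w)).symm
    · rw [hr, hg, hg1]
      exact (mul_one r).symm
  have hι : ∀ (x : AffO 𝒵) (a : A), Pull.ι (ρ x.1) A a = ρ x.1 a • Pull.ι (ρ x.1) A 1 := fun x a => by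
    have e := (Pull.isSemiBC_ι (ρ x.1) A).choose a 1
    rw [smul_eq_mul, mul_one] at e
    exact e
  choose r hr hru using fun x => h1 x (v x)
  obtain ⟨a, ha, hau⟩ := hO r fun {x' x} φ => hru x' _ (by
    rw [← hv φ, hr x, tRes_smul, tRes_ι])
  exact ⟨a, fun x => by rw [hr x, ha x, ← hι], fun b hb => hau b fun x => (hru x _ ((hb x).trans (hι x b))).symm⟩

include hz hρ hO hcovz hL in
/-- Compatible families are constant. -/
theorem existsUnique_const (v : ∀ x : AffO 𝒵, Pull (ρ x.1) N)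
    (hv : ∀ {x' x : AffO 𝒵} (φ : x'.1 ⟶ x.1), tRes ρ hρ N φ (v x) = v x') :
    ∃! n : N, ∀ x : AffO 𝒵, v x = Pull.ι (ρ x.1) N n := by
  have hfree : ∀ (ι : Type u) [Fintype ι] (t : ∀ x : AffO 𝒵, Pull (ρ x.1) (ι → A)),
      (∀ {x' x : AffO 𝒵} (φ : x'.1 ⟶ x.1), tRes ρ hρ (ι → A) φ (t x) = t x') →
      ∃ a : ι → A, ∀ x : AffO 𝒵, t x = Pull.ι (ρ x.1) (ι → A) a := fun ι _ t ht => by
    choose a ha _ using fun i => existsUnique_const_self ρ hρ hO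
      (fun x => pmap (ρ x.1) (LinearMap.proj i) (t x)) fun {x' x} φ => by rw [tRes_pmap, ht]
    exact ⟨a, fun x => pull_ext_pi _ fun i => by rw [pmap_ι, ha i x]; rfl⟩
  refine existsUnique_of_exists_of_unique ?_ ?_
  · obtain ⟨ι, hι, l, w, hw⟩ := exists_finite_free (ρ z.1) (v z)
    obtain ⟨t, ht, htv⟩ := exists_lift_family hz ρ hρ z hcovz hL l v hv ⟨w, hw⟩
    obtain ⟨a, ha⟩ := hfree ι t ht
    exact ⟨l a, fun x => by rw [← htv x, ha x, pmap_ι]⟩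
  · intro n n' h h'
    let π₀ : (N →₀ A) →ₗ[A] N := Finsupp.linearCombination A id
    let f : N →₀ A := Finsupp.single (n - n') 1
    have hf : π₀ f = n - n' := by simp [π₀, f]
    have h0 : pmap (ρ z.1) π₀ (Pull.ι (ρ z.1) (N →₀ A) f) = 0 := by
      rw [pmap_ι, hf, map_sub, ← h z, ← h' z, sub_self]
    have hπ₀ : Function.Surjective π₀ := fun m => ⟨Finsupp.single m 1, by simp [π₀]⟩
    obtain ⟨ι, hι, l, hl₀, w, hw⟩ := exists_free_rel (ρ z.1) π₀ hπ₀ _ h0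
    obtain ⟨t, ht, htv⟩ := exists_lift_family hz ρ hρ z hcovz hL l
      (fun x => Pull.ι (ρ x.1) (N →₀ A) f) (fun φ => tRes_ι ρ hρ _ φ f) ⟨w, hw⟩
    obtain ⟨a, ha⟩ := hfree ι t ht
    have hfa : l a = f := Finsupp.ext fun j => by
      refine (existsUnique_const_self ρ hρ hO (fun x => Pull.ι (ρ x.1) A (f j)) fun φ => tRes_ι ρ hρ _ φ _).unique
        (fun x => ?_) fun x => rfl
      have e := htv x
      rw [ha x, pmap_ι] at e
      have e' := congrArg (pmap (ρ x.1) (Finsupp.lapply j)) e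
      rw [pmap_ι, pmap_ι] at e'
      exact e'.symm
    have : π₀ f = 0 := by
      rw [← hfa]
      exact congr($hl₀ a)
    exact sub_eq_zero.1 (hf.symm.trans this)

end Groth.Agent.StModLib
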