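import Groth.Agent.StModLib.BCCohAffine
import Groth.Agent.StModLib.TildeUnit

/-!
# Base change of the functions on a pushforward
-/

set_option autoImplicit false
set_option linter.style.haveILetI false
set_option linter.unusedSectionVars false
set_option backward.isDefEq.respectTransparency false
set_option backward.isDefEq.respectTransparency.types false

universe u

open CategoryTheory CategoryTheory.Limits AlgebraicGeometry
open Groth.Agent.AlgStLib

noncomputable section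

namespace Groth.Agent.StModLib

/-- The rings of functions of a fibre product of affine schemes. -/
theorem isPushout_appTop_hom {P X Y Z : Scheme.{u}} (fst : P ⟶ X) (snd : P ⟶ Y) (f : X ⟶ Z) (g : Y ⟶ Z)
    (hX : IsAffine X) (hY : IsAffine Y) (hZ : IsAffine Z) (h : IsPullback fst snd f g) :
    IsPushout (CommRingCat.ofHom f.appTop.hom) (CommRingCat.ofHom g.appTop.hom) (CommRingCat.ofHom fst.appTop.hom)
      (CommRingCat.ofHom snd.appTop.hom) :=
  isPushout_appTop_of_isPullback h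

/-- A pushout of rings as the standard base change. -/
theorem exists_pull_pushout {A R N T : Type u} [CommRing A] [CommRing R] [CommRing N] [CommRing T] {ρ : A →+* R}
    {σ : A →+* N} {τ : R →+* T} {ν : N →+* T}
    (h : IsPushout (CommRingCat.ofHom ρ) (CommRingCat.ofHom σ) (CommRingCat.ofHom τ) (CommRingCat.ofHom ν)) :
    letI : Module A N := Module.compHom N σ
    ∃ g : Pull ρ N →+ T, (∀ (r : R) (v : Pull ρ N), g (r • v) = τ r * g v) ∧
      (∀ n, g (Pull.ι ρ N n) = ν n) ∧ Function.Bijective g := by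
  letI : Module A N := Module.compHom N σ
  letI : Module R T := Module.compHom T τ
  have hν : IsSemiBC ρ ν.toAddMonoidHom :=
    isSemiBC_of_isPushout (σ := ρ) (ρ := σ) (ρ' := τ) (σ' := ν) h (fun _ _ => rfl) (fun _ _ => rfl)
      (isSemiBC_self ν)
  obtain ⟨g, hg, hgι⟩ := (Pull.isSemiBC_ι ρ N).exists_lift (RingHom.id R) ν.toAddMonoidHom hν.choose
  refine ⟨g, hg, hgι, (Pull.isSemiBC_ι ρ N).bijective_of_linear hg ?_⟩
  rw [show g.comp (Pull.ι ρ N) = ν.toAddMonoidHom from AddMonoidHom.ext hgι]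
  exact hν

variable {S : Scheme.{u}} {𝒳 𝒴 𝒵 : AlgSt.Cat S}

/-- Presentations of the projection from the category over an object. -/
theorem nonempty_pres_fibFst (π : 𝒳 ⥤ᵇ 𝒴) (hp : FibCat.IsFibGrpd 𝒳.p) (hp' : FibCat.IsFibGrpd 𝒴.p)
    {η : 𝒴.obj} {ξ : 𝒳.obj} {ω : 𝒴.obj} (a : ω ⟶ π.obj ξ) (b : ω ⟶ η)
    [CompactSpace (StMod.sch 𝒴 ω)] [(StMod.sch 𝒴 ω).IsSeparated]
    (hω : ∀ (v : 𝒴.obj) (f : v ⟶ π.obj ξ) (f' : v ⟶ η), ∃! l : v ⟶ ω, l ≫ a = f ∧ l ≫ b = f') :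
    Nonempty (Pres (StMod.fibFst π η) ξ) := by
  obtain ⟨p', φ', α', hα, hα', -, huniv⟩ := exists_lift_univ π hp hp' a
  haveI := hα
  let z : (StMod.fibCat π η).obj := CostructuredArrow.mk (α' ≫ b)
  let i : StMod.sch (StMod.fibCat π η) z ⟶ StMod.sch 𝒴 ω :=
    eqToHom (StMod.sch_obj_eq π p').symm ≫ StMod.bmap 𝒴 α'
  haveI : IsIso i := by
    haveI : IsIso (StMod.bmap 𝒴 α') := isIso_bmap α'
    infer_instance
  haveI : CompactSpace (StMod.sch (StMod.fibCat π η) z) := QuasiCompact.compactSpace_of_compactSpace i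
  haveI : (StMod.sch (StMod.fibCat π η) z).IsSeparated := ⟨by
    rw [← terminal.comp_from i]
    infer_instance⟩
  refine nonempty_pres_of_obj (isFibGrpd_fibCat π η hp) z φ' fun x β => ?_
  obtain ⟨l, ⟨hl₁, hl₂⟩, hlu⟩ := hω _ (π.map β) x.hom
  obtain ⟨ψ, hψ, hψl⟩ := huniv _ β l hl₁
  refine ⟨CostructuredArrow.homMk ψ (by
    show π.map ψ ≫ α' ≫ b = x.hom
    rw [← Category.assoc, hψl, hl₂]), hψ, fun χ hχ => CostructuredArrow.hom_ext _ _ ?_⟩
  have hχ' : χ.left ≫ φ' = β := hχ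
  have hl : π.map χ.left ≫ α' = l := hlu _ ⟨by
    rw [Category.assoc, hα', ← Functor.map_comp, hχ'], by
    rw [Category.assoc]
    exact CostructuredArrow.w χ⟩
  obtain ⟨c, -, hu⟩ := existsUnique_lift_image π hp hp' φ' β (π.map χ.left) (by rw [← Functor.map_comp, hχ'])
  exact (hu _ ⟨hχ', rfl⟩).trans (hu _ ⟨hψ, (cancel_mono α').1 (hψl.trans hl.symm)⟩).symm

variable (g : 𝒵 ⥤ᵇ 𝒴) (π : 𝒳 ⥤ᵇ 𝒴) (hz : FibCat.IsFibGrpd 𝒵.p) (hp : FibCat.IsFibGrpd 𝒳.p)
  (hp' : FibCat.IsFibGrpd 𝒴.p) (η' : 𝒵.obj) {η : 𝒴.obj} (b : g.obj η' ⟶ η)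

/-- The map of schemes under a morphism from an image. -/
def qMor : StMod.sch 𝒵 η' ⟶ StMod.sch 𝒴 η :=
  eqToHom (StMod.sch_obj_eq g η').symm ≫ StMod.bmap 𝒴 b

include hz hp hp' in
/-- The fibre over a pair, as a fibre product of schemes. -/
theorem exists_fibre_sq {p : 𝒳.obj} (αp : π.obj p ⟶ η) :
    ∃ (xs : (fcat g π η').obj) (γs : (fJ g π η').obj xs ⟶ p),
      π.map γs ≫ αp = fCan g π η' xs ≫ b ∧
      IsPullback (eqToHom (StMod.sch_obj_eq (fJ g π η') xs).symm ≫ StMod.bmap 𝒳 γs)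
        (StMod.baseOver (FibCat.fpFst g π) xs.left xs.hom).left (StMod.baseOver π p αp).left (qMor g η' b) ∧
      ∀ (x : (fcat g π η').obj) (γ : (fJ g π η').obj x ⟶ p), π.map γ ≫ αp = fCan g π η' x ≫ b →
        ∃! χ : x ⟶ xs, (fJ g π η').map χ ≫ γs = γ := by
  haveI := hasPullbacks hp'
  obtain ⟨z, γ, e, h₁, h₂, hu⟩ := exists_fObj g π hz hp hp' η' (pullback.fst αp b) (pullback.snd αp b)
    fun l l' h h' => pullback.hom_ext h h'
  refine ⟨z, γ, ?_, ?_, fun x δ h => hu x δ ⟨pullback.lift (π.map δ) (fCan g π η' x) h, pullback.lift_fst _ _ _,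
    pullback.lift_snd _ _ _⟩⟩
  · rw [← h₁, ← h₂, Category.assoc, Category.assoc, pullback.condition]
  have hP : IsPullback (π.map γ) (fCan g π η' z) αp b :=
    (IsPullback.of_hasPullback αp b).of_iso e.symm (Iso.refl _) (Iso.refl _) (Iso.refl _)
      (by simp [← h₁]) (by simp [← h₂]) (by simp) (by simp)
  have hb : StMod.bmap 𝒴 (fCan g π η' z) =
      eqToHom (StMod.sch_obj_eq π ((fJ g π η').obj z)) ≫ eqToHom (StMod.sch_obj_eq (fJ g π η') z) ≫
        (StMod.baseOver (FibCat.fpFst g π) z.left z.hom).left ≫ eqToHom (StMod.sch_obj_eq g η').symm := by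
    have h := congrArg CommaMorphism.left (baseOver_transMor g π z.left z.hom)
    simp only [StMod.baseOver, Over.comp_left, Over.eqToHom_left, Category.assoc] at h ⊢
    rw [← cancel_epi (eqToHom (StMod.sch_obj_eq π ((fJ g π η').obj z)).symm), eqToHom_trans_assoc, eqToHom_refl,
      Category.id_comp]
    exact h
  refine (isPullback_bmap hp' hP).of_iso (eqToIso (StMod.sch_obj_eq (BasedFunctor.comp (fJ g π η') π) z))
    (eqToIso (StMod.sch_obj_eq π p)) (eqToIso (StMod.sch_obj_eq g η')) (Iso.refl _) ?_ ?_ ?_ ?_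
  · rw [bmap_map π γ]
    simp
  · rw [hb]
    simp
  · simp [StMod.baseOver]
  · simp [qMor]

variable [IsAffine (StMod.sch 𝒴 η)] [IsAffine (StMod.sch 𝒵 η')]
  {x₀ : 𝒳.obj} (hd : IsDenseObj x₀) (P : PairAtlas x₀)

set_option maxHeartbeats 1600000 in
include hz hp hp' hd P b in
/-- The unit over an object above an affine object is bijective when it is over that object and sections there are
exact. -/
theorem bijective_unitSect_fcat (hη : EtObj η) (c : Pres π η)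
    (hpres : ∀ ξ : 𝒳.obj, IsAffine (StMod.sch 𝒳 ξ) → Nonempty (Pres (StMod.fibFst π η) ξ))
    (hex : ∀ (F F' : StMod.QCoh 𝒳) (q : F ⟶ F'), StMod.Mod.IsSurj q.hom →
      Function.Surjective (StMod.Mod.relSectMap π q.hom η))
    (hun : Function.Bijective (StMod.unitSect π η)) :
    Function.Bijective (StMod.unitSect (FibCat.fpFst g π) η') := by
  have hzA := isFibGrpd_fibCat π η hp
  have hzf := isFibGrpd_fcat g π hz hp hp' η'
  let ρ : ∀ x : (StMod.fibCat π η).obj, Γ(StMod.sch 𝒴 η, ⊤) →+* Γ(StMod.sch (StMod.fibCat π η) x, ⊤) :=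
    fun x => (StMod.baseOver π x.left x.hom).left.appTop.hom
  have hρ : ∀ {x' x : (StMod.fibCat π η).obj} (φ : x' ⟶ x), (fn φ).comp (ρ x) = ρ x' := fun {x' x} φ => by
    have e : StMod.bmap 𝒳 φ.left ≫ (StMod.baseOver π x.left x.hom).left = (StMod.baseOver π x'.left x'.hom).left :=
      (StMod.bmap_comp_baseOver_left π φ.left x.hom).trans
        (congrArg (fun α => (StMod.baseOver π x'.left α).left) (CostructuredArrow.w φ))
    exact RingHom.ext fun r => congr($(congrArg Scheme.Hom.appTop e) r)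
  have hO : ∀ f : ∀ x : AffO (StMod.fibCat π η), Γ(StMod.sch (StMod.fibCat π η) x.1, ⊤),
      (∀ {x' x : AffO (StMod.fibCat π η)} (φ : x'.1 ⟶ x.1), fn φ (f x) = f x') →
      ∃! a, ∀ x : AffO (StMod.fibCat π η), f x = ρ x.1 a := fun f hf => by
    obtain ⟨s, hs, hsf⟩ := exists_sect_of_aff hzA (StMod.OQ (𝒳 := StMod.fibCat π η)) f hf
    let v : StMod.Mod.RelSect π (StMod.O 𝒳) η := ⟨fun ξ α => s (CostructuredArrow.mk α), fun ξ' ξ φ α =>
      hs (CostructuredArrow.homMk φ rfl : (CostructuredArrow.mk (π.map φ ≫ α) : (StMod.fibCat π η).obj) ⟶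
        CostructuredArrow.mk α)⟩
    obtain ⟨a, ha⟩ := hun.2 v
    refine ⟨a, fun x => (hsf x).symm.trans (congrArg (fun w : StMod.Mod.RelSect π (StMod.O 𝒳) η =>
      w.1 x.1.left x.1.hom) ha).symm, fun a' ha' => hun.1 (StMod.Mod.RelSect.ext π _ _ fun ξ α => ?_)⟩
    obtain ⟨ι, y, φ, hφ, hya, -⟩ := exists_affine_cover hp ξ
    refine (isSheaf_modSys hp (StMod.OQ (𝒳 := 𝒳)).property).1 y φ hφ _ _ fun i => ?_
    refine ((StMod.unitSect π η a').2 (φ i) α).trans (Eq.trans ?_ ((StMod.unitSect π η a).2 (φ i) α).symm)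
    let x : AffO (StMod.fibCat π η) := ⟨CostructuredArrow.mk (π.map (φ i) ≫ α), hya i⟩
    exact (ha' x).symm.trans ((hsf x).symm.trans
      (congrArg (fun w : StMod.Mod.RelSect π (StMod.O 𝒳) η => w.1 x.1.left x.1.hom) ha).symm)
  let zc : AffO (StMod.fibCat π η) := ⟨CostructuredArrow.mk c.α, c.affz⟩
  have hcovz : ∀ x : (StMod.fibCat π η).obj, ∃ (ι : Type u) (y : ι → (StMod.fibCat π η).obj) (φ : ∀ i, y i ⟶ x),
      IsCov y φ ∧ ∀ i, Nonempty (y i ⟶ zc.1) := fun x => by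
    obtain ⟨ι, y, φ, hφ, hψ⟩ := c.cov x.left x.hom
    exact ⟨ι, fun i => CostructuredArrow.mk (π.map (φ i) ≫ x.hom), fun i => CostructuredArrow.homMk (φ i) rfl,
      ⟨fun i => hφ.flat i, fun i => hφ.lfp i, fun t => hφ.surj t⟩,
      fun i => ⟨CostructuredArrow.homMk (hψ i).choose (hψ i).choose_spec⟩⟩
  have hcan : ∀ {x' x : (StMod.fibCat π η).obj} (φ : x' ⟶ x),
      π.map ((StMod.fibFst π η).map φ) ≫ x.hom = x'.hom := fun φ => CostructuredArrow.w φ
  have hL : ∀ {G G' : StMod.QCoh (StMod.fibCat π η)} (u : G ⟶ G') (s : ∀ x, Γ(G'.obj.obj x, ⊤)),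
      (∀ {x' x : (StMod.fibCat π η).obj} (φ : x' ⟶ x), G'.obj.mapTop φ (s x) = s x') →
      (∀ x, IsAffine (StMod.sch (StMod.fibCat π η) x) → ∃ v, (u.hom.app x).app ⊤ v = s x) →
      ∃ t : ∀ x, Γ(G.obj.obj x, ⊤),
        (∀ {x' x : (StMod.fibCat π η).obj} (φ : x' ⟶ x), G.obj.mapTop φ (t x) = t x') ∧
        ∀ x, (u.hom.app x).app ⊤ (t x) = s x := fun u s hs hu =>
    exists_globSect_lift π hp hp' hη (StMod.fibFst π η) hzA (fun x => x.hom) hcan hd P hpres
      (fun p αp => ⟨CostructuredArrow.mk αp, 𝟙 p.1, p.2.1,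
        (congrArg (· ≫ αp) (π.toFunctor.map_id p.1)).trans (Category.id_comp _),
        fun x γ h => ⟨CostructuredArrow.homMk γ h, Category.comp_id _, fun χ hχ =>
          CostructuredArrow.hom_ext _ _ ((Category.comp_id _).symm.trans hχ)⟩⟩) hex u s hs hu
  -- the base change
  let σN : Γ(StMod.sch 𝒴 η, ⊤) →+* Γ(StMod.sch 𝒵 η', ⊤) := (qMor g η' b).appTop.hom
  letI : Module Γ(StMod.sch 𝒴 η, ⊤) Γ(StMod.sch 𝒵 η', ⊤) := Module.compHom _ σN
  let N : Type u := Γ(StMod.sch 𝒵 η', ⊤)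
  choose xs γs hγs hsq huniv using fun x : AffO (StMod.fibCat π η) =>
    exists_fibre_sq g π hz hp hp' η' b (αp := x.1.hom)
  let τ : ∀ x : AffO (StMod.fibCat π η),
      Γ(StMod.sch (StMod.fibCat π η) x.1, ⊤) →+* Γ(StMod.sch (fcat g π η') (xs x), ⊤) := fun x =>
    (eqToHom (StMod.sch_obj_eq (fJ g π η') (xs x)).symm ≫ StMod.bmap 𝒳 (γs x)).appTop.hom
  let ν : ∀ x : (fcat g π η').obj, Γ(StMod.sch 𝒵 η', ⊤) →+* Γ(StMod.sch (fcat g π η') x, ⊤) := fun x =>
    (StMod.baseOver (FibCat.fpFst g π) x.left x.hom).left.appTop.hom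
  have hν : ∀ {x' x : (fcat g π η').obj} (χ : x' ⟶ x) (n : Γ(StMod.sch 𝒵 η', ⊤)), fn χ (ν x n) = ν x' n :=
    fun {x' x} χ n => by
      have e : StMod.bmap (FibCat.fp g π) χ.left ≫ (StMod.baseOver (FibCat.fpFst g π) x.left x.hom).left =
          (StMod.baseOver (FibCat.fpFst g π) x'.left x'.hom).left :=
        (StMod.bmap_comp_baseOver_left (FibCat.fpFst g π) χ.left x.hom).trans
          (congrArg (fun α => (StMod.baseOver (FibCat.fpFst g π) x'.left α).left) (CostructuredArrow.w χ))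
      exact congr($(congrArg Scheme.Hom.appTop e) n)
  have hpush : ∀ x : AffO (StMod.fibCat π η), IsPushout (CommRingCat.ofHom (ρ x.1)) (CommRingCat.ofHom σN)
      (CommRingCat.ofHom (τ x)) (CommRingCat.ofHom (ν (xs x))) := fun x => by
    exact isPushout_appTop_hom (eqToHom (StMod.sch_obj_eq (fJ g π η') (xs x)).symm ≫ StMod.bmap 𝒳 (γs x))
      (StMod.baseOver (FibCat.fpFst g π) (xs x).left (xs x).hom).left (StMod.baseOver π x.1.left x.1.hom).left
      (qMor g η' b) x.2 ‹IsAffine (StMod.sch 𝒵 η')› ‹IsAffine (StMod.sch 𝒴 η)› (hsq x)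
  have hgx : ∀ x : AffO (StMod.fibCat π η), ∃ g : Pull (ρ x.1) N →+ Γ(StMod.sch (fcat g π η') (xs x), ⊤),
      (∀ (r : Γ(StMod.sch (StMod.fibCat π η) x.1, ⊤)) (v : Pull (ρ x.1) N), g (r • v) = τ x r * g v) ∧
      (∀ n, g (Pull.ι (ρ x.1) N n) = ν (xs x) n) ∧ Function.Bijective g := fun x => exists_pull_pushout (hpush x)
  choose gx hgs hgι hgb using hgx
  -- a section over the object is compatible with restrictions
  have key : ∀ v : StMod.Mod.RelSect (FibCat.fpFst g π) (StMod.O (FibCat.fp g π)) η',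
      ∀ (z : (fcat g π η').obj) (z' : (fcat g π η').obj) (χ : z' ⟶ z),
        fn χ (v.1 z.left z.hom) = v.1 z'.left z'.hom := fun v z z' χ =>
    (v.2 χ.left z.hom).trans (congrArg (v.1 z'.left) (CostructuredArrow.w χ))
  have hχ : ∀ {x' x : AffO (StMod.fibCat π η)} (φ : x'.1 ⟶ x.1), ∃ χ : xs x' ⟶ xs x,
      (fn χ).comp (τ x) = (τ x').comp (fn φ) := fun {x' x} φ => by
    obtain ⟨χ, hχe, -⟩ := huniv x (xs x') (γs x' ≫ φ.left) (by
      rw [Functor.map_comp, Category.assoc]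
      exact (congrArg (π.map (γs x') ≫ ·) (CostructuredArrow.w φ)).trans (hγs x'))
    refine ⟨χ, ?_⟩
    have e : StMod.bmap (fcat g π η') χ ≫ eqToHom (StMod.sch_obj_eq (fJ g π η') (xs x)).symm ≫
        StMod.bmap 𝒳 (γs x) =
        (eqToHom (StMod.sch_obj_eq (fJ g π η') (xs x')).symm ≫ StMod.bmap 𝒳 (γs x')) ≫ StMod.bmap 𝒳 φ.left := by
      rw [Category.assoc, ← StMod.bmap_comp, ← hχe, StMod.bmap_comp, bmap_map (fJ g π η') χ]
      simp
    exact RingHom.ext fun r => congr($(congrArg Scheme.Hom.appTop e) r)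
  have hcompat : ∀ {x' x : AffO (StMod.fibCat π η)} (φ : x'.1 ⟶ x.1) (χ : xs x' ⟶ xs x),
      (fn χ).comp (τ x) = (τ x').comp (fn φ) → ∀ w : Pull (ρ x.1) N,
        gx x' (tRes ρ hρ N φ w) = fn χ (gx x w) := fun {x' x} φ χ hτ w =>
    congr($((Pull.isSemiBC_ι (ρ x.1) N).ext (τ := (τ x').comp (fn φ))
      (g := (gx x').comp (tRes ρ hρ N φ)) (g' := (fn χ).toAddMonoidHom.comp (gx x))
      (fun r v => by
        show gx x' (tRes ρ hρ N φ (r • v)) = _
        rw [tRes_smul, hgs]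
        rfl)
      (fun r v => by
        show fn χ (gx x (r • v)) = _
        rw [hgs, map_mul, ← hτ]
        rfl)
      fun n => by
        show gx x' (tRes ρ hρ N φ _) = fn χ (gx x _)
        rw [tRes_ι, hgι, hgι, hν]) w)
  refine ⟨fun n n' e => ?_, fun v => ?_⟩
  · obtain ⟨m, -, hmu⟩ := existsUnique_const hzA ρ hρ hO zc hcovz hL (N := N)
      (fun x => Pull.ι (ρ x.1) N n) (fun φ => tRes_ι ρ hρ N φ n)
    refine (hmu n fun x => rfl).trans (hmu n' fun x => (hgb x).1 ?_).symm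
    rw [hgι, hgι]
    exact congrArg (fun w : StMod.Mod.RelSect (FibCat.fpFst g π) (StMod.O (FibCat.fp g π)) η' =>
      w.1 (xs x).left (xs x).hom) e
  choose w hw using fun x : AffO (StMod.fibCat π η) => (hgb x).2 (v.1 (xs x).left (xs x).hom)
  obtain ⟨n, hn, -⟩ := existsUnique_const hzA ρ hρ hO zc hcovz hL (N := N) w fun {x' x} φ => by
    obtain ⟨χ, hτ⟩ := hχ φ
    refine (hgb x').1 ?_
    rw [hcompat φ χ hτ, hw, hw, key]
  have hnx : ∀ x : AffO (StMod.fibCat π η), v.1 (xs x).left (xs x).hom = ν (xs x) n := fun x => by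
    rw [← hw, hn, hgι]
  refine ⟨n, StMod.Mod.RelSect.ext _ _ _ fun ξ β => ?_⟩
  obtain ⟨ι, y, φ, hφ, hya, -⟩ := exists_affine_cover hzf (CostructuredArrow.mk β : (fcat g π η').obj)
  refine (isSheaf_modSys hzf (StMod.OQ (𝒳 := fcat g π η')).property).1 y φ hφ _ _ fun i => ?_
  refine (key _ _ _ (φ i)).trans (Eq.trans ?_ (key v _ _ (φ i)).symm)
  let x : AffO (StMod.fibCat π η) := ⟨CostructuredArrow.mk (fCan g π η' (y i) ≫ b), by
    show IsAffine (StMod.sch 𝒳 ((fJ g π η').obj (y i)))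
    rw [StMod.sch_obj_eq (fJ g π η') (y i)]
    exact hya i⟩
  obtain ⟨χ, -, -⟩ := huniv x (y i) (𝟙 _) (by
    rw [CategoryTheory.Functor.map_id]
    exact Category.id_comp _)
  rw [← key v _ _ χ, hnx, hν]
  rfl

open AlgSp Groth.Agent.AlgSpLib Groth.Agent.FibBase in
/-- Good moduli spaces are stable under base change: the functions. -/
theorem unitIsIso_fpFst {𝒳 : AlgSt.Cat S} (h𝒳 : AlgSt.IsAlgStack Scheme.fppfPrecoverage 𝒳)
    (M M' : AlgSp.Space S) (hM : HasQcProd M.obj) (g : M'.obj ⟶ M.obj)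
    (π : 𝒳 ⥤ᵇ AlgSt.ofSp M.obj) (hqc : AlgSt.IsQuasiCompactMor Scheme.fppfPrecoverage π)
    (hqs : AlgSt.IsQuasiSeparatedMor π) (h : StMod.IsGoodModuli π) :
    StMod.UnitIsIso (FibCat.fpFst (AlgSt.ofSpMap g) π) := by
  let g' := AlgSt.ofSpMap g
  let π' := FibCat.fpFst g' π
  have hp := h𝒳.isStack.1
  have hp' : FibCat.IsFibGrpd (AlgSt.ofSp M.obj).p := isFibGrpd_ofSp M.obj
  have hz : FibCat.IsFibGrpd (AlgSt.ofSp M'.obj).p := isFibGrpd_ofSp M'.obj
  have hfp := fp_isFibGrpd (F := g') (G := π) hz hp hp'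
  refine unitIsIso_of_affine hfp fun E' hE' => ?_
  obtain ⟨x₀, ⟨P⟩, hd⟩ := exists_atlasObj h𝒳
  haveI : IsAffine (StMod.sch (AlgSt.ofSp M'.obj) (StMod.etaOf E')) := hE'
  obtain ⟨c⟩ := nonempty_pres hfp hz (isQuasiCompactMor_fpFst g' hqc) (repByAlgSpWith_diag_fpFst hqs)
    (StMod.etaOf E')
  obtain ⟨V, p, hpe, hps⟩ := M.property.atlas
  obtain ⟨κ, W, y, φ, e, hcov, -, -⟩ := exists_chart_family p hpe hps (g'.obj (StMod.etaOf E'))
  obtain ⟨y', φ', m, hcov', hm⟩ := exists_cov_lift g' hz hp' hcov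
  choose μ w χ hχ hwa _ using fun i => exists_affine_cover hz (y' i)
  let η : (Σ i, μ i) → (AlgSt.ofSp M'.obj).obj := fun j => w j.1 j.2
  let b : ∀ j, η j ⟶ StMod.etaOf E' := fun j => χ j.1 j.2 ≫ φ' j.1
  have hb := hcov'.comp hχ
  haveI : ∀ j, IsAffine (StMod.sch (AlgSt.ofSp M'.obj) (η j)) := fun j => hwa j.1 j.2
  haveI : ∀ j, Flat (StMod.bmap (AlgSt.ofSp M'.obj) (b j)) := fun j => hb.flat j
  refine bijective_of_forall_semiBC (σ := fun j => (StMod.bmap (AlgSt.ofSp M'.obj) (b j)).appTop.hom)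
    (fun j => (HasRingHomProperty.iff_of_isAffine (P := @Flat)).1 (hb.flat j))
    (exists_prime_of_cover b fun t => hb.surj t)
    (fun j => isSemiBC_self _)
    (fun j => isSemiBC_relRes (b j) (StMod.O (FibCat.fp g' π)) hfp hz c (StMod.OQ (𝒳 := FibCat.fp g' π)).property)
    (StMod.unitSect π' (StMod.etaOf E')) (fun j => StMod.unitSect π' (η j))
    (fun j r => relRes_unitSect (b j) r) fun j => ?_
  let EW : EtOver M.obj := EtOver.mk
    ((yon S).map (Over.homMk (W j.1).1.ι rfl : Over.mk ((W j.1).1.ι ≫ V.hom) ⟶ V) ≫ p)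
    (repWith_comp ((repWith_yon_map_iff @Etale _).2 (inferInstanceAs (Etale (W j.1).1.ι))) hpe)
  have hEW : IsAffine EW.obj.left.left := (W j.1).2
  haveI : IsAffine (StMod.sch (AlgSt.ofSp M.obj) (StMod.etaOf EW)) := hEW
  let B : g'.obj (η j) ⟶ StMod.etaOf EW := g'.map (χ j.1 j.2) ≫ m j.1 ≫ e j.1
  obtain ⟨cW⟩ := nonempty_pres hp hp' hqc hqs (StMod.etaOf EW)
  refine bijective_unitSect_fcat g' π hz hp hp' (η j) B hd P (etObj_etaOf EW hEW) cW (fun ξ hξ => ?_)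
    (fun A A' q hq => h.1 q hq EW hEW) (h.2 EW)
  haveI : IsAffine (π.obj ξ).base.left := by
    show IsAffine (StMod.sch (AlgSt.ofSp M.obj) (π.obj ξ))
    rw [StMod.sch_obj_eq π ξ]
    exact hξ
  obtain ⟨ω, a, a', hcpt, hsep, huniv⟩ := exists_prod_obj M hM (π.obj ξ) (StMod.etaOf EW) inferInstance hEW
  haveI : CompactSpace (StMod.sch (AlgSt.ofSp M.obj) ω) := hcpt
  haveI : (StMod.sch (AlgSt.ofSp M.obj) ω).IsSeparated := hsep
  exact nonempty_pres_fibFst π hp hp' a a' huniv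

end Groth.Agent.StModLib
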