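import Groth.Agent.StModLib.ClosedImage
import Groth.Agent.AlgStLib.RedSubstack
import Groth.Agent.AlgStLib.UnivPts
import Groth.Agent.AlgSpDec.AffineRep
import Mathlib.Topology.LocalAtTarget

/-!
# Good moduli morphisms are surjective and universally closed
-/

set_option autoImplicit false
set_option linter.style.haveILetI false
set_option linter.unusedSectionVars false
set_option backward.isDefEq.respectTransparency false
set_option backward.isDefEq.respectTransparency.types false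

universe u

open CategoryTheory CategoryTheory.Limits AlgebraicGeometry AlgSp Opposite
open Groth.Agent.AlgStLib Groth.Agent.AlgSpLib Groth.Agent.FibBase

noncomputable section

namespace Groth.Agent.StModLib

variable {S : Scheme.{u}} {𝒳 : AlgSt.Cat S}

local notation "K₀" => Scheme.fppfPrecoverage

/-- The identity as an etale object. -/
def idEt (V : Over S) : EtOver ((yon S).obj V) :=
  EtOver.mk (𝟙 ((yon S).obj V))
    (((yon S).map_id V) ▸ (repWith_yon_map_iff @Etale (𝟙 V)).2 (inferInstanceAs (Etale (𝟙 V.left))))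

theorem sec_etaOf_idEt (V : Over S) : (StMod.etaOf (idEt V)).sec.down = 𝟙 V := by
  show ((AlgSp.J S).uliftYonedaEquiv (𝟙 ((yon S).obj V))).down = 𝟙 V
  rfl

theorem hom_idEt {V : Over S} {o : (AlgSt.ofSch V).obj} (β : o ⟶ StMod.etaOf (idEt V)) : β.hom = o.sec.down := by
  have h := congrArg ULift.down β.map_sec
  refine Eq.trans ?_ h
  show β.hom = β.hom ≫ (StMod.etaOf (idEt V)).sec.down
  rw [sec_etaOf_idEt]
  exact (Category.comp_id _).symm

theorem exists_hom_idEt {V : Over S} (o : (AlgSt.ofSch V).obj) : Nonempty (o ⟶ StMod.etaOf (idEt V)) :=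
  ⟨⟨o.sec.down, ULift.ext _ _ (by
    show o.sec.down ≫ (StMod.etaOf (idEt V)).sec.down = o.sec.down
    rw [sec_etaOf_idEt]
    exact Category.comp_id _)⟩⟩

/-- The point of a scheme under a point of its category. -/
def ptSch (V : Over S) (x : AlgSt.Points (AlgSt.ofSch V)) : ↥V.left :=
  toSch V (AlgSt.Points.map (AlgSt.toOverCat V) x)

theorem isHomeomorph_ptSch (V : Over S) : IsHomeomorph (ptSch V) := by
  have e : ptSch V = (AlgSp.Points.schemeHomeo V).symm ∘ spPt := funext fun x => toSch_map_toOverCat x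
  rw [e]
  exact (AlgSp.Points.schemeHomeo V).symm.isHomeomorph.comp (isHomeomorph_spPt (IsAlgSpace.yon_obj V))

theorem ptSch_map_mk {V : Over S} {𝒲 : AlgSt.Cat S} (σ : 𝒲 ⥤ᵇ AlgSt.ofSch V) (q : AlgSt.FPt 𝒲)
    (β : σ.obj q.obj ⟶ StMod.etaOf (idEt V)) :
    ptSch V (AlgSt.Points.map σ (AlgSt.Points.mk q)) =
      (StMod.baseOver σ q.obj β).left ((eqToHom q.lies.symm).left (IsLocalRing.closedPoint q.K)) := by
  show ((eqToHom ((σ.w_obj q.obj).trans q.lies).symm).left ≫ (σ.obj q.obj).sec.down.left)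
      (IsLocalRing.closedPoint q.K) = _
  rw [← hom_idEt β, ← Scheme.Hom.comp_apply, ← Over.comp_left, ← Over.comp_left]
  refine congrArg (fun k : Over.mk q.str ⟶ V => k.left (IsLocalRing.closedPoint q.K)) ?_
  show _ = eqToHom _ ≫ eqToHom _ ≫ β.hom
  rw [eqToHom_trans_assoc]

/-- A field-valued point over a point of the scheme of an object. -/
theorem exists_fpt_over {𝒲 : AlgSt.Cat S} (hw : FibCat.IsFibGrpd 𝒲.p) (z : 𝒲.obj) (r : StMod.sch 𝒲 z) :
    ∃ (q : AlgSt.FPt 𝒲) (φ : q.obj ⟶ z),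
      StMod.bmap 𝒲 φ ((eqToHom q.lies.symm).left (IsLocalRing.closedPoint q.K)) = r := by
  let m : Over.mk ((StMod.sch 𝒲 z).fromSpecResidueField r ≫ (𝒲.p.obj z).hom) ⟶ 𝒲.p.obj z :=
    Over.homMk ((StMod.sch 𝒲 z).fromSpecResidueField r) rfl
  obtain ⟨o, φ, hφ⟩ := hw.exists_lift (x := z) m
  refine ⟨{ K := ↥((StMod.sch 𝒲 z).residueField r), str := _, obj := o,
            lies := IsHomLift.domain_eq 𝒲.p m φ }, φ, ?_⟩
  have e : eqToHom (IsHomLift.domain_eq 𝒲.p m φ).symm ≫ 𝒲.p.map φ = m := by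
    rw [IsHomLift.fac' 𝒲.p m φ]
    simp
  refine Eq.trans ?_ (Scheme.fromSpecResidueField_apply r (IsLocalRing.closedPoint ((StMod.sch 𝒲 z).residueField r)))
  exact congr($(congrArg CommaMorphism.left e) (IsLocalRing.closedPoint ((StMod.sch 𝒲 z).residueField r)))

/-- A good moduli morphism to an affine scheme is closed. -/
theorem isClosedMap_of_isGoodModuli (h𝒳 : AlgSt.IsAlgStack K₀ 𝒳) (V : Over S) [IsAffine V.left]
    (π : 𝒳 ⥤ᵇ AlgSt.ofSch V) (hqc : AlgSt.IsQuasiCompactMor K₀ π) (hqs : AlgSt.IsQuasiSeparatedMor π)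
    (h : StMod.IsGoodModuli π) : IsClosedMap (AlgSt.Points.map π) := by
  intro C hC
  obtain ⟨Q, hQ, hQC, -⟩ := RedSub.exists_reduced_closedSubstack h𝒳 C hC
  let ι := AlgSt.subIncl 𝒳 Q
  have hw : FibCat.IsFibGrpd (AlgSt.fullSub 𝒳 Q).p := hQ.2.1.isStack.1
  have hp := h𝒳.isStack.1
  have hp' : FibCat.IsFibGrpd (AlgSt.ofSch V).p := isFibGrpd_ofSp _
  have hM : HasQcProd ((yon S).obj V) := hasQcProd_yon V
  obtain ⟨x₀, ⟨P⟩, hd⟩ := exists_atlasObj h𝒳
  obtain ⟨x₁, ⟨P₁⟩, hd₁⟩ := exists_atlasObj hQ.2.1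
  let E := idEt V
  have hE : IsAffine E.obj.left.left := ‹IsAffine V.left›
  let η := StMod.etaOf E
  haveI : IsAffine (StMod.sch (AlgSt.ofSch V) η) := hE
  have hη : EtObj η := etObj_etaOf E hE
  let σ := BasedFunctor.comp ι π
  have hι : AlgSt.RepByAlgSpWith IsAffineMor ι :=
    Groth.Agent.AlgStLib.repByAlgSpWith_mono (fun _ _ f hf => AlgSpDec.isAffineMor_of_repWith (fun _ _ g (hg : IsClosedImmersion g) =>
      (inferInstance : IsAffineHom g)) hf) hQ.2.2
  have hσ : StMod.IsCohAffine σ :=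
    isCohAffine_of_affine_comp hw h𝒳 ⟨(yon S).obj V, IsAlgSpace.yon_obj V⟩ hM π h.1 ι hι σ
      (fun w => Iso.refl _) (fun φ => (Category.comp_id _).trans (Category.id_comp _).symm)
  have hun : Function.Surjective (StMod.unitSect σ η) :=
    surjective_unitSect_comp_closed π hp hp' hη hd P ι hw hQ.2.2 (fun A A' q hq => h.1 q hq E hE) (h.2 E).2
  obtain ⟨c⟩ := nonempty_pres hp hp' hqc hqs η
  haveI := c.affz
  obtain ⟨z, α, hzaff, -, hzu⟩ := exists_closed_fibre hw hp hQ.2.2 c.z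
  haveI := hzaff
  let αz : σ.obj z ⟶ η := π.map α ≫ c.α
  have hcov : ∀ (w : (AlgSt.fullSub 𝒳 Q).obj) (β : σ.obj w ⟶ η), ∃ (κ : Type u) (y : κ → (AlgSt.fullSub 𝒳 Q).obj)
      (φ : ∀ i, y i ⟶ w), IsCov y φ ∧ ∀ i, ∃ ψ : y i ⟶ z, σ.map ψ ≫ αz = σ.map (φ i) ≫ β := fun w β => by
    obtain ⟨κ, y, φ, hφ, hψ⟩ := c.cov (ι.obj w) β
    choose ψ hψ using hψ
    obtain ⟨y', φ', m, hφ', hm⟩ := exists_cov_lift ι hw hp hφ
    refine ⟨κ, y', φ', hφ', fun i => ?_⟩
    obtain ⟨χ, hχ, -⟩ := hzu (y' i) (m i ≫ ψ i)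
    refine ⟨χ, ?_⟩
    show π.map (ι.map χ) ≫ π.map α ≫ c.α = π.map (ι.map (φ' i)) ≫ β
    rw [← Category.assoc, ← Functor.map_comp, hχ, Functor.map_comp, Category.assoc, hψ, ← Category.assoc,
      ← Functor.map_comp, hm]
  have hpres : ∀ w : (AlgSt.fullSub 𝒳 Q).obj, IsAffine (StMod.sch (AlgSt.fullSub 𝒳 Q) w) →
      Nonempty (Pres (StMod.fibFst σ η) w) := fun w hwa => by
    haveI : IsAffine (σ.obj w).base.left := by
      show IsAffine (StMod.sch (AlgSt.ofSch V) (σ.obj w))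
      rw [StMod.sch_obj_eq σ w]
      exact hwa
    obtain ⟨ω, a, a', hcpt, hsep, huniv⟩ :=
      exists_prod_obj ⟨(yon S).obj V, IsAlgSpace.yon_obj V⟩ hM (σ.obj w) η inferInstance hE
    haveI : CompactSpace (StMod.sch (AlgSt.ofSch V) ω) := hcpt
    haveI : (StMod.sch (AlgSt.ofSch V) ω).IsSeparated := hsep
    exact nonempty_pres_fibFst σ hw hp' a a' huniv
  have hcl := isClosed_range_baseOver σ hw hp' hη hd₁ P₁ hpres (fun A A' q hq => hσ q hq E hE) hun z αz hcov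
  -- the image
  have himg : ptSch V '' (AlgSt.Points.map π '' C) = Set.range (StMod.baseOver σ z αz).left := by
    rw [← hQC, ← Set.range_comp, ← Set.range_comp]
    ext t
    constructor
    · rintro ⟨x, rfl⟩
      obtain ⟨q, rfl⟩ := AlgSt.Points.mk_surjective x
      obtain ⟨β⟩ := exists_hom_idEt (σ.obj q.obj)
      obtain ⟨κ, y, φ, hφ, hψ⟩ := hcov q.obj β
      obtain ⟨i, s, hs⟩ := hφ.surj ((eqToHom q.lies.symm).left (IsLocalRing.closedPoint q.K))
      obtain ⟨ψ, hψi⟩ := hψ i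
      refine ⟨StMod.bmap _ ψ s, ?_⟩
      show _ = ptSch V (AlgSt.Points.map π (AlgSt.Points.map ι (AlgSt.Points.mk q)))
      rw [← pts_map_comp ι π, ptSch_map_mk σ q β, ← hs]
      exact (congr($(StMod.bmap_comp_baseOver_left σ ψ αz) s) :).trans
        ((congrArg (fun γ => (StMod.baseOver σ (y i) γ).left s) hψi).trans
          (congr($(StMod.bmap_comp_baseOver_left σ (φ i) β) s) :).symm)
    · rintro ⟨r, rfl⟩
      obtain ⟨q, φ, hq⟩ := exists_fpt_over hw z r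
      refine ⟨AlgSt.Points.mk q, ?_⟩
      show ptSch V (AlgSt.Points.map π (AlgSt.Points.map ι (AlgSt.Points.mk q))) = _
      rw [← pts_map_comp ι π, ptSch_map_mk σ q (σ.map φ ≫ αz), ← hq]
      exact (congr($(StMod.bmap_comp_baseOver_left σ φ αz) _) :).symm
  have e := (isHomeomorph_ptSch V).bijective.injective.preimage_image (AlgSt.Points.map π '' C)
  rw [← e, himg]
  exact hcl.preimage (isHomeomorph_ptSch V).continuous

/-- A functor out of the category of a scheme is given by a map of sheaves. -/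
theorem exists_iso_ofSpMap {M : Sp S} {V : Over S} (y : AlgSt.ofSch V ⥤ᵇ AlgSt.ofSp M) :
    ∃ k : (yon S).obj V ⟶ M, Nonempty (y ≅ AlgSt.ofSpMap k) := by
  let top : (AlgSt.ofSch V).obj := ⟨V, ⟨𝟙 V⟩⟩
  let e₀ : (y.obj top).base = V := y.w_obj top
  refine ⟨(yon S).map (eqToHom e₀.symm) ≫ eltMap (y.obj top), ⟨?_⟩⟩
  let k := (yon S).map (eqToHom e₀.symm) ≫ eltMap (y.obj top)
  have key : ∀ a : (AlgSt.ofSch V).obj,
      (yon S).map (eqToHom (y.w_obj a)) ≫ eltMap ((AlgSt.ofSpMap k).obj a) = eltMap (y.obj a) := fun a => by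
    let ma : a ⟶ top := ⟨a.sec.down, ULift.ext _ _ (show a.sec.down ≫ 𝟙 V = a.sec.down from Category.comp_id _)⟩
    have h1 : eltMap ((AlgSt.ofSpMap k).obj a) = (yon S).map a.sec.down ≫ k := by
      apply (AlgSp.J S).uliftYonedaEquiv.injective
      rw [eltMap, Equiv.apply_symm_apply, ← GrothendieckTopology.uliftYonedaEquiv_naturality]
      generalize k = k'
      show k'.hom.app (op a.base) a.sec = M.obj.map a.sec.down.op ((AlgSp.J S).uliftYonedaEquiv k')
      refine Eq.trans ?_ ((AlgSp.J S).uliftYonedaEquiv_naturality k' a.sec.down).symm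
      show k'.hom.app (op a.base) a.sec = k'.hom.app (op a.base) ⟨𝟙 a.base ≫ a.sec.down⟩
      exact congrArg _ (ULift.ext _ _ (Category.id_comp _).symm)
    have h2 : (y.map ma).hom = eqToHom (y.w_obj a) ≫ a.sec.down ≫ eqToHom e₀.symm := map_w y ma
    rw [h1, ← yon_map_eltMap (y.map ma), h2]
    simp [k]
  refine BasedNatIso.mkNatIso (NatIso.ofComponents (fun a =>
    eltIso (eqToIso (y.w_obj a)) ((map_sec_iff (eqToHom (y.w_obj a))).2 (key a))) fun {a' a} φ => ?_) fun a => ?_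
  · refine Stk.EltObj.hom_ext ?_
    show (AlgSt.ofSp M).p.map (y.map φ) ≫ eqToHom (y.w_obj a) = eqToHom (y.w_obj a') ≫ φ.hom
    rw [map_w y φ]
    simp
  · refine IsHomLift.of_fac' _ _ _ (y.w_obj a) rfl ?_
    show eqToHom (y.w_obj a) = _
    simp

/-- A good moduli morphism to a space is surjective. -/
theorem surjective_of_isGoodModuli (h𝒳 : AlgSt.IsAlgStack K₀ 𝒳) (M : AlgSp.Space S) (hM : HasQcProd M.obj)
    (π : 𝒳 ⥤ᵇ AlgSt.ofSp M.obj) (hqc : AlgSt.IsQuasiCompactMor K₀ π) (hqs : AlgSt.IsQuasiSeparatedMor π)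
    (h : StMod.IsGoodModuli π) : AlgSt.IsSurjective π := by
  intro x
  obtain ⟨p, rfl⟩ := AlgSt.Points.mk_surjective x
  let T := p.obj.base
  let M' : AlgSp.Space S := ⟨(yon S).obj T, IsAlgSpace.yon_obj T⟩
  let g : M'.obj ⟶ M.obj := eltMap p.obj
  have hT : T = Over.mk p.str := p.lies
  haveI : IsAffine T.left := by rw [hT]; exact inferInstanceAs (IsAffine (Spec (CommRingCat.of p.K)))
  haveI : Nontrivial Γ(T.left, ⊤) := by
    rw [hT]
    exact (Scheme.ΓSpecIso (CommRingCat.of p.K)).commRingCatIsoToRingEquiv.toEquiv.nontrivial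
  obtain ⟨hinj, -⟩ := unitIsIso_fpFst h𝒳 M M' hM g π hqc hqs h (idEt T)
  obtain ⟨w, hw⟩ : ∃ w : (FibCat.fp (AlgSt.ofSpMap g) π).obj, Nonempty (StMod.sch (FibCat.fp (AlgSt.ofSpMap g) π) w) := by
    by_contra hne
    push Not at hne
    obtain ⟨a, b, hab⟩ := exists_pair_ne Γ(T.left, ⊤)
    refine hab (hinj (StMod.Mod.RelSect.ext _ _ _ fun w β => ?_))
    haveI : IsEmpty (StMod.sch (FibCat.fp (AlgSt.ofSpMap g) π) w) := hne w
    haveI : Subsingleton Γ(StMod.sch (FibCat.fp (AlgSt.ofSpMap g) π) w, ⊤) :=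
      CommRingCat.subsingleton_of_isTerminal
        ((StMod.sch (FibCat.fp (AlgSt.ofSpMap g) π) w).sheaf.isTerminalOfEqEmpty (Subsingleton.elim _ _))
    exact Subsingleton.elim (α := Γ(StMod.sch (FibCat.fp (AlgSt.ofSpMap g) π) w, ⊤)) _ _
  obtain ⟨r⟩ := hw
  have hp := h𝒳.isStack.1
  obtain ⟨q, φ, -⟩ := exists_fpt_over hp w.obj.snd
    ((eqToHom (StMod.sch_obj_eq (FibCat.fpSnd (AlgSt.ofSpMap g) π) w).symm) r)
  obtain ⟨β⟩ := exists_hom_idEt w.obj.fst
  have hsec : M.obj.obj.map (𝟙 T : T ⟶ T).op p.obj.sec = ((AlgSt.ofSpMap g).obj (StMod.etaOf (idEt T))).sec := by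
    refine (map_sec_iff (o' := (AlgSt.ofSpMap g).obj (StMod.etaOf (idEt T))) (o := p.obj) (𝟙 T)).2 ?_
    refine ((congrArg (· ≫ eltMap p.obj) ((yon S).map_id T)).trans (Category.id_comp _)).trans ?_
    apply (AlgSp.J S).uliftYonedaEquiv.injective
    have h2 : (AlgSp.J S).uliftYonedaEquiv (eltMap ((AlgSt.ofSpMap g).obj (StMod.etaOf (idEt T)))) =
        (AlgSp.J S).uliftYonedaEquiv (𝟙 ((yon S).obj T) ≫ g) := by
      rw [eltMap, Equiv.apply_symm_apply]
      rfl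
    refine Eq.trans ?_ h2.symm
    rw [Category.id_comp]
  let m₀ : (AlgSt.ofSpMap g).obj (StMod.etaOf (idEt T)) ⟶ p.obj := ⟨𝟙 T, hsec⟩
  refine ⟨AlgSt.Points.mk q, ?_⟩
  exact pts_eq_of_hom (p := q.map π) (q := p) (π.map φ ≫ w.obj.iso.inv ≫ (AlgSt.ofSpMap g).map β ≫ m₀)

/-- Good moduli morphisms are universally closed. -/
theorem isUnivClosed_of_isGoodModuli (h𝒳 : AlgSt.IsAlgStack K₀ 𝒳) (M : AlgSp.Space S) (hM : HasQcProd M.obj)
    (π : 𝒳 ⥤ᵇ AlgSt.ofSp M.obj) (hqc : AlgSt.IsQuasiCompactMor K₀ π) (hqs : AlgSt.IsQuasiSeparatedMor π)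
    (h : StMod.IsGoodModuli π) : AlgSt.IsUnivClosed K₀ π := by
  intro 𝒯 h𝒯 G C hC
  obtain ⟨U, x, hx, hx'⟩ := h𝒯.atlas
  have hMs := isAlgStack_ofSp M
  let π₀ := FibCat.fpFst G π
  have hW := isAlgStack_fp h𝒯 h𝒳 hMs.isStack hMs.diag G π
  rw [← isOpen_compl_iff]
  refine isOpen_of_chart h𝒯.isStack.1 (repByAlgSpWith_flat_of_smooth hx) (repByAlgSpWith_lfp_of_smooth hx) hx' ?_
  rw [Set.preimage_compl, isOpen_compl_iff]
  rw [(TopologicalSpace.IsOpenCover.mk (iSup_affineOpens_eq_top U.left)).isClosed_iff_coe_preimage]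
  intro W
  let V : Over S := Over.mk (W.1.ι ≫ U.hom)
  let j : V ⟶ U := Over.homMk W.1.ι rfl
  haveI : IsAffine V.left := W.2
  let M' : AlgSp.Space S := ⟨(yon S).obj V, IsAlgSpace.yon_obj V⟩
  have hV := isAlgStack_ofSp M'
  let xV : AlgSt.ofSch V ⥤ᵇ 𝒯 := BasedFunctor.comp (AlgSt.toOverCat V) (BasedFunctor.comp (AlgSt.overMap j) x)
  obtain ⟨k, ⟨e⟩⟩ := exists_iso_ofSpMap (BasedFunctor.comp xV G)
  let π' := FibCat.fpFst (AlgSt.ofSpMap k) π
  have hW' := isAlgStack_fp hV h𝒳 hMs.isStack hMs.diag (AlgSt.ofSpMap k) π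
  have h1 : IsClosedMap (AlgSt.Points.map π') :=
    isClosedMap_of_isGoodModuli hW' V π' (isQuasiCompactMor_fpFst _ hqc) (repByAlgSpWith_diag_fpFst hqs)
      ⟨isCohAffine_fpFst h𝒳 M M' hM k π hqc hqs h.1, unitIsIso_fpFst h𝒳 M M' hM k π hqc hqs h⟩
  -- transport to the base change of `π₀`
  let c : FibCat.fp (BasedFunctor.comp xV G) π ⥤ᵇ FibCat.fp (AlgSt.ofSpMap k) π :=
    fpMap (F := AlgSt.ofSpMap k) (G := π) (F' := BasedFunctor.comp xV G) (G' := π) (a := BasedFunctor.id _)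
      (b := BasedFunctor.id _) (c := BasedFunctor.id _) e.symm (Iso.refl _)
  have : (BasedFunctor.id (AlgSt.ofSp M.obj)).toFunctor.Full := inferInstanceAs (𝟭 _).Full
  have : (BasedFunctor.id (AlgSt.ofSp M.obj)).toFunctor.Faithful := inferInstanceAs (𝟭 _).Faithful
  have hc : FibCat.IsEquivOver c := fpMap_isEquivOver _ _ isEquivOver_id isEquivOver_id
  have hW'' := isAlgStack_fp hV h𝒳 hMs.isStack hMs.diag (BasedFunctor.comp xV G) π
  have h2 : IsClosedMap (AlgSt.Points.map (FibCat.fpFst (BasedFunctor.comp xV G) π)) :=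
    (good_isClosedMap.congr (AlgSt.Points.map c) id (AlgSt.Points.map π')
      (AlgSt.Points.map (FibCat.fpFst (BasedFunctor.comp xV G) π)) (isHomeomorph_pts_map hW'' hW' hc)
      (Homeomorph.refl _).isHomeomorph (fun t => by
        rw [id, ← pts_map_comp c π']
        exact (pts_map_comp (FibCat.fpFst (BasedFunctor.comp xV G) π) (BasedFunctor.id _) t).trans (pts_map_id _))).1 h1
  have hT := isAlgStack_fp hV hW h𝒯.isStack h𝒯.diag xV π₀
  have h3 : IsClosedMap (AlgSt.Points.map (FibCat.fpFst xV π₀)) :=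
    (good_isClosedMap.congr (AlgSt.Points.map (pasteVert xV G π)) id
      (AlgSt.Points.map (FibCat.fpFst (BasedFunctor.comp xV G) π))
      (AlgSt.Points.map (FibCat.fpFst xV π₀)) (isHomeomorph_pts_map hT hW'' (pasteVert_isEquivOver xV G π))
      (Homeomorph.refl _).isHomeomorph
      (fun t => (pts_map_comp (pasteVert xV G π) (FibCat.fpFst (BasedFunctor.comp xV G) π) t).symm)).1 h2
  have hcl := (isHomeomorph_ptSch V).isClosedMap _
    (h3 _ (hC.preimage (continuous_pts_map hW.isStack.1 hW.atlas (FibCat.fpSnd xV π₀))))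
  have key : ∀ z : AlgSt.Points (AlgSt.ofSch V),
      AlgSt.Points.map xV z = AlgSt.Points.ofChart x (j.left (ptSch V z)) := fun z => by
    rw [pts_map_comp, pts_map_comp, ofChart_eq_map, ← map_overMap_ptAt, ptSch]
    congr 2
    exact (toSch_bijective V).1 (toSch_ptAt V _).symm
  suffices hset : {v : V.left | AlgSt.Points.ofChart x (j.left v) ∈ AlgSt.Points.map π₀ '' C} =
      ptSch V '' (AlgSt.Points.map (FibCat.fpFst xV π₀) '' (AlgSt.Points.map (FibCat.fpSnd xV π₀) ⁻¹' C)) by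
    exact (hset ▸ hcl : IsClosed {v : V.left | AlgSt.Points.ofChart x (j.left v) ∈ AlgSt.Points.map π₀ '' C})
  ext v
  constructor
  · intro hv
    obtain ⟨w₀, hw₀, hw₀'⟩ := hv
    obtain ⟨z, rfl⟩ := (isHomeomorph_ptSch V).bijective.surjective v
    obtain ⟨w, hw₁, hw₂⟩ := exists_pts_fp hW.isStack.1 h𝒯.isStack.1 hV.isStack.1 π₀ xV z w₀
      ((key z).trans hw₀'.symm)
    exact ⟨z, ⟨w, (congrArg (fun t => t ∈ C) hw₂).mpr hw₀, hw₁⟩, rfl⟩
  · rintro ⟨_, ⟨w, hw, rfl⟩, rfl⟩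
    refine ⟨_, hw, ?_⟩
    rw [← pts_map_comp (FibCat.fpSnd xV π₀) π₀, ← pts_map_congr (FibCat.fpIso xV π₀), pts_map_comp]
    exact key _

end Groth.Agent.StModLib
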