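import Groth.Agent.StModLib.SectLattice
import Groth.Agent.StModLib.GoodClosed
import Groth.Agent.AlgStLib.Noetherian
import Groth.Agent.QCoh.FT

/-!
# Sections over a good moduli space of a locally Noetherian stack
-/

set_option autoImplicit false
set_option linter.style.haveILetI false
set_option linter.unusedSectionVars false
set_option backward.isDefEq.respectTransparency false
set_option backward.isDefEq.respectTransparency.types false

universe u

open CategoryTheory CategoryTheory.Limits AlgebraicGeometry AlgSp Opposite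
open Groth.Agent.AlgStLib Groth.Agent.AlgSpLib Groth.Agent.FibBase

noncomputable section

namespace Groth.Agent.StModLib

variable {S : Scheme.{u}} {𝒳 𝒴 : AlgSt.Cat S}

local notation "K₀" => Scheme.fppfPrecoverage

/-- A smooth-local property holds on a covering object of a quasi-compact smooth base change. -/
theorem exists_cover_smoothLocally {P : Over S → Prop}
    (hP : ∀ (U : Over S) (x : FibCat.overCat U ⥤ᵇ 𝒳), AlgSt.RepByAlgSpWith (LocP @Smooth) x → P U)
    (hp : FibCat.IsFibGrpd 𝒳.p) (hp' : FibCat.IsFibGrpd 𝒴.p) {T : Over S}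
    (g : FibCat.overCat T ⥤ᵇ 𝒴) (hg : AlgSt.RepByAlgSpWith (LocP @Smooth) g) (f : 𝒳 ⥤ᵇ 𝒴)
    (hq : AlgSt.IsQuasiCompact (FibCat.fp g f)) :
    ∃ (z : 𝒳.obj) (γ₀ : f.obj z ⟶ g.obj (topOver T)), IsAffine (StMod.sch 𝒳 z) ∧ P (𝒳.p.obj z) ∧
      ∀ (ξ : 𝒳.obj) (γ : f.obj ξ ⟶ g.obj (topOver T)), ∃ (ι : Type u) (y : ι → 𝒳.obj) (φ : ∀ i, y i ⟶ ξ),
        IsCov y φ ∧ ∀ i, ∃ ψ : y i ⟶ z, f.map ψ ≫ γ₀ = f.map (φ i) ≫ γ := by
  obtain ⟨U, x, hU, hsm, hsu⟩ := hq
  have hW : FibCat.IsFibGrpd (FibCat.fp g f).p := fp_isFibGrpd (isFibGrpd_overCat T) hp hp'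
  have hx := locSurjObj_of_locEssSurj hW (locEssSurj_of_repByAlgSp
    (Groth.Agent.AlgStLib.repByAlgSpWith_mono (fun _ _ _ h => locP_mono (Q := @Flat) (fun _ _ k (_ : Smooth k) => inferInstanceAs (Flat k)) h) hsm)
    (Groth.Agent.AlgStLib.repByAlgSpWith_mono (fun _ _ _ h => locP_mono (Q := @LocallyOfFinitePresentation)
      (fun _ _ k (_ : Smooth k) => inferInstanceAs (LocallyOfFinitePresentation k)) h) hsm) hsu)
  let top : ∀ v : (FibCat.fp g f).obj, (FibCat.fpFst g f).obj v ⟶ topOver T := fun v =>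
    Over.homMk v.obj.fst.hom (Category.comp_id _)
  have htop : ∀ (v : (FibCat.fp g f).obj) (b : (FibCat.fpFst g f).obj v ⟶ topOver T), b = top v := fun v b =>
    Over.OverMorphism.ext ((Category.comp_id _).symm.trans (Over.w b))
  let x₀ := x.obj (topOver U)
  have h1 : 𝒳.p.obj x₀.obj.snd = U := ((FibCat.fpSnd g f).w_obj x₀).trans (x.w_obj (topOver U))
  refine ⟨x₀.obj.snd, transMor g f x₀ (top x₀), ?_, ?_, fun ξ γ => ?_⟩
  · show IsAffine (𝒳.p.obj x₀.obj.snd).left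
    rw [h1]
    exact hU
  · rw [h1]
    exact hP U _ (repByAlgSpWith_locP_comp (isFibGrpd_overCat U) hW hsm (repByAlgSpWith_fpSnd f hg))
  · obtain ⟨v, rfl, β, hβ⟩ := exists_fp_obj g f (isFibGrpd_overCat T) hp' ξ γ
    rw [eqToHom_refl, f.map_id, Category.id_comp] at hβ
    obtain ⟨R, hR, hR'⟩ := hx v
    obtain ⟨ι, y, φ, hc, hy⟩ := exists_isCov_of_mem_J v hR
      (P := fun y φ => ∃ m : y ⟶ x₀, f.map m.hom.snd ≫ transMor g f x₀ (top x₀) = f.map φ.hom.snd ≫ γ)
      fun V h hh => by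
        obtain ⟨x', k, hk⟩ := hR' h hh
        refine ⟨x.obj x', k, hk, x.map (Over.homMk x'.hom (Category.comp_id _) : x' ⟶ topOver U), ?_⟩
        rw [transMor_natural, ← hβ, transMor_natural, htop _ ((FibCat.fpFst g f).map _ ≫ top x₀),
          htop _ ((FibCat.fpFst g f).map k ≫ β)]
    refine ⟨ι, fun i => (y i).obj.snd, fun i => (φ i).hom.snd, isCov_map (FibCat.fpSnd g f) hc, fun i => ?_⟩
    obtain ⟨m, hm⟩ := hy i
    exact ⟨m.hom.snd, hm⟩

variable (h𝒳 : AlgSt.IsAlgStack K₀ 𝒳) (M : AlgSp.Space S) (hM : HasQcProd M.obj)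
  (π : 𝒳 ⥤ᵇ AlgSt.ofSp M.obj) (hqc : AlgSt.IsQuasiCompactMor K₀ π) (h : StMod.IsGoodModuli π)
  (hN : AlgSt.SmoothLocally (fun T => IsLocallyNoetherian T) 𝒳)

include h𝒳 hM hqc h hN in
/-- Sections with Noetherian values on affine objects are Noetherian. -/
theorem isNoetherian_relSect_good (F : StMod.QCoh 𝒳)
    (hF : ∀ z : 𝒳.obj, IsAffine (StMod.sch 𝒳 z) → IsLocallyNoetherian (StMod.sch 𝒳 z) →
      IsNoetherian Γ(StMod.sch 𝒳 z, ⊤) Γ(F.obj.obj z, ⊤))
    (E : EtOver M.obj) (hE : IsAffine E.obj.left.left) :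
    _root_.IsNoetherian Γ(StMod.sch (AlgSt.ofSp M.obj) (StMod.etaOf E), ⊤)
      (StMod.Mod.RelSect π F.obj (StMod.etaOf E)) := by
  have hp := h𝒳.isStack.1
  have hp' : FibCat.IsFibGrpd (AlgSt.ofSp M.obj).p := isFibGrpd_ofSp _
  let η := StMod.etaOf E
  haveI : IsAffine (StMod.sch (AlgSt.ofSp M.obj) η) := hE
  have hη : EtObj η := etObj_etaOf E hE
  obtain ⟨x₀, ⟨P⟩, hd⟩ := exists_atlasObj h𝒳
  let T := E.obj.left
  let g := overOfMap (U := T) E.obj.hom
  haveI : IsAffine T.left := hE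
  have hg : AlgSt.RepByAlgSpWith (LocP @Smooth) g :=
    repByAlgSpWith_overOfMap stableBC_locP M.property (locP_mono etale_le_smooth (locP_of_repWith E.property))
  have he : g.obj (topOver T) = η := rfl
  obtain ⟨z, γ₀, hz, hzN, hcov⟩ := exists_cover_smoothLocally (P := fun T => IsLocallyNoetherian T.left) hN hp hp' g hg π
    (hqc _ (isAlgStack_overCat _) (isQuasiCompact_overCat _) g)
  haveI := hz
  haveI := hF z hz hzN
  have hpres : ∀ ξ : 𝒳.obj, IsAffine (StMod.sch 𝒳 ξ) → Nonempty (Pres (StMod.fibFst π η) ξ) := fun ξ hξ => by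
    haveI : IsAffine (π.obj ξ).base.left := by
      show IsAffine (StMod.sch (AlgSt.ofSp M.obj) (π.obj ξ))
      rw [StMod.sch_obj_eq π ξ]
      exact hξ
    obtain ⟨ω, a, a', hcpt, hsep, huniv⟩ := exists_prod_obj M hM (π.obj ξ) η inferInstance hE
    haveI : CompactSpace (StMod.sch (AlgSt.ofSp M.obj) ω) := hcpt
    haveI : (StMod.sch (AlgSt.ofSp M.obj) ω).IsSeparated := hsep
    exact nonempty_pres_fibFst π hp hp' a a' huniv
  refine isNoetherian_relSect π hp hp' hη hd P hpres (fun A A' q hq => h.1 q hq E hE) (h.2 E).2 z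
    (γ₀ ≫ eqToHom he) (fun ξ β => ?_) F
  obtain ⟨κ, y, φ, hφ, hψ⟩ := hcov ξ (β ≫ eqToHom he.symm)
  refine ⟨κ, y, φ, hφ, fun i => ?_⟩
  obtain ⟨ψ, hψ⟩ := hψ i
  exact ⟨ψ, by rw [← Category.assoc, hψ, Category.assoc, Category.assoc, eqToHom_trans, eqToHom_refl, Category.comp_id]⟩

include h𝒳 hM hqc h hN in
/-- The functions on an affine etale scheme over the space form a Noetherian ring. -/
theorem isNoetherianRing_good (E : EtOver M.obj) (hE : IsAffine E.obj.left.left) :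
    IsNoetherianRing Γ(E.obj.left.left, ⊤) := by
  show IsNoetherianRing Γ(StMod.sch (AlgSt.ofSp M.obj) (StMod.etaOf E), ⊤)
  haveI : _root_.IsNoetherian Γ(StMod.sch (AlgSt.ofSp M.obj) (StMod.etaOf E), ⊤)
      (StMod.Mod.RelSect π (StMod.O 𝒳) (StMod.etaOf E)) :=
    isNoetherian_relSect_good h𝒳 M hM π hqc h hN (StMod.OQ (𝒳 := 𝒳)) (fun z hz hzN => by
    haveI := hzN
    haveI : IsAffine (StMod.sch 𝒳 z) := hz
    exact (IsLocallyNoetherian.component_noetherian ⟨⊤, isAffineOpen_top _⟩ : IsNoetherianRing Γ(StMod.sch 𝒳 z, ⊤))) E hE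
  exact isNoetherian_of_injective (M := Γ(StMod.sch (AlgSt.ofSp M.obj) (StMod.etaOf E), ⊤))
    (StMod.unitSect π (StMod.etaOf E)) (h.2 E).1

include h𝒳 hM hqc h hN in
/-- The sections of a module of finite type are finite. -/
theorem finite_relSect_good (F : StMod.QCoh 𝒳) (hF : F.obj.IsFinType) (E : EtOver M.obj)
    (hE : IsAffine E.obj.left.left) :
    Module.Finite Γ(StMod.sch (AlgSt.ofSp M.obj) (StMod.etaOf E), ⊤)
      (StMod.Mod.RelSect π F.obj (StMod.etaOf E)) := by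
  haveI := isNoetherian_relSect_good h𝒳 M hM π hqc h hN F (fun z hz hzN => by
    haveI := hzN
    haveI : IsAffine (StMod.sch 𝒳 z) := hz
    haveI : IsNoetherianRing Γ(StMod.sch 𝒳 z, ⊤) :=
      IsLocallyNoetherian.component_noetherian ⟨⊤, isAffineOpen_top _⟩
    haveI := QCoh.finite_of_isFT (F.property.2 z) (hF z) (isAffineOpen_top (StMod.sch 𝒳 z))
    exact isNoetherian_of_isNoetherianRing_of_finite _ _) E hE
  exact Module.IsNoetherian.finite _ _

include h𝒳 hM hqc h hN in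
/-- The space is locally Noetherian. -/
theorem isLocNoethSp_good : IsLocNoethSp M.obj := by
  obtain ⟨T, p, hp, hp'⟩ := M.property.atlas
  refine ⟨T, p, hp, hp', ⟨fun W => ?_⟩⟩
  let V : Over S := Over.mk (W.1.ι ≫ T.hom)
  let j : V ⟶ T := Over.homMk W.1.ι rfl
  let E : EtOver M.obj := EtOver.mk ((yon S).map j ≫ p)
    ((repWith_yon_map_iff @Etale j).2 (inferInstanceAs (Etale W.1.ι)) |> fun hj => repWith_comp hj hp)
  haveI : IsNoetherianRing Γ(W.1.toScheme, ⊤) := isNoetherianRing_good h𝒳 M hM π hqc h hN E W.2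
  exact isNoetherianRing_of_ringEquiv Γ(W.1.toScheme, ⊤) W.1.topIso.commRingCatIsoToRingEquiv

omit h𝒳 hqc h hN in
/-- Schemes smooth over a stack locally of finite type over a Noetherian base are locally Noetherian. -/
theorem smoothLocally_noetherian_of_lft_base [IsLocallyNoetherian S] (h𝒳' : AlgSt.IsAlgStack K₀ 𝒳)
    (hft : AlgSt.LocQ (LocP @LocallyOfFiniteType) (FibCat.toSelf 𝒳)) :
    AlgSt.SmoothLocally (fun T => IsLocallyNoetherian T) 𝒳 := by
  let T₀ : Over S := Over.mk (𝟙 S)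
  let hT : IsTerminal T₀ := Over.mkIdTerminal
  have hfull : (FibCat.toSelf (FibCat.overCat T₀ : AlgSt.Cat S)).toFunctor.Full :=
    ⟨fun {x y} g => ⟨Over.homMk g (hT.hom_ext _ _), rfl⟩⟩
  have hfaith : (FibCat.toSelf (FibCat.overCat T₀ : AlgSt.Cat S)).toFunctor.Faithful :=
    ⟨fun h => Over.OverMorphism.ext h⟩
  have he := isEquivOver_of_exists_iso _ hfull hfaith fun η =>
    ⟨Over.mk (hT.from η), Iso.refl _, IsHomLift.id rfl⟩
  have hS := (isAlgStack_iff_of_isEquivOver he).1 (isAlgStack_overCat T₀)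
  refine smoothLocally_noetherian_of_lft h𝒳' hS hft ((smoothLocally_iff_exists smLocal_isLocallyNoetherian hS).2
    ⟨T₀, FibCat.toSelf _, repByAlgSpWith_of_isEquivOver (fun φ _ => locP_smooth_of_isIso φ) he,
      repByAlgSpWith_of_isEquivOver (fun φ _ => isSurjectiveMor_of_isIso φ) he, ‹IsLocallyNoetherian S›⟩)

end Groth.Agent.StModLib
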