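import Groth.Agent.StModLib.GoodHomeo
import Groth.Agent.AlgStLib.ProdMap

/-!
# Separatedness read on the points of the product
-/

set_option autoImplicit false
set_option linter.style.haveILetI false
set_option linter.unusedSectionVars false
set_option backward.isDefEq.respectTransparency false
set_option backward.isDefEq.respectTransparency.types false

universe u

open CategoryTheory CategoryTheory.Functor CategoryTheory.Limits AlgebraicGeometry AlgSp Opposite

noncomputable section

namespace Groth.Agent.StModLib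

open Groth.Agent.FibBase Groth.Agent.AlgSpLib Groth.Agent.AlgStLib

variable {S : Scheme.{u}}

local notation "K₀" => Scheme.fppfPrecoverage

/-- The objects of a functor from a slice to a sheaf. -/
theorem eltMap_obj_overCat {M : Sp S} {U : Over S} (Φ : FibCat.overCat U ⥤ᵇ AlgSt.ofSp M)
    (x : (FibCat.overCat U : AlgSt.Cat S).obj) :
    eltMap (Φ.obj x) = (yon S).map (eqToHom (Φ.w_obj x) ≫ (x : Over U).hom) ≫ mapOfOver Φ := by
  let i := isoApp (isoOverOfMap Φ) x
  have hi : i.hom.hom = eqToHom (Φ.w_obj x) := by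
    haveI : (AlgSt.ofSp M).p.IsHomLift (𝟙 (x : Over U).left) i.hom := isoApp_lift (isoOverOfMap Φ) (a := x) rfl
    exact (IsHomLift.fac' (AlgSt.ofSp M).p (𝟙 (x : Over U).left) i.hom).trans (by simp)
  have h1 : eltMap ((overOfMap (mapOfOver Φ)).obj x) = (yon S).map (x : Over U).hom ≫ mapOfOver Φ := by
    apply (AlgSp.J S).uliftYonedaEquiv.injective
    rw [eltMap, Equiv.apply_symm_apply, ← GrothendieckTopology.uliftYonedaEquiv_naturality]
    generalize mapOfOver Φ = g'
    refine Eq.trans ?_ ((AlgSp.J S).uliftYonedaEquiv_naturality g' (x : Over U).hom).symm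
    show g'.hom.app (op (x : Over U).left) ⟨(x : Over U).hom⟩ =
      g'.hom.app (op (x : Over U).left) ⟨𝟙 (x : Over U).left ≫ (x : Over U).hom⟩
    exact congrArg _ (ULift.ext _ _ (Category.id_comp _).symm)
  rw [← yon_map_eltMap i.hom, h1, hi, ← Category.assoc, ← Functor.map_comp]

variable {M : Sp S} {U : Over S}

/-- The diagonal of a sheaf, read on one chart of the product. -/
theorem preimage_range_diag (hrep : AlgSp.Representable (Limits.diag M))
    (G : FibCat.overCat U ⥤ᵇ FibCat.fp (FibCat.toSelf (AlgSt.ofSp M)) (FibCat.toSelf (AlgSt.ofSp M))) :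
    AlgSt.Points.ofChart G ⁻¹' Set.range (AlgSt.Points.map (FibCat.diag (FibCat.toSelf (AlgSt.ofSp M)))) =
      Set.range (hrep.snd (prod.lift (mapOfOver (BasedFunctor.comp G (FibCat.fpFst _ _)))
        (mapOfOver (BasedFunctor.comp G (FibCat.fpSnd _ _))))).left := by
  let m₁ := mapOfOver (BasedFunctor.comp G (FibCat.fpFst _ _))
  let m₂ := mapOfOver (BasedFunctor.comp G (FibCat.fpSnd _ _))
  let g := prod.lift m₁ m₂
  have hg := isFibGrpd_ofSp (S := S) M
  have hP : FibCat.IsFibGrpd
      (FibCat.fp (FibCat.toSelf (AlgSt.ofSp M)) (FibCat.toSelf (AlgSt.ofSp M))).p :=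
    fp_isFibGrpd hg hg isFibGrpd_selfOver
  have he₁ : ∀ x, eltMap (G.obj x).obj.fst =
      (yon S).map (eqToHom ((BasedFunctor.comp G (FibCat.fpFst _ _)).w_obj x) ≫ (x : Over U).hom) ≫ m₁ :=
    fun x => eltMap_obj_overCat (BasedFunctor.comp G (FibCat.fpFst _ _)) x
  have he₂ : ∀ x, eltMap (G.obj x).obj.snd =
      (yon S).map (eqToHom ((BasedFunctor.comp G (FibCat.fpSnd _ _)).w_obj x) ≫ (x : Over U).hom) ≫ m₂ :=
    fun x => eltMap_obj_overCat (BasedFunctor.comp G (FibCat.fpSnd _ _)) x
  ext t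
  constructor
  · rintro ⟨y, hy⟩
    obtain ⟨q, rfl⟩ := AlgSt.Points.mk_surjective y
    let x : (FibCat.overCat U : AlgSt.Cat S).obj := Over.mk (Over.homMk (U.left.fromSpecResidueField t) rfl :
      Over.mk (U.left.fromSpecResidueField t ≫ U.hom) ⟶ U)
    obtain ⟨r, b, a, -⟩ := (pts_mk_eq_iff hP).1 hy
    let b₁ : r.obj.obj.fst.base ⟶ q.obj.base := b.hom.fst.hom
    let b₂ : r.obj.obj.snd.base ⟶ q.obj.base := b.hom.snd.hom
    let a₁ : r.obj.obj.fst.base ⟶ (G.obj x).obj.fst.base := a.hom.fst.hom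
    let a₂ : r.obj.obj.snd.base ⟶ (G.obj x).obj.snd.base := a.hom.snd.hom
    have hb : b₁ ≫ 𝟙 _ = r.obj.obj.iso.hom ≫ b₂ := b.hom.w
    have ha : a₁ ≫ (G.obj x).obj.iso.hom = r.obj.obj.iso.hom ≫ a₂ := a.hom.w
    have hiso : (G.obj x).obj.iso.hom = eqToHom (((BasedFunctor.comp G (FibCat.fpFst _ _)).w_obj x).trans
        ((BasedFunctor.comp G (FibCat.fpSnd _ _)).w_obj x).symm) := by
      haveI := (G.obj x).property
      exact self_hom_eq (φ := (G.obj x).obj.iso.hom) (S := (G.obj x).obj.fst.base) (G.obj x).property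
    let k : r.obj.obj.fst.base ⟶ U :=
      a₁ ≫ eqToHom ((BasedFunctor.comp G (FibCat.fpFst _ _)).w_obj x) ≫ (x : Over U).hom
    have hk₁ : (yon S).map k ≫ m₁ = (yon S).map b₁ ≫ eltMap q.obj := by
      have e := yon_map_eltMap a.hom.fst
      rw [he₁ x, ← Category.assoc, ← Functor.map_comp] at e
      exact e.trans (yon_map_eltMap b.hom.fst).symm
    have hk₂ : (yon S).map k ≫ m₂ = (yon S).map b₁ ≫ eltMap q.obj := by
      have e := yon_map_eltMap a.hom.snd
      rw [he₂ x, ← Category.assoc, ← Functor.map_comp] at e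
      have e' := e.trans (yon_map_eltMap b.hom.snd).symm
      have hk' : k = r.obj.obj.iso.hom ≫ a₂ ≫
          eqToHom ((BasedFunctor.comp G (FibCat.fpSnd _ _)).w_obj x) ≫ (x : Over U).hom := by
        rw [← reassoc_of% ha, hiso, eqToHom_trans_assoc]
      rw [hk', Functor.map_comp, Category.assoc, e', ← Category.assoc, ← Functor.map_comp]
      rw [show b₁ = r.obj.obj.iso.hom ≫ b₂ from (Category.comp_id _).symm.trans hb]
      rfl
    have hsq : ((yon S).map b₁ ≫ eltMap q.obj) ≫ Limits.diag M = (yon S).map k ≫ g := by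
      refine Limits.prod.hom_ext ?_ ?_
      · simp [g, hk₁]
      · simp [g, hk₂]
    let v := hrep.lift (g := g) _ k hsq
    let s : r.obj.obj.fst.base.left := (eqToHom r.lies.symm).left (IsLocalRing.closedPoint r.K)
    refine ⟨v.left s, ?_⟩
    rw [← Scheme.Hom.comp_apply, ← Over.comp_left, hrep.lift_snd]
    refine Eq.trans ?_ (Scheme.fromSpecResidueField_apply (X := U.left) t
      (IsLocalRing.closedPoint (U.left.residueField t)))
    show (a₁.left ≫ (eqToHom ((BasedFunctor.comp G (FibCat.fpFst _ _)).w_obj x)).left ≫ U.left.fromSpecResidueField t) s = _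
    rw [← Category.assoc, Scheme.Hom.comp_apply]
    haveI : Subsingleton ↥(x : Over U).left.left := inferInstanceAs (Subsingleton (PrimeSpectrum (U.left.residueField t)))
    exact congrArg _ (@Subsingleton.elim _ (inferInstanceAs (Subsingleton (PrimeSpectrum (U.left.residueField t)))) _ _)
  · rintro ⟨v, rfl⟩
    let V := hrep.pullback g
    let k : Over.mk (V.left.fromSpecResidueField v ≫ V.hom) ⟶ U :=
      Over.homMk (V.left.fromSpecResidueField v) rfl ≫ hrep.snd g
    let x : (FibCat.overCat U : AlgSt.Cat S).obj := Over.mk k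
    have hkk : (yon S).map k ≫ m₁ = (yon S).map k ≫ m₂ := by
      have e₁ := congrArg (· ≫ Limits.prod.fst) (hrep.w g)
      have e₂ := congrArg (· ≫ Limits.prod.snd) (hrep.w g)
      simp only [Category.assoc, Limits.prod.lift_fst, Limits.prod.lift_snd, Category.comp_id, g] at e₁ e₂
      simp only [k, Functor.map_comp, Category.assoc, ← e₁, ← e₂]
    let q₀ : AlgSt.FPt (FibCat.overCat U : AlgSt.Cat S) :=
      { K := ↥(V.left.residueField v), str := V.left.fromSpecResidueField v ≫ V.hom, obj := x, lies := rfl }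
    let o := (G.obj x).obj.fst
    have hob : o.base = Over.mk q₀.str := (BasedFunctor.comp G (FibCat.fpFst _ _)).w_obj x
    have hos : (G.obj x).obj.snd.base = o.base := ((BasedFunctor.comp G (FibCat.fpSnd _ _)).w_obj x).trans hob.symm
    let j : (G.obj x).obj.snd ≅ o := eltIso (eqToIso hos) ((map_sec_iff (eqToHom hos)).2 (by
      show (yon S).map (eqToHom hos) ≫ eltMap (G.obj x).obj.fst = eltMap (G.obj x).obj.snd
      refine (congrArg (_ ≫ ·) (he₁ x)).trans (Eq.trans ?_ (he₂ x).symm)
      rw [← Category.assoc, ← Functor.map_comp, eqToHom_trans_assoc]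
      simp only [Functor.map_comp, Category.assoc]
      exact congrArg (_ ≫ ·) hkk))
    have hiso : (G.obj x).obj.iso.hom = eqToHom hos.symm :=
      self_hom_eq (φ := (G.obj x).obj.iso.hom) (S := o.base) (G.obj x).property
    let J : G.obj x ≅ (FibCat.diag (FibCat.toSelf (AlgSt.ofSp M))).obj o :=
      fpIsoMk (x := G.obj x) (y := (FibCat.diag (FibCat.toSelf (AlgSt.ofSp M))).obj o) (Iso.refl o) j (by
        show 𝟙 o.base ≫ 𝟙 o.base = (G.obj x).obj.iso.hom ≫ eqToHom hos
        rw [hiso, eqToHom_trans, eqToHom_refl, Category.comp_id]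
        rfl)
    refine ⟨AlgSt.Points.mk { K := q₀.K, str := q₀.str, obj := o, lies := hob }, ?_⟩
    have hpt : schPt q₀ = (hrep.snd g).left v := by
      show (𝟙 _ ≫ V.left.fromSpecResidueField v ≫ (hrep.snd g).left) _ = _
      rw [Category.id_comp, Scheme.Hom.comp_apply, Scheme.fromSpecResidueField_apply]
    obtain ⟨t', ht'⟩ := ptAt_surjective U (AlgSt.Points.mk q₀)
    have ht'' : t' = (hrep.snd g).left v := by
      have := congrArg (toSch U) ht'
      rw [toSch_ptAt] at this
      exact this.trans hpt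
    show _ = AlgSt.Points.ofChart G _
    rw [← ht'', ofChart_eq_map, ht']
    exact pts_eq_of_hom (p := AlgSt.FPt.map (FibCat.diag (FibCat.toSelf (AlgSt.ofSp M)))
      { K := q₀.K, str := q₀.str, obj := o, lies := hob }) (q := q₀.map G) J.inv

/-- Separatedness is closedness of the diagonal on points, for locally separated sheaves. -/
theorem isSeparatedSp_iff_isClosed_range (M : AlgSp.Space S) (hls : IsLocallySeparatedSp M.obj) :
    IsSeparatedSp M.obj ↔
      IsClosed (Set.range (AlgSt.Points.map (FibCat.diag (FibCat.toSelf (AlgSt.ofSp M.obj))))) := by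
  constructor
  · intro h
    rw [← isOpen_compl_iff]
    intro T G hG
    show IsOpen (AlgSt.Points.ofChart G ⁻¹' _ᶜ)
    rw [Set.preimage_compl, isOpen_compl_iff, preimage_range_diag hls.rep]
    exact ((h.property _ _ _ (hls.rep.isPullback _) : IsClosedImmersion _)).base_closed.isClosed_range
  · intro h
    refine ⟨hls.rep, fun T W g fst snd sq => ?_⟩
    haveI : IsImmersion snd.left := hls.property g fst snd sq
    suffices IsClosed (Set.range snd.left) from .of_isPreimmersion snd.left this
    let m₁ := g ≫ Limits.prod.fst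
    let m₂ := g ≫ Limits.prod.snd
    let G : FibCat.overCat T ⥤ᵇ FibCat.fp (FibCat.toSelf (AlgSt.ofSp M.obj)) (FibCat.toSelf (AlgSt.ofSp M.obj)) :=
      FibCat.fpLift (overOfMap m₁) (overOfMap m₂) (selfIso _ _)
    have hg' : prod.lift (mapOfOver (BasedFunctor.comp G (FibCat.fpFst _ _)))
        (mapOfOver (BasedFunctor.comp G (FibCat.fpSnd _ _))) = g := by
      show prod.lift (mapOfOver (overOfMap m₁)) (mapOfOver (overOfMap m₂)) = g
      rw [mapOfOver_overOfMap, mapOfOver_overOfMap]
      exact Limits.prod.hom_ext (prod.lift_fst _ _) (prod.lift_snd _ _)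
    have hc := h.preimage (continuous_ofChart (fp_isFibGrpd (isFibGrpd_ofSp M.obj) (isFibGrpd_ofSp M.obj) isFibGrpd_selfOver)
      (isAlgStack_fp (isAlgStack_ofSp M) (isAlgStack_ofSp M) isStack_selfOver repByAlgSpWith_diag_toSelf_selfOver _ _).atlas G)
    rw [preimage_range_diag hls.rep, hg'] at hc
    let e := sq.isoIsPullback _ _ (hls.rep.isPullback g)
    obtain ⟨l, hl⟩ := (yon S).map_surjective e.hom
    obtain ⟨l', hl'⟩ := (yon S).map_surjective e.inv
    have h1 : l ≫ hls.rep.snd g = snd := (yon S).map_injective (by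
      rw [Functor.map_comp, hl]
      exact sq.isoIsPullback_hom_snd _ _ _)
    have h2 : l' ≫ snd = hls.rep.snd g := (yon S).map_injective (by
      rw [Functor.map_comp, hl']
      exact sq.isoIsPullback_inv_snd _ _ _)
    convert hc using 1
    refine Set.Subset.antisymm ?_ ?_
    · rintro _ ⟨w, rfl⟩
      exact ⟨l.left w, by rw [← Scheme.Hom.comp_apply, ← Over.comp_left, h1]⟩
    · rintro _ ⟨w, rfl⟩
      exact ⟨l'.left w, by rw [← Scheme.Hom.comp_apply, ← Over.comp_left, h2]⟩

/-- For universal homeomorphisms onto a space, the diagonals have closed range together. -/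
theorem isClosed_range_diag_iff {𝒳 : AlgSt.Cat S} (h𝒳 : AlgSt.IsAlgStack K₀ 𝒳) (M : AlgSp.Space S)
    (π : 𝒳 ⥤ᵇ AlgSt.ofSp M.obj) (hπ : AlgSt.IsUnivHomeo K₀ π) (hs : AlgSt.IsSurjective π) :
    IsClosed (Set.range (AlgSt.Points.map (FibCat.diag (FibCat.toSelf 𝒳)))) ↔
      IsClosed (Set.range (AlgSt.Points.map (FibCat.diag (FibCat.toSelf (AlgSt.ofSp M.obj))))) := by
  let p' := FibCat.toSelf (AlgSt.ofSp M.obj)
  rw [show FibCat.toSelf 𝒳 = BasedFunctor.comp π p' from (eq_toSelf _).symm]
  have hMs := isAlgStack_ofSp M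
  have hA := isAlgStack_fp hMs hMs isStack_selfOver repByAlgSpWith_diag_toSelf_selfOver p' p'
  have hB := isAlgStack_fp hA h𝒳 hMs.isStack hMs.diag (FibCat.fpFst p' p') π
  have hC := isAlgStack_fp hB h𝒳 hMs.isStack hMs.diag
    (BasedFunctor.comp (pairStep₁ p' p' π) (FibCat.fpSnd p' p')) π
  have hD := isAlgStack_fp h𝒳 h𝒳 isStack_selfOver repByAlgSpWith_diag_toSelf_selfOver
    (BasedFunctor.comp π p') (BasedFunctor.comp π p')
  have h12 : IsHomeomorph (AlgSt.Points.map (BasedFunctor.comp (pairStep₂ p' p' π π) (pairStep₁ p' p' π))) := by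
    rw [show AlgSt.Points.map (BasedFunctor.comp (pairStep₂ p' p' π π) (pairStep₁ p' p' π)) =
      AlgSt.Points.map (pairStep₁ p' p' π) ∘ AlgSt.Points.map (pairStep₂ p' p' π π) from
        funext fun z => pts_map_comp _ _ z]
    exact (hπ _ hA (FibCat.fpFst p' p')).comp
      (hπ _ hB (BasedFunctor.comp (pairStep₁ p' p' π) (FibCat.fpSnd p' p')))
  have hE := isHomeomorph_pts_map hC hD (pairEquiv_isEquivOver p' p' π π)
  have hcomm : AlgSt.Points.map (fpPair p' p' π π) ∘ AlgSt.Points.map (pairEquiv p' p' π π) =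
      AlgSt.Points.map (BasedFunctor.comp (pairStep₂ p' p' π π) (pairStep₁ p' p' π)) := funext fun z => by
    refine (pts_map_comp _ _ z).symm.trans ((pts_map_congr (pairIso p' p' π π) z).symm.trans ?_)
    exact (pts_map_comp _ _ z).trans (pts_map_id _)
  have hP : IsHomeomorph (AlgSt.Points.map (fpPair p' p' π π)) := by
    have e : AlgSt.Points.map (fpPair p' p' π π) =
        AlgSt.Points.map (BasedFunctor.comp (pairStep₂ p' p' π π) (pairStep₁ p' p' π)) ∘
          hE.homeomorph.symm := by
      rw [← hcomm]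
      funext z
      exact congrArg _ (hE.homeomorph.apply_symm_apply z).symm
    rw [e]
    exact h12.comp hE.homeomorph.symm.isHomeomorph
  have hr : AlgSt.Points.map (fpPair p' p' π π) ''
      Set.range (AlgSt.Points.map (FibCat.diag (BasedFunctor.comp π p'))) =
        Set.range (AlgSt.Points.map (FibCat.diag p')) := by
    have hd : ∀ x, AlgSt.Points.map (fpPair p' p' π π) (AlgSt.Points.map (FibCat.diag (BasedFunctor.comp π p')) x) =
        AlgSt.Points.map (FibCat.diag p') (AlgSt.Points.map π x) := fun x => by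
      obtain ⟨q, rfl⟩ := AlgSt.Points.mk_surjective x
      exact pts_eq_of_hom (p := (q.map (FibCat.diag (BasedFunctor.comp π p'))).map (fpPair p' p' π π))
        (q := (q.map π).map (FibCat.diag p'))
        (fpIsoMk (x := (fpPair p' p' π π).obj ((FibCat.diag (BasedFunctor.comp π p')).obj q.obj))
          (y := (FibCat.diag p').obj (π.obj q.obj)) (Iso.refl _) (Iso.refl _) (by
            show p'.map (𝟙 _) ≫ 𝟙 _ = 𝟙 _ ≫ p'.map (𝟙 _)
            simp)).hom
    refine Set.Subset.antisymm ?_ ?_
    · rintro _ ⟨_, ⟨x, rfl⟩, rfl⟩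
      exact ⟨_, (hd x).symm⟩
    · rintro _ ⟨y, rfl⟩
      obtain ⟨x, rfl⟩ := hs y
      exact ⟨_, ⟨x, rfl⟩, hd x⟩
  rw [← hr]
  exact (hP.homeomorph.isClosed_image).symm

end Groth.Agent.StModLib
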