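import Groth.Agent.StModLib.UnivBasic
import Groth.Agent.AlgSpDec.RelNorm.GlueHom

/-!
# Good moduli spaces are universal for morphisms to schemes
-/

set_option autoImplicit false
set_option linter.style.haveILetI false
set_option linter.unusedSectionVars false
set_option backward.isDefEq.respectTransparency false
set_option backward.isDefEq.respectTransparency.types false

universe u

open CategoryTheory CategoryTheory.Limits AlgebraicGeometry AlgSp Opposite
open Groth.Agent.AlgStLib Groth.Agent.AlgSpLib Groth.Agent.FibBase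

noncomputable section

namespace Groth.Agent.StModLib

variable {S : Scheme.{u}} {𝒳 : AlgSt.Cat S}

local notation "K₀" => Scheme.fppfPrecoverage

/-- A universally closed morphism is closed. -/
theorem isClosedMap_of_isUnivClosed {𝒴 : AlgSt.Cat S} (h𝒳 : AlgSt.IsAlgStack K₀ 𝒳) (h𝒴 : AlgSt.IsAlgStack K₀ 𝒴)
    (π : 𝒳 ⥤ᵇ 𝒴) (h : AlgSt.IsUnivClosed K₀ π) : IsClosedMap (AlgSt.Points.map π) := by
  have he := fpSnd_id_isEquivOver π
  have hW := (isAlgStack_iff_of_isEquivOver he).2 h𝒳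
  exact (good_isClosedMap.congr (AlgSt.Points.map (FibCat.fpSnd (BasedFunctor.id 𝒴) π)) id (AlgSt.Points.map π)
    (AlgSt.Points.map (FibCat.fpFst (BasedFunctor.id 𝒴) π)) (isHomeomorph_pts_map hW h𝒳 he)
    (Homeomorph.refl _).isHomeomorph (fun z => by
      rw [id, ← pts_map_comp (FibCat.fpSnd (BasedFunctor.id 𝒴) π) π,
        ← pts_map_congr (FibCat.fpIso (BasedFunctor.id 𝒴) π), pts_map_comp, pts_map_id])).2
    (h 𝒴 h𝒴 (BasedFunctor.id 𝒴))

/-- The point of the scheme of a slice under an object. -/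
theorem ofChart_baseOver {M : Sp S} (π : 𝒳 ⥤ᵇ AlgSt.ofSp M) (E : EtOver M) (ξ : 𝒳.obj)
    (α : π.obj ξ ⟶ StMod.etaOf E) (q : AlgSt.FPt 𝒳) (φ : q.obj ⟶ ξ) :
    AlgSt.Points.ofChart (overOfMap E.obj.hom) ((StMod.baseOver π ξ α).left
      (StMod.bmap 𝒳 φ ((eqToHom q.lies.symm).left (IsLocalRing.closedPoint q.K)))) =
      AlgSt.Points.map π (AlgSt.Points.mk q) := by
  let m : Over.mk q.str ⟶ E.obj.left := eqToHom q.lies.symm ≫ 𝒳.p.map φ ≫ StMod.baseOver π ξ α
  let q₀ : AlgSt.FPt (FibCat.overCat E.obj.left : AlgSt.Cat S) :=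
    { K := q.K, str := q.str, obj := Over.mk m, lies := rfl }
  have h₀ : schPt q₀ = (StMod.baseOver π ξ α).left
      (StMod.bmap 𝒳 φ ((eqToHom q.lies.symm).left (IsLocalRing.closedPoint q.K))) := by
    show (𝟙 _ ≫ m.left) _ = _
    rw [Category.id_comp]
    rfl
  obtain ⟨t, ht⟩ := ptAt_surjective _ (AlgSt.Points.mk q₀)
  have ht' : t = schPt q₀ := by
    have := congrArg (toSch E.obj.left) ht
    rwa [toSch_ptAt] at this
  rw [← h₀, ← ht', ofChart_eq_map, ht]
  let e : (π.obj q.obj).base = Over.mk q.str := (π.w_obj q.obj).trans q.lies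
  have hsec : (yon S).map (eqToHom e) ≫ eltMap ((overOfMap E.obj.hom).obj q₀.obj) = eltMap (π.obj q.obj) := by
    have h1 : eltMap ((overOfMap E.obj.hom).obj q₀.obj) = (yon S).map m ≫ E.obj.hom := by
      rw [← yon_map_eltMap ((overOfMap E.obj.hom).map
        (Over.homMk m (Category.comp_id _) : q₀.obj ⟶ Over.mk (𝟙 E.obj.left)))]
      exact congrArg ((yon S).map m ≫ ·) (eltMap_etaOf E)
    rw [h1, ← yon_map_eltMap (π.map φ ≫ α), eltMap_etaOf, ← Category.assoc, ← Functor.map_comp]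
    refine congrArg (fun k => (yon S).map k ≫ E.obj.hom) ?_
    show eqToHom e ≫ m = (π.map φ).hom ≫ α.hom
    have e' : (π.map φ).hom = eqToHom (π.w_obj q.obj) ≫ 𝒳.p.map φ ≫ eqToHom (π.w_obj ξ).symm := map_w π φ
    rw [e']
    simp only [m, StMod.baseOver, Category.assoc, eqToHom_trans_assoc]
    rfl
  let j : (q.map π).obj ⟶ (q₀.map (overOfMap E.obj.hom)).obj :=
    ⟨eqToHom e, (map_sec_iff (o' := π.obj q.obj) (o := (overOfMap E.obj.hom).obj q₀.obj) (eqToHom e)).2 hsec⟩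
  exact (pts_eq_of_hom j).symm

/-- The point of the scheme under a point of the stack. -/
theorem ptSch_map_sh {Z : Over S} (ψ : 𝒳 ⥤ᵇ AlgSt.ofSch Z) (ξ : 𝒳.obj) (q : AlgSt.FPt 𝒳) (φ : q.obj ⟶ ξ) :
    ptSch Z (AlgSt.Points.map ψ (AlgSt.Points.mk q)) =
      (sh ψ ξ).left (StMod.bmap 𝒳 φ ((eqToHom q.lies.symm).left (IsLocalRing.closedPoint q.K))) := by
  obtain ⟨β⟩ := exists_hom_idEt (ψ.obj q.obj)
  rw [ptSch_map_mk ψ q β]
  have e : StMod.baseOver ψ q.obj β = sh ψ q.obj := by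
    show eqToHom _ ≫ β.hom = eqToHom _ ≫ (ψ.obj q.obj).sec.down
    rw [hom_idEt β]
  rw [e, ← map_sh ψ φ]
  exact Scheme.Hom.comp_apply _ _ _

/-- A field-valued point of a space lifts to the scheme of its field. -/
theorem exists_fibre_pt (M : Sp S) (p : AlgSt.FPt (AlgSt.ofSp M)) :
    ∃ z : AlgSt.Points (AlgSt.ofSp ((yon S).obj p.obj.base)),
      AlgSt.Points.map (AlgSt.ofSpMap (eltMap p.obj)) z = AlgSt.Points.mk p := by
  let T := p.obj.base
  let g : (yon S).obj T ⟶ M := eltMap p.obj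
  have hT : T = Over.mk p.str := p.lies
  let η := StMod.etaOf (idEt T)
  refine ⟨AlgSt.Points.mk { K := p.K, str := p.str, obj := η, lies := hT }, ?_⟩
  have hsec : M.obj.map (𝟙 T : T ⟶ T).op p.obj.sec = ((AlgSt.ofSpMap g).obj η).sec := by
    refine (map_sec_iff (o' := (AlgSt.ofSpMap g).obj η) (o := p.obj) (𝟙 T)).2 ?_
    refine ((congrArg (· ≫ eltMap p.obj) ((yon S).map_id T)).trans (Category.id_comp _)).trans ?_
    apply (AlgSp.J S).uliftYonedaEquiv.injective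
    have e2 : (AlgSp.J S).uliftYonedaEquiv (eltMap ((AlgSt.ofSpMap g).obj η)) =
        (AlgSp.J S).uliftYonedaEquiv (𝟙 ((yon S).obj T) ≫ g) := by
      rw [eltMap, Equiv.apply_symm_apply]
      rfl
    refine Eq.trans ?_ e2.symm
    rw [Category.id_comp]
  let m₀ : (AlgSt.ofSpMap g).obj η ⟶ p.obj := ⟨𝟙 T, hsec⟩
  exact pts_eq_of_hom (p := AlgSt.FPt.map (AlgSt.ofSpMap g) { K := p.K, str := p.str, obj := η, lies := hT }) (q := p) m₀

/-- The inclusion of an open part. -/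
def openIncl (T : Over S) (D : T.left.Opens) : Over.mk (D.ι ≫ T.hom) ⟶ T := Over.homMk D.ι rfl

/-- An open part of an etale scheme over a sheaf. -/
def subEt {M : Sp S} (E : EtOver M) (D : E.obj.left.left.Opens) : EtOver M :=
  EtOver.mk ((yon S).map (openIncl E.obj.left D) ≫ E.obj.hom)
    (repWith_comp ((repWith_yon_map_iff @Etale (openIncl E.obj.left D)).2 (inferInstanceAs (Etale D.ι))) E.property)

variable {M₀ : Sp S} (π₀ : 𝒳 ⥤ᵇ AlgSt.ofSp M₀)

/-- Compatible maps of the objects over an affine etale scheme into an affine scheme come from a map of it. -/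
theorem exists_map_of_family (hun : StMod.UnitIsIso π₀) (E : EtOver M₀) [IsAffine E.obj.left.left]
    (W : Scheme.{u}) [IsAffine W] (c : ∀ (ξ : 𝒳.obj) (_ : π₀.obj ξ ⟶ StMod.etaOf E), StMod.sch 𝒳 ξ ⟶ W)
    (hcn : ∀ {ξ' ξ : 𝒳.obj} (φ : ξ' ⟶ ξ) (α : π₀.obj ξ ⟶ StMod.etaOf E),
      StMod.bmap 𝒳 φ ≫ c ξ α = c ξ' (π₀.map φ ≫ α)) :
    ∃ k₀ : E.obj.left.left ⟶ W, ∀ ξ α, (StMod.baseOver π₀ ξ α).left ≫ k₀ = c ξ α := by
  let fam : Γ(W, ⊤) → StMod.Mod.RelSect π₀ (StMod.O 𝒳) (StMod.etaOf E) := fun r =>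
    ⟨fun ξ α => (c ξ α).appTop r, fun ξ' ξ φ α => congr($(congrArg Scheme.Hom.appTop (hcn φ α)) r)⟩
  choose v hv using fun r => (hun E).2 (fam r)
  have hval : ∀ r ξ α, (StMod.baseOver π₀ ξ α).left.appTop (v r) = (c ξ α).appTop r := fun r ξ α =>
    congrArg (fun w : StMod.Mod.RelSect π₀ (StMod.O 𝒳) (StMod.etaOf E) => w.1 ξ α) (hv r)
  let ring : Γ(W, ⊤) →+* Γ(StMod.sch (AlgSt.ofSp M₀) (StMod.etaOf E), ⊤) :=
    { toFun := v
      map_one' := (hun E).1 (StMod.Mod.RelSect.ext _ _ _ fun ξ α => (hval 1 ξ α).trans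
        ((map_one (c ξ α).appTop.hom).trans (map_one (StMod.baseOver π₀ ξ α).left.appTop.hom).symm))
      map_zero' := (hun E).1 (StMod.Mod.RelSect.ext _ _ _ fun ξ α => (hval 0 ξ α).trans
        ((map_zero (c ξ α).appTop.hom).trans (map_zero (StMod.baseOver π₀ ξ α).left.appTop.hom).symm))
      map_mul' := fun a b => (hun E).1 (StMod.Mod.RelSect.ext _ _ _ fun ξ α => (hval (a * b) ξ α).trans
        ((map_mul (c ξ α).appTop.hom a b).trans (((congrArg₂ (· * ·) (hval a ξ α) (hval b ξ α)).symm).trans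
          (map_mul (StMod.baseOver π₀ ξ α).left.appTop.hom (v a) (v b)).symm)))
      map_add' := fun a b => (hun E).1 (StMod.Mod.RelSect.ext _ _ _ fun ξ α => (hval (a + b) ξ α).trans
        ((map_add (c ξ α).appTop.hom a b).trans (((congrArg₂ (· + ·) (hval a ξ α) (hval b ξ α)).symm).trans
          (map_add (StMod.baseOver π₀ ξ α).left.appTop.hom (v a) (v b)).symm))) }
  let k₀ : E.obj.left.left ⟶ W := E.obj.left.left.toSpecΓ ≫ Spec.map (CommRingCat.ofHom ring) ≫ W.isoSpec.inv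
  have hk₀ : k₀.appTop.hom = ring := by
    have e : k₀ ≫ W.isoSpec.hom = E.obj.left.left.toSpecΓ ≫ Spec.map (CommRingCat.ofHom ring) := by
      simp [k₀]
    have e' : k₀ ≫ W.toSpecΓ = E.obj.left.left.toSpecΓ ≫ Spec.map (CommRingCat.ofHom ring) := e
    rw [Scheme.toSpecΓ_naturality] at e'
    haveI : IsIso E.obj.left.left.toSpecΓ := IsAffine.affine
    rw [cancel_epi] at e'
    exact congrArg CommRingCat.Hom.hom (Spec.map_injective e')
  exact ⟨k₀, fun ξ α => ext_of_isAffine (CommRingCat.hom_ext (RingHom.ext fun r => by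
    show (StMod.baseOver π₀ ξ α).left.appTop (k₀.appTop.hom r) = (c ξ α).appTop r
    rw [hk₀]
    exact hval r ξ α))⟩

variable (h𝒳 : AlgSt.IsAlgStack K₀ 𝒳) (M : AlgSp.Space S) (hM : HasQcProd M.obj)
  (π : 𝒳 ⥤ᵇ AlgSt.ofSp M.obj) (hqc : AlgSt.IsQuasiCompactMor K₀ π) (hqs : AlgSt.IsQuasiSeparatedMor π)
  (h : StMod.IsGoodModuli π) {Z : Over S} (ψ : 𝒳 ⥤ᵇ AlgSt.ofSch Z)

include h𝒳 hM hqc hqs h in
/-- The fibre over a point of the space maps into one affine open of the scheme. -/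
theorem exists_affine_avoid (p : AlgSt.FPt (AlgSt.ofSp M.obj)) :
    ∃ W : Z.left.affineOpens, ∀ x, AlgSt.Points.map π x = AlgSt.Points.mk p →
      ptSch Z (AlgSt.Points.map ψ x) ∈ W.1 := by
  classical
  let T := p.obj.base
  obtain ⟨hTa, hTf⟩ := isField_of_lies (T := T) p.lies
  haveI := hTa
  let g : (yon S).obj T ⟶ M.obj := eltMap p.obj
  obtain ⟨hW, hgood⟩ := isGoodModuli_fibre h𝒳 M hM π hqc hqs h T g
  let M' : AlgSp.Space S := ⟨(yon S).obj T, IsAlgSpace.yon_obj T⟩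
  have hqW : AlgSt.IsQuasiCompact (FibCat.fp (AlgSt.ofSpMap g) π) :=
    hqc _ (isAlgStack_ofSp M') (isQuasiCompact_ofSp M' ((AlgSpPts.isQuasiCompactSp_yon_iff _).2 inferInstance)) _
  haveI := (isQuasiCompact_iff_compactSpace_points hW.isStack.1 hW.atlas).1 hqW
  have hp := h𝒳.isStack.1
  obtain ⟨z, hz⟩ := exists_fibre_pt M.obj p
  let snd := AlgSt.Points.map (FibCat.fpSnd (AlgSt.ofSpMap g) π)
  by_contra hne
  push Not at hne
  choose x hx hxW using hne
  let C : Z.left.affineOpens → Set (AlgSt.Points (FibCat.fp (AlgSt.ofSpMap g) π)) := fun W =>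
    (fun w => ptSch Z (AlgSt.Points.map ψ (snd w))) ⁻¹' (W.1 : Set Z.left)ᶜ
  have hcont : Continuous fun w => ptSch Z (AlgSt.Points.map ψ (snd w)) :=
    (isHomeomorph_ptSch Z).continuous.comp
      ((continuous_pts_map (isFibGrpd_ofSp _) (isAlgStack_ofSp ⟨(yon S).obj Z, IsAlgSpace.yon_obj Z⟩).atlas ψ).comp
        (continuous_pts_map hp h𝒳.atlas _))
  have hCc : ∀ W, IsClosed (C W) := fun W => W.1.2.isClosed_compl.preimage hcont
  have hCn : ∀ W, (C W).Nonempty := fun W => by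
    obtain ⟨w, -, hw⟩ := exists_pts_fp hp (isFibGrpd_ofSp M.obj) (isFibGrpd_ofSp _) π (AlgSt.ofSpMap g) z (x W)
      (hz.trans (hx W).symm)
    exact ⟨w, show ptSch Z (AlgSt.Points.map ψ (snd w)) ∈ (W.1 : Set Z.left)ᶜ by
      rw [show snd w = x W from hw]
      exact hxW W⟩
  have hfin : ∀ u : Finset Z.left.affineOpens, (Set.univ ∩ ⋂ W ∈ u, C W).Nonempty := fun u => by
    induction u using Finset.induction_on with
    | empty =>
      obtain ⟨y, hy⟩ := surjective_of_isGoodModuli h𝒳 M hM π hqc hqs h (AlgSt.Points.mk p)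
      obtain ⟨w, -, -⟩ := exists_pts_fp hp (isFibGrpd_ofSp M.obj) (isFibGrpd_ofSp _) π (AlgSt.ofSpMap g) z y
        (hz.trans hy.symm)
      exact ⟨w, by simp⟩
    | insert W u _ ih =>
      rw [Finset.set_biInter_insert, Set.univ_inter]
      rw [Set.univ_inter] at ih
      by_contra hd
      rcases eq_empty_of_disjoint_closed hW T hTf _ hgood (C W) (⋂ W ∈ u, C W) (hCc W)
          (isClosed_biInter fun W _ => hCc W)
          (Set.disjoint_iff_inter_eq_empty.2 (Set.not_nonempty_iff_eq_empty.1 hd)) with e | e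
      · exact (hCn W).ne_empty e
      · exact ih.ne_empty e
  obtain ⟨w, -, hw⟩ := isCompact_univ.inter_iInter_nonempty C hCc hfin
  obtain ⟨W, hW', hwW, -⟩ := exists_isAffineOpen_mem_and_subset (x := ptSch Z (AlgSt.Points.map ψ (snd w)))
    (U := ⊤) trivial
  exact Set.mem_iInter.1 hw ⟨W, hW'⟩ hwW

include h𝒳 hM hqc hqs h in
/-- Near every point of an etale scheme over the space the functor comes from a map. -/
theorem exists_compat_nhd (E : EtOver M.obj) (t : E.obj.left.left) :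
    ∃ D : E.obj.left.left.Opens, t ∈ D ∧ IsAffineOpen D ∧
      ∃ k : (subEt E D).obj.left ⟶ Z, Compat π ψ (subEt E D) k := by
  have hp := h𝒳.isStack.1
  obtain ⟨p, hpt⟩ := AlgSt.Points.mk_surjective (AlgSt.Points.ofChart (overOfMap E.obj.hom) t)
  obtain ⟨W, hW⟩ := exists_affine_avoid h𝒳 M hM π hqc hqs h ψ p
  haveI : IsAffine W.1.toScheme := W.2
  let C : Set (AlgSt.Points 𝒳) := (fun x => ptSch Z (AlgSt.Points.map ψ x)) ⁻¹' (W.1 : Set Z.left)ᶜ
  have hCc : IsClosed C := W.1.2.isClosed_compl.preimage ((isHomeomorph_ptSch Z).continuous.comp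
    (continuous_pts_map (isFibGrpd_ofSp _) (isAlgStack_ofSp ⟨(yon S).obj Z, IsAlgSpace.yon_obj Z⟩).atlas ψ))
  have hcl : IsClosed (AlgSt.Points.map π '' C) := isClosedMap_of_isUnivClosed h𝒳 (isAlgStack_ofSp M) π
    (isUnivClosed_of_isGoodModuli h𝒳 M hM π hqc hqs h) C hCc
  let O : E.obj.left.left.Opens := ⟨AlgSt.Points.ofChart (overOfMap E.obj.hom) ⁻¹' (AlgSt.Points.map π '' C)ᶜ,
    hcl.isOpen_compl.preimage (continuous_ofChart (isFibGrpd_ofSp _) (isAlgStack_ofSp M).atlas _)⟩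
  obtain ⟨D, hD, htD, hDO⟩ := exists_isAffineOpen_mem_and_subset (x := t) (U := O) (by
    rintro ⟨x, hxC, hx⟩
    exact hxC (hW x (hx.trans hpt.symm)))
  let j := openIncl E.obj.left D
  let E' := subEt E D
  have hmem : ∀ (ξ : 𝒳.obj) (_ : π.obj ξ ⟶ StMod.etaOf E'), Set.range (sh ψ ξ).left ⊆ Set.range W.1.ι := by
    rintro ξ α _ ⟨s, rfl⟩
    rw [Scheme.Opens.range_ι]
    obtain ⟨q, φ, hq⟩ := exists_fpt_over hp ξ s
    by_contra hsW
    have hC : AlgSt.Points.mk q ∈ C := by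
      show ptSch Z (AlgSt.Points.map ψ (AlgSt.Points.mk q)) ∈ (W.1 : Set Z.left)ᶜ
      rw [ptSch_map_sh ψ ξ q φ, hq]
      exact hsW
    let e := ((StMod.baseOver π ξ α).left s : D.toScheme)
    refine (hDO (show D.ι e ∈ D from e.2) : D.ι e ∈ O) ⟨_, hC, ?_⟩
    rw [← ofChart_baseOver π E ξ (α ≫ etaHom (E' := E') j rfl) q φ, hq, baseOver_etaHom π j rfl ξ α]
    exact congrArg _ (Scheme.Hom.comp_apply _ _ _)
  let c : ∀ (ξ : 𝒳.obj) (_ : π.obj ξ ⟶ StMod.etaOf E'), StMod.sch 𝒳 ξ ⟶ W.1.toScheme := fun ξ α =>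
    IsOpenImmersion.lift W.1.ι _ (hmem ξ α)
  have hc : ∀ ξ α, c ξ α ≫ W.1.ι = (sh ψ ξ).left := fun ξ α => IsOpenImmersion.lift_fac _ _ _
  have hcn : ∀ {ξ' ξ : 𝒳.obj} (φ : ξ' ⟶ ξ) (α : π.obj ξ ⟶ StMod.etaOf E'),
      StMod.bmap 𝒳 φ ≫ c ξ α = c ξ' (π.map φ ≫ α) := fun {ξ' ξ} φ α => by
    rw [← cancel_mono W.1.ι, Category.assoc, hc ξ α, hc ξ' (π.map φ ≫ α)]
    exact congrArg CommaMorphism.left (map_sh ψ φ)
  haveI : IsAffine E'.obj.left.left := hD
  obtain ⟨k₀, hk₀⟩ := exists_map_of_family π h.2 E' W.1.toScheme c hcn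
  have hb : ∀ ξ α, (StMod.baseOver π ξ α).left ≫ k₀ ≫ W.1.ι = (sh ψ ξ).left := fun ξ α =>
    (Category.assoc _ _ _).symm.trans ((congrArg (· ≫ W.1.ι) (hk₀ ξ α)).trans (hc ξ α))
  have hw : (k₀ ≫ W.1.ι) ≫ Z.hom = E'.obj.left.hom :=
    eq_of_baseOver π h𝒳 (surjective_of_isGoodModuli h𝒳 M hM π hqc hqs h) h.2 E' _ _ fun ξ α => by
      rw [← Category.assoc, hb, Over.w]
      exact (Over.w (StMod.baseOver π ξ α)).symm
  refine ⟨D, htD, hD, Over.homMk (k₀ ≫ W.1.ι) hw, fun ξ α => Over.OverMorphism.ext ?_⟩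
  exact hb ξ α

include h𝒳 hM hqc hqs h in
/-- A functor to a scheme comes from a map of the space. -/
theorem exists_map_of_isGoodModuli :
    ∃ g : M.obj ⟶ (yon S).obj Z, ∀ ξ, eltMap (π.obj ξ) ≫ g = (yon S).map (eqToHom (π.w_obj ξ) ≫ sh ψ ξ) := by
  have hs := surjective_of_isGoodModuli h𝒳 M hM π hqc hqs h
  have hp := h𝒳.isStack.1
  obtain ⟨T, p, hpe, hps⟩ := M.property.atlas
  let E₀ : EtOver M.obj := EtOver.mk p hpe
  let ι : Type u := T.left
  choose D htD hD k hk using exists_compat_nhd h𝒳 M hM π hqc hqs h ψ E₀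
  let E' : ι → EtOver M.obj := fun t => subEt E₀ (D t)
  have hsur : ∀ y, ∃ i v, Points.ofPt (E' i).obj.hom v = y := fun y => by
    obtain ⟨t, rfl⟩ := surjective_ofPt hps y
    obtain ⟨v, hv⟩ : t ∈ Set.range (D t).ι := by
      rw [Scheme.Opens.range_ι]
      exact htD t
    exact ⟨t, v, (ofPt_comp (openIncl T (D t)) p v).trans (congrArg (Points.ofPt p) hv)⟩
  have hcomp : ∀ (i l : ι) ⦃U : Over S⦄ (x : U ⟶ (E' i).obj.left) (y : U ⟶ (E' l).obj.left),
      (yon S).map x ≫ (E' i).obj.hom = (yon S).map y ≫ (E' l).obj.hom →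
      (yon S).map x ≫ (yon S).map (k i) = (yon S).map y ≫ (yon S).map (k l) := fun i l U x y hxy => by
    let hr := (E' i).property
    let P := hr.rep.pullback (E' l).obj.hom
    let E'' : EtOver M.obj := EtOver.mk ((yon S).map (hr.rep.snd (E' l).obj.hom) ≫ (E' l).obj.hom)
      (repWith_comp ((repWith_yon_map_iff @Etale _).2 (hr.property_snd _)) (E' l).property)
    have e1 : Compat π ψ E'' (hr.rep.fst' (E' l).obj.hom ≫ k i) :=
      (hk i).restrict π ψ (E' := E'') _ (by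
        show (yon S).map (hr.rep.fst' (E' l).obj.hom) ≫ (E' i).obj.hom = _
        rw [Functor.relativelyRepresentable.map_fst']
        exact hr.rep.w _)
    have e2 : Compat π ψ E'' (hr.rep.snd (E' l).obj.hom ≫ k l) := (hk l).restrict π ψ (E' := E'') _ rfl
    have e := Compat.unique π ψ h𝒳 hs h.2 e1 e2
    let n : U ⟶ P := hr.rep.lift' x y hxy
    rw [← Functor.map_comp, ← Functor.map_comp]
    exact congrArg (yon S).map (((congrArg (· ≫ k i) (hr.rep.lift'_fst x y hxy)).symm.trans (Category.assoc _ _ _)).trans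
      ((congrArg (n ≫ ·) e).trans ((Category.assoc _ _ _).symm.trans (congrArg (· ≫ k l) (hr.rep.lift'_snd x y hxy)))))
  obtain ⟨g, hg⟩ := AlgSpDec.RelNorm.exists_glue M.property (fun i => (E' i).obj.hom) (fun i => (E' i).property)
    hsur (fun i => (yon S).map (k i)) hcomp
  refine ⟨g, fun ξ => ?_⟩
  let q := eltMap (π.obj ξ)
  let R := hpe.rep.pullback q
  let r : R ⟶ (π.obj ξ).base := hpe.rep.snd q
  haveI : Etale r.left := hpe.property_snd q
  haveI : Surjective r.left := hps.2 q _ _ (hpe.rep.isPullback q)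
  refine hom_ext_of_fppf r (fppf_of_etale r.left) _ _ ?_
  let f : R ⟶ T := hpe.rep.fst' q
  let 𝒰 : R.left.OpenCover := Scheme.openCoverOfIsOpenCover _ (fun t : ι => f.left ⁻¹ᵁ D t)
    (TopologicalSpace.Opens.ext (Set.eq_univ_of_forall fun u =>
      TopologicalSpace.Opens.mem_iSup.2 ⟨f.left u, htD _⟩))
  refine AlgSpDec.hom_ext_of_openCover 𝒰 _ _ fun t => ?_
  let U : Over S := Over.mk (𝒰.f t ≫ R.hom)
  let i : U ⟶ R := Over.homMk (𝒰.f t) rfl
  have hr' : Set.range (i ≫ f).left ⊆ Set.range (D t).ι := by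
    rintro _ ⟨u, rfl⟩
    rw [Scheme.Opens.range_ι]
    exact u.2
  let m₀ := IsOpenImmersion.lift (D t).ι _ hr'
  let m : U ⟶ (E' t).obj.left := Over.homMk m₀ (by
    show m₀ ≫ (D t).ι ≫ T.hom = U.hom
    rw [← Category.assoc, IsOpenImmersion.lift_fac, Over.w])
  have hm₀ : m ≫ openIncl T (D t) = i ≫ f := Over.OverMorphism.ext (IsOpenImmersion.lift_fac _ _ hr')
  have hsq : (yon S).map m ≫ (E' t).obj.hom = (yon S).map (i ≫ r) ≫ q := by
    show (yon S).map m ≫ (yon S).map (openIncl T (D t)) ≫ p = _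
    rw [← Category.assoc, ← Functor.map_comp, hm₀, Functor.map_comp, Category.assoc,
      Functor.map_comp, Category.assoc]
    exact congrArg ((yon S).map i ≫ ·) ((congrArg (· ≫ p) (hpe.rep.map_fst' q)).trans (hpe.rep.w q))
  have happ := (hk t).apply π ψ hp ξ (i ≫ r ≫ eqToHom (π.w_obj ξ)) m (by
    rw [hsq]
    simp only [Category.assoc, eqToHom_trans, eqToHom_refl, Category.comp_id]
    rfl)
  rw [← Category.assoc, ← Functor.map_comp, ← Category.assoc, ← hsq, Category.assoc, hg t, ← Functor.map_comp,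
    happ, ← Category.assoc, ← Functor.map_comp, Category.assoc, ← Functor.map_comp]
  simp only [Category.assoc]
  rfl

omit h𝒳 hM hqc hqs h in
/-- Functors to the category of a sheaf agree when they agree on sections. -/
theorem functor_ext_ofSp {N : Sp S} (F G : 𝒳 ⥤ᵇ AlgSt.ofSp N)
    (h' : ∀ ξ, eltMap (F.obj ξ) = (yon S).map (eqToHom ((F.w_obj ξ).trans (G.w_obj ξ).symm)) ≫ eltMap (G.obj ξ)) :
    F = G := by
  have hobj : ∀ ξ, F.obj ξ = G.obj ξ := fun ξ => by
    have hb : (F.obj ξ).base = (G.obj ξ).base := (F.w_obj ξ).trans (G.w_obj ξ).symm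
    have hsec := (map_sec_iff (o' := F.obj ξ) (o := G.obj ξ) (eqToHom hb)).2 (h' ξ).symm
    generalize F.obj ξ = a at hb hsec
    generalize G.obj ξ = b at hb hsec
    obtain ⟨ab, as⟩ := a
    obtain ⟨bb, bs⟩ := b
    obtain rfl : ab = bb := hb
    rw [eqToHom_refl, op_id, CategoryTheory.Functor.map_id] at hsec
    exact congrArg (Stk.EltObj.mk ab) (show bs = as from hsec).symm
  obtain ⟨F₀, wF⟩ := F
  obtain ⟨G₀, wG⟩ := G
  congr 1
  refine CategoryTheory.Functor.ext hobj fun ξ' ξ φ => ?_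
  haveI := faithful_forget N.obj
  refine (Stk.EltObj.forget _).map_injective ?_
  rw [Functor.map_comp, Functor.map_comp, eqToHom_map, eqToHom_map]
  have e1 := map_w (⟨F₀, wF⟩ : 𝒳 ⥤ᵇ AlgSt.ofSp N) φ
  have e2 := map_w (⟨G₀, wG⟩ : 𝒳 ⥤ᵇ AlgSt.ofSp N) φ
  show (AlgSt.ofSp N).p.map (F₀.map φ) = _ ≫ (AlgSt.ofSp N).p.map (G₀.map φ) ≫ _
  erw [e1, e2]
  simp

omit h𝒳 hM hqc hqs h in
theorem eltMap_ofSpMap {N N' : Sp S} (g : N ⟶ N') (o : (AlgSt.ofSp N).obj) :
    eltMap ((AlgSt.ofSpMap g).obj o) = eltMap o ≫ g := by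
  apply (AlgSp.J S).uliftYonedaEquiv.injective
  rw [eltMap, Equiv.apply_symm_apply, GrothendieckTopology.uliftYonedaEquiv_comp]
  have h' : (AlgSp.J S).uliftYonedaEquiv (eltMap o) = o.sec := Equiv.apply_symm_apply _ _
  exact (congrArg (g.hom.app (op o.base)) h').symm

include h𝒳 hM hqc hqs h in
/-- Good moduli spaces are universal for morphisms to schemes. -/
theorem existsUnique_factor_ofSch : ∃! g : M.obj ⟶ (yon S).obj Z, BasedFunctor.comp π (AlgSt.ofSpMap g) = ψ := by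
  have hs := surjective_of_isGoodModuli h𝒳 M hM π hqc hqs h
  have hsec : ∀ ξ, eltMap (ψ.obj ξ) = (yon S).map (ψ.obj ξ).sec.down := fun ξ => by
    apply (AlgSp.J S).uliftYonedaEquiv.injective
    rw [eltMap, Equiv.apply_symm_apply]
    exact ULift.ext _ _ (Category.id_comp _).symm
  obtain ⟨g, hg⟩ := exists_map_of_isGoodModuli h𝒳 M hM π hqc hqs h ψ
  refine ⟨g, functor_ext_ofSp _ _ fun ξ => ?_, fun g' hg' => ?_⟩
  · rw [hsec, ← Functor.map_comp]
    refine (eltMap_ofSpMap g (π.obj ξ)).trans ((hg ξ).trans (congrArg (yon S).map ?_))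
    simp only [sh, eqToHom_trans_assoc]
  · obtain ⟨T, p, hpe, hps⟩ := M.property.atlas
    let E₀ : EtOver M.obj := EtOver.mk p hpe
    have hcomp : ∀ g'' : M.obj ⟶ (yon S).obj Z,
        (∀ ξ, eltMap (π.obj ξ) ≫ g'' = (yon S).map (eqToHom (π.w_obj ξ) ≫ sh ψ ξ)) →
        ∀ k : T ⟶ Z, (yon S).map k = p ≫ g'' → Compat π ψ E₀ k := fun g'' hg'' k hk ξ α => by
      apply (yon S).map_injective
      rw [Functor.map_comp, hk, ← Category.assoc]
      refine (congrArg (· ≫ g'') (yon_baseOver π E₀ ξ α)).trans ?_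
      rw [Category.assoc, hg'' ξ, ← Functor.map_comp, eqToHom_trans_assoc, eqToHom_refl, Category.id_comp]
    subst hg'
    have hg'' : ∀ ξ, eltMap (π.obj ξ) ≫ g' = (yon S).map (eqToHom (π.w_obj ξ) ≫
        sh (BasedFunctor.comp π (AlgSt.ofSpMap g')) ξ) := fun ξ => by
      refine (eltMap_ofSpMap g' (π.obj ξ)).symm.trans ((hsec ξ).trans (congrArg (yon S).map ?_))
      simp only [sh, eqToHom_trans_assoc]
      exact (Category.id_comp _).symm
    obtain ⟨k, hk⟩ := (yon S).map_surjective (p ≫ g)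
    obtain ⟨k', hk'⟩ := (yon S).map_surjective (p ≫ g')
    have := epi_of_etale_surjective hpe hps
    rw [← cancel_epi p, ← hk, ← hk', Compat.unique π _ h𝒳 hs h.2 (hcomp g' hg'' k' hk') (hcomp g hg k hk)]

end Groth.Agent.StModLib
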