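import Groth.Agent.StModLib.RatClosed
import Groth.Agent.StModLib.UnivSch
import Groth.Agent.StModLib.SepPts
import Groth.Agent.AlgSpPts.Descent

/-!
# Points with the same image in a good moduli space
-/

set_option autoImplicit false
set_option linter.style.haveILetI false
set_option linter.unusedSectionVars false
set_option backward.isDefEq.respectTransparency false
set_option backward.isDefEq.respectTransparency.types false

universe u

open CategoryTheory CategoryTheory.Limits AlgebraicGeometry AlgSp Opposite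
open Groth.Agent.AlgStLib Groth.Agent.AlgSpLib Groth.Agent.FibBase

noncomputable section

namespace Groth.Agent.StModLib

variable {S : Scheme.{u}} {𝒳 ℬ : AlgSt.Cat S} {U : Over S}

local notation "K₀" => Scheme.fppfPrecoverage

/-- The map attached to a functor from a slice, read on the identity object. -/
theorem mapOfOver_eq {F : Sp S} (Φ : FibCat.overCat U ⥤ᵇ AlgSt.ofSp F) :
    mapOfOver Φ = (yon S).map (eqToHom (Φ.w_obj (Over.mk (𝟙 U))).symm) ≫ eltMap (Φ.obj (Over.mk (𝟙 U))) := by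
  rw [eltMap_obj_overCat, ← Category.assoc, ← Functor.map_comp]
  simp only [Over.mk_hom, eqToHom_trans_assoc, eqToHom_refl, Category.id_comp]
  exact ((congrArg (· ≫ mapOfOver Φ) ((yon S).map_id U)).trans (Category.id_comp _)).symm

/-- The map attached to the slice itself is the identity. -/
theorem mapOfOver_ofOverCat (U : Over S) : mapOfOver (AlgSt.ofOverCat U) = 𝟙 ((yon S).obj U) := by
  refine Eq.trans ?_ (mapOfOver_overOfMap (𝟙 ((yon S).obj U)))
  rw [mapOfOver_eq, mapOfOver_eq]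
  rfl

/-- Functors from a slice to a sheaf with the same map are equal. -/
theorem eq_of_mapOfOver_eq {F : Sp S} (Φ Ψ : FibCat.overCat U ⥤ᵇ AlgSt.ofSp F)
    (h : mapOfOver Φ = mapOfOver Ψ) : Φ = Ψ :=
  functor_ext_ofSp _ _ fun x => by
    rw [eltMap_obj_overCat, eltMap_obj_overCat, h, ← Category.assoc, ← Functor.map_comp, eqToHom_trans_assoc]

/-- The map to the product of two sheaves on objects. -/
def pairElt {A₁ A₂ : Sp S} (F₁ : ℬ ⥤ᵇ AlgSt.ofSp A₁) (F₂ : ℬ ⥤ᵇ AlgSt.ofSp A₂) (w : ℬ.obj) :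
    (yon S).obj (ℬ.p.obj w) ⟶ A₁ ⨯ A₂ :=
  prod.lift ((yon S).map (eqToHom (F₁.w_obj w).symm) ≫ eltMap (F₁.obj w))
    ((yon S).map (eqToHom (F₂.w_obj w).symm) ≫ eltMap (F₂.obj w))

theorem map_pairElt {A₁ A₂ : Sp S} (F₁ : ℬ ⥤ᵇ AlgSt.ofSp A₁) (F₂ : ℬ ⥤ᵇ AlgSt.ofSp A₂) {w' w : ℬ.obj}
    (φ : w' ⟶ w) : (yon S).map (ℬ.p.map φ) ≫ pairElt F₁ F₂ w = pairElt F₁ F₂ w' := by
  have key : ∀ {A : Sp S} (F : ℬ ⥤ᵇ AlgSt.ofSp A),
      (yon S).map (ℬ.p.map φ) ≫ (yon S).map (eqToHom (F.w_obj w).symm) ≫ eltMap (F.obj w) =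
        (yon S).map (eqToHom (F.w_obj w').symm) ≫ eltMap (F.obj w') := fun {A} F => by
    have e : (F.map φ).hom = eqToHom (F.w_obj w') ≫ ℬ.p.map φ ≫ eqToHom (F.w_obj w).symm := map_w F φ
    rw [← yon_map_eltMap (F.map φ), ← Category.assoc, ← Category.assoc, ← Functor.map_comp, ← Functor.map_comp, e]
    simp
  refine Limits.prod.hom_ext ?_ ?_
  · simp only [pairElt, Category.assoc, prod.lift_fst]
    exact key F₁
  · simp only [pairElt, Category.assoc, prod.lift_snd]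
    exact key F₂

/-- The functor to the product of two sheaves. -/
def pairSp {A₁ A₂ : Sp S} (F₁ : ℬ ⥤ᵇ AlgSt.ofSp A₁) (F₂ : ℬ ⥤ᵇ AlgSt.ofSp A₂) :
    ℬ ⥤ᵇ AlgSt.ofSp (A₁ ⨯ A₂) where
  toFunctor :=
    { obj := fun w => eltOfMap (pairElt F₁ F₂ w)
      map := fun {w' w} φ => ⟨ℬ.p.map φ, (map_sec_iff (o' := eltOfMap (pairElt F₁ F₂ w'))
        (o := eltOfMap (pairElt F₁ F₂ w)) (ℬ.p.map φ)).2 (by
          have e : ∀ x, eltMap (eltOfMap (pairElt F₁ F₂ x)) = pairElt F₁ F₂ x := fun x =>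
            Equiv.symm_apply_apply _ _
          rw [e, e]
          exact map_pairElt F₁ F₂ φ)⟩
      map_id := fun w => Stk.EltObj.hom_ext (ℬ.p.map_id w)
      map_comp := fun φ ψ => Stk.EltObj.hom_ext (ℬ.p.map_comp φ ψ) }
  w := rfl

theorem mapOfOver_comp_pairSp {A₁ A₂ : Sp S} (F₁ : ℬ ⥤ᵇ AlgSt.ofSp A₁) (F₂ : ℬ ⥤ᵇ AlgSt.ofSp A₂)
    (L : FibCat.overCat U ⥤ᵇ ℬ) :
    mapOfOver (BasedFunctor.comp L (pairSp F₁ F₂)) =
      prod.lift (mapOfOver (BasedFunctor.comp L F₁)) (mapOfOver (BasedFunctor.comp L F₂)) := by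
  rw [mapOfOver_eq, mapOfOver_eq, mapOfOver_eq]
  have e : eltMap ((BasedFunctor.comp L (pairSp F₁ F₂)).obj (Over.mk (𝟙 U))) =
      pairElt F₁ F₂ (L.obj (Over.mk (𝟙 U))) := Equiv.symm_apply_apply _ _
  rw [e]
  refine Limits.prod.hom_ext ?_ ?_
  · simp only [pairElt, Category.assoc, prod.lift_fst]
    erw [← Category.assoc, ← Functor.map_comp, eqToHom_trans]
    rfl
  · simp only [pairElt, Category.assoc, prod.lift_snd]
    erw [← Category.assoc, ← Functor.map_comp, eqToHom_trans]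
    rfl

/-- The point of a sheaf under a chart followed by a functor. -/
theorem spPt_map_ofChart {F : Sp S} (Θ : ℬ ⥤ᵇ AlgSt.ofSp F) (L : FibCat.overCat U ⥤ᵇ ℬ) (c : ↥U.left) :
    spPt (AlgSt.Points.map Θ (AlgSt.Points.ofChart L c)) =
      AlgSp.Points.ofPt (mapOfOver (BasedFunctor.comp L Θ)) c := by
  rw [ofChart_eq_map, ← pts_map_comp, pts_map_congr (isoOverOfMap _), spPt_map_overOfMap]
  show AlgSp.Points.map _ (AlgSp.Points.ofPt (𝟙 _) c) = _
  rw [AlgSp.Points.map_ofPt, Category.id_comp]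

/-- Sections whose charts have closures meeting in a category over the sheaf agree. -/
theorem eq_of_closure_inter {K : Type u} [Field K] {t : Spec (CommRingCat.of K) ⟶ S} {N : Sp S}
    (hN : IsAlgSpace N) (q : N ⟶ (yon S).obj (Over.mk t)) (Θ : ℬ ⥤ᵇ AlgSt.ofSp N)
    (L₁ L₂ : FibCat.overCat (Over.mk t) ⥤ᵇ ℬ)
    (hs₁ : mapOfOver (BasedFunctor.comp L₁ Θ) ≫ q = 𝟙 _)
    (hs₂ : mapOfOver (BasedFunctor.comp L₂ Θ) ≫ q = 𝟙 _)
    (hqc : ∀ (s : (yon S).obj (Over.mk t) ⟶ N), s ≫ q = 𝟙 _ → ∀ (D : Over S) (a : (yon S).obj D ⟶ N)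
      (ha : RepWith @Etale a), IsAffine D.left → CompactSpace ↥(ha.rep.pullback s).left)
    (c : ↥(Over.mk t).left)
    (hne : (closure {AlgSt.Points.ofChart L₁ c} ∩ closure {AlgSt.Points.ofChart L₂ c}).Nonempty) :
    mapOfOver (BasedFunctor.comp L₁ Θ) = mapOfOver (BasedFunctor.comp L₂ Θ) := by
  obtain ⟨b, hb₁, hb₂⟩ := hne
  have hcont : Continuous fun z => spPt (AlgSt.Points.map Θ z) :=
    (isHomeomorph_spPt hN).continuous.comp
      (continuous_pts_map (isFibGrpd_ofSp N) (isAlgStack_ofSp ⟨N, hN⟩).atlas Θ)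
  have key : ∀ L : FibCat.overCat (Over.mk t) ⥤ᵇ ℬ, mapOfOver (BasedFunctor.comp L Θ) ≫ q = 𝟙 _ →
      b ∈ closure {AlgSt.Points.ofChart L c} →
      spPt (AlgSt.Points.map Θ b) = AlgSp.Points.ofPt (mapOfOver (BasedFunctor.comp L Θ)) c := fun L hL hb => by
    have := hcont.closure_preimage_subset
      ({AlgSp.Points.ofPt (mapOfOver (BasedFunctor.comp L Θ)) c} : Set (AlgSp.Points N))
      (closure_mono (show {AlgSt.Points.ofChart L c} ⊆ (fun z => spPt (AlgSt.Points.map Θ z)) ⁻¹'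
        {AlgSp.Points.ofPt (mapOfOver (BasedFunctor.comp L Θ)) c} from
          Set.singleton_subset_iff.2 (spPt_map_ofChart Θ L c)) hb)
    rwa [Set.mem_preimage, (isClosed_ofPt_section hN q _ hL (hqc _ hL) c).closure_eq] at this
  exact eq_of_ofPt_eq_section hN q _ _ hs₁ hs₂ c ((key L₁ hs₁ hb₁).symm.trans (key L₂ hs₂ hb₂))

/-- Points with the same image have closures with a common point. -/
theorem closure_inter_nonempty_of_map_eq (h𝒳 : AlgSt.IsAlgStack K₀ 𝒳) (M : AlgSp.Space S) (hM : HasQcProd M.obj)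
    (π : 𝒳 ⥤ᵇ AlgSt.ofSp M.obj) (hqc : AlgSt.IsQuasiCompactMor K₀ π) (hqs : AlgSt.IsQuasiSeparatedMor π)
    (h : StMod.IsGoodModuli π) (a b : AlgSt.Points 𝒳) (he : AlgSt.Points.map π a = AlgSt.Points.map π b) :
    (closure {a} ∩ closure {b}).Nonempty := by
  by_contra hne
  obtain ⟨p, hpx⟩ := AlgSt.Points.mk_surjective (AlgSt.Points.map π a)
  let T := p.obj.base
  obtain ⟨hTa, hTf⟩ := isField_of_lies (T := T) p.lies
  haveI := hTa
  let g : (yon S).obj T ⟶ M.obj := eltMap p.obj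
  obtain ⟨hW, hgood⟩ := isGoodModuli_fibre h𝒳 M hM π hqc hqs h T g
  obtain ⟨z, hz⟩ := exists_fibre_pt M.obj p
  have hp := h𝒳.isStack.1
  obtain ⟨w₁, -, hw₁⟩ := exists_pts_fp hp (isFibGrpd_ofSp M.obj) (isFibGrpd_ofSp _) π (AlgSt.ofSpMap g) z a
    (hz.trans hpx)
  obtain ⟨w₂, -, hw₂⟩ := exists_pts_fp hp (isFibGrpd_ofSp M.obj) (isFibGrpd_ofSp _) π (AlgSt.ofSpMap g) z b
    ((hz.trans hpx).trans he)
  have hc := continuous_pts_map hp h𝒳.atlas (FibCat.fpSnd (AlgSt.ofSpMap g) π)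
  rcases eq_empty_of_disjoint_closed hW T hTf _ hgood _ _ (isClosed_closure.preimage hc) (isClosed_closure.preimage hc)
      ((Set.disjoint_iff_inter_eq_empty.2 (Set.not_nonempty_iff_eq_empty.1 hne)).preimage _) with e | e
  · exact Set.notMem_empty w₁ (e ▸ (show _ ∈ closure {a} from hw₁ ▸ subset_closure rfl))
  · exact Set.notMem_empty w₂ (e ▸ (show _ ∈ closure {b} from hw₂ ▸ subset_closure rfl))

/-- Over the base field, the images of two rational points coincide iff their closures meet. -/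
theorem comp_eq_iff_closure_inter {K : Type u} [Field K] {𝒳 : AlgSt.Cat (Spec (CommRingCat.of K))}
    (h𝒳 : AlgSt.IsAlgStack K₀ 𝒳) (M : AlgSp.Space (Spec (CommRingCat.of K))) (hM : HasQcProd M.obj)
    (π : 𝒳 ⥤ᵇ AlgSt.ofSp M.obj) (hqc : AlgSt.IsQuasiCompactMor K₀ π) (hqs : AlgSt.IsQuasiSeparatedMor π)
    (h : StMod.IsGoodModuli π)
    (x₁ x₂ : FibCat.overCat (Over.mk (𝟙 (Spec (CommRingCat.of K)))) ⥤ᵇ 𝒳)
    (c : ↥(Spec (CommRingCat.of K))) :
    BasedFunctor.comp x₁ π = BasedFunctor.comp x₂ π ↔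
      (closure {AlgSt.Points.ofChart x₁ c} ∩ closure {AlgSt.Points.ofChart x₂ c}).Nonempty := by
  constructor
  · intro heq
    refine closure_inter_nonempty_of_map_eq h𝒳 M hM π hqc hqs h _ _ ?_
    show AlgSt.Points.ofChart (BasedFunctor.comp x₁ π) c = AlgSt.Points.ofChart (BasedFunctor.comp x₂ π) c
    rw [heq]
  · intro hne
    refine eq_of_mapOfOver_eq _ _ ?_
    let q := (AlgSpPts.isTerminalYon (Spec (CommRingCat.of K))).from M.obj
    refine eq_of_closure_inter M.property q π x₁ x₂ ((AlgSpPts.isTerminalYon _).hom_ext _ _)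
      ((AlgSpPts.isTerminalYon _).hom_ext _ _) (fun s _ D a ha hD => ?_) c hne
    haveI : IsAffine (Over.mk (𝟙 (Spec (CommRingCat.of K)))).left :=
      inferInstanceAs (IsAffine (Spec (CommRingCat.of K)))
    exact (AlgSpPts.isQuasiCompactSp_yon_iff _).1 (hM D a hD (IsAlgSpace.yon_obj _)
      ((AlgSpPts.isQuasiCompactSp_yon_iff _).2 inferInstance) s _ _ (ha.rep.isPullback' s))

/-- The fibre over a field-valued point of the target, mapped to the base change to the field. -/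
theorem closure_inter_nonempty_fpLift {K : Type u} [Field K] {t : Spec (CommRingCat.of K) ⟶ S}
    (h𝒳 : AlgSt.IsAlgStack K₀ 𝒳) (τ : 𝒳 ⥤ᵇ AlgSt.ofSch (Over.mk (𝟙 S)))
    (G : AlgSt.ofSch (Over.mk t) ⥤ᵇ AlgSt.ofSch (Over.mk (𝟙 S)))
    (M : AlgSp.Space S) (hM : HasQcProd M.obj)
    (π : 𝒳 ⥤ᵇ AlgSt.ofSp M.obj) (hqc : AlgSt.IsQuasiCompactMor K₀ π) (hqs : AlgSt.IsQuasiSeparatedMor π)
    (h : StMod.IsGoodModuli π) (x₁ x₂ : FibCat.overCat (Over.mk t) ⥤ᵇ 𝒳)
    (e₁ : BasedFunctor.comp x₁ τ ≅ BasedFunctor.comp (AlgSt.ofOverCat (Over.mk t)) G)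
    (e₂ : BasedFunctor.comp x₂ τ ≅ BasedFunctor.comp (AlgSt.ofOverCat (Over.mk t)) G)
    (c : ↥(Over.mk t).left) (heq : BasedFunctor.comp x₁ π = BasedFunctor.comp x₂ π) :
    (closure {AlgSt.Points.ofChart (FibCat.fpLift x₁ (AlgSt.ofOverCat (Over.mk t)) e₁) c} ∩
      closure {AlgSt.Points.ofChart (FibCat.fpLift x₂ (AlgSt.ofOverCat (Over.mk t)) e₂) c}).Nonempty := by
  obtain ⟨hTa, hTf⟩ := isField_of_lies (T := Over.mk t) rfl
  haveI := hTa
  let y := mapOfOver (BasedFunctor.comp x₁ π)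
  obtain ⟨hV, hgood⟩ := isGoodModuli_fibre h𝒳 M hM π hqc hqs h (Over.mk t) y
  let Φ : FibCat.fp (AlgSt.ofSpMap y) π ⥤ᵇ FibCat.fp τ G :=
    FibCat.fpLift (FibCat.fpSnd _ _) (FibCat.fpFst _ _) (nonempty_iso_ofSch_self _ _).some
  have hTs := isAlgStack_ofSp (S := S) ⟨(yon S).obj (Over.mk t), IsAlgSpace.yon_obj _⟩
  have hSs := isAlgStack_ofSp (S := S) ⟨(yon S).obj (Over.mk (𝟙 S)), IsAlgSpace.yon_obj _⟩
  have hB := isAlgStack_fp h𝒳 hTs hSs.isStack hSs.diag τ G
  have hΦ := continuous_pts_map hB.isStack.1 hB.atlas Φ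
  let i₁ : BasedFunctor.comp (AlgSt.ofOverCat (Over.mk t)) (AlgSt.ofSpMap y) ≅ BasedFunctor.comp x₁ π :=
    (isoOverOfMap (BasedFunctor.comp x₁ π)).symm
  let i₂ : BasedFunctor.comp (AlgSt.ofOverCat (Over.mk t)) (AlgSt.ofSpMap y) ≅ BasedFunctor.comp x₂ π :=
    i₁ ≪≫ eqToIso heq
  have hpt : ∀ (x : FibCat.overCat (Over.mk t) ⥤ᵇ 𝒳)
      (i : BasedFunctor.comp (AlgSt.ofOverCat (Over.mk t)) (AlgSt.ofSpMap y) ≅ BasedFunctor.comp x π)
      (e : BasedFunctor.comp x τ ≅ BasedFunctor.comp (AlgSt.ofOverCat (Over.mk t)) G),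
      AlgSt.Points.map Φ (AlgSt.Points.ofChart (FibCat.fpLift (AlgSt.ofOverCat (Over.mk t)) x i) c) =
        AlgSt.Points.ofChart (FibCat.fpLift x (AlgSt.ofOverCat (Over.mk t)) e) c := fun x i e => by
    refine pts_eq_of_hom (p := AlgSt.FPt.map Φ
      { K := ↥((Over.mk t).left.residueField c), str := (Over.mk t).left.fromSpecResidueField c ≫ (Over.mk t).hom,
        obj := (FibCat.fpLift (AlgSt.ofOverCat (Over.mk t)) x i).obj _,
        lies := (FibCat.fpLift (AlgSt.ofOverCat (Over.mk t)) x i).w_obj _ })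
      (q := { K := ↥((Over.mk t).left.residueField c),
              str := (Over.mk t).left.fromSpecResidueField c ≫ (Over.mk t).hom,
              obj := (FibCat.fpLift x (AlgSt.ofOverCat (Over.mk t)) e).obj _,
              lies := (FibCat.fpLift x (AlgSt.ofOverCat (Over.mk t)) e).w_obj _ }) ?_
    let o₀ : (FibCat.overCat (Over.mk t) : AlgSt.Cat S).obj :=
      Over.mk (Over.homMk ((Over.mk t).left.fromSpecResidueField c) rfl :
        Over.mk ((Over.mk t).left.fromSpecResidueField c ≫ (Over.mk t).hom) ⟶ Over.mk t)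
    refine (fpIsoMk (F := τ) (G := G)
      (x := Φ.obj ((FibCat.fpLift (AlgSt.ofOverCat (Over.mk t)) x i).obj o₀))
      (y := (FibCat.fpLift x (AlgSt.ofOverCat (Over.mk t)) e).obj o₀)
      (Iso.refl _) (Iso.refl _) ?_).hom
    rw [Iso.refl_hom, Iso.refl_hom, CategoryTheory.Functor.map_id, CategoryTheory.Functor.map_id,
      Category.id_comp, Category.comp_id]
    refine Stk.EltObj.hom_ext ?_
    have key : ∀ (o : (FibCat.fp τ G).obj), ∃ h, o.obj.iso.hom.hom = eqToHom h := fun o => by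
      haveI := fp_iso_lift o
      refine ⟨(τ.w_obj _).trans (((FibCat.fpSnd τ G).w_obj o).symm.trans (G.w_obj _).symm), ?_⟩
      exact (IsHomLift.fac' (AlgSt.ofSch (Over.mk (𝟙 S))).p (𝟙 (𝒳.p.obj o.obj.fst)) o.obj.iso.hom).trans (by simp)
    obtain ⟨_, ha⟩ := key ((FibCat.fpLift x (AlgSt.ofOverCat (Over.mk t)) e).obj
      (Over.mk (Over.homMk ((Over.mk t).left.fromSpecResidueField c) rfl :
        Over.mk ((Over.mk t).left.fromSpecResidueField c ≫ (Over.mk t).hom) ⟶ Over.mk t)))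
    obtain ⟨_, hb⟩ := key (Φ.obj ((FibCat.fpLift (AlgSt.ofOverCat (Over.mk t)) x i).obj
      (Over.mk (Over.homMk ((Over.mk t).left.fromSpecResidueField c) rfl :
        Over.mk ((Over.mk t).left.fromSpecResidueField c ≫ (Over.mk t).hom) ⟶ Over.mk t))))
    exact ha.trans hb.symm
  let C : ∀ (_ : AlgSt.Points (FibCat.fp (AlgSt.ofSpMap y) π)), Set _ := fun w => closure {w}
  let w₁ := AlgSt.Points.ofChart (FibCat.fpLift (AlgSt.ofOverCat (Over.mk t)) x₁ i₁) c
  let w₂ := AlgSt.Points.ofChart (FibCat.fpLift (AlgSt.ofOverCat (Over.mk t)) x₂ i₂) c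
  obtain ⟨v, hv₁, hv₂⟩ : (C w₁ ∩ C w₂).Nonempty := by
    by_contra hne
    rcases eq_empty_of_disjoint_closed hV (Over.mk t) hTf _ hgood (C w₁) (C w₂) isClosed_closure isClosed_closure
        (Set.disjoint_iff_inter_eq_empty.2 (Set.not_nonempty_iff_eq_empty.1 hne)) with e | e
    · exact Set.notMem_empty w₁ (e ▸ subset_closure rfl)
    · exact Set.notMem_empty w₂ (e ▸ subset_closure rfl)
  have hmem : ∀ {w}, v ∈ closure {w} → AlgSt.Points.map Φ v ∈ closure {AlgSt.Points.map Φ w} := fun {w} hv => by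
    have := image_closure_subset_closure_image hΦ ⟨v, hv, rfl⟩
    rwa [Set.image_singleton] at this
  exact ⟨AlgSt.Points.map Φ v, hpt x₁ i₁ e₁ ▸ hmem hv₁, hpt x₂ i₂ e₂ ▸ hmem hv₂⟩

/-- Base change to the field: the images coincide when the closures meet. -/
theorem comp_eq_of_closure_inter {K : Type u} [Field K] {t : Spec (CommRingCat.of K) ⟶ S}
    (τ : 𝒳 ⥤ᵇ AlgSt.ofSch (Over.mk (𝟙 S))) (G : AlgSt.ofSch (Over.mk t) ⥤ᵇ AlgSt.ofSch (Over.mk (𝟙 S)))
    (M : AlgSp.Space S) (hM : HasQcProd M.obj) (π : 𝒳 ⥤ᵇ AlgSt.ofSp M.obj)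
    (x₁ x₂ : FibCat.overCat (Over.mk t) ⥤ᵇ 𝒳)
    (e₁ : BasedFunctor.comp x₁ τ ≅ BasedFunctor.comp (AlgSt.ofOverCat (Over.mk t)) G)
    (e₂ : BasedFunctor.comp x₂ τ ≅ BasedFunctor.comp (AlgSt.ofOverCat (Over.mk t)) G)
    (c : ↥(Over.mk t).left)
    (hne : (closure {AlgSt.Points.ofChart (FibCat.fpLift x₁ (AlgSt.ofOverCat (Over.mk t)) e₁) c} ∩
      closure {AlgSt.Points.ofChart (FibCat.fpLift x₂ (AlgSt.ofOverCat (Over.mk t)) e₂) c}).Nonempty) :
    BasedFunctor.comp x₁ π = BasedFunctor.comp x₂ π := by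
  haveI : IsAffine (Over.mk t).left := inferInstanceAs (IsAffine (Spec (CommRingCat.of K)))
  let Θ := pairSp (BasedFunctor.comp (FibCat.fpFst τ G) π) (FibCat.fpSnd τ G)
  have hΘ : ∀ (x : FibCat.overCat (Over.mk t) ⥤ᵇ 𝒳)
      (e : BasedFunctor.comp x τ ≅ BasedFunctor.comp (AlgSt.ofOverCat (Over.mk t)) G),
      mapOfOver (BasedFunctor.comp (FibCat.fpLift x (AlgSt.ofOverCat (Over.mk t)) e) Θ) =
        prod.lift (mapOfOver (BasedFunctor.comp x π)) (𝟙 ((yon S).obj (Over.mk t))) := fun x e => by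
    rw [mapOfOver_comp_pairSp]
    exact congrArg₂ prod.lift rfl (mapOfOver_ofOverCat _)
  have hN : IsAlgSpace (M.obj ⨯ (yon S).obj (Over.mk t)) :=
    AlgSpPts.isAlgSpace_prod M.property (IsAlgSpace.yon_obj _)
  refine eq_of_mapOfOver_eq _ _ ?_
  have h := eq_of_closure_inter hN prod.snd Θ _ _ ((congrArg (· ≫ prod.snd) (hΘ x₁ e₁)).trans (prod.lift_snd _ _))
    ((congrArg (· ≫ prod.snd) (hΘ x₂ e₂)).trans (prod.lift_snd _ _)) (fun s hs D a ha hD => ?_) c hne
  · rw [hΘ x₁ e₁, hΘ x₂ e₂] at h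
    have := congrArg (· ≫ prod.fst) h
    simpa only [prod.lift_fst] using this
  · haveI : IsSeparated (Over.mk t).hom := inferInstanceAs (IsSeparated t)
    let a₁ := a ≫ prod.fst
    obtain ⟨a₂, ha₂⟩ := (yon S).map_surjective (a ≫ prod.snd)
    have hr : Representable a₁ := M.property.representable_from_yon a₁
    let Q := hr.pullback (s ≫ prod.fst)
    let f : Q ⟶ D := hr.fst' (s ≫ prod.fst)
    let g : Q ⟶ Over.mk t := hr.snd (s ≫ prod.fst)
    haveI : CompactSpace ↥Q.left := (AlgSpPts.isQuasiCompactSp_yon_iff _).1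
      (hM D a₁ hD (IsAlgSpace.yon_obj _) ((AlgSpPts.isQuasiCompactSp_yon_iff _).2 inferInstance) _ _ _
        (hr.isPullback' (s ≫ prod.fst)))
    let ι : equalizer (f ≫ a₂) g ⟶ Q := equalizer.ι (f ≫ a₂) g
    haveI : CompactSpace ↥(equalizer (f ≫ a₂) g).left := QuasiCompact.compactSpace_of_compactSpace ι.left
    have hs' : ∀ {Z : Sp S} (k : Z ⟶ (yon S).obj (Over.mk t)), (k ≫ s) ≫ prod.snd = k := fun k => by
      rw [Category.assoc, hs, Category.comp_id]
    have hw : (yon S).map (ι ≫ f) ≫ a = (yon S).map (ι ≫ g) ≫ s := by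
      refine Limits.prod.hom_ext ?_ ?_
      · simp only [Functor.map_comp, Category.assoc]
        refine congrArg ((yon S).map ι ≫ ·) ?_
        rw [Functor.relativelyRepresentable.map_fst']
        exact hr.w _
      · rw [hs', Category.assoc, ← ha₂, ← Functor.map_comp, Category.assoc, equalizer.condition]
    let A := ha.rep.pullback s
    let n : equalizer (f ≫ a₂) g ⟶ A := ha.rep.lift' (ι ≫ f) (ι ≫ g) hw
    let l : A ⟶ D := ha.rep.fst' s
    let r : A ⟶ Over.mk t := ha.rep.snd s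
    have hlr : (yon S).map l ≫ a = (yon S).map r ≫ s := by
      rw [Functor.relativelyRepresentable.map_fst']
      exact ha.rep.w s
    let m₀ : A ⟶ Q := hr.lift' l r (by
      show _ ≫ a ≫ prod.fst = _
      rw [← Category.assoc, hlr, Category.assoc])
    have hm₀ : m₀ ≫ f ≫ a₂ = m₀ ≫ g := by
      rw [← Category.assoc, hr.lift'_fst, hr.lift'_snd]
      apply (yon S).map_injective
      rw [Functor.map_comp, ha₂, ← Category.assoc, hlr, hs']
    let m : A ⟶ equalizer (f ≫ a₂) g := equalizer.lift m₀ hm₀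
    have hmn : m ≫ n = 𝟙 A := by
      refine ha.rep.hom_ext' ?_ ?_
      · simp only [n, Category.assoc, Functor.relativelyRepresentable.lift'_fst, Category.id_comp]
        show equalizer.lift m₀ hm₀ ≫ ι ≫ f = _
        rw [← Category.assoc, equalizer.lift_ι, hr.lift'_fst]
      · simp only [n, Category.assoc, Functor.relativelyRepresentable.lift'_snd, Category.id_comp]
        show equalizer.lift m₀ hm₀ ≫ ι ≫ g = _
        rw [← Category.assoc, equalizer.lift_ι, hr.lift'_snd]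
    refine Function.Surjective.compactSpace (f := n.left) n.left.continuous fun v => ⟨m.left v, ?_⟩
    rw [← Scheme.Hom.comp_apply, ← Over.comp_left, hmn]
    rfl

end Groth.Agent.StModLib
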