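import Groth.Agent.StModLib.GoodClosed
import Groth.Agent.ConstQuot.UnivHomeo

/-!
# Tame moduli maps are universal homeomorphisms
-/

set_option autoImplicit false
set_option linter.style.haveILetI false
set_option backward.isDefEq.respectTransparency false
set_option backward.isDefEq.respectTransparency.types false

universe u

open CategoryTheory CategoryTheory.Functor CategoryTheory.Limits AlgebraicGeometry AlgSp Opposite

noncomputable section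

namespace Groth.Agent.StModLib

open Groth.Agent.FibBase Groth.Agent.AlgSpLib Groth.Agent.AlgStLib Groth.Agent.QuotLib Groth.Agent.ConstQuot

variable {S : Scheme.{u}}

local notation "K₀" => Scheme.fppfPrecoverage

/-- Bijectivity on geometric points makes every base change injective on points. -/
theorem injective_fpFst_of_geomPtBij' {𝒳 𝒵 : AlgSt.Cat S} (h𝒳 : FibCat.IsFibGrpd 𝒳.p) (h𝒵 : FibCat.IsFibGrpd 𝒵.p)
    {M : Sp S} (π : 𝒳 ⥤ᵇ AlgSt.ofSp M) (hbij : AlgSt.GeomPtBij π) (g : 𝒵 ⥤ᵇ AlgSt.ofSp M) :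
    Function.Injective (AlgSt.Points.map (FibCat.fpFst g π)) := by
  haveI : (AlgSt.ofSp M).p.Faithful := faithful_forget M.obj
  have hfp : FibCat.IsFibGrpd (FibCat.fp g π).p := fp_isFibGrpd h𝒵 h𝒳 (Stk.isFibGrpd_ofPsh _)
  intro w w' e
  obtain ⟨p, rfl⟩ := AlgSt.Points.mk_surjective w
  obtain ⟨p', rfl⟩ := AlgSt.Points.mk_surjective w'
  obtain ⟨r, a, b, -⟩ := (pts_mk_eq_iff h𝒵).1 e
  let Ω := AlgebraicClosure r.K
  let t : Spec (CommRingCat.of Ω) ⟶ S := Spec.map (CommRingCat.ofHom (algebraMap r.K Ω)) ≫ r.str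
  let m : Over.mk t ⟶ Over.mk r.str := Over.homMk (Spec.map (CommRingCat.ofHom (algebraMap r.K Ω))) rfl
  obtain ⟨r₁, φ, hr₁, -⟩ := exists_pullback_fpt h𝒵 r m
  let r' : AlgSt.FPt 𝒵 := { K := Ω, str := t, obj := r₁.obj, lies := hr₁ }
  obtain ⟨o, ho, χ, j, hj⟩ := exists_lift_fpt hfp h𝒵 (FibCat.fpFst g π) p r' (φ ≫ a)
  obtain ⟨o', ho', χ', j', hj'⟩ := exists_lift_fpt hfp h𝒵 (FibCat.fpFst g π) p' r' (φ ≫ b)
  let i : o.obj.fst ≅ o'.obj.fst := j.symm ≪≫ j'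
  haveI hj₁ : 𝒵.p.IsHomLift (𝟙 (Over.mk t)) j.inv := IsHomLift.lift_id_inv 𝒵.p (Over.mk t) j
  haveI hj₂ : 𝒵.p.IsHomLift (𝟙 (Over.mk t)) j'.hom := hj'
  haveI hi : 𝒵.p.IsHomLift (𝟙 (Over.mk t)) i.hom := inferInstanceAs (𝒵.p.IsHomLift (𝟙 _) (j.inv ≫ j'.hom))
  let A : 𝒳.p.Fiber (Over.mk t) := ⟨o.obj.snd, (snd_proj o).trans ho⟩
  let B : 𝒳.p.Fiber (Over.mk t) := ⟨o'.obj.snd, (snd_proj o').trans ho'⟩
  have hk : (AlgSt.ofSp M).p.IsHomLift (𝟙 (Over.mk t)) (o.obj.iso.inv ≫ g.map i.hom ≫ o'.obj.iso.hom) := by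
    have e₁ : (AlgSt.ofSp M).p.IsHomLift (𝟙 (Over.mk t)) o.obj.iso.hom := by
      rw [← show 𝒵.p.obj o.obj.fst = Over.mk t from ho]
      exact o.property
    have e₂ : (AlgSt.ofSp M).p.IsHomLift (𝟙 (Over.mk t)) o'.obj.iso.hom := by
      rw [← show 𝒵.p.obj o'.obj.fst = Over.mk t from ho']
      exact o'.property
    haveI := IsHomLift.lift_id_inv (AlgSt.ofSp M).p (Over.mk t) o.obj.iso
    haveI := g.preserves_isHomLift (𝟙 (Over.mk t)) i.hom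
    infer_instance
  obtain ⟨E⟩ := (hbij Ω t).2 A B (fibSec_eq_of_hom π A B _ hk)
  let bs : o.obj.snd ≅ o'.obj.snd := ofFiberIso E
  have hb : 𝒳.p.IsHomLift (𝟙 (Over.mk t)) bs.hom := E.hom.2
  let I₀ : o ≅ o' := fpIsoMk i bs (fp_w i.hom bs.hom (by
    rw [IsHomLift.fac' 𝒳.p (𝟙 (Over.mk t)) bs.hom, IsHomLift.fac' 𝒵.p (𝟙 (Over.mk t)) i.hom]
    simp))
  exact AlgSt.Points.sound ⟨{ K := Ω, str := t, obj := o, lies := ho }, χ, I₀.hom ≫ χ', trivial⟩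

/-- A good moduli morphism bijective on geometric points is a universal homeomorphism. -/
theorem isUnivHomeo_of_isGoodModuli {𝒳 : AlgSt.Cat S} (h𝒳 : AlgSt.IsAlgStack K₀ 𝒳) (M : AlgSp.Space S)
    (hM : HasQcProd M.obj) (π : 𝒳 ⥤ᵇ AlgSt.ofSp M.obj) (hqc : AlgSt.IsQuasiCompactMor K₀ π)
    (hqs : AlgSt.IsQuasiSeparatedMor π) (h : StMod.IsGoodModuli π) (ht : AlgSt.GeomPtBij π) :
    AlgSt.IsUnivHomeo K₀ π := by
  intro 𝒵 h𝒵 g
  exact isHomeomorph_iff_continuous_isClosedMap_bijective.2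
    ⟨continuous_pts_map h𝒵.isStack.1 h𝒵.atlas _, isUnivClosed_of_isGoodModuli h𝒳 M hM π hqc hqs h 𝒵 h𝒵 g,
      injective_fpFst_of_geomPtBij' h𝒳.isStack.1 h𝒵.isStack.1 π ht g,
      pts_surjective_fpFst h𝒳.isStack.1 (isFibGrpd_ofSp M.obj) h𝒵.isStack.1 g
        (surjective_of_isGoodModuli h𝒳 M hM π hqc hqs h)⟩

end Groth.Agent.StModLib
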