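import Groth.Agent.StModLib.GoodClosed
import Groth.Agent.StModLib.ExactCore

/-!
# Connectedness of fibres of good moduli morphisms
-/

set_option autoImplicit false
set_option linter.style.haveILetI false
set_option linter.unusedSectionVars false
set_option backward.isDefEq.respectTransparency false
set_option backward.isDefEq.respectTransparency.types false

universe u

open CategoryTheory CategoryTheory.Limits AlgebraicGeometry AlgSp Opposite
open Groth.Agent.AlgStLib Groth.Agent.AlgSpLib Groth.Agent.FibBase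

noncomputable section

namespace Groth.Agent.StModLib

variable {S : Scheme.{u}} {𝒳 𝒲 : AlgSt.Cat S}

local notation "K₀" => Scheme.fppfPrecoverage

/-- The map from the scheme of an object to the points of the category. -/
theorem exists_objPt (hw : FibCat.IsFibGrpd 𝒲.p) (hA : AlgSt.HasAtlas (LocP @Smooth) 𝒲) (w : 𝒲.obj) :
    ∃ c : StMod.sch 𝒲 w → AlgSt.Points 𝒲, Continuous c ∧ ∀ (q : AlgSt.FPt 𝒲) (φ : q.obj ⟶ w),
      c (StMod.bmap 𝒲 φ ((eqToHom q.lies.symm).left (IsLocalRing.closedPoint q.K))) = AlgSt.Points.mk q := by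
  obtain ⟨G, e, he⟩ := exists_overCat_obj hw w (U := 𝒲.p.obj w) rfl
  refine ⟨AlgSt.Points.ofChart G, continuous_ofChart hw hA G, fun q φ => ?_⟩
  let m : Over.mk q.str ⟶ 𝒲.p.obj w := eqToHom q.lies.symm ≫ 𝒲.p.map φ
  let q₀ : AlgSt.FPt (FibCat.overCat (𝒲.p.obj w) : AlgSt.Cat S) :=
    { K := q.K, str := q.str, obj := Over.mk m, lies := rfl }
  have h₀ : schPt q₀ = StMod.bmap 𝒲 φ ((eqToHom q.lies.symm).left (IsLocalRing.closedPoint q.K)) := by
    show (𝟙 _ ≫ m.left) _ = _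
    rw [Category.id_comp]
    rfl
  obtain ⟨t, ht⟩ := ptAt_surjective _ (AlgSt.Points.mk q₀)
  have ht' : t = schPt q₀ := by
    have := congrArg (toSch (𝒲.p.obj w)) ht
    rwa [toSch_ptAt] at this
  rw [← h₀, ← ht', ofChart_eq_map, ht]
  let ψ : G.obj q₀.obj ⟶ w := G.map (Over.homMk m (Category.comp_id _) : q₀.obj ⟶ Over.mk (𝟙 _)) ≫ e.hom
  have hψ : 𝒲.p.map ψ = eqToHom (G.w_obj q₀.obj) ≫ m := by
    haveI := he
    rw [Functor.map_comp, map_w G, IsHomLift.fac' 𝒲.p (𝟙 (𝒲.p.obj w)) e.hom]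
    simp
    rfl
  obtain ⟨χ, -, -⟩ := existsUnique_lift hw φ ψ (eqToHom ((G.w_obj q₀.obj).trans q.lies.symm))
    (by rw [hψ]; simp [m])
  exact pts_eq_of_hom (p := q₀.map G) (q := q) χ

/-- A surjective unit over the spectrum of a field leaves no room for open and closed parts. -/
theorem eq_empty_or_univ_of_surjective_unitSect (hw : FibCat.IsFibGrpd 𝒲.p)
    (hA : AlgSt.HasAtlas (LocP @Smooth) 𝒲) (V : Over S) (hV : IsField Γ(V.left, ⊤)) (σ : 𝒲 ⥤ᵇ AlgSt.ofSch V)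
    (hun : Function.Surjective (StMod.unitSect σ (StMod.etaOf (idEt V))))
    (C : Set (AlgSt.Points 𝒲)) (hC : IsClopen C) : C = ∅ ∨ C = Set.univ := by
  choose c hc hcq using exists_objPt hw hA
  have hnat : ∀ {w' w : 𝒲.obj} (ψ : w' ⟶ w) (r : StMod.sch 𝒲 w'), c w (StMod.bmap 𝒲 ψ r) = c w' r :=
    fun {w' w} ψ r => by
      obtain ⟨q, φ, rfl⟩ := exists_fpt_over hw w' r
      rw [hcq w' q φ, ← Scheme.Hom.comp_apply, ← StMod.bmap_comp, hcq w q (φ ≫ ψ)]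
  let W : ∀ w, (StMod.sch 𝒲 w).Opens := fun w => ⟨c w ⁻¹' C, hC.2.preimage (hc w)⟩
  choose t ht htu using fun w => existsUnique_zeroExt hw (StMod.OQ (𝒳 := 𝒲)).property (W w) (hC.1.preimage (hc w))
    (fun y _ _ => (1 : Γ(StMod.sch 𝒲 y, ⊤))) (fun y y' k φ _ => map_one (StMod.bmap 𝒲 k).appTop.hom)
  have hcomp : ∀ {w' w : 𝒲.obj} (ψ : w' ⟶ w), (StMod.O 𝒲).mapTop ψ (t w) = t w' := fun {w' w} ψ => by
    refine htu w' _ fun y φ => ⟨fun h => ?_, fun h => ?_⟩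
    · refine (StMod.Mod.mapTop_comp (StMod.O 𝒲) φ ψ (t w)).symm.trans ((ht w y (φ ≫ ψ)).1 ?_)
      rintro _ ⟨r, rfl⟩
      show c w _ ∈ C
      rw [hnat, ← hnat φ r]
      exact h ⟨r, rfl⟩
    · refine (StMod.Mod.mapTop_comp (StMod.O 𝒲) φ ψ (t w)).symm.trans ((ht w y (φ ≫ ψ)).2 ?_)
      rintro _ ⟨r, rfl⟩
      show c w _ ∉ C
      rw [hnat, ← hnat φ r]
      exact h ⟨r, rfl⟩
  let s : StMod.Mod.RelSect σ (StMod.O 𝒲) (StMod.etaOf (idEt V)) := ⟨fun w _ => t w, fun _ _ ψ _ => hcomp ψ⟩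
  obtain ⟨a, ha⟩ := hun s
  have key : ∀ (q : AlgSt.FPt 𝒲) (z : Γ(StMod.sch 𝒲 q.obj, ⊤)), t q.obj = z →
      (AlgSt.Points.mk q ∈ C → z = 1) ∧ (AlgSt.Points.mk q ∉ C → z = 0) := fun q z hz => by
    have hpt : ∀ r : StMod.sch 𝒲 q.obj, c q.obj (StMod.bmap 𝒲 (𝟙 q.obj) r) = AlgSt.Points.mk q := fun r => by
      have e : r = (eqToHom q.lies.symm).left (IsLocalRing.closedPoint q.K) := by
        haveI : Subsingleton ↥(Over.mk q.str).left := inferInstanceAs (Subsingleton (PrimeSpectrum q.K))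
        have hs : Function.Injective ((eqToHom q.lies).left : StMod.sch 𝒲 q.obj → (Over.mk q.str).left) :=
          (Scheme.homeoOfIso ((Over.forget S).mapIso (eqToIso q.lies))).injective
        exact hs (Subsingleton.elim _ _)
      rw [e]
      exact hcq q.obj q (𝟙 _)
    subst hz
    refine ⟨fun h => ?_, fun h => ?_⟩
    · refine (StMod.Mod.mapTop_id (StMod.O 𝒲) q.obj (t q.obj)).symm.trans ((ht q.obj q.obj (𝟙 _)).1 ?_)
      rintro _ ⟨r, rfl⟩
      show c _ _ ∈ C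
      rw [hpt]
      exact h
    · refine (StMod.Mod.mapTop_id (StMod.O 𝒲) q.obj (t q.obj)).symm.trans ((ht q.obj q.obj (𝟙 _)).2 ?_)
      rintro _ ⟨r, rfl⟩
      show c _ _ ∉ C
      rw [hpt]
      exact h
  have hne : ∀ q : AlgSt.FPt 𝒲, (0 : Γ(StMod.sch 𝒲 q.obj, ⊤)) ≠ 1 := fun q h => by
    haveI : Subsingleton Γ(StMod.sch 𝒲 q.obj, ⊤) := subsingleton_of_zero_eq_one h
    let x := (eqToHom q.lies.symm).left (IsLocalRing.closedPoint q.K)
    have hx : x ∈ (StMod.sch 𝒲 q.obj).basicOpen (1 : Γ(StMod.sch 𝒲 q.obj, ⊤)) := by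
      rw [Scheme.basicOpen_of_isUnit _ isUnit_one]
      trivial
    rw [Subsingleton.elim (1 : Γ(StMod.sch 𝒲 q.obj, ⊤)) 0, Scheme.basicOpen_zero] at hx
    exact hx
  have hval : ∀ q : AlgSt.FPt 𝒲, ∃ β : σ.obj q.obj ⟶ StMod.etaOf (idEt V),
      t q.obj = (StMod.baseOver σ q.obj β).left.appTop a := fun q => by
    obtain ⟨β⟩ := exists_hom_idEt (σ.obj q.obj)
    exact ⟨β, (congrArg (fun s' : StMod.Mod.RelSect σ (StMod.O 𝒲) _ => s'.1 q.obj β) ha).symm⟩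
  by_cases h0 : a = 0
  · left
    refine Set.eq_empty_iff_forall_notMem.2 fun x hx => ?_
    obtain ⟨q, rfl⟩ := AlgSt.Points.mk_surjective x
    obtain ⟨β, hβ⟩ := hval q
    exact hne q ((by rw [hβ, h0, map_zero] : t q.obj = 0).symm.trans ((key q _ rfl).1 hx))
  · right
    refine Set.eq_univ_of_forall fun x => ?_
    obtain ⟨q, rfl⟩ := AlgSt.Points.mk_surjective x
    obtain ⟨β, hβ⟩ := hval q
    by_contra hx
    have hu : IsUnit (show Γ(StMod.sch 𝒲 q.obj, ⊤) from t q.obj) := by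
      show IsUnit (show Γ(StMod.sch 𝒲 q.obj, ⊤) from t q.obj)
      rw [hβ]
      obtain ⟨b, hb⟩ := hV.mul_inv_cancel h0
      exact (IsUnit.of_mul_eq_one b hb).map _
    rw [(key q _ rfl).2 hx] at hu
    exact hne q (isUnit_zero_iff.1 hu)

variable (h𝒳 : AlgSt.IsAlgStack K₀ 𝒳) (V : Over S) [IsAffine V.left] (hV : IsField Γ(V.left, ⊤))
  (π : 𝒳 ⥤ᵇ AlgSt.ofSch V) (h : StMod.IsGoodModuli π)

include h𝒳 hV h in
/-- A closed set in the fibre over a field is not a union of two disjoint nonempty closed sets. -/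
theorem eq_empty_of_disjoint_closed (C₁ C₂ : Set (AlgSt.Points 𝒳)) (h₁ : IsClosed C₁) (h₂ : IsClosed C₂)
    (hd₁₂ : Disjoint C₁ C₂) : C₁ = ∅ ∨ C₂ = ∅ := by
  obtain ⟨Q, hQ, hQC, -⟩ := RedSub.exists_reduced_closedSubstack h𝒳 (C₁ ∪ C₂) (h₁.union h₂)
  let ι := AlgSt.subIncl 𝒳 Q
  have hw : FibCat.IsFibGrpd (AlgSt.fullSub 𝒳 Q).p := hQ.2.1.isStack.1
  have hp := h𝒳.isStack.1
  have hp' : FibCat.IsFibGrpd (AlgSt.ofSch V).p := isFibGrpd_ofSp _
  obtain ⟨x₀, ⟨P⟩, hd⟩ := exists_atlasObj h𝒳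
  haveI : IsAffine (StMod.sch (AlgSt.ofSch V) (StMod.etaOf (idEt V))) := ‹IsAffine V.left›
  have hun : Function.Surjective (StMod.unitSect (BasedFunctor.comp ι π) (StMod.etaOf (idEt V))) :=
    surjective_unitSect_comp_closed π hp hp' (etObj_etaOf (idEt V) ‹IsAffine V.left›) hd P ι hw hQ.2.2
      (fun A A' q hq => h.1 q hq (idEt V) ‹IsAffine V.left›) (h.2 (idEt V)).2
  have hci : Continuous (AlgSt.Points.map ι) := continuous_pts_map hp h𝒳.atlas ι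
  have hdis : AlgSt.Points.map ι ⁻¹' C₁ = (AlgSt.Points.map ι ⁻¹' C₂)ᶜ := by
    ext x
    have hx : AlgSt.Points.map ι x ∈ C₁ ∪ C₂ := hQC ▸ ⟨x, rfl⟩
    exact ⟨fun hx₁ hx₂ => hd₁₂.ne_of_mem hx₁ hx₂ rfl, fun hx₂ => hx.resolve_right hx₂⟩
  have hclo : IsClopen (AlgSt.Points.map ι ⁻¹' C₁) :=
    ⟨h₁.preimage hci, by rw [hdis]; exact (h₂.preimage hci).isOpen_compl⟩
  rcases eq_empty_or_univ_of_surjective_unitSect hw hQ.2.1.atlas V hV _ hun _ hclo with he | he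
  · left
    refine Set.eq_empty_iff_forall_notMem.2 fun x hx => ?_
    obtain ⟨x', rfl⟩ : x ∈ Set.range (AlgSt.Points.map ι) := hQC.symm ▸ Or.inl hx
    exact (he ▸ hx : x' ∈ (∅ : Set _))
  · right
    refine Set.eq_empty_iff_forall_notMem.2 fun x hx => ?_
    obtain ⟨x', rfl⟩ : x ∈ Set.range (AlgSt.Points.map ι) := hQC.symm ▸ Or.inr hx
    have : x' ∈ AlgSt.Points.map ι ⁻¹' C₁ := he.symm ▸ trivial
    exact hd₁₂.ne_of_mem this hx rfl

include h𝒳 hV h in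
/-- The fibre over a field is connected. -/
theorem connectedSpace_points_of_isGoodModuli (hne : Nonempty (AlgSt.Points 𝒳)) :
    ConnectedSpace (AlgSt.Points 𝒳) := by
  refine connectedSpace_iff_clopen.2 ⟨hne, fun C hC => ?_⟩
  rcases eq_empty_of_disjoint_closed h𝒳 V hV π h C Cᶜ hC.1 hC.compl.1 disjoint_compl_right with he | he
  · exact Or.inl he
  · exact Or.inr (Set.compl_empty_iff.1 he)

/-- The fibre of a good moduli morphism over a field-valued point. -/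
theorem isGoodModuli_fibre (h𝒳 : AlgSt.IsAlgStack K₀ 𝒳) (M : AlgSp.Space S) (hM : HasQcProd M.obj)
    (π : 𝒳 ⥤ᵇ AlgSt.ofSp M.obj) (hqc : AlgSt.IsQuasiCompactMor K₀ π) (hqs : AlgSt.IsQuasiSeparatedMor π)
    (h : StMod.IsGoodModuli π) (T : Over S) (g : (yon S).obj T ⟶ M.obj) :
    AlgSt.IsAlgStack K₀ (FibCat.fp (AlgSt.ofSpMap g) π) ∧ StMod.IsGoodModuli (FibCat.fpFst (AlgSt.ofSpMap g) π) := by
  let M' : AlgSp.Space S := ⟨(yon S).obj T, IsAlgSpace.yon_obj T⟩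
  have hMs := isAlgStack_ofSp M
  exact ⟨isAlgStack_fp (isAlgStack_ofSp M') h𝒳 hMs.isStack hMs.diag _ _,
    isCohAffine_fpFst h𝒳 M M' hM g π hqc hqs h.1, unitIsIso_fpFst h𝒳 M M' hM g π hqc hqs h⟩

theorem isField_of_lies {T : Over S} {K : Type u} [Field K] {t : Spec (CommRingCat.of K) ⟶ S}
    (e : T = Over.mk t) : IsAffine T.left ∧ IsField Γ(T.left, ⊤) := by
  subst e
  exact ⟨inferInstanceAs (IsAffine (Spec (CommRingCat.of K))),
    MulEquiv.isField (Field.toIsField K) (Scheme.ΓSpecIso (CommRingCat.of K)).commRingCatIsoToRingEquiv.toMulEquiv⟩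

/-- Closed points with the same image coincide. -/
theorem eq_of_closed_points (h𝒳 : AlgSt.IsAlgStack K₀ 𝒳) (M : AlgSp.Space S) (hM : HasQcProd M.obj)
    (π : 𝒳 ⥤ᵇ AlgSt.ofSp M.obj) (hqc : AlgSt.IsQuasiCompactMor K₀ π) (hqs : AlgSt.IsQuasiSeparatedMor π)
    (h : StMod.IsGoodModuli π) (x₁ x₂ : AlgSt.Points 𝒳) (h₁ : IsClosed ({x₁} : Set (AlgSt.Points 𝒳)))
    (h₂ : IsClosed ({x₂} : Set (AlgSt.Points 𝒳))) (he : AlgSt.Points.map π x₁ = AlgSt.Points.map π x₂) :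
    x₁ = x₂ := by
  by_contra hne
  obtain ⟨p, hpx⟩ := AlgSt.Points.mk_surjective (AlgSt.Points.map π x₁)
  let T := p.obj.base
  let g : (yon S).obj T ⟶ M.obj := eltMap p.obj
  have hT : T = Over.mk p.str := p.lies
  obtain ⟨hTa, hTf⟩ := isField_of_lies hT
  haveI := hTa
  obtain ⟨hW, hgood⟩ := isGoodModuli_fibre h𝒳 M hM π hqc hqs h T g
  let η := StMod.etaOf (idEt T)
  let z : AlgSt.Points (AlgSt.ofSp ((yon S).obj T)) :=
    AlgSt.Points.mk { K := p.K, str := p.str, obj := η, lies := hT }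
  have hsec : M.obj.obj.map (𝟙 T : T ⟶ T).op p.obj.sec = ((AlgSt.ofSpMap g).obj η).sec := by
    refine (map_sec_iff (o' := (AlgSt.ofSpMap g).obj η) (o := p.obj) (𝟙 T)).2 ?_
    refine ((congrArg (· ≫ eltMap p.obj) ((yon S).map_id T)).trans (Category.id_comp _)).trans ?_
    apply (AlgSp.J S).uliftYonedaEquiv.injective
    have e2 : (AlgSp.J S).uliftYonedaEquiv (eltMap ((AlgSt.ofSpMap g).obj η)) =
        (AlgSp.J S).uliftYonedaEquiv (𝟙 ((yon S).obj T) ≫ g) := by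
      rw [eltMap, Equiv.apply_symm_apply]
      rfl
    refine Eq.trans ?_ e2.symm
    rw [Category.id_comp]
  let m₀ : (AlgSt.ofSpMap g).obj η ⟶ p.obj := ⟨𝟙 T, hsec⟩
  have hz : AlgSt.Points.map (AlgSt.ofSpMap g) z = AlgSt.Points.map π x₁ :=
    (pts_eq_of_hom (p := AlgSt.FPt.map (AlgSt.ofSpMap g) { K := p.K, str := p.str, obj := η, lies := hT }) (q := p)
      m₀).trans hpx
  have hp := h𝒳.isStack.1
  have hM' := isFibGrpd_ofSp ((yon S).obj T)
  obtain ⟨w₁, -, hw₁⟩ := exists_pts_fp hp (isFibGrpd_ofSp M.obj) hM' π (AlgSt.ofSpMap g) z x₁ hz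
  obtain ⟨w₂, -, hw₂⟩ := exists_pts_fp hp (isFibGrpd_ofSp M.obj) hM' π (AlgSt.ofSpMap g) z x₂ (hz.trans he)
  have hc := continuous_pts_map hp h𝒳.atlas (FibCat.fpSnd (AlgSt.ofSpMap g) π)
  rcases eq_empty_of_disjoint_closed hW T hTf _ hgood _ _ (h₁.preimage hc) (h₂.preimage hc)
      ((Set.disjoint_singleton.2 hne).preimage _) with e | e
  · exact Set.notMem_empty w₁ (e ▸ hw₁)
  · exact Set.notMem_empty w₂ (e ▸ hw₂)

/-- The geometric fibres are connected. -/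
theorem connectedSpace_fibre (h𝒳 : AlgSt.IsAlgStack K₀ 𝒳) (M : AlgSp.Space S) (hM : HasQcProd M.obj)
    (π : 𝒳 ⥤ᵇ AlgSt.ofSp M.obj) (hqc : AlgSt.IsQuasiCompactMor K₀ π) (hqs : AlgSt.IsQuasiSeparatedMor π)
    (h : StMod.IsGoodModuli π) {K : Type u} [Field K] (t : Spec (CommRingCat.of K) ⟶ S)
    (y : (yon S).obj (Over.mk t) ⟶ M.obj) :
    ConnectedSpace (AlgSt.Points (FibCat.fp (AlgSt.ofSpMap y) π)) := by
  obtain ⟨hTa, hTf⟩ := isField_of_lies (T := Over.mk t) rfl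
  haveI := hTa
  obtain ⟨hW, hgood⟩ := isGoodModuli_fibre h𝒳 M hM π hqc hqs h (Over.mk t) y
  refine connectedSpace_points_of_isGoodModuli hW (Over.mk t) hTf _ hgood ?_
  let M' : AlgSp.Space S := ⟨(yon S).obj (Over.mk t), IsAlgSpace.yon_obj _⟩
  have hsurj := surjective_of_isGoodModuli hW M' (hasQcProd_yon (Over.mk t)) _ (isQuasiCompactMor_fpFst _ hqc)
    (repByAlgSpWith_diag_fpFst hqs) hgood
  obtain ⟨z, -⟩ := (isHomeomorph_ptSch (Over.mk t)).bijective.surjective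
    (IsLocalRing.closedPoint K : Spec (CommRingCat.of K))
  obtain ⟨w, -⟩ := hsurj z
  exact ⟨w⟩

end Groth.Agent.StModLib
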