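import Groth.Agent.StModLib.NoethSect
import Groth.Agent.AlgStLib.SpaceCalc
import Groth.Agent.GrpSchLib.RankOneBig

/-!
# Flatness of good moduli spaces
-/

set_option autoImplicit false
set_option linter.style.haveILetI false
set_option linter.unusedSectionVars false
set_option backward.isDefEq.respectTransparency false
set_option backward.isDefEq.respectTransparency.types false

universe u

open CategoryTheory CategoryTheory.Limits AlgebraicGeometry AlgSp Opposite
open scoped TensorProduct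
open Groth.Agent.AlgStLib Groth.Agent.AlgSpLib Groth.Agent.FibBase

noncomputable section

namespace Groth.Agent.StModLib

/-- Flatness descends along universally injective ring maps. -/
theorem flat_of_forall_ι_injective {B A R : Type u} [CommRing B] [CommRing A] [CommRing R] (ψ : B →+* A)
    (σ : A →+* R) (hR : (σ.comp ψ).Flat)
    (h : ∀ (N : Type u) [AddCommGroup N] [Module A N], Function.Injective (Pull.ι σ N)) : ψ.Flat := by
  letI : Algebra B A := ψ.toAlgebra
  letI : Algebra B (RingAlg σ) := (σ.comp ψ : B →+* RingAlg σ).toAlgebra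
  haveI : IsScalarTower B A (RingAlg σ) := IsScalarTower.of_algebraMap_eq fun _ => rfl
  haveI : Module.Flat B (RingAlg σ) := hR
  let i : A →ₗ[B] RingAlg σ := (IsScalarTower.toAlgHom B A (RingAlg σ)).toLinearMap
  have hi : ∀ (P : Type u) [AddCommGroup P] [Module B P], Function.Injective (i.rTensor P) := fun P _ _ => by
    let e := TensorProduct.AlgebraTensorModule.cancelBaseChange B A (RingAlg σ) (RingAlg σ) P
    have key : ∀ n, e ((1 : RingAlg σ) ⊗ₜ[A] n) = i.rTensor P n := fun n => by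
      induction n using TensorProduct.induction_on with
      | zero => simp
      | add a b ha hb => rw [TensorProduct.tmul_add, map_add, map_add, ha, hb]
      | tmul a p =>
        rw [TensorProduct.AlgebraTensorModule.cancelBaseChange_tmul, LinearMap.rTensor_tmul, Algebra.smul_def, mul_one]
        rfl
    intro n n' hn
    rw [← key n, ← key n'] at hn
    exact h (A ⊗[B] P) (e.injective hn)
  show Module.Flat B A
  refine Module.Flat.iff_lTensor_preserves_injective_linearMap'.2 fun P P' _ _ _ _ f hf => ?_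
  refine Function.Injective.of_comp (f := i.rTensor P') ?_
  rw [← LinearMap.coe_comp, LinearMap.rTensor_comp_lTensor, ← LinearMap.lTensor_comp_rTensor, LinearMap.coe_comp]
  exact (Module.Flat.lTensor_preserves_injective_linearMap f hf).comp (hi P)

variable {S : Scheme.{u}} {𝒳 : AlgSt.Cat S}

local notation "K₀" => Scheme.fppfPrecoverage

/-- Charts of a stack flat over the base are flat over the base. -/
theorem flat_hom_of_chart (h𝒳 : AlgSt.IsAlgStack K₀ 𝒳) (hfl : AlgSt.LocQ (LocP @Flat) (FibCat.toSelf 𝒳))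
    (U : Over S) (x : FibCat.overCat U ⥤ᵇ 𝒳) (hx : AlgSt.RepByAlgSpWith (LocP @Smooth) x) : Flat U.hom := by
  let T₀ : Over S := Over.mk (𝟙 S)
  let hT : IsTerminal T₀ := Over.mkIdTerminal
  let y : FibCat.overCat T₀ ⥤ᵇ (FibCat.selfOver (Over S) : AlgSt.Cat S) := FibCat.toSelf _
  have he : FibCat.IsEquivOver y := isEquivOver_of_exists_iso _ ⟨fun {x y} g => ⟨Over.homMk g (hT.hom_ext _ _), rfl⟩⟩
    ⟨fun h => Over.OverMorphism.ext h⟩ fun η => ⟨Over.mk (hT.from η), Iso.refl _, IsHomLift.id rfl⟩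
  have hS := (isAlgStack_iff_of_isEquivOver he).1 (isAlgStack_overCat T₀)
  let f := FibCat.toSelf 𝒳
  have hq : FibCat.IsEquivOver (FibCat.fpFst f y) := by
    let m := fpMap (F := f) (G := BasedFunctor.id _) (F' := f) (G' := y) (a := BasedFunctor.id _) (b := y)
      (c := BasedFunctor.id _) (Iso.refl _) (Iso.refl _)
    have : (BasedFunctor.id (FibCat.selfOver (Over S) : AlgSt.Cat S)).toFunctor.Full := inferInstanceAs (𝟭 _).Full
    have : (BasedFunctor.id (FibCat.selfOver (Over S) : AlgSt.Cat S)).toFunctor.Faithful :=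
      inferInstanceAs (𝟭 _).Faithful
    exact isEquivOver_of_iso (Iso.refl (BasedFunctor.comp m (FibCat.fpFst f (BasedFunctor.id _))))
      (isEquivOver_comp (fpMap_isEquivOver _ _ isEquivOver_id he) (fpFst_id_isEquivOver f))
  obtain ⟨g', hg', -, -⟩ := isEquivOver_inv hq
  let c := BasedFunctor.comp x g'
  have hc : AlgSt.RepByAlgSpWith (LocP @Smooth) c :=
    repByAlgSpWith_locP_comp (isFibGrpd_overCat U) h𝒳.isStack.1 hx
      (repByAlgSpWith_of_isEquivOver (fun φ _ => locP_smooth_of_isIso φ) hg')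
  obtain ⟨k, ⟨i⟩⟩ := exists_mapB (BasedFunctor.comp c (FibCat.fpSnd f y))
  have hP := ((locQ_iff_locQS isSmoothLocalST_flat h𝒳 hS f).1 hfl).scheme c
    (repByAlgSpWith_of_isEquivOver (fun φ _ => locP_smooth_of_isIso φ) he) hc i.symm
  have hk : k.left = U.hom := (Category.comp_id _).symm.trans (Over.w k)
  exact hk ▸ locP_yon_map hP

variable (h𝒳 : AlgSt.IsAlgStack K₀ 𝒳) (M : AlgSp.Space S) (hM : HasQcProd M.obj)
  (π : 𝒳 ⥤ᵇ AlgSt.ofSp M.obj) (hqc : AlgSt.IsQuasiCompactMor K₀ π) (h : StMod.IsGoodModuli π)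
  (hfl : AlgSt.LocQ (LocP @Flat) (FibCat.toSelf 𝒳))

include h𝒳 hM hqc h hfl in
/-- An affine etale scheme over a good moduli space of a flat stack is flat over the base. -/
theorem flat_appLE_good (E : EtOver M.obj) (hE : IsAffine E.obj.left.left) (S₀ : S.Opens) (hS₀ : IsAffineOpen S₀)
    (e : ⊤ ≤ E.obj.left.hom ⁻¹ᵁ S₀) : (E.obj.left.hom.appLE S₀ ⊤ e).hom.Flat := by
  have hp := h𝒳.isStack.1
  have hp' : FibCat.IsFibGrpd (AlgSt.ofSp M.obj).p := isFibGrpd_ofSp _
  let η := StMod.etaOf E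
  haveI : IsAffine (StMod.sch (AlgSt.ofSp M.obj) η) := hE
  have hη : EtObj η := etObj_etaOf E hE
  obtain ⟨x₀, ⟨P⟩, hd⟩ := exists_atlasObj h𝒳
  let T := E.obj.left
  let g := overOfMap (U := T) E.obj.hom
  haveI : IsAffine T.left := hE
  have hg : AlgSt.RepByAlgSpWith (LocP @Smooth) g :=
    repByAlgSpWith_overOfMap stableBC_locP M.property (locP_mono etale_le_smooth (locP_of_repWith E.property))
  have he : g.obj (topOver T) = η := rfl
  obtain ⟨z, γ₀, hz, hzF, hcov⟩ := exists_cover_smoothLocally (P := fun T => Flat T.hom) (flat_hom_of_chart h𝒳 hfl)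
    hp hp' g hg π (hqc _ (isAlgStack_overCat _) (isQuasiCompact_overCat _) g)
  haveI := hz
  haveI := hzF
  have hpres : ∀ ξ : 𝒳.obj, IsAffine (StMod.sch 𝒳 ξ) → Nonempty (Pres (StMod.fibFst π η) ξ) := fun ξ hξ => by
    haveI : IsAffine (π.obj ξ).base.left := by
      show IsAffine (StMod.sch (AlgSt.ofSp M.obj) (π.obj ξ))
      rw [StMod.sch_obj_eq π ξ]
      exact hξ
    obtain ⟨ω, a, a', hcpt, hsep, huniv⟩ := exists_prod_obj M hM (π.obj ξ) η inferInstance hE
    haveI : CompactSpace (StMod.sch (AlgSt.ofSp M.obj) ω) := hcpt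
    haveI : (StMod.sch (AlgSt.ofSp M.obj) ω).IsSeparated := hsep
    exact nonempty_pres_fibFst π hp hp' a a' huniv
  let α : π.obj z ⟶ η := γ₀ ≫ eqToHom he
  have hzA := isFibGrpd_fibCat π η hp
  let ρ : ∀ x : (StMod.fibCat π η).obj, Γ(StMod.sch (AlgSt.ofSp M.obj) η, ⊤) →+* Γ(StMod.sch (StMod.fibCat π η) x, ⊤) :=
    fun x => (StMod.baseOver π x.left x.hom).left.appTop.hom
  have hρ : ∀ {x' x : (StMod.fibCat π η).obj} (φ : x' ⟶ x), (fn φ).comp (ρ x) = ρ x' := fun {x' x} φ => by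
    have e : StMod.bmap 𝒳 φ.left ≫ (StMod.baseOver π x.left x.hom).left = (StMod.baseOver π x'.left x'.hom).left :=
      (StMod.bmap_comp_baseOver_left π φ.left x.hom).trans
        (congrArg (fun α => (StMod.baseOver π x'.left α).left) (CostructuredArrow.w φ))
    exact RingHom.ext fun r => congr($(congrArg Scheme.Hom.appTop e) r)
  have hun := h.2 E
  have hO : ∀ f : ∀ x : AffO (StMod.fibCat π η), Γ(StMod.sch (StMod.fibCat π η) x.1, ⊤),
      (∀ {x' x : AffO (StMod.fibCat π η)} (φ : x'.1 ⟶ x.1), fn φ (f x) = f x') →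
      ∃! a, ∀ x : AffO (StMod.fibCat π η), f x = ρ x.1 a := fun f hf => by
    obtain ⟨s, hs, hsf⟩ := exists_sect_of_aff hzA (StMod.OQ (𝒳 := StMod.fibCat π η)) f hf
    let v : StMod.Mod.RelSect π (StMod.O 𝒳) η := ⟨fun ξ α => s (CostructuredArrow.mk α), fun ξ' ξ φ α =>
      hs (CostructuredArrow.homMk φ rfl : (CostructuredArrow.mk (π.map φ ≫ α) : (StMod.fibCat π η).obj) ⟶
        CostructuredArrow.mk α)⟩
    obtain ⟨a, ha⟩ := hun.2 v
    refine ⟨a, fun x => (hsf x).symm.trans (congrArg (fun w : StMod.Mod.RelSect π (StMod.O 𝒳) η =>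
      w.1 x.1.left x.1.hom) ha).symm, fun a' ha' => hun.1 (StMod.Mod.RelSect.ext π _ _ fun ξ α => ?_)⟩
    obtain ⟨ι, y, φ, hφ, hya, -⟩ := exists_affine_cover hp ξ
    refine (isSheaf_modSys hp (StMod.OQ (𝒳 := 𝒳)).property).1 y φ hφ _ _ fun i => ?_
    refine ((StMod.unitSect π η a').2 (φ i) α).trans (Eq.trans ?_ ((StMod.unitSect π η a).2 (φ i) α).symm)
    let x : AffO (StMod.fibCat π η) := ⟨CostructuredArrow.mk (π.map (φ i) ≫ α), hya i⟩
    exact (ha' x).symm.trans ((hsf x).symm.trans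
      (congrArg (fun w : StMod.Mod.RelSect π (StMod.O 𝒳) η => w.1 x.1.left x.1.hom) ha).symm)
  let zc : AffO (StMod.fibCat π η) := ⟨CostructuredArrow.mk α, hz⟩
  have hcovz : ∀ x : (StMod.fibCat π η).obj, ∃ (ι : Type u) (y : ι → (StMod.fibCat π η).obj) (φ : ∀ i, y i ⟶ x),
      IsCov y φ ∧ ∀ i, Nonempty (y i ⟶ zc.1) := fun x => by
    obtain ⟨ι, y, φ, hφ, hψ⟩ := hcov x.left (x.hom ≫ eqToHom he.symm)
    refine ⟨ι, fun i => CostructuredArrow.mk (π.map (φ i) ≫ x.hom), fun i => CostructuredArrow.homMk (φ i) rfl,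
      ⟨fun i => hφ.flat i, fun i => hφ.lfp i, fun t => hφ.surj t⟩, fun i => ?_⟩
    obtain ⟨ψ, hψ⟩ := hψ i
    exact ⟨CostructuredArrow.homMk ψ (by
      show π.map ψ ≫ γ₀ ≫ eqToHom he = π.map (φ i) ≫ x.hom
      rw [← Category.assoc, hψ, Category.assoc, Category.assoc, eqToHom_trans, eqToHom_refl, Category.comp_id])⟩
  have hpure : ∀ (N : Type u) [AddCommGroup N] [Module Γ(StMod.sch (AlgSt.ofSp M.obj) η, ⊤) N],
      Function.Injective (Pull.ι (ρ zc.1) N) := fun N _ _ n n' hn => by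
    refine (existsUnique_const (N := N) hzA ρ hρ hO zc hcovz
      (fun {G G'} u s hs hu => exists_fibCat_lift π hp hp' hη hd P hpres (fun A A' q hq => h.1 q hq E hE) u s hs hu)
      (fun x => Pull.ι (ρ x.1) N n) fun φ => tRes_ι ρ hρ N φ n).unique (fun x => rfl) fun x => ?_
    obtain ⟨ι, y, φ, hφ, hy⟩ := hcovz x.1
    choose κ w χ hχ hwa _ using fun i => exists_affine_cover hzA (y i)
    refine tSys_sep hzA ρ hρ (hφ.comp hχ) (fun j => hwa j.1 j.2) fun j => ?_
    have e₁ := congrArg (tRes ρ hρ N (x := zc) (x' := (⟨w j.1 j.2, hwa j.1 j.2⟩ : AffO (StMod.fibCat π η))) (χ j.1 j.2 ≫ (hy j.1).some)) hn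
    rw [tRes_ι, tRes_ι] at e₁
    exact (tRes_ι ρ hρ N _ n).trans (e₁.trans (tRes_ι ρ hρ N _ n').symm)
  refine flat_of_forall_ι_injective _ (ρ zc.1) ?_ hpure
  have hw : (StMod.baseOver π z α).left ≫ E.obj.left.hom = (𝒳.p.obj z).hom := Over.w (StMod.baseOver π z α)
  have e' : (⊤ : (𝒳.p.obj z).left.Opens) ≤ (𝒳.p.obj z).hom ⁻¹ᵁ S₀ := fun t _ => by
    rw [← hw]
    exact e trivial
  haveI : IsAffine (𝒳.p.obj z).left := hz
  have key := (𝒳.p.obj z).hom.flat_appLE hS₀ (isAffineOpen_top (𝒳.p.obj z).left) e'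
  have hcomp : E.obj.left.hom.appLE S₀ ⊤ e ≫ (StMod.baseOver π z α).left.appTop = (𝒳.p.obj z).hom.appLE S₀ ⊤ e' := by
    rw [Scheme.Hom.appTop, ← Scheme.Hom.appLE_eq_app]
    refine (Scheme.Hom.appLE_comp_appLE _ _ _ _ _ _ _).trans ?_
    congr 1
  rw [← hcomp] at key
  exact key

include h𝒳 hM hqc h hfl in
/-- A good moduli space of a flat stack is flat. -/
theorem locP_flat_good (q : M.obj ⟶ (yon S).obj (Over.mk (𝟙 S))) : LocP @Flat q := by
  obtain ⟨T, p, hp, hp'⟩ := M.property.atlas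
  let T₀ : Over S := Over.mk (𝟙 S)
  obtain ⟨k, hk⟩ := (yon S).map_surjective (p ≫ q)
  refine locP_of_chart hp hp' (V := T₀) (b := 𝟙 _) (h := k) ?_ (by rw [Category.comp_id, hk]) ?_
  · exact ((yon S).map_id T₀) ▸ (repWith_yon_map_iff @Etale (𝟙 T₀)).2 (inferInstanceAs (Etale (𝟙 T₀.left)))
  · have hkl : k.left = T.hom := (Category.comp_id _).symm.trans (Over.w k)
    rw [hkl, HasRingHomProperty.iff_appLE (P := @Flat)]
    intro S₀ W e
    let V : Over S := Over.mk (W.1.ι ≫ T.hom)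
    let j : V ⟶ T := Over.homMk W.1.ι rfl
    let E : EtOver M.obj := EtOver.mk ((yon S).map j ≫ p)
      (repWith_comp ((repWith_yon_map_iff @Etale j).2 (inferInstanceAs (Etale W.1.ι))) hp)
    have e' : (⊤ : W.1.toScheme.Opens) ≤ (W.1.ι ≫ T.hom) ⁻¹ᵁ S₀.1 := fun t _ => e t.2
    have key : ((W.1.ι ≫ T.hom).appLE S₀.1 ⊤ e').hom.Flat :=
      flat_appLE_good h𝒳 M hM π hqc h hfl E W.2 S₀.1 S₀.2 e'
    have hcomp : T.hom.appLE S₀.1 W.1 e ≫ W.1.ι.appLE W.1 ⊤ (fun t _ => t.2) = (W.1.ι ≫ T.hom).appLE S₀.1 ⊤ e' :=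
      Scheme.Hom.appLE_comp_appLE _ _ _ _ _ _ _
    haveI : IsIso (W.1.ι.appLE W.1 ⊤ (fun t _ => t.2)) := by
      rw [Scheme.Opens.ι_appLE]
      rw [show (homOfLE _).op = eqToHom (congrArg op (Scheme.Opens.ι_image_top W.1).symm) from rfl]
      infer_instance
    rw [← hcomp] at key
    exact (RingHom.Flat.respectsIso.cancel_right_isIso _ _).1 key

end Groth.Agent.StModLib
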