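import Groth.Agent.StModLib.UnitBC
import Groth.Agent.StModLib.AffineMorExact

/-!
# Cohomological affineness after an affine morphism
-/

set_option autoImplicit false
set_option linter.style.haveILetI false
set_option linter.unusedSectionVars false
set_option backward.isDefEq.respectTransparency false
set_option backward.isDefEq.respectTransparency.types false

universe u

open CategoryTheory CategoryTheory.Limits AlgebraicGeometry AlgSp Opposite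
open Groth.Agent.AlgStLib Groth.Agent.AlgSpLib Groth.Agent.FibBase

noncomputable section

namespace Groth.Agent.StModLib

variable {S : Scheme.{u}} {𝒳 𝒴 : AlgSt.Cat S}

/-- An affine morphism has affine fibres with a universal object over affine objects. -/
theorem exists_affine_fibre (hp : FibCat.IsFibGrpd 𝒳.p) (hp' : FibCat.IsFibGrpd 𝒴.p) {π : 𝒳 ⥤ᵇ 𝒴}
    (hπ : AlgSt.RepByAlgSpWith IsAffineMor π) (η : 𝒴.obj) [IsAffine (StMod.sch 𝒴 η)] :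
    ∃ (z : 𝒳.obj) (α : π.obj z ⟶ η), IsAffine (StMod.sch 𝒳 z) ∧
      ∀ (ξ : 𝒳.obj) (β : π.obj ξ ⟶ η), ∃! χ : ξ ⟶ z, π.map χ ≫ α = β := by
  obtain ⟨g, e, -⟩ := exists_overCat_obj hp' η rfl
  suffices ∃ (z : 𝒳.obj) (α : π.obj z ⟶ g.obj (topOver (𝒴.p.obj η))), IsAffine (StMod.sch 𝒳 z) ∧
      ∀ (ξ : 𝒳.obj) (β : π.obj ξ ⟶ g.obj (topOver (𝒴.p.obj η))), ∃! χ : ξ ⟶ z, π.map χ ≫ α = β by
    obtain ⟨z, α, hz, hu⟩ := this
    refine ⟨z, α ≫ e.hom, hz, fun ξ β => ?_⟩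
    obtain ⟨χ, hχ, hχu⟩ := hu ξ (β ≫ e.inv)
    refine ⟨χ, ?_, fun χ' h => hχu χ' ((Iso.eq_comp_inv e).2 ((Category.assoc _ _ _).trans h))⟩
    exact (Category.assoc _ _ _).symm.trans ((Iso.eq_comp_inv e).1 hχ)
  haveI : IsAffine (𝒴.p.obj η).left := ‹IsAffine (StMod.sch 𝒴 η)›
  obtain ⟨F, k, hk, ha⟩ := hπ (𝒴.p.obj η) g
  obtain ⟨W, i, fst, sq, hW⟩ := ha (Z := (𝒴.p.obj η)) inferInstance (𝟙 _)
  haveI : IsIso fst := sq.isIso_fst_of_isIso
  let K : AlgSt.ofSp ((yon S).obj W) ⥤ᵇ FibCat.fp g π := BasedFunctor.comp (AlgSt.ofSpMap fst) k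
  have hK : FibCat.IsEquivOver K := isEquivOver_comp (isEquivOver_ofSpMap fst) hk
  let v₀ : (AlgSt.ofSp ((yon S).obj W)).obj := ⟨W, ⟨𝟙 W⟩⟩
  have hv₀ : ∀ y, ∃! m : y ⟶ v₀, True := fun y => by
    refine ⟨⟨y.sec.down, ULift.ext _ _ (show y.sec.down ≫ 𝟙 W = y.sec.down from Category.comp_id _)⟩, trivial,
      fun m _ => Stk.EltObj.hom_ext ?_⟩
    have := congrArg ULift.down m.map_sec
    exact (Category.comp_id _).symm.trans this
  let v := K.obj v₀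
  have hv := existsUnique_hom_map hK v₀ hv₀
  let top : ∀ x : (FibCat.fp g π).obj, (FibCat.fpFst g π).obj x ⟶ topOver (𝒴.p.obj η) := fun x =>
    Over.homMk x.obj.fst.hom (Category.comp_id _)
  have htop : ∀ (x : (FibCat.fp g π).obj) (b : (FibCat.fpFst g π).obj x ⟶ topOver (𝒴.p.obj η)), b = top x :=
    fun x b => Over.OverMorphism.ext ((Category.comp_id _).symm.trans (Over.w b))
  refine ⟨v.obj.snd, transMor g π v (top v), ?_, fun ξ γ => ?_⟩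
  · show IsAffine (𝒳.p.obj ((FibCat.fpSnd g π).obj v)).left
    rw [((FibCat.fpSnd g π).w_obj v).trans (K.w_obj v₀)]
    exact hW
  obtain ⟨x, rfl, β, hβ⟩ := exists_fp_obj g π (isFibGrpd_overCat (𝒴.p.obj η)) hp' ξ γ
  rw [eqToHom_refl, π.map_id, Category.id_comp] at hβ
  obtain ⟨m, -, hu⟩ := hv x
  refine ⟨m.hom.snd, ?_, fun p hpγ => ?_⟩
  · show π.map m.hom.snd ≫ transMor g π v (top v) = γ
    rw [transMor_natural, ← hβ, htop x β, htop x ((FibCat.fpFst g π).map m ≫ top v)]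
  · obtain ⟨mp, hmp, -⟩ := exists_fp_hom g π (isFibGrpd_overCat (𝒴.p.obj η)) hp' β (top v) p (hpγ.trans hβ.symm)
    rw [← hmp, hu mp trivial]

/-- The universal object of the category over an object with a morphism to a given one. -/
theorem exists_fibFst_obj (π : 𝒳 ⥤ᵇ 𝒴) (hp : FibCat.IsFibGrpd 𝒳.p) (hp' : FibCat.IsFibGrpd 𝒴.p)
    {η : 𝒴.obj} {ξ : 𝒳.obj} {ω : 𝒴.obj} (a : ω ⟶ π.obj ξ) (b : ω ⟶ η)
    (hω : ∀ (v : 𝒴.obj) (f : v ⟶ π.obj ξ) (f' : v ⟶ η), ∃! l : v ⟶ ω, l ≫ a = f ∧ l ≫ b = f') :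
    ∃ (z : (StMod.fibCat π η).obj) (γ : (StMod.fibFst π η).obj z ⟶ ξ)
      (i : StMod.sch (StMod.fibCat π η) z ⟶ StMod.sch 𝒴 ω), IsIso i ∧
      ∀ (x : (StMod.fibCat π η).obj) (δ : (StMod.fibFst π η).obj x ⟶ ξ),
        ∃! χ : x ⟶ z, (StMod.fibFst π η).map χ ≫ γ = δ := by
  obtain ⟨p', φ', α', hα, hα', -, huniv⟩ := exists_lift_univ π hp hp' a
  haveI := hα
  refine ⟨CostructuredArrow.mk (α' ≫ b), φ', eqToHom (StMod.sch_obj_eq π p').symm ≫ StMod.bmap 𝒴 α', ?_,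
    fun x β => ?_⟩
  · haveI : IsIso (StMod.bmap 𝒴 α') := isIso_bmap α'
    infer_instance
  obtain ⟨l, ⟨hl₁, hl₂⟩, hlu⟩ := hω _ (π.map β) x.hom
  obtain ⟨ψ, hψ, hψl⟩ := huniv _ β l hl₁
  refine ⟨CostructuredArrow.homMk ψ (by
    show π.map ψ ≫ α' ≫ b = x.hom
    rw [← Category.assoc, hψl, hl₂]), hψ, fun χ hχ => CostructuredArrow.hom_ext _ _ ?_⟩
  have hχ' : χ.left ≫ φ' = β := hχ
  have hl : π.map χ.left ≫ α' = l := hlu _ ⟨by
    rw [Category.assoc, hα', ← Functor.map_comp, hχ'], by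
    rw [Category.assoc]
    exact CostructuredArrow.w χ⟩
  obtain ⟨c, -, hu⟩ := existsUnique_lift_image π hp hp' φ' β (π.map χ.left) (by rw [← Functor.map_comp, hχ'])
  exact (hu _ ⟨hχ', rfl⟩).trans (hu _ ⟨hψ, (cancel_mono α').1 (hψl.trans hl.symm)⟩).symm

/-- A morphism which is, up to an isomorphism, an affine morphism followed by a cohomologically affine one is
cohomologically affine. -/
theorem isCohAffine_of_affine_comp {𝒲 : AlgSt.Cat S} (hw : FibCat.IsFibGrpd 𝒲.p)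
    (h𝒳 : AlgSt.IsAlgStack Scheme.fppfPrecoverage 𝒳) (M : AlgSp.Space S) (hM : HasQcProd M.obj)
    (π : 𝒳 ⥤ᵇ AlgSt.ofSp M.obj) (h : StMod.IsCohAffine π) (ι : 𝒲 ⥤ᵇ 𝒳)
    (hι : AlgSt.RepByAlgSpWith IsAffineMor ι) (σ : 𝒲 ⥤ᵇ AlgSt.ofSp M.obj)
    (cn : ∀ w : 𝒲.obj, π.obj (ι.obj w) ≅ σ.obj w)
    (hcn : ∀ {w' w : 𝒲.obj} (φ : w' ⟶ w), π.map (ι.map φ) ≫ (cn w).hom = (cn w').hom ≫ σ.map φ) :
    StMod.IsCohAffine σ := by
  intro F G u hu E hE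
  have hp := h𝒳.isStack.1
  have hp' : FibCat.IsFibGrpd (AlgSt.ofSp M.obj).p := isFibGrpd_ofSp M.obj
  obtain ⟨x₀, ⟨P⟩, hd⟩ := exists_atlasObj h𝒳
  let η := StMod.etaOf E
  let J : StMod.fibCat σ η ⥤ᵇ 𝒳 := BasedFunctor.comp (StMod.fibFst σ η) ι
  let can : ∀ x : (StMod.fibCat σ η).obj, π.obj (J.obj x) ⟶ η := fun x => (cn x.left).hom ≫ x.hom
  have hcan : ∀ {x' x : (StMod.fibCat σ η).obj} (φ : x' ⟶ x), π.map (J.map φ) ≫ can x = can x' := fun {x' x} φ => by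
    show π.map (ι.map φ.left) ≫ (cn x.left).hom ≫ x.hom = (cn x'.left).hom ≫ x'.hom
    rw [← Category.assoc, hcn, Category.assoc]
    exact congrArg ((cn x'.left).hom ≫ ·) (CostructuredArrow.w φ)
  have hzσ := isFibGrpd_fibCat σ η hw
  refine surjective_relSectMap_of_fibCat u.hom fun s hs => ?_
  refine exists_globSect_lift π hp hp' (etObj_etaOf E hE) J hzσ can hcan hd P (fun ξ hξ => ?_) (fun p αp => ?_)
    (fun A A' q hq => h q hq E hE) ((StMod.comapQ (StMod.fibFst σ η)).map u) s hs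
    (fun x hx => isSurj_comapMap _ hu x hx (s x))
  · obtain ⟨z₀, a₀, hz₀, hu₀⟩ := exists_affine_fibre hw hp hι ξ
    haveI : IsAffine (σ.obj z₀).base.left := by
      show IsAffine (StMod.sch (AlgSt.ofSp M.obj) (σ.obj z₀))
      rw [StMod.sch_obj_eq σ z₀]
      exact hz₀
    obtain ⟨ω, a, a', hcpt, hsep, huniv⟩ := exists_prod_obj M hM (σ.obj z₀) η inferInstance hE
    obtain ⟨z, γ, i, hi, hzu⟩ := exists_fibFst_obj σ hw hp' a a' huniv
    haveI := hi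
    haveI : CompactSpace (StMod.sch (AlgSt.ofSp M.obj) ω) := hcpt
    haveI : (StMod.sch (AlgSt.ofSp M.obj) ω).IsSeparated := hsep
    haveI : CompactSpace (StMod.sch (StMod.fibCat σ η) z) := QuasiCompact.compactSpace_of_compactSpace i
    haveI : (StMod.sch (StMod.fibCat σ η) z).IsSeparated := ⟨by
      rw [← terminal.comp_from i]
      infer_instance⟩
    refine nonempty_pres_of_obj hzσ z (ι.map γ ≫ a₀) fun x β => ?_
    obtain ⟨χ₀, hχ₀, hχ₀u⟩ := hu₀ x.left β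
    obtain ⟨χ, hχ, hχu⟩ := hzu x χ₀
    have e : ∀ χ' : x ⟶ z, J.map χ' ≫ ι.map γ ≫ a₀ = ι.map ((StMod.fibFst σ η).map χ' ≫ γ) ≫ a₀ := fun χ' => by
      show ι.map ((StMod.fibFst σ η).map χ') ≫ ι.map γ ≫ a₀ = _
      rw [Functor.map_comp, Category.assoc]
    refine ⟨χ, ?_, fun χ' h' => hχu χ' (hχ₀u _ ?_)⟩
    · show J.map χ ≫ ι.map γ ≫ a₀ = β
      rw [e, hχ, hχ₀]
    · rw [← h', e]
  · haveI : IsAffine (StMod.sch 𝒳 p.1) := p.2.1
    obtain ⟨z₀, a₀, hz₀, hu₀⟩ := exists_affine_fibre hw hp hι p.1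
    refine ⟨CostructuredArrow.mk ((cn z₀).inv ≫ π.map a₀ ≫ αp), a₀, hz₀, ?_, fun x γ hγ => ?_⟩
    · show π.map a₀ ≫ αp = (cn z₀).hom ≫ (cn z₀).inv ≫ π.map a₀ ≫ αp
      rw [Iso.hom_inv_id_assoc]
    obtain ⟨χ₀, hχ₀, hχ₀u⟩ := hu₀ x.left γ
    refine ⟨CostructuredArrow.homMk χ₀ ?_, hχ₀, fun χ hχ => CostructuredArrow.hom_ext _ _ (hχ₀u _ hχ)⟩
    show σ.map χ₀ ≫ (cn z₀).inv ≫ π.map a₀ ≫ αp = x.hom
    refine (cancel_epi (cn x.left).hom).1 ?_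
    rw [← Category.assoc, ← hcn, Category.assoc, Iso.hom_inv_id_assoc, ← Category.assoc, ← Functor.map_comp, hχ₀]
    exact hγ

/-- Morphisms to the base scheme are unique. -/
theorem exists_iso_ofSch_self {𝒲 : AlgSt.Cat S} (f g : 𝒲 ⥤ᵇ AlgSt.ofSch (Over.mk (𝟙 S))) :
    ∃ cn : ∀ w : 𝒲.obj, f.obj w ≅ g.obj w, ∀ {w' w : 𝒲.obj} (φ : w' ⟶ w),
      f.map φ ≫ (cn w).hom = (cn w').hom ≫ g.map φ := by
  have key : ∀ {T : Over S} (a b : T ⟶ Over.mk (𝟙 S)), a = b := fun a b =>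
    Over.OverMorphism.ext ((Over.w a).trans (Over.w b).symm)
  let e : ∀ w, (f.obj w).base = (g.obj w).base := fun w => (f.w_obj w).trans (g.w_obj w).symm
  let cn : ∀ w : 𝒲.obj, f.obj w ≅ g.obj w := fun w =>
    { hom := ⟨eqToHom (e w), ULift.ext _ _ (key _ _)⟩
      inv := ⟨eqToHom (e w).symm, ULift.ext _ _ (key _ _)⟩
      hom_inv_id := Stk.EltObj.hom_ext (eqToHom_trans (e w) (e w).symm)
      inv_hom_id := Stk.EltObj.hom_ext (eqToHom_trans (e w).symm (e w)) }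
  refine ⟨cn, fun {w' w} φ => Stk.EltObj.hom_ext ?_⟩
  have h₁ := map_w f φ
  have h₂ := map_w g φ
  show (AlgSt.ofSch (Over.mk (𝟙 S))).p.map (f.map φ) ≫ eqToHom (e w) =
    eqToHom (e w') ≫ (AlgSt.ofSch (Over.mk (𝟙 S))).p.map (g.map φ)
  rw [h₁, h₂]
  simp

/-- Functors to the base scheme are isomorphic. -/
theorem nonempty_iso_ofSch_self {𝒲 : AlgSt.Cat S} (f g : 𝒲 ⥤ᵇ AlgSt.ofSch (Over.mk (𝟙 S))) : Nonempty (f ≅ g) := by
  have key : ∀ {T : Over S} (a b : T ⟶ Over.mk (𝟙 S)), a = b := fun a b =>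
    Over.OverMorphism.ext ((Over.w a).trans (Over.w b).symm)
  let e : ∀ w, (f.obj w).base = (g.obj w).base := fun w => (f.w_obj w).trans (g.w_obj w).symm
  let cn : ∀ w : 𝒲.obj, f.obj w ≅ g.obj w := fun w =>
    { hom := ⟨eqToHom (e w), ULift.ext _ _ (key _ _)⟩
      inv := ⟨eqToHom (e w).symm, ULift.ext _ _ (key _ _)⟩
      hom_inv_id := Stk.EltObj.hom_ext (eqToHom_trans (e w) (e w).symm)
      inv_hom_id := Stk.EltObj.hom_ext (eqToHom_trans (e w).symm (e w)) }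
  refine ⟨BasedNatIso.mkNatIso (NatIso.ofComponents cn fun {w' w} φ => Stk.EltObj.hom_ext ?_) fun w => ?_⟩
  · have h₁ := map_w f φ
    have h₂ := map_w g φ
    show (AlgSt.ofSch (Over.mk (𝟙 S))).p.map (f.map φ) ≫ eqToHom (e w) =
      eqToHom (e w') ≫ (AlgSt.ofSch (Over.mk (𝟙 S))).p.map (g.map φ)
    rw [h₁, h₂]
    simp
  · refine IsHomLift.of_fac' _ _ _ (f.w_obj w) (g.w_obj w) ?_
    show eqToHom (e w) = _
    simp

end Groth.Agent.StModLib
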