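import Groth.Agent.StModLib.TwLine
import Groth.Agent.QCoh.RpushCoh

/-!
# A nonzero twisted module of finite type from a finite point
-/

set_option autoImplicit false
set_option linter.style.haveILetI false
set_option linter.unusedSectionVars false
set_option backward.isDefEq.respectTransparency false
set_option backward.isDefEq.respectTransparency.types false

universe w u

open CategoryTheory CategoryTheory.Limits AlgebraicGeometry Opposite TopologicalSpace
open scoped TensorProduct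

namespace Groth.Agent.StModLib

section Algebra

variable {A A' B B' : Type u} [CommRing A] [CommRing A'] [CommRing B] [CommRing B'] {M N : Type w}
  [AddCommGroup M] [Module B M] [AddCommGroup N] [Module B' N]

/-- Base change along the top of a pushout square is base change along the bottom after restricting scalars. -/
theorem isSemiBC_of_isPushout [Module A M] [Module A' N] {σ : A →+* A'} {ρ : A →+* B} {ρ' : A' →+* B'}
    {σ' : B →+* B'}
    (hpo : IsPushout (CommRingCat.ofHom σ) (CommRingCat.ofHom ρ) (CommRingCat.ofHom ρ') (CommRingCat.ofHom σ'))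
    (hρ : ∀ (r : A) (m : M), r • m = ρ r • m) (hρ' : ∀ (r : A') (n : N), r • n = ρ' r • n)
    {l : M →+ N} (h : IsSemiBC σ' l) : IsSemiBC σ l := by
  obtain ⟨h₁, hb₁⟩ := h
  have hw : ∀ r, ρ' (σ r) = σ' (ρ r) := fun r => (congr($(hpo.w) r) :)
  have h₂ : ∀ (r : A) (m : M), l (r • m) = σ r • l m := fun r m => by
    rw [hρ, hρ', h₁, hw]
  refine ⟨h₂, ?_⟩
  letI := σ.toAlgebra
  letI := ρ.toAlgebra
  letI := ρ'.toAlgebra
  letI := σ'.toAlgebra
  letI := (ρ'.comp σ).toAlgebra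
  haveI : IsScalarTower A A' B' := IsScalarTower.of_algebraMap_eq fun _ => rfl
  haveI : IsScalarTower A B B' := IsScalarTower.of_algebraMap_eq hw
  haveI : IsScalarTower A B M := IsScalarTower.of_algebraMap_smul fun r m => (hρ r m).symm
  haveI : IsScalarTower A' B' N := IsScalarTower.of_algebraMap_smul fun r n => (hρ' r n).symm
  haveI : Algebra.IsPushout A A' B B' := CommRingCat.isPushout_iff_isPushout.1 hpo
  letI : Module B N := Module.compHom N σ'
  haveI : IsScalarTower B B' N := IsScalarTower.of_algebraMap_smul fun _ _ => rfl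
  letI : Module A N := Module.compHom N σ
  haveI : IsScalarTower A A' N := IsScalarTower.of_algebraMap_smul fun _ _ => rfl
  let f : M →ₗ[B] N := { toFun := l, map_add' := map_add l, map_smul' := h₁ }
  let f' : M →ₗ[A] N := { toFun := l, map_add' := map_add l, map_smul' := h₂ }
  have hB : IsBaseChange B' f := hb₁
  let e := Algebra.IsPushout.cancelBaseChange A A' B B' M
  let c : A' ⊗[A] M →ₗ[A'] N := (TensorProduct.isBaseChange A M A').lift f'
  have hct : ∀ (s : A') (m : M), c (s ⊗ₜ m) = s • l m := fun s m => by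
    have k : (s ⊗ₜ[A] m : A' ⊗[A] M) = s • (TensorProduct.mk A A' M 1 m) := by simp [TensorProduct.smul_tmul']
    rw [k, map_smul]
    exact congrArg (s • ·) (IsBaseChange.lift_eq (TensorProduct.isBaseChange A M A') f' m)
  refine (isBaseChange_iff_bijective f' (c.restrictScalars A) hct).2 ?_
  have key : ∀ t : A' ⊗[A] M, c t = hB.equiv (e.symm t) := fun t => by
    induction t using TensorProduct.induction_on with
    | zero => simp
    | add a b ha hb => simp only [map_add, ha, hb]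
    | tmul s m =>
      rw [hct, Algebra.IsPushout.cancelBaseChange_symm_tmul, IsBaseChange.equiv_tmul,
        IsScalarTower.algebraMap_smul]
      rfl
  show Function.Bijective c
  rw [show (c : _ → N) = hB.equiv ∘ e.symm from funext key]
  exact hB.equiv.bijective.comp e.symm.bijective

/-- A semilinear bijection over a surjective ring map transfers finiteness. -/
theorem finite_of_semilinear {σ : A →+* B} (hσ : Function.Surjective σ) {P : Type w} [AddCommGroup P] [Module A P]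
    {l : P →+ M} (hl : ∀ (r : A) (x : P), l (r • x) = σ r • l x) (hb : Function.Bijective l) [Module.Finite B M] :
    Module.Finite A P := by
  classical
  obtain ⟨s, hs⟩ := (inferInstance : Module.Finite B M).fg_top
  choose f hf using hb.2
  refine ⟨⟨s.image f, eq_top_iff.2 fun p _ => ?_⟩⟩
  have key : ∀ x ∈ Submodule.span B (s : Set M), f x ∈ Submodule.span A ((s.image f : Finset P) : Set P) := by
    intro x hx
    induction hx using Submodule.span_induction with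
    | mem x hx => exact Submodule.subset_span (Finset.mem_coe.2 (Finset.mem_image_of_mem f hx))
    | zero =>
      rw [show f 0 = 0 from hb.1 (by rw [hf, map_zero])]
      exact zero_mem _
    | add x y _ _ hx hy =>
      rw [show f (x + y) = f x + f y from hb.1 (by rw [map_add, hf, hf, hf])]
      exact add_mem hx hy
    | smul b x _ hx =>
      obtain ⟨a, rfl⟩ := hσ b
      rw [show f (σ a • x) = a • f x from hb.1 (by rw [hl, hf, hf])]
      exact Submodule.smul_mem _ a hx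
  have := key (l p) (by rw [hs]; exact Submodule.mem_top)
  rwa [show f (l p) = p from hb.1 (hf _)] at this

end Algebra

variable {S : Scheme.{u}} {𝒳 : AlgSt.Cat S} {X : Over S} {π : 𝒳 ⥤ᵇ AlgSt.ofSch X} {x₀ : 𝒳.obj}
  {A : (Over S)ᵒᵖ ⥤ GrpCat.{u}} {ι : TwSh.BandHom 𝒳 A} (χ : A ⟶ TwSh.GmPsh S)
  (hπ : TwSh.IsBandedGerbe (QuotSh.J Scheme.fppfPrecoverage S) π ι) (hp : FibCat.IsFibGrpd 𝒳.p)

include hπ hp in
/-- Sections of the twisted line bundle over an affine object form a finite module. -/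
theorem finite_line {L : StMod.QCoh (OverPt π x₀)}
    (θ : ∀ t : Trivd π x₀, Γ(L.obj.obj (trivdObj π x₀ t), ⊤) →+
        Γ(StMod.sch (OverPt π x₀) (trivdObj π x₀ t), ⊤))
    (hb : ∀ t, Function.Bijective (θ t))
    (hl : ∀ t (r : Γ(StMod.sch (OverPt π x₀) (trivdObj π x₀ t), ⊤)) (s : Γ(L.obj.obj (trivdObj π x₀ t), ⊤)),
      θ t (r • s) = r * θ t s)
    (y : (OverPt π x₀).obj) [IsAffine (StMod.sch (OverPt π x₀) y)] :
    Module.Finite Γ(StMod.sch (OverPt π x₀) y, ⊤) Γ(L.obj.obj y, ⊤) := by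
  classical
  have hq : FibCat.IsFibGrpd (OverPt π x₀).p := isFibGrpd_fibCat π _ hp
  obtain ⟨κ, k, g, hg⟩ := isDense_trivd (x₀ := x₀) hπ hp hp_ofSch y
  obtain ⟨c, kk, ch, -, -⟩ := Sys.exists_affFam hq hg
  let t : c.J → Trivd π x₀ := fun j => ⟨(c.z j).left, ch j ≫ (k (kk j)).2⟩
  let R := Γ(StMod.sch (OverPt π x₀) y, ⊤)
  have hgen : ∀ j, ∃ m : Finset Γ(L.obj.obj y, ⊤),
      ∀ v : Γ(L.obj.obj (c.z j).left, ⊤), v ∈ Submodule.span Γ(StMod.sch (OverPt π x₀) (c.z j).left, ⊤)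
        ((L.obj.mapTop (c.z j).hom) '' (m : Set Γ(L.obj.obj y, ⊤))) := fun j => by
    obtain ⟨hs, hbc⟩ := (Sys.bc_iff (c.z j).hom).1 (hasBC_modSys L.property (c.z j).hom inferInstance (c.aff j))
    letI := (StMod.bmap (OverPt π x₀) (c.z j).hom).appTop.hom.toAlgebra
    letI : Module R Γ(L.obj.obj (c.z j).left, ⊤) :=
      Module.compHom _ (StMod.bmap (OverPt π x₀) (c.z j).hom).appTop.hom
    haveI : IsScalarTower R Γ(StMod.sch (OverPt π x₀) (c.z j).left, ⊤) Γ(L.obj.obj (c.z j).left, ⊤) :=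
      IsScalarTower.of_algebraMap_smul fun _ _ => rfl
    letI : Module R ((modSys L.obj).obj (c.z j).left) :=
      Module.compHom _ (StMod.bmap (OverPt π x₀) (c.z j).hom).appTop.hom
    haveI : IsScalarTower R Γ(StMod.sch (OverPt π x₀) (c.z j).left, ⊤) ((modSys L.obj).obj (c.z j).left) :=
      IsScalarTower.of_algebraMap_smul fun _ _ => rfl
    obtain ⟨w₀, hw₀⟩ := (hb (t j)).2 1
    have hspan : ∀ v : Γ(L.obj.obj (c.z j).left, ⊤), ∃ b : Γ(StMod.sch (OverPt π x₀) (c.z j).left, ⊤),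
        v = b • (show Γ(L.obj.obj (c.z j).left, ⊤) from w₀) := fun v =>
      ⟨θ (t j) v, (hb (t j)).1 (by
        refine Eq.trans ?_ (hl (t j) _ _).symm
        rw [hw₀]
        exact (mul_one _).symm)⟩
    obtain ⟨m, hm⟩ : ∃ m : Finset Γ(L.obj.obj y, ⊤),
        (show Γ(L.obj.obj (c.z j).left, ⊤) from w₀) ∈ Submodule.span Γ(StMod.sch (OverPt π x₀) (c.z j).left, ⊤)
          ((L.obj.mapTop (c.z j).hom) '' (m : Set Γ(L.obj.obj y, ⊤))) := by
      obtain ⟨s, hs'⟩ := hbc.equiv.surjective (show Γ(L.obj.obj (c.z j).left, ⊤) from w₀)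
      rw [← hs']
      clear hs'
      induction s using TensorProduct.induction_on with
      | zero =>
        refine ⟨∅, ?_⟩
        rw [map_zero]
        exact Submodule.zero_mem _
      | add a b ha hb' =>
        obtain ⟨m₁, h₁⟩ := ha
        obtain ⟨m₂, h₂⟩ := hb'
        refine ⟨m₁ ∪ m₂, ?_⟩
        rw [map_add, Finset.coe_union, Set.image_union]
        exact Submodule.add_mem _ (Submodule.span_mono Set.subset_union_left h₁)
          (Submodule.span_mono Set.subset_union_right h₂)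
      | tmul b n =>
        refine ⟨{n}, ?_⟩
        rw [IsBaseChange.equiv_tmul, Finset.coe_singleton, Set.image_singleton]
        exact Submodule.mem_span_singleton.2 ⟨b, rfl⟩
    refine ⟨m, fun v => ?_⟩
    obtain ⟨b, rfl⟩ := hspan v
    exact Submodule.smul_mem _ b hm
  choose m hm using hgen
  let P : Submodule R Γ(L.obj.obj y, ⊤) := Submodule.span R ((Finset.univ.biUnion m : Finset _) : Set Γ(L.obj.obj y, ⊤))
  refine ⟨⟨Finset.univ.biUnion m, ?_⟩⟩
  show P = ⊤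
  have hsub : ∀ j, Subsingleton (Sys.Fn (c.z j) ⊗[R] (Γ(L.obj.obj y, ⊤) ⧸ P)) := fun j => by
    obtain ⟨hs, hbc⟩ := (Sys.bc_iff (c.z j).hom).1 (hasBC_modSys L.property (c.z j).hom inferInstance (c.aff j))
    letI := (StMod.bmap (OverPt π x₀) (c.z j).hom).appTop.hom.toAlgebra
    letI : Module R Γ(L.obj.obj (c.z j).left, ⊤) :=
      Module.compHom _ (StMod.bmap (OverPt π x₀) (c.z j).hom).appTop.hom
    haveI : IsScalarTower R Γ(StMod.sch (OverPt π x₀) (c.z j).left, ⊤) Γ(L.obj.obj (c.z j).left, ⊤) :=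
      IsScalarTower.of_algebraMap_smul fun _ _ => rfl
    letI : Module R ((modSys L.obj).obj (c.z j).left) :=
      Module.compHom _ (StMod.bmap (OverPt π x₀) (c.z j).hom).appTop.hom
    haveI : IsScalarTower R Γ(StMod.sch (OverPt π x₀) (c.z j).left, ⊤) ((modSys L.obj).obj (c.z j).left) :=
      IsScalarTower.of_algebraMap_smul fun _ _ => rfl
    let B := Γ(StMod.sch (OverPt π x₀) (c.z j).left, ⊤)
    let F : B ⊗[R] Γ(L.obj.obj y, ⊤) →ₗ[B] B ⊗[R] (Γ(L.obj.obj y, ⊤) ⧸ P) := P.mkQ.baseChange B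
    have hFs : Function.Surjective F := LinearMap.lTensor_surjective B (Submodule.mkQ_surjective P)
    have hF0 : ∀ v, F v = 0 := fun v => by
      have hv := hm j (hbc.equiv v)
      have hle : Submodule.span B ((L.obj.mapTop (c.z j).hom) '' (m j : Set Γ(L.obj.obj y, ⊤))) ≤
          (LinearMap.ker (F.comp hbc.equiv.symm.toLinearMap)) := by
        rw [Submodule.span_le]
        rintro _ ⟨n, hn, rfl⟩
        show F (hbc.equiv.symm _) = 0
        have he : hbc.equiv.symm (L.obj.mapTop (c.z j).hom n) = (1 : B) ⊗ₜ[R] n := by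
          rw [LinearEquiv.symm_apply_eq, IsBaseChange.equiv_tmul, one_smul]
          rfl
        rw [he]
        show (1 : B) ⊗ₜ[R] P.mkQ n = 0
        rw [Submodule.mkQ_apply, (Submodule.Quotient.mk_eq_zero P).2 (Submodule.subset_span
          (Finset.mem_coe.2 (Finset.mem_biUnion.2 ⟨j, Finset.mem_univ j, Finset.mem_coe.1 hn⟩))),
          TensorProduct.tmul_zero]
      have h0 : F (hbc.equiv.symm (hbc.equiv v)) = 0 := hle hv
      rwa [LinearEquiv.symm_apply_apply] at h0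
    refine ⟨fun a b => ?_⟩
    obtain ⟨a', rfl⟩ := hFs a
    obtain ⟨b', rfl⟩ := hFs b
    rw [hF0, hF0]
  haveI : HasPullbacks (OverPt π x₀).obj := hasPullbacks hq
  haveI : Subsingleton (Γ(L.obj.obj y, ⊤) ⧸ P) := by
    have hinj := DescAlg.injective_of_forall_lTensor (B := fun j => Sys.Fn (c.z j)) (Sys.covers (c := c))
      (0 : (Γ(L.obj.obj y, ⊤) ⧸ P) →ₗ[R] PUnit.{u + 1}) fun j a b _ => (hsub j).elim a b
    exact ⟨fun a b => hinj rfl⟩
  exact (Submodule.Quotient.subsingleton_iff).1 inferInstance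

include hπ hp in
/-- The pushforward of the twisted line bundle. -/
theorem exists_twisted_push [IsFinite (StMod.bmap (AlgSt.ofSch X) (toTop (π.obj x₀)))]
    [IsAffine (StMod.sch 𝒳 x₀)] [Nontrivial Γ(StMod.sch 𝒳 x₀, ⊤)] :
    ∃ F : StMod.QCoh 𝒳, TwSh.IsTwisted F.obj ι χ 1 ∧ F.obj.IsFinType ∧ ¬ IsZero F := by
  have hp' := hp_ofSch (X := X)
  have hq : FibCat.IsFibGrpd (OverPt π x₀).p := isFibGrpd_fibCat π _ hp
  obtain ⟨L, θ, hb, hl, hband⟩ := exists_line (x₀ := x₀) χ hπ hp hp'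
  choose y φ hfin huniv using fun ξ => exists_pullback_obj π hp (π.obj x₀) ξ
  haveI : ∀ ξ, IsFinite (StMod.bmap 𝒳 (φ ξ)) := hfin
  let pb : ∀ {ξ' ξ : 𝒳.obj} (f : ξ' ⟶ ξ), y ξ' ⟶ y ξ := fun {ξ' ξ} f => (huniv ξ (y ξ') (φ ξ' ≫ f)).choose
  have hpb : ∀ {ξ' ξ : 𝒳.obj} (f : ξ' ⟶ ξ), (pb f).left ≫ φ ξ = φ ξ' ≫ f := fun {ξ' ξ} f =>
    (huniv ξ (y ξ') (φ ξ' ≫ f)).choose_spec.1
  have hext : ∀ {ξ : 𝒳.obj} {z : (OverPt π x₀).obj} {a b : z ⟶ y ξ},
      a.left ≫ φ ξ = b.left ≫ φ ξ → a = b := fun {ξ z a b} h =>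
    (huniv ξ z (a.left ≫ φ ξ)).unique rfl h.symm
  have hpb_id : ∀ ξ, pb (𝟙 ξ) = 𝟙 (y ξ) := fun ξ => hext (by
    rw [hpb, Category.comp_id]
    exact (Category.id_comp _).symm)
  have hpb_comp : ∀ {ξ'' ξ' ξ : 𝒳.obj} (g : ξ'' ⟶ ξ') (f : ξ' ⟶ ξ), pb (g ≫ f) = pb g ≫ pb f := fun g f =>
    hext (by
      rw [hpb]
      show _ = ((pb g).left ≫ (pb f).left) ≫ _
      rw [Category.assoc, hpb, ← Category.assoc, ← Category.assoc, hpb])
  have hsq : ∀ {ξ' ξ : 𝒳.obj} (f : ξ' ⟶ ξ), IsPullback (pb f).left (φ ξ') (φ ξ) f := fun {ξ' ξ} f => by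
    have key : ∀ s : PullbackCone (φ ξ) f, ∃ l : s.pt ⟶ (y ξ').left,
        (l ≫ (pb f).left = s.fst ∧ l ≫ φ ξ' = s.snd) ∧
          ∀ l', l' ≫ (pb f).left = s.fst → l' ≫ φ ξ' = s.snd → l' = l := fun s => by
      let z : (OverPt π x₀).obj := CostructuredArrow.mk (π.map s.fst ≫ (y ξ).hom)
      obtain ⟨l, hl₁, hlu⟩ := huniv ξ' z s.snd
      refine ⟨l.left, ⟨?_, hl₁⟩, fun l' h₁ h₂ => ?_⟩
      · refine congrArg CommaMorphism.left (hext (a := l ≫ pb f)
          (b := (CostructuredArrow.homMk s.fst rfl : z ⟶ y ξ)) ?_)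
        show (l.left ≫ (pb f).left) ≫ φ ξ = s.fst ≫ φ ξ
        rw [Category.assoc, hpb, reassoc_of% hl₁, s.condition]
      · have w : π.map l' ≫ (y ξ').hom = z.hom := by
          rw [← CostructuredArrow.w (pb f), ← Category.assoc, ← Functor.map_comp, h₁]
          rfl
        exact congrArg CommaMorphism.left (hlu (CostructuredArrow.homMk l' w) h₂)
    choose l hl₁ hlu using key
    exact ⟨⟨hpb f⟩, ⟨PullbackCone.IsLimit.mk (hpb f) l (fun s => (hl₁ s).1) (fun s => (hl₁ s).2)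
      fun s m h₁ h₂ => hlu s m h₁ h₂⟩⟩
  have hsqb := fun {ξ' ξ : 𝒳.obj} (f : ξ' ⟶ ξ) => isPullback_bmap hp (hsq f)
  let sc : ∀ ξ, Γ(StMod.sch 𝒳 ξ, ⊤) →+* Γ(StMod.sch (OverPt π x₀) (y ξ), ⊤) :=
    fun ξ => (StMod.bmap 𝒳 (φ ξ)).appTop.hom
  have hsc : ∀ {ξ' ξ : 𝒳.obj} (f : ξ' ⟶ ξ) (r : Γ(StMod.sch 𝒳 ξ, ⊤)),
      (StMod.bmap (OverPt π x₀) (pb f)).appTop (sc ξ r) = sc ξ' ((StMod.bmap 𝒳 f).appTop r) := fun {ξ' ξ} f r =>
    (congr($(congrArg Scheme.Hom.appTop (hsqb f).w) r) :)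
  letI : ∀ ξ, Module Γ(StMod.sch 𝒳 ξ, ⊤) Γ(L.obj.obj (y ξ), ⊤) := fun ξ => Module.compHom _ (sc ξ)
  let N : Sys.{u} 𝒳 :=
    { obj := fun ξ => Γ(L.obj.obj (y ξ), ⊤)
      res := fun f => (modSys L.obj).res (pb f)
      res_smul := fun {ξ' ξ} f r n => by
        show L.obj.mapTop (pb f) (sc ξ r • n) = sc ξ' ((StMod.bmap 𝒳 f).appTop r) • L.obj.mapTop (pb f) n
        rw [StMod.Mod.mapTop_smul, hsc]
      res_id := fun ξ n => by
        show L.obj.mapTop (pb (𝟙 ξ)) n = n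
        rw [hpb_id, StMod.Mod.mapTop_id]
      res_comp := fun g f n => by
        show L.obj.mapTop (pb (g ≫ f)) n = L.obj.mapTop (pb g) (L.obj.mapTop (pb f) n)
        rw [hpb_comp, StMod.Mod.mapTop_comp] }
  have hS := isSheaf_modSys hq L.property
  have hcov : ∀ {ξ : 𝒳.obj} {κ : Type u} {z : κ → 𝒳.obj} {g : ∀ i, z i ⟶ ξ}, IsCov z g →
      IsCov (fun i => y (z i)) fun i => pb (g i) := fun {ξ κ z g} h =>
    ⟨fun i => MorphismProperty.of_isPullback (hsqb (g i)).flip (h.flat i),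
      fun i => MorphismProperty.of_isPullback (hsqb (g i)).flip (h.lfp i), fun p => by
        obtain ⟨i, hi⟩ := h.surj (StMod.bmap 𝒳 (φ ξ) p)
        exact ⟨i, surj_of_isPullback (hsqb (g i)) hi⟩⟩
  have hN : N.IsSheaf := by
    refine ⟨fun ξ κ z g h s s' e => hS.1 _ _ (hcov h) s s' e, fun ξ κ z g h x hx =>
      hS.2 _ _ (hcov h) x fun i j w a c e => ?_⟩
    obtain ⟨s, hs, -⟩ := huniv w.left w (𝟙 w.left)
    have key : ∀ (i : κ) (a : w ⟶ y (z i)), s ≫ pb (a.left ≫ φ (z i)) = a := fun i a => hext (by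
      show (s.left ≫ (pb _).left) ≫ _ = _
      rw [Category.assoc, hpb, reassoc_of% hs])
    show L.obj.mapTop a (x i) = L.obj.mapTop c (x j)
    rw [← key i a, ← key j c, StMod.Mod.mapTop_comp, StMod.Mod.mapTop_comp]
    refine congrArg (L.obj.mapTop s) (hx i j w.left (a.left ≫ φ (z i)) (c.left ≫ φ (z j)) ?_)
    rw [Category.assoc, Category.assoc, ← hpb, ← hpb, ← Category.assoc, ← Category.assoc]
    exact congrArg (fun m : w ⟶ y ξ => m.left ≫ φ ξ) e
  have hBC : N.HasBC := by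
    intro ξ' ξ f hξ hξ'
    haveI := hξ
    haveI := hξ'
    haveI hy : IsAffine (StMod.sch 𝒳 (y ξ).left) := isAffine_of_isAffineHom (StMod.bmap 𝒳 (φ ξ))
    haveI hy' : IsAffine (StMod.sch 𝒳 (y ξ').left) := isAffine_of_isAffineHom (StMod.bmap 𝒳 (φ ξ'))
    rw [Sys.bc_iff]
    haveI : IsAffine (StMod.sch (OverPt π x₀) (y ξ)) := hy
    haveI : IsAffine (StMod.sch (OverPt π x₀) (y ξ')) := hy'
    have h := (Sys.bc_iff (pb f)).1 (hasBC_modSys L.property (pb f) hy hy')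
    exact isSemiBC_of_isPushout (σ := (StMod.bmap 𝒳 f).appTop.hom) (ρ := sc ξ) (ρ' := sc ξ')
      (isPushout_appTop_of_isPullback (hsqb f).flip) (fun _ _ => rfl) (fun _ _ => rfl) h
  obtain ⟨G, η, hηb, hηl, hηn⟩ := exists_qcoh_of_sys hp N hN hBC
  refine ⟨G, isTwisted_of_top χ hp G.property.1 fun ξ a s => ?_, fun ξ => ?_, fun h0 => ?_⟩
  · refine (hηb ξ).1 ((hηn _ s).trans (Eq.trans ?_ (hηl ξ _ s).symm))
    show L.obj.mapTop (pb (ι.hom ξ a).hom.1) (show Γ(L.obj.obj (y ξ), ⊤) from η ξ s) =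
      sc ξ (twScal χ ξ a) • (show Γ(L.obj.obj (y ξ), ⊤) from η ξ s)
    let a' : A.obj (op (𝒳.p.obj (y ξ).left)) := A.map (𝒳.p.map (φ ξ)).op a
    let γ : y ξ ⟶ y ξ := CostructuredArrow.homMk (ι.hom (y ξ).left a').hom.1 (by
      rw [hπ.map_hom_eq_id]
      exact Category.id_comp _)
    have hγ : pb (ι.hom ξ a).hom.1 = γ := hext (by
      rw [hpb]
      exact (ι.natural (φ ξ) a).symm)
    rw [hγ, hband (y ξ) γ a' rfl]
    exact congrArg (· • (show Γ(L.obj.obj (y ξ), ⊤) from η ξ s)) (twScal_map χ (φ ξ) a)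
  · refine QCoh.isFT_of_affine_finite (G.property.2 ξ) fun V hV => ?_
    let ζ := lft hp ξ V
    haveI : IsAffine (V : Scheme.{u}) := hV
    haveI : IsAffine (StMod.sch 𝒳 ζ) := IsAffine.of_isIso (lftIso hp ξ V).hom
    haveI : IsAffine (StMod.sch 𝒳 (y ζ).left) := isAffine_of_isAffineHom (StMod.bmap 𝒳 (φ ζ))
    haveI : IsAffine (StMod.sch (OverPt π x₀) (y ζ)) := ‹IsAffine (StMod.sch 𝒳 (y ζ).left)›
    haveI : Module.Finite Γ(StMod.sch 𝒳 ζ, ⊤) (N.obj ζ) := by
      letI : Algebra Γ(StMod.sch 𝒳 ζ, ⊤) Γ(StMod.sch (OverPt π x₀) (y ζ), ⊤) := (sc ζ).toAlgebra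
      haveI : Module.Finite Γ(StMod.sch 𝒳 ζ, ⊤) Γ(StMod.sch (OverPt π x₀) (y ζ), ⊤) :=
        (StMod.bmap 𝒳 (φ ζ)).finite_appTop
      haveI : Module.Finite Γ(StMod.sch (OverPt π x₀) (y ζ), ⊤) Γ(L.obj.obj (y ζ), ⊤) :=
        finite_line hπ hp θ hb hl (y ζ)
      haveI : IsScalarTower Γ(StMod.sch 𝒳 ζ, ⊤) Γ(StMod.sch (OverPt π x₀) (y ζ), ⊤) Γ(L.obj.obj (y ζ), ⊤) :=
        IsScalarTower.of_algebraMap_smul fun _ _ => rfl
      exact Module.Finite.trans Γ(StMod.sch (OverPt π x₀) (y ζ), ⊤) Γ(L.obj.obj (y ζ), ⊤)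
    have hle := top_le_lftι hp ξ V
    have hr := (opensRange_lftι hp ξ V).ge
    haveI : IsIso ((StMod.bmap 𝒳 (lftι hp ξ V)).appLE V ⊤ hle) :=
      isIso_appLE_of_eq (StMod.bmap 𝒳 (lftι hp ξ V)) V ⊤ hle hr (top_le_iff.1 hle)
    refine finite_of_semilinear (σ := ((StMod.bmap 𝒳 (lftι hp ξ V)).appLE V ⊤ hle).hom)
      (ConcreteCategory.bijective_of_isIso _).2 (l := (η ζ).comp (toObj G.obj (lftι hp ξ V) V hle))
      (fun r v => ?_) ((hηb ζ).comp (bijective_toObj G.property.1 _ V hle hr))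
    show η ζ (toObj G.obj (lftι hp ξ V) V hle (r • v)) = _
    rw [toObj_smul, hηl]
    rfl
  · obtain ⟨s, hs, -⟩ := huniv x₀ (ptObj π x₀) (𝟙 x₀)
    haveI : IsAffine (StMod.sch (OverPt π x₀) (ptObj π x₀)) := ‹IsAffine (StMod.sch 𝒳 x₀)›
    haveI : IsAffine (StMod.sch (OverPt π x₀) (y x₀)) := isAffine_of_isAffineHom (StMod.bmap 𝒳 (φ x₀))
    have hG : ∀ v : Γ(G.obj.obj x₀, ⊤), v = 0 := fun v => by
      have e : 𝟙 G = 0 := h0.eq_of_src _ _
      exact congrArg (fun m : G ⟶ G => (m.hom.app x₀).app ⊤ v) e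
    have hM : Subsingleton Γ(L.obj.obj (y x₀), ⊤) := ⟨fun u v => by
      obtain ⟨u', rfl⟩ := (hηb x₀).2 u
      obtain ⟨v', rfl⟩ := (hηb x₀).2 v
      rw [hG u', hG v']⟩
    obtain ⟨hs₁, hbc⟩ := (Sys.bc_iff s).1 (hasBC_modSys L.property s inferInstance inferInstance)
    have : Subsingleton Γ(L.obj.obj (ptObj π x₀), ⊤) := by
      refine ⟨fun u v => ?_⟩
      letI := (StMod.bmap (OverPt π x₀) s).appTop.hom.toAlgebra
      letI : Module Γ(StMod.sch (OverPt π x₀) (y x₀), ⊤) ((modSys L.obj).obj (ptObj π x₀)) :=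
        Module.compHom _ (StMod.bmap (OverPt π x₀) s).appTop.hom
      haveI : IsScalarTower Γ(StMod.sch (OverPt π x₀) (y x₀), ⊤) Γ(StMod.sch (OverPt π x₀) (ptObj π x₀), ⊤)
          ((modSys L.obj).obj (ptObj π x₀)) := IsScalarTower.of_algebraMap_smul fun _ _ => rfl
      obtain ⟨u', rfl⟩ := hbc.equiv.surjective u
      obtain ⟨v', rfl⟩ := hbc.equiv.surjective v
      haveI : Subsingleton (Γ(StMod.sch (OverPt π x₀) (ptObj π x₀), ⊤) ⊗[Γ(StMod.sch (OverPt π x₀) (y x₀), ⊤)]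
          (modSys L.obj).obj (y x₀)) := by
        refine subsingleton_of_forall_eq 0 fun t => ?_
        induction t using TensorProduct.induction_on with
        | zero => rfl
        | add a b ha hb => rw [ha, hb, add_zero]
        | tmul p q => rw [hM.elim q 0, TensorProduct.tmul_zero]
      exact congrArg _ (Subsingleton.elim u' v')
    have hnt : Subsingleton Γ(StMod.sch 𝒳 x₀, ⊤) := by
      refine ⟨fun u v => ?_⟩
      obtain ⟨u', hu⟩ := (hb ⟨ptObj π x₀, 𝟙 _⟩).2 u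
      obtain ⟨v', hv⟩ := (hb ⟨ptObj π x₀, 𝟙 _⟩).2 v
      refine hu.symm.trans (Eq.trans ?_ hv)
      exact congrArg _ (this.elim u' v')
    exact false_of_nontrivial_of_subsingleton Γ(StMod.sch 𝒳 x₀, ⊤)

end Groth.Agent.StModLib
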