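import Groth.Agent.StModLib.GerbeSys

/-!
# Inverse image along a gerbe is fully faithful; descent of modules trivial on the band
-/

set_option autoImplicit false
set_option linter.style.haveILetI false
set_option linter.unusedSectionVars false
set_option backward.isDefEq.respectTransparency false
set_option backward.isDefEq.respectTransparency.types false

universe u

open CategoryTheory CategoryTheory.Limits AlgebraicGeometry Opposite

namespace Groth.Agent.StModLib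

variable {S : Scheme.{u}} {𝒳 𝒴 : AlgSt.Cat S} (π : 𝒳 ⥤ᵇ 𝒴)

theorem appTop_eqToHom_symm {X T : Scheme.{u}} (h : X = T) (r : Γ(X, ⊤)) :
    (eqToHom h).appTop ((eqToHom h.symm).appTop r) = r := by
  subst h
  rfl

theorem cmp_symm_smul (G : StMod.Mod 𝒴) (x : 𝒳.obj) (r : Γ(StMod.sch 𝒴 (π.obj x), ⊤))
    (t : Γ(G.obj (π.obj x), ⊤)) :
    (cmp π G x).symm (r • t) = (eqToHom (StMod.sch_obj_eq π x).symm).appTop r • (cmp π G x).symm t := by
  apply (cmp π G x).injective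
  rw [AddEquiv.apply_symm_apply, cmp_smul, AddEquiv.apply_symm_apply, appTop_eqToHom_symm]

theorem comapQ_faithful (hπ : Gerb.LocSurjObj (QuotSh.J Scheme.fppfPrecoverage S) π)
    (hp' : FibCat.IsFibGrpd 𝒴.p) : (StMod.comapQ π).Faithful := by
  refine ⟨fun {G G'} u v h => ObjectProperty.hom_ext _ ?_⟩
  refine hom_ext_of_dense hp' (isDense_of_locSurjObj π hπ) G'.property fun x t => ?_
  have e := congrArg (fun w => cmp π G'.obj x ((w.hom.app x).app ⊤ ((cmp π G.obj x).symm t))) h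
  simp only [StMod.comapQ_map_hom] at e
  erw [cmp_comapMap, cmp_comapMap] at e
  simpa using e

theorem comapQ_full (hπ : Gerb.IsGerbeOver (QuotSh.J Scheme.fppfPrecoverage S) π)
    (hp : FibCat.IsFibGrpd 𝒳.p) (hp' : FibCat.IsFibGrpd 𝒴.p) : (StMod.comapQ π).Full := by
  refine ⟨fun {G G'} w => ?_⟩
  have hd := isDense_of_locSurjObj π hπ.1
  let m : ∀ x, Γ(G.obj.obj (π.obj x), ⊤) →+ Γ(G'.obj.obj (π.obj x), ⊤) := fun x =>
    AddMonoidHom.mk' (fun t => cmp π G'.obj x ((w.hom.app x).app ⊤ ((cmp π G.obj x).symm t)))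
      fun t t' => by
        show cmp π G'.obj x ((w.hom.app x).app ⊤ ((cmp π G.obj x).symm (t + t'))) = _
        rw [map_add]
        exact (congrArg (cmp π G'.obj x) (map_add ((w.hom.app x).app ⊤).hom _ _)).trans (map_add _ _ _)
  have himg : ∀ {x' x : 𝒳.obj} (φ : x' ⟶ x) (t : Γ(G.obj.obj (π.obj x), ⊤)),
      G'.obj.mapTop (π.map φ) (m x t) = m x' (G.obj.mapTop (π.map φ) t) := fun {x' x} φ t => by
    show G'.obj.mapTop (π.map φ) (cmp π G'.obj x _) = cmp π G'.obj x' ((w.hom.app x').app ⊤ _)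
    rw [← cmp_mapTop]
    refine congrArg (cmp π G'.obj x') ((StMod.Mod.mapTop_app w.hom φ _).trans ?_)
    refine congrArg ((w.hom.app x').app ⊤) ((cmp π G.obj x').injective ?_)
    rw [AddEquiv.apply_symm_apply]
    exact (cmp_mapTop π G.obj φ _).trans (by rw [AddEquiv.apply_symm_apply])
  obtain ⟨a, ha⟩ := exists_hom_of_dense hp' hd (isStable_obj π hp hp') G'.property m
    (fun x r t => by
      show cmp π G'.obj x ((w.hom.app x).app ⊤ ((cmp π G.obj x).symm (r • t))) =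
        r • cmp π G'.obj x ((w.hom.app x).app ⊤ ((cmp π G.obj x).symm t))
      rw [cmp_symm_smul]
      erw [Scheme.Modules.Hom.app_smul, cmp_smul]
      rw [appTop_eqToHom_symm])
    (fun {x' x} b t => by
      obtain ⟨ι, z, φ, hc, hψ⟩ := exists_cov_hom π hπ.2 hp hp' b
      choose ψ hψ using hψ
      refine (isSheaf_modSys hp' G'.property).1 _ _ (isCov_map π hc) _ _ fun i => ?_
      show G'.obj.mapTop (π.map (φ i)) (G'.obj.mapTop b (m x t)) = G'.obj.mapTop (π.map (φ i)) (m x' _)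
      rw [himg, ← StMod.Mod.mapTop_comp, ← StMod.Mod.mapTop_comp, hψ i, himg])
  refine ⟨ObjectProperty.homMk a, ObjectProperty.hom_ext _ ?_⟩
  refine hom_ext_sys hp ((StMod.comapQ π).obj G').property.1 fun x s => (cmp π G'.obj x).injective ?_
  refine Eq.trans (cmp_comapMap π a x s) ((ha x _).trans ?_)
  show cmp π G'.obj x ((w.hom.app x).app ⊤ ((cmp π G.obj x).symm (cmp π G.obj x s))) = _
  rw [AddEquiv.symm_apply_apply]

section Descend

variable {A : (Over S)ᵒᵖ ⥤ GrpCat.{u}} {ι : TwSh.BandHom 𝒳 A} {χ : A ⟶ TwSh.GmPsh S}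
  (hπ : TwSh.IsBandedGerbe (QuotSh.J Scheme.fppfPrecoverage S) π ι)
  (hp : FibCat.IsFibGrpd 𝒳.p) (hp' : FibCat.IsFibGrpd 𝒴.p)
  {F : StMod.QCoh 𝒳} (hF : TwSh.IsTwisted F.obj ι χ 0)

include hπ hp hp' hF in
theorem existsUnique_res {x' x : 𝒳.obj} (b : π.obj x' ⟶ π.obj x) (n : Γ(F.obj.obj x, ⊤)) :
    ∃! m : Γ(F.obj.obj x', ⊤), ∀ (z : 𝒳.obj) (φ : z ⟶ x') (ψ : z ⟶ x), π.map φ ≫ b = π.map ψ →
      F.obj.mapTop φ m = F.obj.mapTop ψ n := by
  obtain ⟨κ, z, φ, hc, hψ⟩ := exists_cov_hom π hπ.1.2 hp hp' b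
  choose ψ hψ using hψ
  have hS := isSheaf_modSys hp F.property
  obtain ⟨m, hm⟩ := hS.2 z φ hc (fun i => F.obj.mapTop (ψ i) n) fun i j y a c e => by
    show F.obj.mapTop a (F.obj.mapTop (ψ i) n) = F.obj.mapTop c (F.obj.mapTop (ψ j) n)
    rw [← StMod.Mod.mapTop_comp, ← StMod.Mod.mapTop_comp]
    refine mapTop_eq_of_zero_twisted π hπ hp hp' hF ?_ n
    rw [Functor.map_comp, Functor.map_comp, ← hψ, ← hψ, ← Category.assoc, ← Category.assoc,
      ← Functor.map_comp, ← Functor.map_comp, e]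
  refine ⟨m, fun z₀ φ₀ ψ₀ h₀ => ?_, fun m' hm' =>
    hS.1 z φ hc _ _ fun i => (hm' _ _ _ (hψ i)).trans (hm i).symm⟩
  obtain ⟨y, α, β, hy, hsq⟩ := hc.exists_pullback hp φ₀
  refine hS.1 y α hy _ _ fun i => ?_
  show F.obj.mapTop (α i) (F.obj.mapTop φ₀ m) = F.obj.mapTop (α i) (F.obj.mapTop ψ₀ n)
  rw [← StMod.Mod.mapTop_comp, (hsq i).w, StMod.Mod.mapTop_comp, show F.obj.mapTop (φ i) m = _ from hm i,
    ← StMod.Mod.mapTop_comp, ← StMod.Mod.mapTop_comp]
  refine mapTop_eq_of_zero_twisted π hπ hp hp' hF ?_ n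
  rw [Functor.map_comp, Functor.map_comp, ← hψ, ← h₀, ← Category.assoc, ← Category.assoc,
    ← Functor.map_comp, ← Functor.map_comp, (hsq i).w]

/-- Restriction along a morphism between images. -/
noncomputable def descRes {x' x : 𝒳.obj} (b : π.obj x' ⟶ π.obj x) : Γ(F.obj.obj x, ⊤) →+ Γ(F.obj.obj x', ⊤) :=
  AddMonoidHom.mk' (fun n => (existsUnique_res π hπ hp hp' hF b n).choose) fun n n' =>
    (((existsUnique_res π hπ hp hp' hF b (n + n')).choose_spec.2 _) fun z φ ψ h => by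
      rw [StMod.Mod.mapTop_add, (existsUnique_res π hπ hp hp' hF b n).choose_spec.1 z φ ψ h,
        (existsUnique_res π hπ hp hp' hF b n').choose_spec.1 z φ ψ h, StMod.Mod.mapTop_add]).symm

theorem descRes_spec {x' x : 𝒳.obj} (b : π.obj x' ⟶ π.obj x) (n : Γ(F.obj.obj x, ⊤)) {z : 𝒳.obj}
    (φ : z ⟶ x') (ψ : z ⟶ x) (h : π.map φ ≫ b = π.map ψ) :
    F.obj.mapTop φ (descRes π hπ hp hp' hF b n) = F.obj.mapTop ψ n :=
  (existsUnique_res π hπ hp hp' hF b n).choose_spec.1 z φ ψ h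

theorem eq_descRes {x' x : 𝒳.obj} {b : π.obj x' ⟶ π.obj x} {n : Γ(F.obj.obj x, ⊤)} {m : Γ(F.obj.obj x', ⊤)}
    (h : ∀ (z : 𝒳.obj) (φ : z ⟶ x') (ψ : z ⟶ x), π.map φ ≫ b = π.map ψ →
      F.obj.mapTop φ m = F.obj.mapTop ψ n) : m = descRes π hπ hp hp' hF b n :=
  (existsUnique_res π hπ hp hp' hF b n).choose_spec.2 m h

theorem descRes_map {x' x : 𝒳.obj} (φ : x' ⟶ x) (n : Γ(F.obj.obj x, ⊤)) :
    descRes π hπ hp hp' hF (π.map φ) n = F.obj.mapTop φ n :=
  (eq_descRes π hπ hp hp' hF fun z α ψ h => by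
    rw [← StMod.Mod.mapTop_comp]
    exact mapTop_eq_of_zero_twisted π hπ hp hp' hF (by rw [Functor.map_comp, h]) n).symm

theorem descRes_comp {x'' x' x : 𝒳.obj} (b : π.obj x'' ⟶ π.obj x') (c : π.obj x' ⟶ π.obj x)
    (n : Γ(F.obj.obj x, ⊤)) :
    descRes π hπ hp hp' hF (b ≫ c) n = descRes π hπ hp hp' hF b (descRes π hπ hp hp' hF c n) := by
  have hS := isSheaf_modSys hp F.property
  obtain ⟨κ, z, φ, hc, hψ⟩ := exists_cov_hom π hπ.1.2 hp hp' b
  choose ψ hψ using hψ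
  refine hS.1 z φ hc _ _ fun i => ?_
  show F.obj.mapTop (φ i) _ = F.obj.mapTop (φ i) _
  rw [descRes_spec π hπ hp hp' hF b _ _ _ (hψ i)]
  obtain ⟨κ', z', φ', hc', hψ'⟩ := exists_cov_hom π hπ.1.2 hp hp' (π.map (ψ i) ≫ c)
  choose ψ' hψ' using hψ'
  refine hS.1 z' φ' hc' _ _ fun j => ?_
  show F.obj.mapTop (φ' j) _ = F.obj.mapTop (φ' j) _
  rw [← StMod.Mod.mapTop_comp, ← StMod.Mod.mapTop_comp,
    descRes_spec π hπ hp hp' hF c n (φ' j ≫ ψ i) (ψ' j) (by rw [Functor.map_comp, Category.assoc, hψ']),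
    descRes_spec π hπ hp hp' hF (b ≫ c) n (φ' j ≫ φ i) (ψ' j) (by
      rw [Functor.map_comp, Category.assoc, ← Category.assoc (π.map (φ i)), hψ, hψ'])]

/-- The scalars of the base on sections over a preimage. -/
noncomputable def baseScal (x : 𝒳.obj) : Γ(StMod.sch 𝒴 (π.obj x), ⊤) →+* Γ(StMod.sch 𝒳 x, ⊤) :=
  (eqToHom (StMod.sch_obj_eq π x).symm).appTop.hom

theorem baseScal_map {x' x : 𝒳.obj} (φ : x' ⟶ x) (r : Γ(StMod.sch 𝒴 (π.obj x), ⊤)) :
    (StMod.bmap 𝒳 φ).appTop (baseScal π x r) = baseScal π x' ((StMod.bmap 𝒴 (π.map φ)).appTop r) := by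
  have e : StMod.bmap 𝒳 φ ≫ eqToHom (StMod.sch_obj_eq π x).symm =
      eqToHom (StMod.sch_obj_eq π x').symm ≫ StMod.bmap 𝒴 (π.map φ) := by
    rw [bmap_map, ← Category.assoc, eqToHom_trans, eqToHom_refl, Category.id_comp]
  exact (congr($(congrArg Scheme.Hom.appTop e) r) :)

/-- The descended data. -/
noncomputable def descSys : DSys π.obj :=
  letI : ∀ x, Module Γ(StMod.sch 𝒴 (π.obj x), ⊤) Γ(F.obj.obj x, ⊤) := fun x =>
    Module.compHom _ (baseScal π x)
  { obj := fun x => Γ(F.obj.obj x, ⊤)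
    res := descRes π hπ hp hp' hF
    res_smul := fun {x' x} b r n => by
      obtain ⟨κ, z, φ, hc, hψ⟩ := exists_cov_hom π hπ.1.2 hp hp' b
      choose ψ hψ using hψ
      refine (isSheaf_modSys hp F.property).1 z φ hc _ _ fun i => ?_
      show F.obj.mapTop (φ i) (descRes π hπ hp hp' hF b (baseScal π x r • n)) =
        F.obj.mapTop (φ i) (baseScal π x' ((StMod.bmap 𝒴 b).appTop r) • descRes π hπ hp hp' hF b n)
      rw [descRes_spec π hπ hp hp' hF b _ _ _ (hψ i), StMod.Mod.mapTop_smul, StMod.Mod.mapTop_smul,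
        descRes_spec π hπ hp hp' hF b _ _ _ (hψ i), baseScal_map, baseScal_map, ← hψ i, StMod.bmap_comp,
        Scheme.Hom.comp_appTop]
      rfl
    res_id := fun x n => by
      have h := descRes_map π hπ hp hp' hF (𝟙 x) n
      rw [StMod.Mod.mapTop_id] at h
      exact (congrArg (fun b => descRes π hπ hp hp' hF b n) (π.toFunctor.map_id x).symm).trans h
    res_comp := fun ψ φ n => descRes_comp π hπ hp hp' hF ψ φ n }

theorem isSheaf_descSys : (descSys π hπ hp hp' hF).IsSheaf := by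
  intro x κ k b hb
  have hS := isSheaf_modSys hp F.property
  choose τ z φ hc hψ using fun i => exists_cov_hom π hπ.1.2 hp hp' (b i)
  choose ψ hψ using hψ
  have hall : IsCov (fun p : Σ i, τ i => z p.1 p.2) fun p => ψ p.1 p.2 := by
    have h := hb.comp fun i => isCov_map π (hc i)
    refine ⟨fun p => ?_, fun p => ?_, fun t => ?_⟩
    · have h' := h.flat p
      rw [hψ, bmap_map] at h'
      exact (MorphismProperty.cancel_right_of_respectsIso @Flat _ _).1
        ((MorphismProperty.cancel_left_of_respectsIso @Flat _ _).1 h')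
    · have h' := h.lfp p
      rw [hψ, bmap_map] at h'
      exact (MorphismProperty.cancel_right_of_respectsIso @LocallyOfFinitePresentation _ _).1
        ((MorphismProperty.cancel_left_of_respectsIso @LocallyOfFinitePresentation _ _).1 h')
    · obtain ⟨p, s, hs⟩ := h.surj (eqToHom (StMod.sch_obj_eq π x).symm t)
      refine ⟨p, eqToHom (StMod.sch_obj_eq π (z p.1 p.2)) s, ?_⟩
      rw [hψ, bmap_map, Scheme.Hom.comp_apply, Scheme.Hom.comp_apply] at hs
      exact (Scheme.Hom.isOpenEmbedding (eqToHom (StMod.sch_obj_eq π x).symm)).injective hs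
  refine ⟨fun s s' e => hS.1 _ _ hall s s' fun ⟨i, l⟩ => ?_, fun t ht => ?_⟩
  · show F.obj.mapTop (ψ i l) s = F.obj.mapTop (ψ i l) s'
    rw [← descRes_spec π hπ hp hp' hF (b i) s _ _ (hψ i l), ← descRes_spec π hπ hp hp' hF (b i) s' _ _ (hψ i l)]
    exact congrArg _ (e i)
  · obtain ⟨s, hs⟩ := hS.2 _ _ hall (fun p => F.obj.mapTop (φ p.1 p.2) (t p.1)) fun p q y a c e => by
      show F.obj.mapTop a (F.obj.mapTop _ (show Γ(F.obj.obj _, ⊤) from t p.1)) =
        F.obj.mapTop c (F.obj.mapTop _ (show Γ(F.obj.obj _, ⊤) from t q.1))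
      rw [← StMod.Mod.mapTop_comp, ← StMod.Mod.mapTop_comp, ← descRes_map π hπ hp hp' hF,
        ← descRes_map π hπ hp hp' hF]
      refine ht p.1 q.1 y _ _ ?_
      rw [Functor.map_comp, Functor.map_comp, Category.assoc, Category.assoc, hψ, hψ, ← Functor.map_comp,
        ← Functor.map_comp, e]
    refine ⟨s, fun i => hS.1 _ _ (hc i) _ _ fun l => ?_⟩
    show F.obj.mapTop (φ i l) _ = F.obj.mapTop (φ i l) _
    exact (descRes_spec π hπ hp hp' hF (b i) s _ _ (hψ i l)).trans (hs ⟨i, l⟩)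

theorem hasBC_descSys : (descSys π hπ hp hp' hF).HasBC := by
  intro x' x f hx hx'
  obtain ⟨x'', φ'', e, h, -, he'⟩ := exists_lift_map π hp hp' f
  let N := descSys π hπ hp hp' hF
  haveI := hx
  haveI := hx'
  haveI : IsAffine (StMod.sch 𝒴 (π.obj x'')) := IsAffine.of_isIso (inv (StMod.bmap 𝒴 e.hom))
  haveI : IsAffine (StMod.sch 𝒳 x) := IsAffine.of_isIso (eqToHom (StMod.sch_obj_eq π x).symm)
  haveI : IsAffine (StMod.sch 𝒳 x'') := IsAffine.of_isIso (eqToHom (StMod.sch_obj_eq π x'').symm)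
  have hbij : ∀ z : 𝒳.obj, Function.Bijective (baseScal π z) := fun z =>
    ConcreteCategory.bijective_of_isIso _
  let sB : Γ(StMod.sch 𝒳 x'', ⊤) →+* Γ(StMod.sch 𝒴 (π.obj x''), ⊤) :=
    (eqToHom (StMod.sch_obj_eq π x'')).appTop.hom
  let l₁ : N.obj x →+ Γ(F.obj.obj x, ⊤) := AddMonoidHom.id _
  let l₃ : Γ(F.obj.obj x'', ⊤) →+ N.obj x'' := AddMonoidHom.id _
  have h₁ : IsSemiBC (baseScal π x) l₁ :=
    isSemiBC_of_bijective (fun r m => rfl) (hbij x) Function.bijective_id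
  have h₂ : IsSemiBC (StMod.bmap 𝒳 φ'').appTop.hom ((modSys F.obj).res φ'') :=
    (Sys.bc_iff φ'').1 (hasBC_modSys F.property φ'' inferInstance inferInstance)
  have h₃ : IsSemiBC sB l₃ := by
    refine isSemiBC_of_bijective (fun r m => ?_) (ConcreteCategory.bijective_of_isIso _) Function.bijective_id
    show r • (m : Γ(F.obj.obj x'', ⊤)) = baseScal π x'' (sB r) • (m : Γ(F.obj.obj x'', ⊤))
    exact congrArg (fun c : Γ(StMod.sch 𝒳 x'', ⊤) => c • (m : Γ(F.obj.obj x'', ⊤)))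
      (appTop_eqToHom_symm (StMod.sch_obj_eq π x'').symm r).symm
  have h₄ : IsSemiBC (StMod.bmap 𝒴 e.hom).appTop.hom (N.res e.hom) := by
    refine isSemiBC_of_bijective (fun r m => N.res_smul e.hom r m) (ConcreteCategory.bijective_of_isIso _) ?_
    refine Function.bijective_iff_has_inverse.2 ⟨N.res e.inv, fun a => ?_, fun a => ?_⟩
    · rw [← N.res_comp, e.inv_hom_id, N.res_id]
    · rw [← N.res_comp, e.hom_inv_id, N.res_id]
  have h₅ := ((h₁.comp h₂).comp h₃).comp h₄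
  have e₁ : (N.res e.hom).comp (l₃.comp (((modSys F.obj).res φ'').comp l₁)) = N.res f :=
    AddMonoidHom.ext fun n => by
      show N.res e.hom (F.obj.mapTop φ'' (show Γ(F.obj.obj x, ⊤) from n)) = _
      rw [← he', N.res_comp]
      exact congrArg (N.res e.hom) (descRes_map π hπ hp hp' hF φ'' n).symm
  have e₂ : (StMod.bmap 𝒴 e.hom).appTop.hom.comp
      (sB.comp ((StMod.bmap 𝒳 φ'').appTop.hom.comp (baseScal π x))) = (StMod.bmap 𝒴 f).appTop.hom := by
    rw [← he', StMod.bmap_comp, Scheme.Hom.comp_appTop]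
    refine RingHom.ext fun r => congrArg (StMod.bmap 𝒴 e.hom).appTop ?_
    show sB ((StMod.bmap 𝒳 φ'').appTop (baseScal π x r)) = _
    rw [baseScal_map]
    exact appTop_eqToHom_symm (StMod.sch_obj_eq π x'') _
  rw [e₁, e₂] at h₅
  exact h₅

end Descend

end Groth.Agent.StModLib
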