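import Groth.Agent.StModLib.GerbePull

/-!
# Twisted modules on a gerbe with a section are modules on the base
-/

set_option autoImplicit false
set_option linter.style.haveILetI false
set_option linter.unusedSectionVars false
set_option backward.isDefEq.respectTransparency false
set_option backward.isDefEq.respectTransparency.types false

universe u

open CategoryTheory CategoryTheory.Limits AlgebraicGeometry Opposite

namespace Groth.Agent.StModLib

variable {S : Scheme.{u}} {𝒳 𝒴 : AlgSt.Cat S}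

theorem comapQ_faithful_of_dense (f : 𝒳 ⥤ᵇ 𝒴) (hd : IsDense f.obj) (hp' : FibCat.IsFibGrpd 𝒴.p) :
    (StMod.comapQ f).Faithful := by
  refine ⟨fun {G G'} u v h => ObjectProperty.hom_ext _ ?_⟩
  refine hom_ext_of_dense hp' hd G'.property fun x t => ?_
  have e := congrArg (fun w => cmp f G'.obj x ((w.hom.app x).app ⊤ ((cmp f G.obj x).symm t))) h
  simp only [StMod.comapQ_map_hom] at e
  erw [cmp_comapMap, cmp_comapMap] at e
  simpa using e

/-- The family on images of a morphism between inverse images. -/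
theorem exists_image_family (f : 𝒳 ⥤ᵇ 𝒴) {G G' : StMod.Mod 𝒴}
    (w : StMod.Mod.comap f G ⟶ StMod.Mod.comap f G') :
    ∃ m : ∀ x, Γ(G.obj (f.obj x), ⊤) →+ Γ(G'.obj (f.obj x), ⊤),
      (∀ x (r : Γ(StMod.sch 𝒴 (f.obj x), ⊤)) (t : Γ(G.obj (f.obj x), ⊤)), m x (r • t) = r • m x t) ∧
      (∀ {x' x : 𝒳.obj} (φ : x' ⟶ x) (t : Γ(G.obj (f.obj x), ⊤)),
        G'.mapTop (f.map φ) (m x t) = m x' (G.mapTop (f.map φ) t)) ∧
      ∀ x (s : Γ((StMod.Mod.comap f G).obj x, ⊤)), cmp f G' x ((w.app x).app ⊤ s) = m x (cmp f G x s) := by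
  refine ⟨fun x => (cmp f G' x).toAddMonoidHom.comp (((w.app x).app ⊤).hom.comp
    (cmp f G x).symm.toAddMonoidHom), fun x r t => ?_, fun {x' x} φ t => ?_, fun x s => ?_⟩
  · show cmp f G' x ((w.app x).app ⊤ ((cmp f G x).symm (r • t))) =
      r • cmp f G' x ((w.app x).app ⊤ ((cmp f G x).symm t))
    rw [cmp_symm_smul]
    erw [Scheme.Modules.Hom.app_smul, cmp_smul]
    rw [appTop_eqToHom_symm]
  · show G'.mapTop (f.map φ) (cmp f G' x _) = cmp f G' x' ((w.app x').app ⊤ _)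
    rw [← cmp_mapTop]
    refine congrArg (cmp f G' x') ((StMod.Mod.mapTop_app w φ _).trans ?_)
    refine congrArg ((w.app x').app ⊤) ((cmp f G x').injective ?_)
    show cmp f G x' ((StMod.Mod.comap f G).mapTop φ ((cmp f G x).symm t)) =
      cmp f G x' ((cmp f G x').symm (G.mapTop (f.map φ) t))
    rw [cmp_mapTop, AddEquiv.apply_symm_apply, AddEquiv.apply_symm_apply]
  · show _ = cmp f G' x ((w.app x).app ⊤ ((cmp f G x).symm (cmp f G x s)))
    rw [AddEquiv.symm_apply_apply]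

section Twist

variable {A : (Over S)ᵒᵖ ⥤ GrpCat.{u}} (χ : A ⟶ TwSh.GmPsh S)

/-- The scalar by which the band acts on twisted modules. -/
noncomputable def twScal (x : 𝒳.obj) (a : A.obj (op (𝒳.p.obj x))) : Γ(StMod.sch 𝒳 x, ⊤) :=
  ((TwSh.charUnit χ x a ^ (1 : ℤ))⁻¹).val

theorem twScal_eq (x : 𝒳.obj) (a : A.obj (op (𝒳.p.obj x))) :
    twScal χ x a = ((TwSh.charUnit χ x a)⁻¹).val := by
  rw [twScal, zpow_one]

theorem twScal_one (x : 𝒳.obj) : twScal χ x 1 = 1 := by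
  rw [twScal_eq, TwSh.charUnit, map_one]
  rfl

theorem twScal_mul (x : 𝒳.obj) (a b : A.obj (op (𝒳.p.obj x))) :
    twScal χ x (a * b) = twScal χ x a * twScal χ x b := by
  rw [twScal_eq, twScal_eq, twScal_eq, TwSh.charUnit, TwSh.charUnit, TwSh.charUnit, map_mul]
  rw [mul_inv_rev, Units.val_mul]
  exact mul_comm _ _

theorem twScal_map {x' x : 𝒳.obj} (φ : x' ⟶ x) (a : A.obj (op (𝒳.p.obj x))) :
    twScal χ x' (A.map (𝒳.p.map φ).op a) = (StMod.bmap 𝒳 φ).appTop (twScal χ x a) := by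
  rw [twScal_eq, twScal_eq]
  have e : TwSh.charUnit χ x' (A.map (𝒳.p.map φ).op a) =
      Units.map (StMod.bmap 𝒳 φ).appTop.hom.toMonoidHom (TwSh.charUnit χ x a) :=
    (congr($(χ.naturality (𝒳.p.map φ).op) a) :)
  rw [e, ← map_inv]
  rfl

variable {ι : TwSh.BandHom 𝒳 A}

/-- Twistedness can be checked on global sections. -/
theorem isTwisted_of_top (hp : FibCat.IsFibGrpd 𝒳.p) {F : StMod.Mod 𝒳} (hF : F.IsCartesian) {d : ℤ}
    (h : ∀ (x : 𝒳.obj) (a : A.obj (op (𝒳.p.obj x))) (s : Γ(F.obj x, ⊤)),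
      F.mapTop (ι.hom x a).hom.1 s = ((TwSh.charUnit χ x a ^ d)⁻¹).val • s) :
    TwSh.IsTwisted F ι χ d := by
  intro x a U s
  let φ := lftι hp x U
  have hφ := top_le_lftι hp x U
  refine (bijective_toObj hF φ U hφ (opensRange_lftι hp x U).ge).1 ?_
  rw [toObj_smul, TwSh.inert_app_apply]
  have h' : ⊤ ≤ StMod.bmap 𝒳 (φ ≫ (ι.hom x a).hom.1) ⁻¹ᵁ U := by
    rw [StMod.bmap_comp, TwSh.bmap_autO, Category.comp_id]
    exact hφ
  refine (toObj_map F φ (ι.hom x a).hom.1 (TwSh.bmap_autO x (ι.hom x a)) U hφ h' s).trans ?_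
  have hn : φ ≫ (ι.hom x a).hom.1 = (ι.hom _ (A.map (𝒳.p.map φ).op a)).hom.1 ≫ φ := (ι.natural φ a).symm
  refine (toObj_congr F hn U h' (hn ▸ h') s).trans ?_
  rw [← mapTop_toObj F (ι.hom _ (A.map (𝒳.p.map φ).op a)).hom.1 φ U hφ, h]
  refine congrArg (· • _) ?_
  have e : TwSh.charUnit χ (lft hp x U) (A.map (𝒳.p.map φ).op a) =
      Units.map (StMod.bmap 𝒳 φ).appTop.hom.toMonoidHom (TwSh.charUnit χ x a) :=
    (congr($(χ.naturality (𝒳.p.map φ).op) a) :)
  rw [e, ← map_zpow, ← map_inv]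
  show (StMod.bmap 𝒳 φ).appTop _ = _
  refine Eq.trans ?_ (congr($(Scheme.Hom.map_appLE (StMod.bmap 𝒳 φ) hφ (homOfLE le_top).op) _) :).symm
  simp [Scheme.Hom.appLE]

end Twist

section Section

variable {X : Over S} {π : 𝒳 ⥤ᵇ AlgSt.ofSch X} {σ : AlgSt.ofSch X ⥤ᵇ 𝒳}
  (e : BasedFunctor.comp σ π ≅ BasedFunctor.id (AlgSt.ofSch X))

theorem hp_ofSch : FibCat.IsFibGrpd (AlgSt.ofSch X).p := Stk.isFibGrpd_ofPsh _

include e in
theorem exists_base_hom {t' t : (AlgSt.ofSch X).obj} (c : π.obj (σ.obj t') ⟶ π.obj (σ.obj t)) :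
    ∃! m : t' ⟶ t, π.map (σ.map m) = c := by
  refine ⟨e.inv.toNatTrans.app t' ≫ c ≫ e.hom.toNatTrans.app t, ?_, fun m' hm' => ?_⟩
  · have h := e.hom.toNatTrans.naturality (e.inv.toNatTrans.app t' ≫ c ≫ e.hom.toNatTrans.app t)
    simp only [BasedFunctor.comp] at h
    have h1 : e.hom.toNatTrans.app t' ≫ e.inv.toNatTrans.app t' = 𝟙 _ :=
      congrArg (fun a => a.toNatTrans.app t') e.hom_inv_id
    have h2 : e.hom.toNatTrans.app t ≫ e.inv.toNatTrans.app t = 𝟙 _ :=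
      congrArg (fun a => a.toNatTrans.app t) e.hom_inv_id
    have h3 : e.inv.toNatTrans.app t ≫ e.hom.toNatTrans.app t = 𝟙 _ :=
      congrArg (fun a => a.toNatTrans.app t) e.inv_hom_id
    haveI : IsIso (e.hom.toNatTrans.app t) := ⟨e.inv.toNatTrans.app t, h2, h3⟩
    refine (cancel_mono (e.hom.toNatTrans.app t)).1 ?_
    refine Eq.trans h ?_
    show e.hom.toNatTrans.app t' ≫ (e.inv.toNatTrans.app t' ≫ c ≫ e.hom.toNatTrans.app t) = _
    rw [← Category.assoc, h1, Category.id_comp]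
  · subst hm'
    have h : π.map (σ.map m') ≫ e.hom.toNatTrans.app t = e.hom.toNatTrans.app t' ≫ m' :=
      e.hom.toNatTrans.naturality m'
    have h1 : e.inv.toNatTrans.app t' ≫ e.hom.toNatTrans.app t' = 𝟙 _ :=
      congrArg (fun a => a.toNatTrans.app t') e.inv_hom_id
    rw [h, ← Category.assoc, h1]
    exact (Category.id_comp m').symm

variable {A : (Over S)ᵒᵖ ⥤ GrpCat.{u}} {ι : TwSh.BandHom 𝒳 A}
  (hπ : TwSh.IsBandedGerbe (QuotSh.J Scheme.fppfPrecoverage S) π ι) (hp : FibCat.IsFibGrpd 𝒳.p)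

include e hπ hp in
theorem exists_decomp {t' t : (AlgSt.ofSch X).obj} (b : σ.obj t' ⟶ σ.obj t) :
    ∃ (a : A.obj (op (𝒳.p.obj (σ.obj t')))) (m : t' ⟶ t), (ι.hom _ a).hom.1 ≫ σ.map m = b := by
  obtain ⟨m, hm, -⟩ := exists_base_hom e (π.map b)
  obtain ⟨a, ha⟩ := exists_band π hπ hp hp_ofSch hm
  exact ⟨a, m, ha⟩

include e hπ hp in
theorem decomp_unique {t' t : (AlgSt.ofSch X).obj} {a a' : A.obj (op (𝒳.p.obj (σ.obj t')))} {m m' : t' ⟶ t}
    (h : (ι.hom _ a).hom.1 ≫ σ.map m = (ι.hom _ a').hom.1 ≫ σ.map m') : a = a' ∧ m = m' := by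
  have hm : m = m' := by
    refine (exists_base_hom e (π.map (σ.map m'))).unique ?_ rfl
    have h' := congrArg π.map h
    rw [Functor.map_comp, Functor.map_comp, hπ.map_hom_eq_id, hπ.map_hom_eq_id] at h'
    simpa using h'
  subst hm
  refine ⟨(hπ.2 _).1 (Aut.ext (Functor.Fiber.hom_ext (hom_ext_of_map hp (σ.map m) ?_ h))), rfl⟩
  show 𝒳.p.map (ι.hom _ a).hom.1 = 𝒳.p.map (ι.hom _ a').hom.1
  rw [TwSh.map_autO_hom, TwSh.map_autO_hom]

include e hπ hp in
theorem isDense_section : IsDense σ.obj := fun ξ => by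
  obtain ⟨κ, z, φ, hc, hψ⟩ := exists_cov_hom π hπ.1.2 hp hp_ofSch
    (show π.obj ξ ⟶ π.obj (σ.obj (π.obj ξ)) from e.inv.toNatTrans.app (π.obj ξ))
  choose ψ hψ using hψ
  choose k hk using fun i => isStable_obj σ hp_ofSch hp (ψ i)
  exact ⟨κ, k, fun i => (hk i).some.hom ≫ φ i, hc.iso_comp fun i => (hk i).some⟩

variable (χ : A ⟶ TwSh.GmPsh S)

include e hπ hp in
theorem comapQ_twisted_full :
    ((TwSh.isTwistedQ 𝒳 ι χ 1).ι ⋙ StMod.comapQ σ).Full := by
  refine ⟨fun {F F'} w => ?_⟩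
  obtain ⟨m, hl, hn, hw⟩ := exists_image_family σ (G := F.obj.obj) (G' := F'.obj.obj) w.hom
  obtain ⟨a, ha⟩ := exists_hom_of_dense hp (isDense_section e hπ hp) (isStable_obj σ hp_ofSch hp)
    F'.obj.property m hl fun {t' t} b x => by
      obtain ⟨c, g, rfl⟩ := exists_decomp e hπ hp b
      rw [StMod.Mod.mapTop_comp, hn, mapTop_band F'.property, StMod.Mod.mapTop_comp, mapTop_band F.property, hl]
  refine ⟨ObjectProperty.homMk (ObjectProperty.homMk a), ObjectProperty.hom_ext _ ?_⟩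
  refine hom_ext_sys hp_ofSch ((StMod.comapQ σ).obj F'.obj).property.1 fun t s =>
    (cmp σ F'.obj.obj t).injective ?_
  exact (cmp_comapMap σ a t s).trans ((ha t _).trans (hw t s).symm)

variable (M : StMod.QCoh (AlgSt.ofSch X))

/-- Restriction of a module on the base along a morphism between values of the section. -/
noncomputable def secRes {t' t : (AlgSt.ofSch X).obj} (b : σ.obj t' ⟶ σ.obj t) :
    Γ(M.obj.obj t, ⊤) →+ Γ(M.obj.obj t', ⊤) :=
  AddMonoidHom.mk' (fun n => baseScal σ t' (twScal χ (σ.obj t') (exists_decomp e hπ hp b).choose) •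
    M.obj.mapTop (exists_decomp e hπ hp b).choose_spec.choose n)
    fun n n' => by rw [StMod.Mod.mapTop_add, smul_add]

theorem secRes_eq {t' t : (AlgSt.ofSch X).obj} {b : σ.obj t' ⟶ σ.obj t}
    {a : A.obj (op (𝒳.p.obj (σ.obj t')))} {m : t' ⟶ t} (h : (ι.hom _ a).hom.1 ≫ σ.map m = b)
    (n : Γ(M.obj.obj t, ⊤)) :
    secRes e hπ hp χ M b n = baseScal σ t' (twScal χ (σ.obj t') a) • M.obj.mapTop m n := by
  have h' := (exists_decomp e hπ hp b).choose_spec.choose_spec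
  obtain ⟨ha, hm⟩ := decomp_unique e hπ hp (h'.trans h.symm)
  show baseScal σ t' (twScal χ (σ.obj t') _) • M.obj.mapTop (exists_decomp e hπ hp b).choose_spec.choose n = _
  exact congrArg₂ (fun c g => baseScal σ t' (twScal χ (σ.obj t') c) • M.obj.mapTop g n) ha hm

theorem secRes_map {t' t : (AlgSt.ofSch X).obj} (m : t' ⟶ t) (n : Γ(M.obj.obj t, ⊤)) :
    secRes e hπ hp χ M (σ.map m) n = M.obj.mapTop m n := by
  rw [secRes_eq e hπ hp χ M (a := 1) (m := m) (by rw [map_one]; exact Category.id_comp _), twScal_one, map_one,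
    one_smul]

theorem secRes_comp {t'' t' t : (AlgSt.ofSch X).obj} (b' : σ.obj t'' ⟶ σ.obj t') (b : σ.obj t' ⟶ σ.obj t)
    (n : Γ(M.obj.obj t, ⊤)) :
    secRes e hπ hp χ M (b' ≫ b) n = secRes e hπ hp χ M b' (secRes e hπ hp χ M b n) := by
  obtain ⟨a', m', rfl⟩ := exists_decomp e hπ hp b'
  obtain ⟨a, m, rfl⟩ := exists_decomp e hπ hp b
  rw [secRes_eq e hπ hp χ M (a := A.map (𝒳.p.map (σ.map m')).op a * a') (m := m' ≫ m) (by
      rw [map_mul, Functor.map_comp]
      show ((ι.hom _ a').hom.1 ≫ (ι.hom _ (A.map (𝒳.p.map (σ.map m')).op a)).hom.1) ≫ σ.map m' ≫ σ.map m = _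
      simp only [Category.assoc]
      rw [← Category.assoc (ι.hom _ (A.map (𝒳.p.map (σ.map m')).op a)).hom.1, ι.natural (σ.map m') a]
      simp only [Category.assoc]),
    secRes_eq e hπ hp χ M rfl, secRes_eq e hπ hp χ M rfl, StMod.Mod.mapTop_smul, baseScal_map, twScal_mul,
    twScal_map, map_mul, mul_comm, mul_smul, StMod.Mod.mapTop_comp]

/-- The module on the base as data on the values of the section. -/
noncomputable def secSys : DSys σ.obj :=
  letI : ∀ t, Module Γ(StMod.sch 𝒳 (σ.obj t), ⊤) Γ(M.obj.obj t, ⊤) := fun t =>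
    Module.compHom _ (baseScal σ t)
  { obj := fun t => Γ(M.obj.obj t, ⊤)
    res := secRes e hπ hp χ M
    res_smul := fun {t' t} b r n => by
      obtain ⟨a, m, rfl⟩ := exists_decomp e hπ hp b
      show secRes e hπ hp χ M ((ι.hom _ a).hom.1 ≫ σ.map m) (baseScal σ t r • n) =
        baseScal σ t' ((StMod.bmap 𝒳 ((ι.hom _ a).hom.1 ≫ σ.map m)).appTop r) •
          secRes e hπ hp χ M ((ι.hom _ a).hom.1 ≫ σ.map m) n
      rw [secRes_eq e hπ hp χ M rfl, secRes_eq e hπ hp χ M rfl, StMod.Mod.mapTop_smul, baseScal_map, smul_comm,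
        StMod.bmap_comp, TwSh.bmap_autO, Category.id_comp]
    res_id := fun t n =>
      (congrArg (fun b => secRes e hπ hp χ M b n) (σ.toFunctor.map_id t).symm).trans
        ((secRes_map e hπ hp χ M (𝟙 t) n).trans (StMod.Mod.mapTop_id _ _ _))
    res_comp := fun ψ φ n => secRes_comp e hπ hp χ M ψ φ n }

theorem secSys_res_map {t' t : (AlgSt.ofSch X).obj} (m : t' ⟶ t) (n : Γ(M.obj.obj t, ⊤)) :
    (secSys e hπ hp χ M).res (σ.map m) n = M.obj.mapTop m n :=
  secRes_map e hπ hp χ M m n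

theorem isSheaf_secSys : (secSys e hπ hp χ M).IsSheaf := by
  intro t κ k b hb
  let N := secSys e hπ hp χ M
  have hS := isSheaf_modSys hp_ofSch M.property
  choose a m hm using fun i => exists_decomp e hπ hp (b i)
  let γ := fun i => (ι.hom (σ.obj (k i)) (a i)).inv.1
  have hγ : ∀ i, γ i ≫ b i = σ.map (m i) := fun i => by
    have h1 : γ i ≫ (ι.hom (σ.obj (k i)) (a i)).hom.1 = 𝟙 _ := congrArg Subtype.val (ι.hom _ (a i)).inv_hom_id
    rw [← hm i, ← Category.assoc, h1, Category.id_comp]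
  have hγ' : ∀ i, (ι.hom (σ.obj (k i)) (a i)).hom.1 ≫ γ i = 𝟙 _ := fun i =>
    congrArg Subtype.val (ι.hom _ (a i)).hom_inv_id
  have hcm : IsCov k m := by
    have e' : ∀ i, StMod.bmap 𝒳 (b i) = eqToHom (StMod.sch_obj_eq σ (k i)) ≫ StMod.bmap (AlgSt.ofSch X) (m i) ≫
        eqToHom (StMod.sch_obj_eq σ t).symm := fun i => by
      rw [← hm i, StMod.bmap_comp, TwSh.bmap_autO, Category.id_comp, bmap_map]
    refine ⟨fun i => ?_, fun i => ?_, fun p => ?_⟩
    · have h' := hb.flat i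
      rw [e' i] at h'
      exact (MorphismProperty.cancel_right_of_respectsIso @Flat _ _).1
        ((MorphismProperty.cancel_left_of_respectsIso @Flat _ _).1 h')
    · have h' := hb.lfp i
      rw [e' i] at h'
      exact (MorphismProperty.cancel_right_of_respectsIso @LocallyOfFinitePresentation _ _).1
        ((MorphismProperty.cancel_left_of_respectsIso @LocallyOfFinitePresentation _ _).1 h')
    · obtain ⟨i, s, hs⟩ := hb.surj (eqToHom (StMod.sch_obj_eq σ t).symm p)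
      refine ⟨i, eqToHom (StMod.sch_obj_eq σ (k i)) s, ?_⟩
      rw [e' i, Scheme.Hom.comp_apply, Scheme.Hom.comp_apply] at hs
      exact (Scheme.Hom.isOpenEmbedding (eqToHom (StMod.sch_obj_eq σ t).symm)).injective hs
  refine ⟨fun s s' h => hS.1 _ _ hcm s s' fun i => ?_, fun x hx => ?_⟩
  · show M.obj.mapTop (m i) s = M.obj.mapTop (m i) s'
    rw [← secSys_res_map e hπ hp χ M, ← secSys_res_map e hπ hp χ M, ← hγ, N.res_comp, N.res_comp, h]
  · obtain ⟨s, hs⟩ := hS.2 _ _ hcm (fun i => (show Γ(M.obj.obj (k i), ⊤) from N.res (γ i) (x i)))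
      fun i j y α β h => by
        refine (secSys_res_map e hπ hp χ M α _).symm.trans (Eq.trans ?_ (secSys_res_map e hπ hp χ M β _))
        show N.res (σ.map α) (N.res (γ i) (x i)) = N.res (σ.map β) (N.res (γ j) (x j))
        rw [← N.res_comp, ← N.res_comp]
        refine hx i j y _ _ ?_
        rw [Category.assoc, Category.assoc, hγ, hγ, ← Functor.map_comp, ← Functor.map_comp, h]
    refine ⟨s, fun i => ?_⟩
    have h1 : N.res (σ.map (m i)) s = N.res (γ i) (x i) := (secSys_res_map e hπ hp χ M (m i) s).trans (hs i)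
    show N.res (b i) s = x i
    rw [← hm i, N.res_comp, h1, ← N.res_comp, hγ', N.res_id]

theorem hasBC_secSys : (secSys e hπ hp χ M).HasBC := by
  intro t' t f ht ht'
  obtain ⟨a, m, rfl⟩ := exists_decomp e hπ hp f
  let N := secSys e hπ hp χ M
  let α := ι.hom (σ.obj t') a
  haveI := ht
  haveI := ht'
  haveI : IsAffine (StMod.sch (AlgSt.ofSch X) t) := IsAffine.of_isIso (eqToHom (StMod.sch_obj_eq σ t).symm)
  haveI : IsAffine (StMod.sch (AlgSt.ofSch X) t') := IsAffine.of_isIso (eqToHom (StMod.sch_obj_eq σ t').symm)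
  let sB : Γ(StMod.sch (AlgSt.ofSch X) t', ⊤) →+* Γ(StMod.sch 𝒳 (σ.obj t'), ⊤) :=
    (eqToHom (StMod.sch_obj_eq σ t')).appTop.hom
  let l₁ : N.obj t →+ Γ(M.obj.obj t, ⊤) := AddMonoidHom.id _
  let l₃ : Γ(M.obj.obj t', ⊤) →+ N.obj t' := AddMonoidHom.id _
  have h₁ : IsSemiBC (baseScal σ t) l₁ :=
    isSemiBC_of_bijective (fun r n => rfl) (ConcreteCategory.bijective_of_isIso _) Function.bijective_id
  have h₂ : IsSemiBC (StMod.bmap (AlgSt.ofSch X) m).appTop.hom ((modSys M.obj).res m) :=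
    (Sys.bc_iff m).1 (hasBC_modSys M.property m inferInstance inferInstance)
  have h₃ : IsSemiBC sB l₃ := by
    refine isSemiBC_of_bijective (fun r n => ?_) (ConcreteCategory.bijective_of_isIso _) Function.bijective_id
    show r • (n : Γ(M.obj.obj t', ⊤)) = baseScal σ t' (sB r) • (n : Γ(M.obj.obj t', ⊤))
    exact congrArg (fun c : Γ(StMod.sch (AlgSt.ofSch X) t', ⊤) => c • (n : Γ(M.obj.obj t', ⊤)))
      (appTop_eqToHom_symm (StMod.sch_obj_eq σ t').symm r).symm
  let a₁ : σ.obj t' ⟶ σ.obj t' := α.hom.1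
  have h₄ : IsSemiBC (StMod.bmap 𝒳 a₁).appTop.hom (N.res a₁) := by
    refine isSemiBC_of_bijective (fun r n => N.res_smul a₁ r n) ?_ ?_
    · rw [show StMod.bmap 𝒳 a₁ = 𝟙 (StMod.sch 𝒳 (σ.obj t')) from TwSh.bmap_autO _ α]
      exact Function.bijective_id
    · have h1 : α.inv.1 ≫ α.hom.1 = 𝟙 (σ.obj t') := congrArg Subtype.val α.inv_hom_id
      have h2 : α.hom.1 ≫ α.inv.1 = 𝟙 (σ.obj t') := congrArg Subtype.val α.hom_inv_id
      refine Function.bijective_iff_has_inverse.2 ⟨N.res α.inv.1, fun x => ?_, fun x => ?_⟩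
      · rw [← N.res_comp, h1, N.res_id]
      · rw [← N.res_comp, h2, N.res_id]
  have h₅ := ((h₁.comp h₂).comp h₃).comp h₄
  have e₁ : (N.res a₁).comp (l₃.comp (((modSys M.obj).res m).comp l₁)) =
      N.res (a₁ ≫ σ.map m) :=
    AddMonoidHom.ext fun n => by
      show N.res a₁ (M.obj.mapTop m (show Γ(M.obj.obj t, ⊤) from n)) = _
      rw [N.res_comp]
      exact congrArg (N.res a₁) (secSys_res_map e hπ hp χ M m n).symm
  have e₂ : (StMod.bmap 𝒳 a₁).appTop.hom.comp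
      (sB.comp ((StMod.bmap (AlgSt.ofSch X) m).appTop.hom.comp (baseScal σ t))) =
        (StMod.bmap 𝒳 (a₁ ≫ σ.map m)).appTop.hom := by
    rw [StMod.bmap_comp, Scheme.Hom.comp_appTop]
    refine RingHom.ext fun r => congrArg (StMod.bmap 𝒳 a₁).appTop ?_
    show sB ((StMod.bmap (AlgSt.ofSch X) m).appTop (baseScal σ t r)) = _
    rw [baseScal_map]
    exact appTop_eqToHom_symm (StMod.sch_obj_eq σ t') _
  rw [e₁, e₂] at h₅
  exact h₅

include e hπ hp in
theorem exists_twisted_comap_iso : ∃ G : StMod.QCoh 𝒳, TwSh.IsTwisted G.obj ι χ 1 ∧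
    Nonempty ((StMod.comapQ σ).obj G ≅ M) := by
  have hd := isDense_section e hπ hp
  obtain ⟨G, θ, hb, hl, hn⟩ := exists_qcoh_of_dense hp hd (isStable_obj σ hp_ofSch hp) (secSys e hπ hp χ M)
    (isSheaf_secSys e hπ hp χ M) (hasBC_secSys e hπ hp χ M)
  refine ⟨G, isTwisted_of_top χ hp G.property.1 fun ξ a s => ?_, ?_⟩
  · obtain ⟨κ, k, g, hg⟩ := hd ξ
    refine (isSheaf_modSys hp G.property).1 _ g hg _ _ fun i => ?_
    show G.obj.mapTop (g i) _ = G.obj.mapTop (g i) _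
    rw [← StMod.Mod.mapTop_comp, ← ι.natural (g i) a, StMod.Mod.mapTop_comp, StMod.Mod.mapTop_smul]
    refine Eq.trans ?_ (congrArg (· • G.obj.mapTop (g i) s) (twScal_map χ (g i) a))
    refine (hb (k i)).1 ((hn _ _).trans (Eq.trans ?_ (hl (k i) _ _).symm))
    refine (secRes_eq e hπ hp χ M (a := A.map (𝒳.p.map (g i)).op a) (m := 𝟙 (k i))
      (by rw [σ.toFunctor.map_id]; exact Category.comp_id _) _).trans ?_
    rw [StMod.Mod.mapTop_id]
    rfl
  · refine Nonempty.map (fun i => ObjectProperty.isoMk _ i) (nonempty_iso_sys hp_ofSch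
      ((StMod.comapQ σ).obj G).property.1 M.property.1
      (fun t => (θ t).comp (cmp σ G.obj t).toAddMonoidHom) (fun t r s => ?_) (fun {t' t} m s => ?_)
      (fun t => (hb t).comp (cmp σ G.obj t).bijective))
    · show θ t (cmp σ G.obj t (r • s)) = r • (show Γ(M.obj.obj t, ⊤) from θ t (cmp σ G.obj t s))
      refine (congrArg (θ t) (cmp_smul σ G.obj t r s)).trans ((hl t _ _).trans ?_)
      exact congrArg (fun c : Γ(StMod.sch (AlgSt.ofSch X) t, ⊤) =>
        c • (show Γ(M.obj.obj t, ⊤) from θ t (cmp σ G.obj t s)))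
        (appTop_eqToHom_symm (StMod.sch_obj_eq σ t).symm r)
    · show M.obj.mapTop m (θ t (cmp σ G.obj t s)) =
        θ t' (cmp σ G.obj t' ((StMod.Mod.comap σ G.obj).mapTop m s))
      rw [cmp_mapTop, hn]
      exact (secSys_res_map e hπ hp χ M m _).symm

end Section

end Groth.Agent.StModLib
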