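import Groth.Agent.StModLib.AffineMorExact
import Groth.Prelude.Def_AlgSt3

/-!
# Fibres of closed immersions over affine objects
-/

set_option autoImplicit false
set_option linter.style.haveILetI false
set_option backward.isDefEq.respectTransparency false
set_option backward.isDefEq.respectTransparency.types false

universe u

open CategoryTheory CategoryTheory.Limits AlgebraicGeometry AlgSp Opposite
open Groth.Agent.AlgStLib Groth.Agent.AlgSpLib Groth.Agent.FibBase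

noncomputable section

namespace Groth.Agent.StModLib

variable {S : Scheme.{u}} {𝒳 𝒴 : AlgSt.Cat S}

/-- A closed immersion has universal closed fibres over affine objects. -/
theorem exists_closed_fibre (hp : FibCat.IsFibGrpd 𝒳.p) (hp' : FibCat.IsFibGrpd 𝒴.p) {π : 𝒳 ⥤ᵇ 𝒴}
    (hπ : AlgSt.IsClosedImm π) (η : 𝒴.obj) [IsAffine (StMod.sch 𝒴 η)] :
    ∃ (z : 𝒳.obj) (α : π.obj z ⟶ η), IsAffine (StMod.sch 𝒳 z) ∧
      IsClosedImmersion (StMod.baseOver π z α).left ∧
      ∀ (ξ : 𝒳.obj) (β : π.obj ξ ⟶ η), ∃! χ : ξ ⟶ z, π.map χ ≫ α = β := by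
  obtain ⟨g, e, -⟩ := exists_overCat_obj hp' η rfl
  suffices ∃ (z : 𝒳.obj) (α : π.obj z ⟶ g.obj (topOver (𝒴.p.obj η))), IsAffine (StMod.sch 𝒳 z) ∧
      IsClosedImmersion (StMod.baseOver π z α).left ∧
      ∀ (ξ : 𝒳.obj) (β : π.obj ξ ⟶ g.obj (topOver (𝒴.p.obj η))), ∃! χ : ξ ⟶ z, π.map χ ≫ α = β by
    obtain ⟨z, α, hz, hc, hu⟩ := this
    refine ⟨z, α ≫ e.hom, hz, ?_, fun ξ β => ?_⟩
    · haveI : IsIso (𝒴.p.map e.hom).left := inferInstanceAs (IsIso ((Over.forget S).map (𝒴.p.map e.hom)))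
      rw [StMod.baseOver_comp, Over.comp_left]
      exact (MorphismProperty.cancel_right_of_respectsIso @IsClosedImmersion _ _).2 hc
    obtain ⟨χ, hχ, hχu⟩ := hu ξ (β ≫ e.inv)
    refine ⟨χ, ?_, fun χ' h => hχu χ' ((Iso.eq_comp_inv e).2 ((Category.assoc _ _ _).trans h))⟩
    exact (Category.assoc _ _ _).symm.trans ((Iso.eq_comp_inv e).1 hχ)
  haveI : IsAffine (𝒴.p.obj η).left := ‹IsAffine (StMod.sch 𝒴 η)›
  obtain ⟨F, k, hk, ha⟩ := hπ (𝒴.p.obj η) g
  let W := ha.1.pullback (𝟙 _)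
  let fst := ha.1.fst (𝟙 _)
  let i : W ⟶ 𝒴.p.obj η := ha.1.snd (𝟙 _)
  have sq := ha.1.isPullback (𝟙 _)
  haveI hi : IsClosedImmersion i.left := ha.2 _ _ _ sq
  haveI : IsIso fst := sq.isIso_fst_of_isIso
  haveI hW : IsAffine W.left := isAffine_of_isAffineHom i.left
  let K : AlgSt.ofSp ((yon S).obj W) ⥤ᵇ FibCat.fp g π := BasedFunctor.comp (AlgSt.ofSpMap fst) k
  have hK : FibCat.IsEquivOver K := isEquivOver_comp (isEquivOver_ofSpMap fst) hk
  let v₀ : (AlgSt.ofSp ((yon S).obj W)).obj := ⟨W, ⟨𝟙 W⟩⟩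
  have hv₀ : ∀ y, ∃! m : y ⟶ v₀, True := fun y => by
    refine ⟨⟨y.sec.down, ULift.ext _ _ (show y.sec.down ≫ 𝟙 W = y.sec.down from Category.comp_id _)⟩, trivial,
      fun m _ => Stk.EltObj.hom_ext ?_⟩
    have := congrArg ULift.down m.map_sec
    exact (Category.comp_id _).symm.trans this
  let v := K.obj v₀
  have hv := existsUnique_hom_map hK v₀ hv₀
  let top : ∀ x : (FibCat.fp g π).obj, (FibCat.fpFst g π).obj x ⟶ topOver (𝒴.p.obj η) := fun x =>
    Over.homMk x.obj.fst.hom (Category.comp_id _)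
  have htop : ∀ (x : (FibCat.fp g π).obj) (b : (FibCat.fpFst g π).obj x ⟶ topOver (𝒴.p.obj η)), b = top x :=
    fun x b => Over.OverMorphism.ext ((Category.comp_id _).symm.trans (Over.w b))
  have hsec : AlgSt.secHom (BasedFunctor.comp k (FibCat.fpFst g π)) ((AlgSt.ofSpMap fst).obj v₀) = i := by
    have h := congrArg (fun m : (yon S).obj W ⟶ (yon S).obj (𝒴.p.obj η) =>
      (m.hom.app (op W) (⟨𝟙 W⟩ : ULift (W ⟶ W))).down) sq.w
    exact h.trans (Category.id_comp i)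
  have hbase : IsClosedImmersion (StMod.baseOver π v.obj.snd (transMor g π v (top v))).left := by
    rw [baseOver_transMor]
    simp only [Over.comp_left]
    rw [MorphismProperty.cancel_left_of_respectsIso @IsClosedImmersion,
      MorphismProperty.cancel_right_of_respectsIso @IsClosedImmersion]
    have e' : eqToHom (K.w_obj v₀).symm ≫ StMod.baseOver (FibCat.fpFst g π) v (top v) = i := by
      refine Eq.trans ?_ hsec
      show eqToHom _ ≫ eqToHom _ ≫ v.obj.fst.hom = eqToHom _ ≫ v.obj.fst.hom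
      simp only [eqToHom_trans_assoc]
    have h2 : IsClosedImmersion (eqToHom (K.w_obj v₀).symm ≫ StMod.baseOver (FibCat.fpFst g π) v (top v)).left := by
      rw [e']
      exact hi
    exact (MorphismProperty.cancel_left_of_respectsIso @IsClosedImmersion _ _).1 h2
  refine ⟨v.obj.snd, transMor g π v (top v), ?_, hbase, fun ξ γ => ?_⟩
  · show IsAffine (𝒳.p.obj ((FibCat.fpSnd g π).obj v)).left
    rw [((FibCat.fpSnd g π).w_obj v).trans (K.w_obj v₀)]
    exact hW
  obtain ⟨x, rfl, β, hβ⟩ := exists_fp_obj g π (isFibGrpd_overCat (𝒴.p.obj η)) hp' ξ γ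
  rw [eqToHom_refl, π.map_id, Category.id_comp] at hβ
  obtain ⟨m, -, hu⟩ := hv x
  refine ⟨m.hom.snd, ?_, fun p hpγ => ?_⟩
  · show π.map m.hom.snd ≫ transMor g π v (top v) = γ
    rw [transMor_natural, ← hβ, htop x β, htop x ((FibCat.fpFst g π).map m ≫ top v)]
  · obtain ⟨mp, hmp, -⟩ := exists_fp_hom g π (isFibGrpd_overCat (𝒴.p.obj η)) hp' β (top v) p (hpγ.trans hβ.symm)
    rw [← hmp, hu mp trivial]

end Groth.Agent.StModLib
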