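import Groth.Agent.StModLib.AffineComp
import Groth.Agent.StModLib.ClosedFibre

/-!
# Images of closed substacks under morphisms with exact and surjective sections
-/

set_option autoImplicit false
set_option linter.style.haveILetI false
set_option linter.unusedSectionVars false
set_option backward.isDefEq.respectTransparency false
set_option backward.isDefEq.respectTransparency.types false

universe u

open CategoryTheory CategoryTheory.Limits AlgebraicGeometry
open Groth.Agent.AlgStLib Groth.Agent.FibBase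

noncomputable section

namespace Groth.Agent.StModLib

/-- If sections of the extension of an ideal come from the ideal, the image on spectra is closed. -/
theorem isClosed_range_comap_of_contract {A R : Type u} [CommRing A] [CommRing R] (f : A →+* R)
    (h : ∀ p : Ideal A, p.IsPrime → RingHom.ker f ≤ p → ∀ s, f s ∈ p.map f → s ∈ p) :
    IsClosed (Set.range (PrimeSpectrum.comap f)) := by
  have e : Set.range (PrimeSpectrum.comap f) = PrimeSpectrum.zeroLocus (RingHom.ker f) := by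
    ext p
    refine ⟨?_, fun hp => (PrimeSpectrum.mem_range_comap_iff f).2 (le_antisymm ?_ Ideal.le_comap_map)⟩
    · rintro ⟨q, rfl⟩
      exact Ideal.comap_mono bot_le
    · exact fun s hs => h p.asIdeal p.2 hp s (Ideal.mem_comap.1 hs)
  rw [e]
  exact PrimeSpectrum.isClosed_zeroLocus _

/-- The image of a morphism of affine schemes is closed when it is on spectra. -/
theorem isClosed_range_of_comap {X Y : Scheme.{u}} [IsAffine X] [IsAffine Y] (f : X ⟶ Y)
    (h : IsClosed (Set.range (PrimeSpectrum.comap f.appTop.hom))) : IsClosed (Set.range f) := by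
  have key : ∀ x, Y.isoSpec.hom (f x) = PrimeSpectrum.comap f.appTop.hom (X.isoSpec.hom x) := fun x =>
    (congr($(Scheme.isoSpec_hom_naturality f) x).symm : _)
  convert h.preimage Y.isoSpec.hom.continuous using 1
  ext y
  constructor
  · rintro ⟨x, rfl⟩
    exact ⟨X.isoSpec.hom x, (key x).symm⟩
  · rintro ⟨q, hq⟩
    refine ⟨X.isoSpec.inv q, ?_⟩
    have h2 : Y.isoSpec.hom (f (X.isoSpec.inv q)) = Y.isoSpec.hom y := by
      rw [key, ← Scheme.Hom.comp_apply X.isoSpec.inv, Iso.inv_hom_id]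
      exact hq
    exact (Scheme.homeoOfIso Y.isoSpec).injective h2

/-- The ring as its own base change. -/
theorem exists_pull_self {A R : Type u} [CommRing A] [CommRing R] (ρ : A →+* R) :
    ∃ g : Pull ρ A →+ R, (∀ (r : R) (v : Pull ρ A), g (r • v) = r * g v) ∧
      (∀ a, g (Pull.ι ρ A a) = ρ a) ∧ Function.Bijective g := by
  obtain ⟨g, hg, hgι⟩ := (Pull.isSemiBC_ι ρ A).exists_lift (RingHom.id R) ρ.toAddMonoidHom
    fun r m => by
      show ρ (r • m) = ρ r • ρ m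
      rw [smul_eq_mul, smul_eq_mul, map_mul]
  refine ⟨g, hg, hgι, (Pull.isSemiBC_ι ρ A).bijective_of_linear hg ?_⟩
  rw [show g.comp (Pull.ι ρ A) = ρ.toAddMonoidHom from AddMonoidHom.ext hgι]
  exact isSemiBC_self ρ

variable {S : Scheme.{u}} {𝒳 𝒴 𝒲 : AlgSt.Cat S} (π : 𝒳 ⥤ᵇ 𝒴) (hp : FibCat.IsFibGrpd 𝒳.p)
  (hp' : FibCat.IsFibGrpd 𝒴.p) {η : 𝒴.obj} (hη : EtObj η)

theorem baseOver_comp_functor (ι : 𝒲 ⥤ᵇ 𝒳) (w : 𝒲.obj) {p : 𝒳.obj} (γ : ι.obj w ⟶ p) (α : π.obj p ⟶ η) :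
    StMod.baseOver (BasedFunctor.comp ι π) w (π.map γ ≫ α) = StMod.baseOver ι w γ ≫ StMod.baseOver π p α := by
  simp only [StMod.baseOver, Functor.map_comp, map_w π γ, Category.assoc, eqToHom_trans_assoc]

variable {x₀ : 𝒳.obj} (hd : IsDenseObj x₀) (P : PairAtlas x₀)

include hp hp' hη hd P in
/-- Exactness of sections over an object as a lifting property on the category over it. -/
theorem exists_fibCat_lift
    (hpres : ∀ ξ : 𝒳.obj, IsAffine (StMod.sch 𝒳 ξ) → Nonempty (Pres (StMod.fibFst π η) ξ))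
    (hex : ∀ (F F' : StMod.QCoh 𝒳) (q : F ⟶ F'), StMod.Mod.IsSurj q.hom →
      Function.Surjective (StMod.Mod.relSectMap π q.hom η))
    {G G' : StMod.QCoh (StMod.fibCat π η)} (u : G ⟶ G') (s : ∀ x, Γ(G'.obj.obj x, ⊤))
    (hs : ∀ {x' x : (StMod.fibCat π η).obj} (φ : x' ⟶ x), G'.obj.mapTop φ (s x) = s x')
    (hu : ∀ x, IsAffine (StMod.sch (StMod.fibCat π η) x) → ∃ v, (u.hom.app x).app ⊤ v = s x) :
    ∃ t : ∀ x, Γ(G.obj.obj x, ⊤),
      (∀ {x' x : (StMod.fibCat π η).obj} (φ : x' ⟶ x), G.obj.mapTop φ (t x) = t x') ∧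
      ∀ x, (u.hom.app x).app ⊤ (t x) = s x :=
  exists_globSect_lift π hp hp' hη (StMod.fibFst π η) (isFibGrpd_fibCat π η hp) (fun x => x.hom)
    (fun φ => CostructuredArrow.w φ) hd P hpres
    (fun p αp => ⟨CostructuredArrow.mk αp, 𝟙 p.1, p.2.1,
      (congrArg (· ≫ αp) (π.toFunctor.map_id p.1)).trans (Category.id_comp _),
      fun x γ h => ⟨CostructuredArrow.homMk γ h, Category.comp_id _, fun χ hχ =>
        CostructuredArrow.hom_ext _ _ ((Category.comp_id _).symm.trans hχ)⟩⟩) hex u s hs hu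

variable (ι : 𝒲 ⥤ᵇ 𝒳) (hw : FibCat.IsFibGrpd 𝒲.p) (hι : AlgSt.IsClosedImm ι)

include hp hw hι in
theorem nonempty_pres_closed (ξ : 𝒳.obj) (hξ : IsAffine (StMod.sch 𝒳 ξ)) : Nonempty (Pres ι ξ) := by
  haveI := hξ
  obtain ⟨z, α, hz, -, hu⟩ := exists_closed_fibre hw hp hι ξ
  haveI := hz
  exact nonempty_pres_of_obj hw z α hu

include hp hw hι in
/-- Functions on an affine object map onto the sections over it along a closed immersion. -/
theorem surjective_unitSect_closed (ξ : 𝒳.obj) [IsAffine (StMod.sch 𝒳 ξ)] :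
    Function.Surjective (StMod.unitSect ι ξ) := fun s => by
  obtain ⟨z, α, hz, hc, hu⟩ := exists_closed_fibre hw hp hι ξ
  haveI := hz
  haveI := hc
  haveI : IsAffine (𝒳.p.obj ξ).left := ‹IsAffine (StMod.sch 𝒳 ξ)›
  obtain ⟨-, hsurj⟩ := IsClosedImmersion.isAffine_surjective_of_isAffine (StMod.baseOver ι z α).left
  obtain ⟨r, hr⟩ := hsurj (s.1 z α)
  refine ⟨r, StMod.Mod.RelSect.ext _ _ _ fun w β => ?_⟩
  obtain ⟨χ, hχ, -⟩ := hu w β
  subst hχ
  refine Eq.trans ?_ (s.2 χ α)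
  rw [StMod.O_mapTop, ← hr]
  exact congr($(congrArg Scheme.Hom.appTop (StMod.bmap_comp_baseOver_left ι χ α).symm) r)

include hp hp' hη hd P hw hι in
/-- Functions surject onto the sections of a closed substack. -/
theorem surjective_unitSect_comp_closed
    (hex : ∀ (F F' : StMod.QCoh 𝒳) (q : F ⟶ F'), StMod.Mod.IsSurj q.hom →
      Function.Surjective (StMod.Mod.relSectMap π q.hom η))
    (hun : Function.Surjective (StMod.unitSect π η)) :
    Function.Surjective (StMod.unitSect (BasedFunctor.comp ι π) η) := by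
  intro b
  obtain ⟨JG, θ, hθb, hθl, hθn⟩ := exists_push hp P hd hw ι (nonempty_pres_closed hp ι hw hι)
    (StMod.OQ (𝒳 := 𝒲))
  choose mv hmv using fun (p : FMem x₀) (r : Γ(StMod.sch 𝒳 p.1, ⊤)) => (hθb p).2 (StMod.unitSect ι p.1 r)
  obtain ⟨q, hq⟩ := exists_hom_of_flatMem hp P hd (G := StMod.OQ (𝒳 := 𝒳)) (G' := JG)
    (m := fun p => AddMonoidHom.mk' (mv p) fun x y => (hθb p).1 (by rw [hmv, map_add, map_add, hmv, hmv]))
    ⟨fun p r x => (hθb p).1 (by
        show θ p (mv p (r • x)) = θ p (r • mv p x)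
        rw [hmv, hθl, hmv]
        exact map_smul (StMod.unitSect ι p.1) r x),
      fun {p q} f x => (hθb p).1 (by
        show θ p (JG.obj.mapTop f (mv q x)) = θ p (mv p ((StMod.O 𝒳).mapTop f x))
        rw [hθn, hmv, hmv]
        exact relRes_unitSect f x)⟩
  have hqs : StMod.Mod.IsSurj q.hom := isSurj_of_flatMem hp hd q fun p y => by
    haveI : IsAffine (StMod.sch 𝒳 p.1) := p.2.1
    obtain ⟨r, hr⟩ := surjective_unitSect_closed hp ι hw hι p.1 (θ p y)
    exact ⟨r, (hq p r).trans ((hθb p).1 ((hmv p r).trans hr))⟩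
  choose sH hsH using fun (p : FMem x₀) (αp : π.obj p.1 ⟶ η) => (hθb p).2
    (⟨fun x γ => b.1 x (π.map γ ≫ αp), fun x' x k γ => (b.2 k _).trans (congrArg (b.1 x') (by
      show π.map (ι.map k) ≫ π.map γ ≫ αp = π.map (ι.map k ≫ γ) ≫ αp
      rw [Functor.map_comp, Category.assoc]))⟩ : StMod.Mod.RelSect ι (StMod.O 𝒲) p.1)
  have hsHc : ∀ (p r : FMem x₀) (αp : π.obj p.1 ⟶ η) (c : r.1 ⟶ p.1),
      JG.obj.mapTop c (sH p αp) = sH r (π.map c ≫ αp) := fun p r αp c => (hθb r).1 (by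
    rw [hθn, hsH, hsH]
    refine StMod.Mod.RelSect.ext _ _ _ fun x γ => ?_
    show b.1 x (π.map (γ ≫ c) ≫ αp) = b.1 x (π.map γ ≫ π.map c ≫ αp)
    rw [Functor.map_comp, Category.assoc])
  choose SH hSH hSHu using fun (ξ : 𝒳.obj) (α : π.obj ξ ⟶ η) =>
    existsUnique_glue_pairs π hp hp' hd P hη (BasedFunctor.id 𝒳) hp JG.property ξ α
      (fun p αp y φ γ _ => JG.obj.mapTop γ (sH p αp))
      (fun p αp y y' k φ γ _ _ => (JG.obj.mapTop_comp k γ _).symm)
      fun p r αp c y φ γ _ _ => by rw [JG.obj.mapTop_comp, hsHc]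
  obtain ⟨T, hT⟩ := hex _ JG q hqs ⟨SH, fun ξ' ξ k α => hSHu ξ' _ _ fun p αp y φ γ h => by
    rw [← JG.obj.mapTop_comp]
    exact hSH ξ α p αp y (φ ≫ k) γ (by
      show π.map γ ≫ αp = π.map (φ ≫ k) ≫ α
      rw [Functor.map_comp, Category.assoc]
      exact h)⟩
  obtain ⟨a, rfl⟩ := hun T
  refine ⟨a, StMod.Mod.RelSect.ext _ _ _ fun x β => ?_⟩
  obtain ⟨κ, y, φ, hφ, hp₁⟩ := exists_pair_lift π hp hp' hd hη (y := ι.obj x) β
  obtain ⟨y', φ', m, hφ', hm⟩ := exists_cov_lift ι hw hp hφ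
  refine (isSheaf_modSys hw (StMod.OQ (𝒳 := 𝒲)).property).1 y' φ' hφ' _ _ fun i => ?_
  refine (((StMod.unitSect (BasedFunctor.comp ι π) η) a).2 (φ' i) β).trans (Eq.trans ?_ (b.2 (φ' i) β).symm)
  obtain ⟨p, αp, ψ, hψ⟩ := hp₁ i
  have hγ : π.map (m i ≫ ψ) ≫ αp = (BasedFunctor.comp ι π).map (φ' i) ≫ β := by
    show _ = π.map (ι.map (φ' i)) ≫ β
    rw [Functor.map_comp, Category.assoc, hψ, ← Category.assoc, ← Functor.map_comp, hm]
  rw [← hγ]
  have h1 : (q.hom.app p.1).app ⊤ ((StMod.baseOver π p.1 αp).left.appTop a) = sH p αp :=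
    ((congrArg (fun S : StMod.Mod.RelSect π JG.obj η => S.1 p.1 αp) hT).trans (by
      have := hSH p.1 αp p αp p.1 (𝟙 _) (𝟙 _) (by rfl)
      exact ((JG.obj.mapTop_id _ _).symm.trans this).trans (JG.obj.mapTop_id _ _)) :)
  have h2 := congrArg (fun S : StMod.Mod.RelSect ι (StMod.O 𝒲) p.1 => S.1 (y' i) (m i ≫ ψ))
    ((congrArg (θ p) h1).trans (hsH p αp))
  refine Eq.trans ?_ h2
  show _ = (θ p ((q.hom.app p.1).app ⊤ ((StMod.baseOver π p.1 αp).left.appTop a))).1 (y' i) (m i ≫ ψ)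
  rw [hq]
  refine Eq.trans ?_ (congrArg (fun S : StMod.Mod.RelSect ι (StMod.O 𝒲) p.1 => S.1 (y' i) (m i ≫ ψ)) (hmv p _)).symm
  show (StMod.baseOver (BasedFunctor.comp ι π) (y' i) (π.map (m i ≫ ψ) ≫ αp)).left.appTop a = _
  rw [baseOver_comp_functor]
  rfl

variable [IsAffine (StMod.sch 𝒴 η)]

include hp hp' hη hd P in
/-- A morphism whose functions surject onto the sections has closed image over the object. -/
theorem isClosed_range_baseOver
    (hpres : ∀ ξ : 𝒳.obj, IsAffine (StMod.sch 𝒳 ξ) → Nonempty (Pres (StMod.fibFst π η) ξ))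
    (hex : ∀ (F F' : StMod.QCoh 𝒳) (q : F ⟶ F'), StMod.Mod.IsSurj q.hom →
      Function.Surjective (StMod.Mod.relSectMap π q.hom η))
    (hun : Function.Surjective (StMod.unitSect π η)) (z : 𝒳.obj) (α : π.obj z ⟶ η)
    [IsAffine (StMod.sch 𝒳 z)]
    (hcov : ∀ (ξ : 𝒳.obj) (β : π.obj ξ ⟶ η), ∃ (κ : Type u) (y : κ → 𝒳.obj) (φ : ∀ i, y i ⟶ ξ),
      IsCov y φ ∧ ∀ i, ∃ ψ : y i ⟶ z, π.map ψ ≫ α = π.map (φ i) ≫ β) :
    IsClosed (Set.range (StMod.baseOver π z α).left) := by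
  haveI : IsAffine (𝒳.p.obj z).left := ‹IsAffine (StMod.sch 𝒳 z)›
  haveI : IsAffine (𝒴.p.obj η).left := ‹IsAffine (StMod.sch 𝒴 η)›
  refine isClosed_range_of_comap _ (isClosed_range_comap_of_contract _ fun p _ hker s hs => ?_)
  have hzA := isFibGrpd_fibCat π η hp
  let ρ : ∀ x : (StMod.fibCat π η).obj, Γ(StMod.sch 𝒴 η, ⊤) →+* Γ(StMod.sch (StMod.fibCat π η) x, ⊤) :=
    fun x => (StMod.baseOver π x.left x.hom).left.appTop.hom
  have hρ : ∀ {x' x : (StMod.fibCat π η).obj} (φ : x' ⟶ x), (fn φ).comp (ρ x) = ρ x' := fun {x' x} φ => by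
    have e : StMod.bmap 𝒳 φ.left ≫ (StMod.baseOver π x.left x.hom).left = (StMod.baseOver π x'.left x'.hom).left :=
      (StMod.bmap_comp_baseOver_left π φ.left x.hom).trans
        (congrArg (fun α => (StMod.baseOver π x'.left α).left) (CostructuredArrow.w φ))
    exact RingHom.ext fun r => congr($(congrArg Scheme.Hom.appTop e) r)
  let zc : AffO (StMod.fibCat π η) := ⟨CostructuredArrow.mk α, ‹IsAffine (StMod.sch 𝒳 z)›⟩
  have hcovz : ∀ x : (StMod.fibCat π η).obj, ∃ (ι : Type u) (y : ι → (StMod.fibCat π η).obj) (φ : ∀ i, y i ⟶ x),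
      IsCov y φ ∧ ∀ i, Nonempty (y i ⟶ zc.1) := fun x => by
    obtain ⟨κ, y, φ, hφ, hψ⟩ := hcov x.left x.hom
    exact ⟨κ, fun i => CostructuredArrow.mk (π.map (φ i) ≫ x.hom), fun i => CostructuredArrow.homMk (φ i) rfl,
      ⟨fun i => hφ.flat i, fun i => hφ.lfp i, fun t => hφ.surj t⟩,
      fun i => ⟨CostructuredArrow.homMk (hψ i).choose (hψ i).choose_spec⟩⟩
  let A := Γ(StMod.sch 𝒴 η, ⊤)
  let I : Ideal A := p
  choose g hgs hgι hgb using fun x : (StMod.fibCat π η).obj => exists_pull_self (ρ x)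
  have hgn : ∀ {x' x : (StMod.fibCat π η).obj} (φ : x' ⟶ x) (v : Pull (ρ x) A),
      g x' (tRes ρ hρ A φ v) = fn φ (g x v) := fun {x' x} φ v =>
    congr($((Pull.isSemiBC_ι (ρ x) A).ext (τ := fn φ) (g := (g x').comp (tRes ρ hρ A φ))
      (g' := (fn φ).toAddMonoidHom.comp (g x))
      (fun r w => by
        show g x' (tRes ρ hρ A φ (r • w)) = _
        rw [tRes_smul, hgs]
        rfl)
      (fun r w => by
        show fn φ (g x (r • w)) = _
        rw [hgs, map_mul]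
        rfl)
      fun a => by
        show g x' (tRes ρ hρ A φ _) = fn φ (g x _)
        rw [tRes_ι, hgι, hgι]
        exact congr($(hρ φ) a).symm) v)
  obtain ⟨w₀, hw₀⟩ : ∃ w, pmap (ρ zc.1) I.subtype w = Pull.ι (ρ zc.1) A s := by
    have key : ∀ r ∈ Ideal.map (ρ zc.1) I, ∃ w, g zc.1 (pmap (ρ zc.1) I.subtype w) = r := fun r hr => by
      induction hr using Submodule.span_induction with
      | mem r hr =>
        obtain ⟨a, ha, rfl⟩ := hr
        exact ⟨Pull.ι _ _ ⟨a, ha⟩, by rw [pmap_ι, hgι]; rfl⟩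
      | zero => exact ⟨0, by rw [map_zero, map_zero]⟩
      | add x y _ _ hx hy =>
        obtain ⟨v, hv⟩ := hx
        obtain ⟨v', hv'⟩ := hy
        exact ⟨v + v', by rw [map_add, map_add, hv, hv']⟩
      | smul c x _ hx =>
        obtain ⟨v, hv⟩ := hx
        exact ⟨c • v, by rw [pmap_smul, hgs, hv]; rfl⟩
    obtain ⟨w, hw⟩ := key (ρ zc.1 s) hs
    exact ⟨w, (hgb zc.1).1 (hw.trans (hgι zc.1 s).symm)⟩
  obtain ⟨κ, hκ, l, w, hw⟩ := exists_finite_free (M := ↥I) (ρ zc.1) w₀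
  obtain ⟨t, ht, htl⟩ := exists_lift_family hzA ρ hρ zc hcovz
    (fun {G G'} u s hs hu => exists_fibCat_lift π hp hp' hη hd P hpres hex u s hs hu) (I.subtype.comp l)
    (fun x => Pull.ι (ρ x.1) A s) (fun φ => tRes_ι ρ hρ A φ s)
    ⟨w, by rw [← pmap_comp (M' := ↥I), hw, hw₀]⟩
  have hcomp : ∀ k, ∃ a : A, ∀ x : AffO (StMod.fibCat π η), g x.1 (pmap (ρ x.1) (LinearMap.proj k) (t x)) = ρ x.1 a :=
    fun k => by
      obtain ⟨r, hr, hrf⟩ := exists_sect_of_aff hzA (StMod.OQ (𝒳 := StMod.fibCat π η))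
        (fun x => g x.1 (pmap (ρ x.1) (LinearMap.proj k) (t x))) fun {x' x} φ => by
          show fn φ (g x.1 (pmap (ρ x.1) (LinearMap.proj k) (t x))) = _
          rw [← hgn, tRes_pmap, ht]
      let v : StMod.Mod.RelSect π (StMod.O 𝒳) η := ⟨fun ξ β => r (CostructuredArrow.mk β), fun ξ' ξ φ β =>
        hr (CostructuredArrow.homMk φ rfl : (CostructuredArrow.mk (π.map φ ≫ β) : (StMod.fibCat π η).obj) ⟶
          CostructuredArrow.mk β)⟩
      obtain ⟨a, ha⟩ := hun v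
      exact ⟨a, fun x => (hrf x).symm.trans (congrArg (fun w : StMod.Mod.RelSect π (StMod.O 𝒳) η =>
        w.1 x.1.left x.1.hom) ha).symm⟩
  choose a ha using hcomp
  have hta : t zc = Pull.ι (ρ zc.1) (κ → A) a := pull_ext_pi _ fun k => (hgb zc.1).1 (by
    rw [ha k zc, pmap_ι, hgι]
    rfl)
  have e := htl zc
  rw [hta, pmap_ι] at e
  have e2 : ρ zc.1 ((I.subtype.comp l) a) = ρ zc.1 s := by rw [← hgι, e, hgι]
  let s' : A := s
  have h3 : s' - (I.subtype.comp l) a ∈ I := hker (RingHom.mem_ker.2 (by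
    show ρ zc.1 (s' - (I.subtype.comp l) a) = 0
    rw [map_sub, e2, sub_self]))
  have h4 : (I.subtype.comp l) a ∈ I := (l a).2
  have h5 : s' ∈ I := by simpa using I.add_mem h3 h4
  exact h5

end Groth.Agent.StModLib
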