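import Groth.Agent.StModLib.SysHom
import Mathlib.Algebra.Module.Shrink

/-!
# Modules from data on a dense family of objects
-/

set_option autoImplicit false
set_option linter.style.haveILetI false
set_option linter.unusedSectionVars false
set_option backward.isDefEq.respectTransparency false
set_option backward.isDefEq.respectTransparency.types false

universe v w u

open CategoryTheory CategoryTheory.Limits AlgebraicGeometry

namespace Groth.Agent.StModLib

variable {S : Scheme.{u}} {𝒴 : AlgSt.Cat S}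

theorem isIso_of_isIso_bmap (hp : FibCat.IsFibGrpd 𝒴.p) {y x : 𝒴.obj} (φ : y ⟶ x)
    [IsIso (StMod.bmap 𝒴 φ)] : IsIso φ := by
  obtain ⟨χ, ⟨hb, hc⟩, -⟩ := existsUnique_lift_bmap hp φ (𝟙 x) (inv (StMod.bmap 𝒴 φ))
    (by rw [IsIso.inv_hom_id, StMod.bmap_id])
  refine ⟨χ, hom_ext_of_map hp φ (Over.OverMorphism.ext ?_) (by rw [Category.assoc, hc]; simp), hc⟩
  show StMod.bmap 𝒴 (φ ≫ χ) = StMod.bmap 𝒴 (𝟙 y)
  rw [StMod.bmap_comp, hb, IsIso.hom_inv_id, StMod.bmap_id]

instance isIso_bmap {y x : 𝒴.obj} (φ : y ⟶ x) [IsIso φ] : IsIso (StMod.bmap 𝒴 φ) :=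
  inferInstanceAs (IsIso ((𝒴.p ⋙ Over.forget S).map φ))

theorem IsCov.comp {η : 𝒴.obj} {ι : Type u} {z : ι → 𝒴.obj} {φ : ∀ i, z i ⟶ η} (h : IsCov z φ)
    {κ : ι → Type u} {y : ∀ i, κ i → 𝒴.obj} {ψ : ∀ i k, y i k ⟶ z i} (h' : ∀ i, IsCov (y i) (ψ i)) :
    IsCov (fun p : Σ i, κ i => y p.1 p.2) fun p => ψ p.1 p.2 ≫ φ p.1 where
  flat p := by
    haveI := (h' p.1).flat p.2
    haveI := h.flat p.1
    rw [StMod.bmap_comp]
    infer_instance
  lfp p := by
    haveI := (h' p.1).lfp p.2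
    haveI := h.lfp p.1
    rw [StMod.bmap_comp]
    infer_instance
  surj t := by
    obtain ⟨i, s, rfl⟩ := h.surj t
    obtain ⟨k, r, rfl⟩ := (h' i).surj s
    exact ⟨⟨i, k⟩, r, by rw [StMod.bmap_comp, Scheme.Hom.comp_apply]⟩

theorem IsCov.iso_comp {η : 𝒴.obj} {ι : Type u} {z : ι → 𝒴.obj} {φ : ∀ i, z i ⟶ η} (h : IsCov z φ)
    {y : ι → 𝒴.obj} (e : ∀ i, y i ≅ z i) : IsCov y fun i => (e i).hom ≫ φ i where
  flat i := by
    haveI := h.flat i
    rw [StMod.bmap_comp]
    infer_instance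
  lfp i := by
    haveI := h.lfp i
    rw [StMod.bmap_comp]
    infer_instance
  surj t := by
    obtain ⟨i, s, rfl⟩ := h.surj t
    refine ⟨i, StMod.bmap 𝒴 (e i).inv s, ?_⟩
    rw [← Scheme.Hom.comp_apply, ← StMod.bmap_comp, ← Category.assoc, Iso.inv_hom_id, Category.id_comp]

section SemiBC

variable {A B : Type u} [CommRing A] [CommRing B] {M N : Type w} [AddCommGroup M] [Module A M]
  [AddCommGroup N] [Module B N]

/-- A semilinear bijection over a bijective ring map is a base change. -/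
theorem isSemiBC_of_bijective {σ : A →+* B} {l : M →+ N} (h : ∀ (r : A) (m : M), l (r • m) = σ r • l m)
    (hσ : Function.Bijective σ) (hl : Function.Bijective l) : IsSemiBC σ l := by
  refine ⟨h, ?_⟩
  letI := σ.toAlgebra
  letI : Module A N := Module.compHom N σ
  haveI : IsScalarTower A B N := IsScalarTower.of_algebraMap_smul fun _ _ => rfl
  let f : M →ₗ[A] N := { toFun := l, map_add' := map_add l, map_smul' := h }
  let c : TensorProduct A B M →ₗ[B] N := (TensorProduct.isBaseChange A M B).lift f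
  have hct : ∀ (b : B) (m : M), c (b ⊗ₜ m) = b • l m := fun b m => by
    have e : (b ⊗ₜ[A] m : TensorProduct A B M) = b • (TensorProduct.mk A B M 1 m) := by
      simp [TensorProduct.smul_tmul']
    rw [e, map_smul]
    exact congrArg (b • ·) (IsBaseChange.lift_eq (TensorProduct.isBaseChange A M B) f m)
  have hone : ∀ t : TensorProduct A B M, ∃ m : M, t = 1 ⊗ₜ m := fun t => by
    induction t using TensorProduct.induction_on with
    | zero => exact ⟨0, (TensorProduct.tmul_zero _ _).symm⟩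
    | add a b ha hb =>
      obtain ⟨m, rfl⟩ := ha
      obtain ⟨n, rfl⟩ := hb
      exact ⟨m + n, (TensorProduct.tmul_add _ _ _).symm⟩
    | tmul b m =>
      obtain ⟨a, rfl⟩ := hσ.2 b
      refine ⟨a • m, ?_⟩
      rw [← TensorProduct.smul_tmul]
      exact congrArg (· ⊗ₜ[A] m) (mul_one (σ a)).symm
  refine (isBaseChange_iff_bijective f (c.restrictScalars A) hct).2 ⟨fun x y hxy => ?_, fun n => ?_⟩
  · obtain ⟨m, rfl⟩ := hone x
    obtain ⟨m', rfl⟩ := hone y
    have e : c (1 ⊗ₜ m) = c (1 ⊗ₜ m') := hxy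
    rw [hct, hct, one_smul, one_smul] at e
    rw [hl.1 e]
  · obtain ⟨m, rfl⟩ := hl.2 n
    refine ⟨1 ⊗ₜ m, ?_⟩
    show c (1 ⊗ₜ m) = l m
    rw [hct, one_smul]

end SemiBC

variable {T : Type v} (o : T → 𝒴.obj)

/-- Every object is covered by members of the family. -/
def IsDense : Prop :=
  ∀ η : 𝒴.obj, ∃ (ι : Type u) (k : ι → T) (g : ∀ i, o (k i) ⟶ η), IsCov (fun i => o (k i)) g

/-- The family is closed, up to isomorphism, under sources of morphisms into its members. -/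
def IsStable : Prop :=
  ∀ ⦃η : 𝒴.obj⦄ ⦃t : T⦄, (η ⟶ o t) → ∃ t', Nonempty (o t' ≅ η)

variable {o}

/-- A covering pulled back to a member is refined by members. -/
theorem IsStable.exists_pullback (hs : IsStable o) (hp : FibCat.IsFibGrpd 𝒴.p) {η : 𝒴.obj} {ι : Type u}
    {z : ι → 𝒴.obj} {φ : ∀ i, z i ⟶ η} (h : IsCov z φ) {t : T} (g : o t ⟶ η) :
    ∃ (k : ι → T) (c : ∀ i, o (k i) ⟶ o t) (d : ∀ i, o (k i) ⟶ z i),
      IsCov (fun i => o (k i)) c ∧ ∀ i, c i ≫ g = d i ≫ φ i := by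
  obtain ⟨z', α, β, hc, hsq⟩ := h.exists_pullback hp g
  choose k hk using fun i => hs (α i)
  exact ⟨k, fun i => (hk i).some.hom ≫ α i, fun i => (hk i).some.hom ≫ β i, hc.iso_comp fun i => (hk i).some,
    fun i => by rw [Category.assoc, Category.assoc, (hsq i).w]⟩

variable (o) in
/-- A system of sections over the members of a family. -/
structure DSys where
  /-- the sections over a member -/
  obj : T → Type u
  [grp : ∀ t, AddCommGroup (obj t)]
  [mod : ∀ t, Module Γ(StMod.sch 𝒴 (o t), ⊤) (obj t)]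
  /-- restriction -/
  res : ∀ {t' t : T}, (o t' ⟶ o t) → obj t →+ obj t'
  res_smul : ∀ {t' t : T} (φ : o t' ⟶ o t) (r : Γ(StMod.sch 𝒴 (o t), ⊤)) (x : obj t),
    res φ (r • x) = (StMod.bmap 𝒴 φ).appTop r • res φ x
  res_id : ∀ (t : T) (x : obj t), res (𝟙 (o t)) x = x
  res_comp : ∀ {t'' t' t : T} (ψ : o t'' ⟶ o t') (φ : o t' ⟶ o t) (x : obj t), res (ψ ≫ φ) x = res ψ (res φ x)

attribute [instance] DSys.grp DSys.mod

namespace DSys

variable (N : DSys o)

/-- Separatedness and gluing along coverings by members. -/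
def IsSheaf : Prop :=
  ∀ ⦃t : T⦄ ⦃ι : Type u⦄ (k : ι → T) (φ : ∀ i, o (k i) ⟶ o t), IsCov (fun i => o (k i)) φ →
    (∀ s s' : N.obj t, (∀ i, N.res (φ i) s = N.res (φ i) s') → s = s') ∧
    ∀ x : ∀ i, N.obj (k i),
      (∀ (i j : ι) (t' : T) (a : o t' ⟶ o (k i)) (b : o t' ⟶ o (k j)), a ≫ φ i = b ≫ φ j →
        N.res a (x i) = N.res b (x j)) →
      ∃ s : N.obj t, ∀ i, N.res (φ i) s = x i

/-- Base change between affine members. -/
def HasBC : Prop :=
  ∀ ⦃t' t : T⦄ (f : o t' ⟶ o t), IsAffine (StMod.sch 𝒴 (o t)) → IsAffine (StMod.sch 𝒴 (o t')) →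
    IsSemiBC (StMod.bmap 𝒴 f).appTop.hom (N.res f)

/-- Compatible families over the members above an object. -/
def sectGrp (η : 𝒴.obj) : AddSubgroup (∀ t, (o t ⟶ η) → N.obj t) where
  carrier := {s | ∀ (t' t : T) (b : o t' ⟶ o t) (g : o t ⟶ η), N.res b (s t g) = s t' (b ≫ g)}
  zero_mem' _ _ b _ := map_zero (N.res b)
  add_mem' {x y} hx hy t' t b g := by
    show N.res b (x t g + y t g) = x t' (b ≫ g) + y t' (b ≫ g)
    rw [map_add, hx, hy]
  neg_mem' {x} hx t' t b g := by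
    show N.res b (-x t g) = -x t' (b ≫ g)
    rw [map_neg, hx]

/-- Sections over an arbitrary object. -/
def Sect (η : 𝒴.obj) : Type (max u v) := N.sectGrp η

instance (η : 𝒴.obj) : AddCommGroup (N.Sect η) := inferInstanceAs (AddCommGroup (N.sectGrp η))

variable {N} {η : 𝒴.obj}

/-- Evaluation at a member above the object. -/
def ev {t : T} (g : o t ⟶ η) : N.Sect η →+ N.obj t where
  toFun s := s.1 t g
  map_zero' := rfl
  map_add' _ _ := rfl

theorem ev_res (s : N.Sect η) {t' t : T} (b : o t' ⟶ o t) (g : o t ⟶ η) :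
    N.res b (ev g s) = ev (b ≫ g) s :=
  s.2 t' t b g

theorem sect_ext {s s' : N.Sect η} (h : ∀ t (g : o t ⟶ η), ev g s = ev g s') : s = s' :=
  Subtype.ext (funext fun t => funext fun g => h t g)

/-- Scalars on families. -/
noncomputable def sectSMul (r : Γ(StMod.sch 𝒴 η, ⊤)) (s : N.Sect η) : N.Sect η :=
  ⟨fun t g => (StMod.bmap 𝒴 g).appTop r • ev g s, fun t' t b g => by
    show N.res b ((StMod.bmap 𝒴 g).appTop r • ev g s) = (StMod.bmap 𝒴 (b ≫ g)).appTop r • ev (b ≫ g) s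
    rw [N.res_smul, ev_res, StMod.bmap_comp, Scheme.Hom.comp_appTop]
    rfl⟩

noncomputable instance : SMul Γ(StMod.sch 𝒴 η, ⊤) (N.Sect η) := ⟨sectSMul⟩

theorem ev_smul {t : T} (g : o t ⟶ η) (r : Γ(StMod.sch 𝒴 η, ⊤)) (s : N.Sect η) :
    ev g (r • s) = (StMod.bmap 𝒴 g).appTop r • ev g s := rfl

noncomputable instance : Module Γ(StMod.sch 𝒴 η, ⊤) (N.Sect η) where
  one_smul s := sect_ext fun t g => by rw [ev_smul, map_one, one_smul]
  mul_smul a b s := sect_ext fun t g => by rw [ev_smul, ev_smul, ev_smul, map_mul, mul_smul]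
  smul_zero a := sect_ext fun t g => by rw [ev_smul, map_zero, smul_zero]
  smul_add a x y := sect_ext fun t g => by rw [ev_smul, map_add, map_add, ev_smul, ev_smul, smul_add]
  add_smul a b s := sect_ext fun t g => by rw [ev_smul, map_add, map_add, ev_smul, ev_smul, add_smul]
  zero_smul s := sect_ext fun t g => by rw [ev_smul, map_zero, map_zero, zero_smul]

/-- Restriction of families. -/
def sectRes {η' : 𝒴.obj} (φ : η' ⟶ η) : N.Sect η →+ N.Sect η' where
  toFun s := ⟨fun t g => s.1 t (g ≫ φ), fun t' t b g => by exact (s.2 t' t b (g ≫ φ)).trans (congrArg (s.1 t') (Category.assoc b g φ).symm)⟩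
  map_zero' := rfl
  map_add' _ _ := rfl

theorem ev_sectRes {η' : 𝒴.obj} (φ : η' ⟶ η) {t : T} (g : o t ⟶ η') (s : N.Sect η) :
    ev g (sectRes φ s) = ev (g ≫ φ) s := rfl

/-- Over a member the families are the sections there. -/
theorem bijective_ev_id (t : T) : Function.Bijective (ev (N := N) (𝟙 (o t))) := by
  refine ⟨fun s s' h => sect_ext fun t' g => ?_, fun x => ?_⟩
  · have e : ∀ s : N.Sect (o t), N.res g (ev (𝟙 (o t)) s) = ev g s := fun s => by rw [ev_res, Category.comp_id]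
    rw [← e s, ← e s', h]
  · exact ⟨⟨fun t' g => N.res g x, fun t'' t' b g => (N.res_comp b g x).symm⟩, N.res_id t x⟩

theorem bijective_ev_iso {t : T} (e : o t ≅ η) : Function.Bijective (ev (N := N) e.hom) := by
  have h : Function.Bijective (sectRes (N := N) e.hom) := by
    refine Function.bijective_iff_has_inverse.2 ⟨sectRes e.inv, fun s => sect_ext fun t g => ?_,
      fun s => sect_ext fun t g => ?_⟩
    · rw [ev_sectRes, ev_sectRes, Category.assoc, e.inv_hom_id, Category.comp_id]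
    · rw [ev_sectRes, ev_sectRes, Category.assoc, e.hom_inv_id, Category.comp_id]
  have e' : (ev (N := N) e.hom : N.Sect η → N.obj t) = ev (𝟙 (o t)) ∘ sectRes e.hom :=
    funext fun s => by rw [Function.comp_apply, ev_sectRes, Category.id_comp]
  rw [e']
  exact (bijective_ev_id t).comp h

variable (hp : FibCat.IsFibGrpd 𝒴.p) (hs : IsStable o) (hN : N.IsSheaf)

include hp hs hN in
theorem sect_eq_of_cov {ι : Type u} {z : ι → 𝒴.obj} {φ : ∀ i, z i ⟶ η} (h : IsCov z φ) {s s' : N.Sect η}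
    (e : ∀ i, sectRes (φ i) s = sectRes (φ i) s') : s = s' := by
  refine sect_ext fun t g => ?_
  obtain ⟨k, c, d, hc, hcd⟩ := hs.exists_pullback hp h g
  refine (hN k c hc).1 _ _ fun i => ?_
  rw [ev_res, ev_res, hcd, ← ev_sectRes, ← ev_sectRes, e]

include hp hs hN in
theorem small_sect (hd : IsDense o) (η : 𝒴.obj) : Small.{u} (N.Sect η) := by
  obtain ⟨ι, k, g, hg⟩ := hd η
  refine small_of_injective (f := fun s : N.Sect η => fun i => ev (g i) s) fun s s' h => ?_
  refine sect_eq_of_cov hp hs hN hg fun i => sect_ext fun t a => ?_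
  rw [ev_sectRes, ev_sectRes, ← ev_res, ← ev_res, show ev (g i) s = ev (g i) s' from congrFun h i]

include hp hs hN in
theorem exists_glue {ι : Type u} {z : ι → 𝒴.obj} {φ : ∀ i, z i ⟶ η} (h : IsCov z φ) (x : ∀ i, N.Sect (z i))
    (hx : ∀ (i j : ι) (y : 𝒴.obj) (a : y ⟶ z i) (b : y ⟶ z j), a ≫ φ i = b ≫ φ j →
      sectRes a (x i) = sectRes b (x j)) :
    ∃ s : N.Sect η, ∀ i, sectRes (φ i) s = x i := by
  have hx' : ∀ (i j : ι) (t : T) (a : o t ⟶ z i) (b : o t ⟶ z j), a ≫ φ i = b ≫ φ j →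
      ev a (x i) = ev b (x j) := fun i j t a b e => by
    have := congrArg (ev (𝟙 (o t))) (hx i j (o t) a b e)
    rwa [ev_sectRes, ev_sectRes, Category.id_comp, Category.id_comp] at this
  have key : ∀ t (g : o t ⟶ η), ∃! m : N.obj t, ∀ t' (a : o t' ⟶ o t) (i : ι) (p : o t' ⟶ z i),
      p ≫ φ i = a ≫ g → N.res a m = ev p (x i) := fun t g => by
    obtain ⟨k, c, d, hc, hcd⟩ := hs.exists_pullback hp h g
    obtain ⟨m, hm⟩ := (hN k c hc).2 (fun i => ev (d i) (x i)) fun i j t' a b e => by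
      rw [ev_res, ev_res]
      refine hx' i j t' _ _ ?_
      rw [Category.assoc, Category.assoc, ← hcd, ← hcd, ← Category.assoc, e, Category.assoc]
    refine ⟨m, fun t' a i p hp' => ?_, fun m' hm' => (hN k c hc).1 _ _ fun i => ?_⟩
    · obtain ⟨k', c', d', hc', hcd'⟩ := hs.exists_pullback hp hc a
      refine (hN k' c' hc').1 _ _ fun l => ?_
      rw [← N.res_comp, hcd' l, N.res_comp, hm l, ev_res, ev_res]
      refine hx' l i _ _ _ ?_
      rw [Category.assoc, Category.assoc, hp', ← hcd, ← Category.assoc, ← hcd' l, Category.assoc]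
    · rw [hm i]
      exact hm' _ (c i) i (d i) (hcd i).symm
  choose m hm hu using key
  refine ⟨⟨m, fun t' t b g => ?_⟩, fun i => sect_ext fun t a => ?_⟩
  · refine hu t' (b ≫ g) _ fun t'' a i p hp' => ?_
    rw [← N.res_comp]
    exact hm t g t'' (a ≫ b) i p (by rw [hp', Category.assoc])
  · rw [ev_sectRes]
    show m t (a ≫ φ i) = _
    exact (N.res_id t _).symm.trans (hm t (a ≫ φ i) t (𝟙 _) i a (Category.id_comp _).symm)

/-- The small extension. -/
noncomputable def extSys [∀ η, Small.{u} (N.Sect η)] : Sys.{u} 𝒴 where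
  obj η := Shrink.{u} (N.Sect η)
  res φ := AddMonoidHom.mk' (fun x => equivShrink _ (sectRes φ ((equivShrink _).symm x))) fun x y => by
    rw [equivShrink_symm_add, map_add, equivShrink_add]
  res_smul φ r x := by
    show equivShrink _ (sectRes φ ((equivShrink _).symm (r • x))) = _ • equivShrink _ (sectRes φ _)
    rw [equivShrink_symm_smul, ← equivShrink_smul]
    refine congrArg (equivShrink _) (sect_ext fun t g => ?_)
    rw [ev_sectRes, ev_smul, ev_smul, ev_sectRes, StMod.bmap_comp, Scheme.Hom.comp_appTop]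
    rfl
  res_id η x := by
    refine (congrArg (equivShrink _) (sect_ext fun t g => ?_)).trans ((equivShrink _).apply_symm_apply x)
    rw [ev_sectRes, Category.comp_id]
  res_comp ψ φ x := by
    show equivShrink _ (sectRes (ψ ≫ φ) _) = equivShrink _ (sectRes ψ ((equivShrink _).symm (equivShrink _ _)))
    rw [Equiv.symm_apply_apply]
    refine congrArg (equivShrink _) (sect_ext fun t g => ?_)
    rw [ev_sectRes, ev_sectRes, ev_sectRes, Category.assoc]

theorem extSys_symm_res [∀ η, Small.{u} (N.Sect η)] {η' : 𝒴.obj} (φ : η' ⟶ η) (x : (extSys (N := N)).obj η) :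
    (equivShrink _).symm ((extSys (N := N)).res φ x) = sectRes φ ((equivShrink _).symm x) :=
  (equivShrink _).symm_apply_apply _

/-- Evaluation on the small extension. -/
noncomputable def extEv [∀ η, Small.{u} (N.Sect η)] {t : T} (g : o t ⟶ η) : (extSys (N := N)).obj η →+ N.obj t :=
  (ev g).comp (Shrink.addEquiv (α := N.Sect η)).toAddMonoidHom

theorem extEv_apply [∀ η, Small.{u} (N.Sect η)] {t : T} (g : o t ⟶ η) (x : (extSys (N := N)).obj η) :
    extEv g x = ev g ((equivShrink _).symm x) := rfl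

theorem extEv_smul [∀ η, Small.{u} (N.Sect η)] {t : T} (g : o t ⟶ η) (r : Γ(StMod.sch 𝒴 η, ⊤))
    (x : (extSys (N := N)).obj η) : extEv g (r • x) = (StMod.bmap 𝒴 g).appTop r • extEv g x := by
  rw [extEv_apply, equivShrink_symm_smul]
  rfl

theorem bijective_extEv [∀ η, Small.{u} (N.Sect η)] {t : T} (e : o t ≅ η) :
    Function.Bijective (extEv (N := N) e.hom) :=
  (bijective_ev_iso e).comp (equivShrink _).symm.bijective

theorem extEv_res [∀ η, Small.{u} (N.Sect η)] {η' : 𝒴.obj} (φ : η' ⟶ η) {t' t : T} (g' : o t' ⟶ η')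
    (g : o t ⟶ η) (b : o t' ⟶ o t) (h : g' ≫ φ = b ≫ g) (x : (extSys (N := N)).obj η) :
    extEv g' ((extSys (N := N)).res φ x) = N.res b (extEv g x) := by
  rw [extEv_apply, extSys_symm_res, extEv_apply, ev_res, ev_sectRes, h]

include hp hs hN in
theorem isSheaf_extSys [∀ η, Small.{u} (N.Sect η)] : (extSys (N := N)).IsSheaf := by
  refine ⟨fun η ι z φ h s s' e => (equivShrink _).symm.injective (sect_eq_of_cov hp hs hN h fun i => ?_),
    fun η ι z φ h x hx => ?_⟩
  · rw [← extSys_symm_res, ← extSys_symm_res, e]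
  · obtain ⟨s, hs'⟩ := exists_glue hp hs hN h (fun i => (equivShrink _).symm (x i)) fun i j y a b e => by
      rw [← extSys_symm_res, ← extSys_symm_res, hx i j y a b e]
    refine ⟨equivShrink _ s, fun i => (equivShrink _).symm.injective ?_⟩
    rw [extSys_symm_res, Equiv.symm_apply_apply, hs']

include hp hs hN in
theorem hasBC_extSys [∀ η, Small.{u} (N.Sect η)] (hd : IsDense o) (hBC : N.HasBC) :
    (extSys (N := N)).HasBC := by
  refine Sys.hasBC_of_local hp (isSheaf_extSys hp hs hN) (fun η => ∃ t, Nonempty (o t ≅ η))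
    (fun y' y f ⟨t, ⟨e⟩⟩ => hs (f ≫ e.inv)) (fun y' y f ⟨t, ⟨e⟩⟩ h h' => ?_) fun η => ?_
  · obtain ⟨t', ⟨e'⟩⟩ := hs (f ≫ e.inv)
    haveI := h
    haveI := h'
    haveI : IsAffine (StMod.sch 𝒴 (o t)) := IsAffine.of_isIso (StMod.bmap 𝒴 e.hom)
    haveI : IsAffine (StMod.sch 𝒴 (o t')) := IsAffine.of_isIso (StMod.bmap 𝒴 e'.hom)
    let b : o t' ⟶ o t := e'.hom ≫ f ≫ e.inv
    have hb : e'.hom ≫ f = b ≫ e.hom := by simp [b]
    rw [Sys.bc_iff]
    have hσ : ∀ {a c : 𝒴.obj} (k : a ⟶ c) [IsIso k], Function.Bijective (StMod.bmap 𝒴 k).appTop.hom :=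
      fun k _ => ConcreteCategory.bijective_of_isIso _
    let E' : _ →+ (extSys (N := N)).obj y' := (AddEquiv.ofBijective _ (bijective_extEv (N := N) e')).symm.toAddMonoidHom
    have hE' : ∀ x, E' (extEv e'.hom x) = x := fun x =>
      (AddEquiv.ofBijective _ (bijective_extEv (N := N) e')).symm_apply_apply x
    let τ : Γ(StMod.sch 𝒴 (o t'), ⊤) →+* Γ(StMod.sch 𝒴 y', ⊤) := (StMod.bmap 𝒴 e'.inv).appTop.hom
    have hτ : ∀ r, (StMod.bmap 𝒴 e'.inv).appTop ((StMod.bmap 𝒴 e'.hom).appTop r) = r := fun r => by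
      have := congr($(congrArg Scheme.Hom.appTop (StMod.bmap_comp (𝒳 := 𝒴) e'.inv e'.hom)) r)
      rw [Iso.inv_hom_id, StMod.bmap_id] at this
      exact this.symm
    have h₁ : IsSemiBC (StMod.bmap 𝒴 e.hom).appTop.hom (extEv (N := N) e.hom) :=
      isSemiBC_of_bijective (extEv_smul e.hom) (hσ e.hom) (bijective_extEv e)
    have h₂ : IsSemiBC τ E' := by
      refine isSemiBC_of_bijective (fun r m => ?_) (hσ e'.inv) (AddEquiv.bijective _)
      obtain ⟨x, rfl⟩ := (bijective_extEv (N := N) e').2 m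
      obtain ⟨r', rfl⟩ := (hσ e'.hom).2 r
      rw [← extEv_smul, hE', hE']
      exact congrArg (fun c : Γ(StMod.sch 𝒴 y', ⊤) => c • x) (hτ r').symm
    have h₃ := (h₁.comp (hBC b inferInstance inferInstance)).comp h₂
    have e₁ : (E'.comp ((N.res b).comp (extEv (N := N) e.hom))) = (extSys (N := N)).res f :=
      AddMonoidHom.ext fun x => by
        show E' (N.res b (extEv e.hom x)) = _
        rw [← extEv_res f e'.hom e.hom b hb, hE']
    have e₂ : τ.comp ((StMod.bmap 𝒴 b).appTop.hom.comp (StMod.bmap 𝒴 e.hom).appTop.hom) =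
        (StMod.bmap 𝒴 f).appTop.hom := by
      refine RingHom.ext fun r => ?_
      show (StMod.bmap 𝒴 e'.inv).appTop ((StMod.bmap 𝒴 b).appTop ((StMod.bmap 𝒴 e.hom).appTop r)) = _
      have := congr($(congrArg Scheme.Hom.appTop (StMod.bmap_comp (𝒳 := 𝒴) b e.hom)) r)
      rw [← hb, StMod.bmap_comp] at this
      refine Eq.trans (congrArg (StMod.bmap 𝒴 e'.inv).appTop this.symm) ?_
      exact hτ _
    rw [e₁, e₂] at h₃
    exact h₃
  · obtain ⟨ι, k, g, hg⟩ := hd η
    exact ⟨ι, fun i => o (k i), g, hg, fun i => ⟨k i, ⟨Iso.refl _⟩⟩⟩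

end DSys

/-- Data on a dense stable family glue to a quasi-coherent module. -/
theorem exists_qcoh_of_dense (hp : FibCat.IsFibGrpd 𝒴.p) (hd : IsDense o) (hs : IsStable o) (N : DSys o)
    (hN : N.IsSheaf) (hBC : N.HasBC) :
    ∃ (G : StMod.QCoh 𝒴) (θ : ∀ t, Γ(G.obj.obj (o t), ⊤) →+ N.obj t),
      (∀ t, Function.Bijective (θ t)) ∧
      (∀ t (r : Γ(StMod.sch 𝒴 (o t), ⊤)) (x : Γ(G.obj.obj (o t), ⊤)), θ t (r • x) = r • θ t x) ∧
      ∀ {t' t : T} (φ : o t' ⟶ o t) (x : Γ(G.obj.obj (o t), ⊤)), θ t' (G.obj.mapTop φ x) = N.res φ (θ t x) := by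
  haveI : ∀ η, Small.{u} (N.Sect η) := DSys.small_sect hp hs hN hd
  obtain ⟨G, θ, hb, hl, hn⟩ := exists_qcoh_of_sys hp (DSys.extSys (N := N))
    (DSys.isSheaf_extSys hp hs hN) (DSys.hasBC_extSys hp hs hN hd hBC)
  refine ⟨G, fun t => (DSys.extEv (𝟙 (o t))).comp (θ (o t)), fun t => ?_, fun t r x => ?_, fun {t' t} φ x => ?_⟩
  · exact (DSys.bijective_extEv (Iso.refl (o t))).comp (hb _)
  · show DSys.extEv (𝟙 (o t)) (θ (o t) (r • x)) = r • DSys.extEv (𝟙 (o t)) (θ (o t) x)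
    rw [hl, DSys.extEv_smul, StMod.bmap_id]
    rfl
  · show DSys.extEv (𝟙 (o t')) (θ (o t') (G.obj.mapTop φ x)) = N.res φ (DSys.extEv (𝟙 (o t)) (θ (o t) x))
    rw [hn, DSys.extEv_res φ (𝟙 (o t')) (𝟙 (o t)) φ (by simp)]

/-- Morphisms into a quasi-coherent module are determined on a dense family. -/
theorem hom_ext_of_dense (hp : FibCat.IsFibGrpd 𝒴.p) (hd : IsDense o) {G G' : StMod.Mod 𝒴}
    (hG' : StMod.isQCoh 𝒴 G') {a b : G ⟶ G'}
    (h : ∀ t (x : Γ(G.obj (o t), ⊤)), (a.app (o t)).app ⊤ x = (b.app (o t)).app ⊤ x) : a = b := by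
  refine hom_ext_sys hp hG'.1 fun η x => ?_
  obtain ⟨ι, k, g, hg⟩ := hd η
  refine (isSheaf_modSys hp hG').1 _ g hg _ _ fun i => ?_
  show G'.mapTop (g i) _ = G'.mapTop (g i) _
  rw [StMod.Mod.mapTop_app, StMod.Mod.mapTop_app, h]

theorem mapTop_injective_of_isIso (G : StMod.Mod 𝒴) {y x : 𝒴.obj} (φ : y ⟶ x) [IsIso φ] :
    Function.Injective (G.mapTop φ) := fun a b h => by
  have e : ∀ c, G.mapTop (inv φ) (G.mapTop φ c) = c := fun c => by
    rw [← StMod.Mod.mapTop_comp, IsIso.inv_hom_id, StMod.Mod.mapTop_id]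
  rw [← e a, ← e b, h]

/-- Natural linear families on a dense stable family extend to morphisms of modules. -/
theorem exists_hom_of_dense (hp : FibCat.IsFibGrpd 𝒴.p) (hd : IsDense o) (hs : IsStable o)
    {G G' : StMod.Mod 𝒴} (hG' : StMod.isQCoh 𝒴 G')
    (m : ∀ t, Γ(G.obj (o t), ⊤) →+ Γ(G'.obj (o t), ⊤))
    (hlin : ∀ t (r : Γ(StMod.sch 𝒴 (o t), ⊤)) (x : Γ(G.obj (o t), ⊤)), m t (r • x) = r • m t x)
    (hnat : ∀ {t' t : T} (φ : o t' ⟶ o t) (x : Γ(G.obj (o t), ⊤)), G'.mapTop φ (m t x) = m t' (G.mapTop φ x)) :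
    ∃ a : G ⟶ G', ∀ t (x : Γ(G.obj (o t), ⊤)), (a.app (o t)).app ⊤ x = m t x := by
  have hS := isSheaf_modSys hp hG'
  have key : ∀ η (x : Γ(G.obj η, ⊤)), ∃! y : Γ(G'.obj η, ⊤), ∀ t (g : o t ⟶ η),
      G'.mapTop g y = m t (G.mapTop g x) := fun η x => by
    obtain ⟨ι, k, g, hg⟩ := hd η
    obtain ⟨y, hy⟩ := hS.2 _ g hg (fun i => m (k i) (G.mapTop (g i) x)) fun i j z a b e => by
      obtain ⟨t', ⟨c⟩⟩ := hs a
      refine mapTop_injective_of_isIso G' c.hom ?_
      show G'.mapTop c.hom (G'.mapTop a _) = G'.mapTop c.hom (G'.mapTop b _)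
      rw [← StMod.Mod.mapTop_comp, hnat, ← StMod.Mod.mapTop_comp, ← StMod.Mod.mapTop_comp, hnat,
        ← StMod.Mod.mapTop_comp, Category.assoc, Category.assoc, e]
    refine ⟨y, fun t g' => ?_, fun y' hy' => hS.1 _ g hg _ _ fun i => (hy' _ (g i)).trans (hy i).symm⟩
    obtain ⟨k', c, d, hc, hcd⟩ := hs.exists_pullback hp hg g'
    refine hS.1 _ c hc _ _ fun i => ?_
    show G'.mapTop (c i) _ = G'.mapTop (c i) _
    rw [← StMod.Mod.mapTop_comp, hnat, ← StMod.Mod.mapTop_comp, hcd, StMod.Mod.mapTop_comp,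
      show G'.mapTop (g i) y = m _ _ from hy i, hnat, ← StMod.Mod.mapTop_comp]
  choose h hh hu using key
  have hadd : ∀ η (x y : Γ(G.obj η, ⊤)), h η (x + y) = h η x + h η y := fun η x y =>
    (hu η (x + y) _ fun t g => by
      rw [StMod.Mod.mapTop_add, hh, hh, ← map_add, ← StMod.Mod.mapTop_add]).symm
  obtain ⟨a, ha⟩ := exists_hom_sys hp hG'.1 (fun η => AddMonoidHom.mk' (h η) (hadd η))
    (fun η r x => (hu η (r • x) _ fun t g => by
      show G'.mapTop g (r • h η x) = _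
      rw [StMod.Mod.mapTop_smul, hh, StMod.Mod.mapTop_smul, hlin]).symm)
    (fun {η' η} φ x => hu η' (G.mapTop φ x) _ fun t g => by
      show G'.mapTop g (G'.mapTop φ (h η x)) = _
      rw [← StMod.Mod.mapTop_comp, hh, StMod.Mod.mapTop_comp])
  refine ⟨a, fun t x => (ha (o t) x).trans ?_⟩
  have := hh (o t) x t (𝟙 _)
  rwa [StMod.Mod.mapTop_id, StMod.Mod.mapTop_id] at this

end Groth.Agent.StModLib
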