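import Groth.Agent.AlgSpLib.LocP
import Groth.Agent.AlgStLib.OfSp
import Groth.Prelude.Def_StMod2

/-!
# Morphisms from images to schemes etale over a scheme
-/

set_option autoImplicit false
set_option backward.isDefEq.respectTransparency false
set_option backward.isDefEq.respectTransparency.types false

universe v w u

open CategoryTheory CategoryTheory.Limits AlgebraicGeometry AlgSp Opposite

noncomputable section

namespace Groth.Agent.StModLib

open Groth.Agent.AlgStLib Groth.Agent.AlgSpLib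

variable {S : Scheme.{u}} {Y : Over S}

/-- The structure morphism of a scheme etale over a scheme. -/
def eMor (E : EtOver ((yon S).obj Y)) : E.obj.left ⟶ Y := ((StMod.etaOf E).sec).down

theorem map_eMor (E : EtOver ((yon S).obj Y)) : (yon S).map (eMor E) = E.obj.hom := by
  refine (AlgSp.J S).uliftYonedaEquiv.injective ?_
  show (AlgSp.J S).uliftYonedaEquiv ((yon S).map (eMor E)) = (StMod.etaOf E).sec
  apply ULift.ext
  show 𝟙 E.obj.left ≫ eMor E = eMor E
  exact Category.id_comp _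

theorem etale_eMor (E : EtOver ((yon S).obj Y)) : Etale (eMor E).left := by
  refine (repWith_yon_map_iff @Etale (eMor E)).1 ?_
  rw [map_eMor]
  exact E.property

variable {𝒳 : AlgSt.Cat S} (π : 𝒳 ⥤ᵇ AlgSt.ofSch Y)

/-- The morphism to the target under an object. -/
def secP (ξ : 𝒳.obj) : 𝒳.p.obj ξ ⟶ Y := (secAt π ξ).down

theorem secP_map {ξ' ξ : 𝒳.obj} (φ : ξ' ⟶ ξ) : 𝒳.p.map φ ≫ secP π ξ = secP π ξ' :=
  congrArg ULift.down (secAt_map π φ)

variable {π} {E : EtOver ((yon S).obj Y)}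

theorem baseOver_eMor {ξ : 𝒳.obj} (α : π.obj ξ ⟶ StMod.etaOf E) :
    StMod.baseOver π ξ α ≫ eMor E = secP π ξ := by
  show (eqToHom (π.w_obj ξ).symm ≫ α.hom) ≫ ((StMod.etaOf E).sec).down = _
  rw [Category.assoc]
  exact congrArg (eqToHom (π.w_obj ξ).symm ≫ ·) (congrArg ULift.down α.map_sec)

theorem exists_alpha {ξ : 𝒳.obj} (b : 𝒳.p.obj ξ ⟶ E.obj.left) (hb : b ≫ eMor E = secP π ξ) :
    ∃ α : π.obj ξ ⟶ StMod.etaOf E, StMod.baseOver π ξ α = b := by
  refine ⟨⟨eqToHom (π.w_obj ξ) ≫ b, ULift.ext _ _ ?_⟩, ?_⟩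
  · show (eqToHom (π.w_obj ξ) ≫ b) ≫ eMor E = (π.obj ξ).sec.down
    rw [Category.assoc, hb]
    show eqToHom (π.w_obj ξ) ≫ (eqToHom (π.w_obj ξ).symm ≫ (π.obj ξ).sec.down) = _
    rw [← Category.assoc]
    exact (congrArg (· ≫ (π.obj ξ).sec.down) (eqToHom_trans _ _)).trans (Category.id_comp _)
  · show eqToHom (π.w_obj ξ).symm ≫ eqToHom (π.w_obj ξ) ≫ b = b
    rw [← Category.assoc, eqToHom_trans, eqToHom_refl, Category.id_comp]

theorem alpha_ext {ξ : 𝒳.obj} {α β : π.obj ξ ⟶ StMod.etaOf E}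
    (h : StMod.baseOver π ξ α = StMod.baseOver π ξ β) : α = β := by
  refine Stk.EltObj.hom_ext ?_
  exact (cancel_epi (eqToHom (π.w_obj ξ).symm)).1 h

end Groth.Agent.StModLib
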