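import Groth.Prelude.Def_StMod
import Mathlib.CategoryTheory.FiberedCategory.Cartesian
import Mathlib.CategoryTheory.Limits.Shapes.Pullback.IsPullback.Basic
import Mathlib.AlgebraicGeometry.Pullbacks

/-!
# Pullbacks in a category fibred in groupoids over schemes
-/

set_option autoImplicit false
set_option backward.isDefEq.respectTransparency false
set_option backward.isDefEq.respectTransparency.types false

universe u

open CategoryTheory CategoryTheory.Functor CategoryTheory.Limits AlgebraicGeometry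

namespace Groth.Agent.StModLib

variable {S : Scheme.{u}} {𝒴 : AlgSt.Cat S}

/-- Morphisms lift uniquely through any morphism of a category fibred in groupoids. -/
theorem existsUnique_lift (h : FibCat.IsFibGrpd 𝒴.p) {x y z : 𝒴.obj} (φ : y ⟶ x) (ψ : z ⟶ x)
    (g : 𝒴.p.obj z ⟶ 𝒴.p.obj y) (hg : g ≫ 𝒴.p.map φ = 𝒴.p.map ψ) :
    ∃! χ : z ⟶ y, 𝒴.p.map χ = g ∧ χ ≫ φ = ψ := by
  haveI := h.isStronglyCartesian φ
  haveI : 𝒴.p.IsHomLift (g ≫ 𝒴.p.map φ) ψ := by rw [hg]; exact IsHomLift.map 𝒴.p ψ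
  obtain ⟨χ, ⟨hχ, hfac⟩, huniq⟩ :=
    IsStronglyCartesian.universal_property' (p := 𝒴.p) (f := 𝒴.p.map φ) (φ := φ) g ψ
  refine ⟨χ, ⟨?_, hfac⟩, fun χ' h' => huniq χ' ⟨?_, h'.2⟩⟩
  · haveI := hχ
    exact (IsHomLift.eq_of_isHomLift 𝒴.p g χ).symm
  · rw [← h'.1]
    exact IsHomLift.map 𝒴.p χ'

/-- Morphisms with the same target are determined by their images. -/
theorem hom_ext_of_map (h : FibCat.IsFibGrpd 𝒴.p) {x y z : 𝒴.obj} (φ : y ⟶ x) {a b : z ⟶ y}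
    (e : 𝒴.p.map a = 𝒴.p.map b) (e' : a ≫ φ = b ≫ φ) : a = b :=
  (existsUnique_lift h φ (a ≫ φ) (𝒴.p.map a) (by rw [Functor.map_comp])).unique ⟨rfl, rfl⟩ ⟨e.symm, e'.symm⟩

/-- A lift of a morphism with prescribed source. -/
theorem exists_lift_over (h : FibCat.IsFibGrpd 𝒴.p) {x : 𝒴.obj} {T : Over S} (f : T ⟶ 𝒴.p.obj x) :
    ∃ (y : 𝒴.obj) (e : 𝒴.p.obj y ≅ T) (φ : y ⟶ x), 𝒴.p.map φ = e.hom ≫ f := by
  obtain ⟨y, φ, hφ⟩ := h.exists_lift f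
  refine ⟨y, eqToIso (IsHomLift.domain_eq 𝒴.p f φ), φ, ?_⟩
  haveI := hφ
  rw [IsHomLift.fac' 𝒴.p f φ]
  simp

/-- A commutative square over a pullback square of schemes is a pullback square. -/
theorem isPullback_of_map (h : FibCat.IsFibGrpd 𝒴.p) {P x y z : 𝒴.obj} {a : P ⟶ x} {b : P ⟶ y} {f : x ⟶ z}
    {g : y ⟶ z} (w : a ≫ f = b ≫ g) (hp : IsPullback (𝒴.p.map a) (𝒴.p.map b) (𝒴.p.map f) (𝒴.p.map g)) :
    IsPullback a b f g := by
  have key : ∀ s : PullbackCone f g, ∃! χ : s.pt ⟶ P, χ ≫ a = s.fst ∧ χ ≫ b = s.snd := fun s => by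
    have e : 𝒴.p.map s.fst ≫ 𝒴.p.map f = 𝒴.p.map s.snd ≫ 𝒴.p.map g := by
      rw [← Functor.map_comp, ← Functor.map_comp, s.condition]
    obtain ⟨χ, ⟨hχ, hfac⟩, -⟩ := existsUnique_lift h a s.fst (hp.lift _ _ e) (hp.lift_fst _ _ e)
    refine ⟨χ, ⟨hfac, hom_ext_of_map h g ?_ ?_⟩, fun χ' h' => hom_ext_of_map h a ?_ (h'.1.trans hfac.symm)⟩
    · rw [Functor.map_comp, hχ, hp.lift_snd]
    · rw [Category.assoc, ← w, ← Category.assoc, hfac, s.condition]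
    · rw [hχ]
      refine hp.hom_ext ?_ ?_
      · rw [hp.lift_fst, ← Functor.map_comp, h'.1]
      · rw [hp.lift_snd, ← Functor.map_comp, h'.2]
  refine ⟨⟨w⟩, ⟨PullbackCone.IsLimit.mk w (fun s => (key s).choose) (fun s => (key s).choose_spec.1.1)
    (fun s => (key s).choose_spec.1.2) fun s m h₁ h₂ => (key s).choose_spec.2 m ⟨h₁, h₂⟩⟩⟩

/-- Pullback squares exist and lie over pullback squares. -/
theorem exists_isPullback (h : FibCat.IsFibGrpd 𝒴.p) {x y z : 𝒴.obj} (f : x ⟶ z) (g : y ⟶ z) :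
    ∃ (P : 𝒴.obj) (a : P ⟶ x) (b : P ⟶ y), IsPullback a b f g ∧
      IsPullback (𝒴.p.map a) (𝒴.p.map b) (𝒴.p.map f) (𝒴.p.map g) := by
  have hp := IsPullback.of_hasPullback (𝒴.p.map f) (𝒴.p.map g)
  obtain ⟨P, e, a, ha⟩ := exists_lift_over h (pullback.fst (𝒴.p.map f) (𝒴.p.map g))
  obtain ⟨b, ⟨hb, hw⟩, -⟩ := existsUnique_lift h g (a ≫ f) (e.hom ≫ pullback.snd _ _) (by
    rw [Functor.map_comp, ha, Category.assoc, Category.assoc, pullback.condition])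
  have hp' : IsPullback (𝒴.p.map a) (𝒴.p.map b) (𝒴.p.map f) (𝒴.p.map g) :=
    hp.of_iso e.symm (Iso.refl _) (Iso.refl _) (Iso.refl _) (by simp [ha]) (by simp [hb]) (by simp) (by simp)
  exact ⟨P, a, b, isPullback_of_map h hw.symm hp', hp'⟩

theorem hasPullbacks (h : FibCat.IsFibGrpd 𝒴.p) : HasPullbacks 𝒴.obj :=
  haveI : ∀ {x y z : 𝒴.obj} {f : x ⟶ z} {g : y ⟶ z}, HasLimit (cospan f g) := fun {x y z f g} => by
    obtain ⟨P, a, b, hP, -⟩ := exists_isPullback h f g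
    exact hP.hasPullback
  hasPullbacks_of_hasLimit_cospan _

/-- The structure functor preserves pullback squares. -/
theorem isPullback_map (h : FibCat.IsFibGrpd 𝒴.p) {P x y z : 𝒴.obj} {a : P ⟶ x} {b : P ⟶ y} {f : x ⟶ z}
    {g : y ⟶ z} (hP : IsPullback a b f g) :
    IsPullback (𝒴.p.map a) (𝒴.p.map b) (𝒴.p.map f) (𝒴.p.map g) := by
  obtain ⟨P', a', b', h', hp'⟩ := exists_isPullback h f g
  exact hp'.of_iso (𝒴.p.mapIso (h'.isoIsPullback x y hP)) (Iso.refl _) (Iso.refl _) (Iso.refl _)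
    (by simp [← Functor.map_comp]) (by simp [← Functor.map_comp]) (by simp) (by simp)

/-- The morphisms of schemes under a pullback square form a pullback square. -/
theorem isPullback_bmap (h : FibCat.IsFibGrpd 𝒴.p) {P x y z : 𝒴.obj} {a : P ⟶ x} {b : P ⟶ y} {f : x ⟶ z}
    {g : y ⟶ z} (hP : IsPullback a b f g) :
    IsPullback (StMod.bmap 𝒴 a) (StMod.bmap 𝒴 b) (StMod.bmap 𝒴 f) (StMod.bmap 𝒴 g) :=
  (isPullback_map h hP).map (Over.forget S)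

/-- A lift of a morphism of schemes. -/
theorem exists_lift_bmap (h : FibCat.IsFibGrpd 𝒴.p) {x : 𝒴.obj} {T : Scheme.{u}} (f : T ⟶ StMod.sch 𝒴 x) :
    ∃ (y : 𝒴.obj) (e : StMod.sch 𝒴 y ≅ T) (φ : y ⟶ x), StMod.bmap 𝒴 φ = e.hom ≫ f := by
  obtain ⟨y, e, φ, hφ⟩ := exists_lift_over h (T := Over.mk (f ≫ (𝒴.p.obj x).hom)) (Over.homMk f)
  exact ⟨y, (Over.forget S).mapIso e, φ, congrArg (fun m => m.left) hφ⟩

/-- Unique factorisation in terms of morphisms of schemes. -/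
theorem existsUnique_lift_bmap (h : FibCat.IsFibGrpd 𝒴.p) {x y z : 𝒴.obj} (φ : y ⟶ x) (ψ : z ⟶ x)
    (g : StMod.sch 𝒴 z ⟶ StMod.sch 𝒴 y) (hg : g ≫ StMod.bmap 𝒴 φ = StMod.bmap 𝒴 ψ) :
    ∃! χ : z ⟶ y, StMod.bmap 𝒴 χ = g ∧ χ ≫ φ = ψ := by
  have hg' : g ≫ (𝒴.p.map φ).left = (𝒴.p.map ψ).left := hg
  let g' : 𝒴.p.obj z ⟶ 𝒴.p.obj y := Over.homMk g (by
    rw [← Over.w (𝒴.p.map φ), ← Category.assoc, hg', Over.w (𝒴.p.map ψ)])
  obtain ⟨χ, ⟨h₁, h₂⟩, hu⟩ := existsUnique_lift h φ ψ g' (Over.OverMorphism.ext hg')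
  exact ⟨χ, ⟨congrArg (fun m => m.left) h₁, h₂⟩, fun χ' h' => hu χ' ⟨Over.OverMorphism.ext h'.1, h'.2⟩⟩

end Groth.Agent.StModLib
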