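import Groth.Agent.StModLib.AtlasPairs

/-!
# Triangles over two objects flat over an atlas
-/

set_option autoImplicit false
set_option linter.style.haveILetI false
set_option backward.isDefEq.respectTransparency false
set_option backward.isDefEq.respectTransparency.types false

universe u

open CategoryTheory CategoryTheory.Limits AlgebraicGeometry

namespace Groth.Agent.StModLib

variable {S : Scheme.{u}} {𝒳 : AlgSt.Cat S}

/-- An affine object with a flat morphism to `x₀`. -/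
def IsFlatMem (x₀ : 𝒳.obj) (ξ : 𝒳.obj) : Prop :=
  IsAffine (StMod.sch 𝒳 ξ) ∧ ∃ m : ξ ⟶ x₀, Flat (StMod.bmap 𝒳 m)

/-- The affine objects flat over `x₀`. -/
abbrev FMem (x₀ : 𝒳.obj) : Type (u + 1) := {ξ : 𝒳.obj // IsFlatMem x₀ ξ}

theorem IsFlatMem.of_flat {x₀ ξ η : 𝒳.obj} (h : IsFlatMem x₀ η) (φ : ξ ⟶ η) (hφ : Flat (StMod.bmap 𝒳 φ))
    (ha : IsAffine (StMod.sch 𝒳 ξ)) : IsFlatMem x₀ ξ := by
  obtain ⟨-, m, hm⟩ := h
  refine ⟨ha, φ ≫ m, ?_⟩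
  rw [StMod.bmap_comp]
  infer_instance

theorem flat_fst_of_flat (hp : FibCat.IsFibGrpd 𝒳.p) {P x y z : 𝒳.obj} {a : P ⟶ x} {b : P ⟶ y} {f : x ⟶ z}
    {g : y ⟶ z} (h : IsPullback a b f g) (hg : Flat (StMod.bmap 𝒳 g)) : Flat (StMod.bmap 𝒳 a) :=
  MorphismProperty.of_isPullback (isPullback_bmap hp h).flip hg

/-- Two flat members have an atlas of triangles over them, and triangles compare. -/
theorem exists_pair (hp : FibCat.IsFibGrpd 𝒳.p) {x₀ : 𝒳.obj} (P : PairAtlas x₀) (p q : FMem x₀) :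
    ∃ (κ : Type u) (R : κ → FMem x₀) (c : ∀ k, (R k).1 ⟶ p.1) (d : ∀ k, (R k).1 ⟶ q.1),
      (∀ k, Flat (StMod.bmap 𝒳 (c k))) ∧ (∀ k, Flat (StMod.bmap 𝒳 (d k))) ∧
      (∀ (y : 𝒳.obj) (a : y ⟶ p.1) (b : y ⟶ q.1), ∃ (ι : Type u) (z : ι → 𝒳.obj) (φ : ∀ i, z i ⟶ y),
        IsCov z φ ∧ ∀ i, IsAffine (StMod.sch 𝒳 (z i)) ∧
          ∃ (k : κ) (e : z i ⟶ (R k).1), e ≫ c k = φ i ≫ a ∧ e ≫ d k = φ i ≫ b) ∧
      ∀ (w : FMem x₀) (c' : w.1 ⟶ p.1) (d' : w.1 ⟶ q.1) (y : 𝒳.obj) (k : κ) (e : y ⟶ w.1) (e' : y ⟶ (R k).1),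
        e ≫ c' = e' ≫ c k → e ≫ d' = e' ≫ d k →
        ∃ (ι : Type u) (z : ι → 𝒳.obj) (φ : ∀ i, z i ⟶ y), IsCov z φ ∧ ∀ i, IsAffine (StMod.sch 𝒳 (z i)) ∧
          ∃ (r : FMem x₀) (a : r.1 ⟶ w.1) (b : r.1 ⟶ (R k).1) (m : z i ⟶ r.1),
            a ≫ c' = b ≫ c k ∧ a ≫ d' = b ≫ d k ∧ m ≫ a = φ i ≫ e ∧ m ≫ b = φ i ≫ e' := by
  haveI := hasPullbacks hp
  obtain ⟨m, hm⟩ := p.2.2
  obtain ⟨m', hm'⟩ := q.2.2
  let Spc : P.κ → 𝒳.obj := fun k => pullback (pullback.snd m (P.c k) ≫ P.d k) m'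
  let c₀ : ∀ k, Spc k ⟶ p.1 := fun k => pullback.fst (pullback.snd m (P.c k) ≫ P.d k) m' ≫ pullback.fst m (P.c k)
  let d₀ : ∀ k, Spc k ⟶ q.1 := fun k => pullback.snd (pullback.snd m (P.c k) ≫ P.d k) m'
  let r₀ : ∀ k, Spc k ⟶ P.R k := fun k => pullback.fst (pullback.snd m (P.c k) ≫ P.d k) m' ≫ pullback.snd m (P.c k)
  have hc₀ : ∀ k, Flat (StMod.bmap 𝒳 (c₀ k)) := fun k => by
    haveI := flat_fst_of_flat hp (IsPullback.of_hasPullback (pullback.snd m (P.c k) ≫ P.d k) m') hm'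
    haveI := flat_fst_of_flat hp (IsPullback.of_hasPullback m (P.c k)) (P.flatc k)
    rw [StMod.bmap_comp]
    infer_instance
  have hd₀ : ∀ k, Flat (StMod.bmap 𝒳 (d₀ k)) := fun k => by
    refine flat_fst_of_flat hp (IsPullback.of_hasPullback (pullback.snd m (P.c k) ≫ P.d k) m').flip ?_
    haveI := P.flatd k
    haveI := flat_fst_of_flat hp (IsPullback.of_hasPullback m (P.c k)).flip hm
    rw [StMod.bmap_comp]
    infer_instance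
  have hext : ∀ (k : P.κ) {y : 𝒳.obj} (f g : y ⟶ Spc k), f ≫ c₀ k = g ≫ c₀ k → f ≫ d₀ k = g ≫ d₀ k →
      f ≫ r₀ k = g ≫ r₀ k → f = g := fun k {y} f g h₁ h₂ h₃ => by
    refine pullback.hom_ext (pullback.hom_ext ?_ ?_) h₂
    · simpa [c₀] using h₁
    · simpa [r₀] using h₃
  have hlift : ∀ (k : P.κ) {y : 𝒳.obj} (a : y ⟶ p.1) (b : y ⟶ q.1) (e : y ⟶ P.R k), e ≫ P.c k = a ≫ m →
      e ≫ P.d k = b ≫ m' → ∃ l : y ⟶ Spc k, l ≫ c₀ k = a ∧ l ≫ d₀ k = b ∧ l ≫ r₀ k = e := fun k {y} a b e h₁ h₂ =>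
    ⟨pullback.lift (pullback.lift a e h₁.symm) b (by rw [pullback.lift_snd_assoc, h₂]),
      by simp [c₀], by simp [d₀], by simp [r₀]⟩
  choose μ W ψ hψ hWa hψo using fun k => exists_affine_cover hp (Spc k)
  let R : (Σ k, μ k) → FMem x₀ := fun l => ⟨W l.1 l.2, by
    haveI := hψo l.1 l.2
    haveI := hc₀ l.1
    refine IsFlatMem.of_flat p.2 (ψ l.1 l.2 ≫ c₀ l.1) ?_ (hWa l.1 l.2)
    rw [StMod.bmap_comp]
    infer_instance⟩
  refine ⟨Σ k, μ k, R, fun l => ψ l.1 l.2 ≫ c₀ l.1, fun l => ψ l.1 l.2 ≫ d₀ l.1, fun l => ?_, fun l => ?_,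
    fun y a b => ?_, fun w c' d' y l e e' h₁ h₂ => ?_⟩
  · haveI := hψo l.1 l.2
    haveI := hc₀ l.1
    rw [StMod.bmap_comp]
    infer_instance
  · haveI := hψo l.1 l.2
    haveI := hd₀ l.1
    rw [StMod.bmap_comp]
    infer_instance
  · obtain ⟨ι, z, φ, hφ, hk⟩ := P.cov y (a ≫ m) (b ≫ m')
    choose k e he₁ he₂ using hk
    choose l hl₁ hl₂ hl₃ using fun i => hlift (k i) (φ i ≫ a) (φ i ≫ b) (e i)
      (by rw [he₁, Category.assoc]) (by rw [he₂, Category.assoc])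
    choose z' α β hz' hsq using fun i => (hψ (k i)).exists_pullback hp (l i)
    choose ν v χ hχ hva _ using fun (j : Σ i, μ (k i)) => exists_affine_cover hp (z' j.1 j.2)
    refine ⟨Σ j : (Σ i, μ (k i)), ν j, fun j => v j.1 j.2, fun j => χ j.1 j.2 ≫ α j.1.1 j.1.2 ≫ φ j.1.1,
      (hφ.comp hz').comp hχ, fun j => ⟨hva j.1 j.2, ⟨k j.1.1, j.1.2⟩, χ j.1 j.2 ≫ β j.1.1 j.1.2, ?_, ?_⟩⟩
    · show (χ j.1 j.2 ≫ β j.1.1 j.1.2) ≫ ψ (k j.1.1) j.1.2 ≫ c₀ _ = (χ j.1 j.2 ≫ α j.1.1 j.1.2 ≫ φ j.1.1) ≫ a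
      rw [Category.assoc, ← Category.assoc (β _ _), ← (hsq j.1.1 j.1.2).w]
      simp only [Category.assoc, hl₁]
    · show (χ j.1 j.2 ≫ β j.1.1 j.1.2) ≫ ψ (k j.1.1) j.1.2 ≫ d₀ _ = (χ j.1 j.2 ≫ α j.1.1 j.1.2 ≫ φ j.1.1) ≫ b
      rw [Category.assoc, ← Category.assoc (β _ _), ← (hsq j.1.1 j.1.2).w]
      simp only [Category.assoc, hl₂]
  · obtain ⟨k, n⟩ := l
    have hw : ∀ {y' : 𝒳.obj} (f : y' ⟶ Spc k), (f ≫ c₀ k) ≫ m = (f ≫ r₀ k) ≫ P.c k ∧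
        (f ≫ d₀ k) ≫ m' = (f ≫ r₀ k) ≫ P.d k := fun f => ⟨by simp [c₀, r₀, pullback.condition], by
      simp [d₀, r₀, ← pullback.condition]⟩
    have q₁ : e ≫ c' ≫ m = (e' ≫ ψ k n ≫ r₀ k) ≫ P.c k := by
      rw [reassoc_of% h₁]
      simpa using (hw (e' ≫ ψ k n)).1
    have q₂ : e ≫ d' ≫ m' = (e' ≫ ψ k n ≫ r₀ k) ≫ P.d k := by
      rw [reassoc_of% h₂]
      simpa using (hw (e' ≫ ψ k n)).2
    obtain ⟨ι, z, φ, hφ, hr⟩ := P.cmp w.1 (c' ≫ m) (d' ≫ m') y k e (e' ≫ ψ k n ≫ r₀ k) q₁ q₂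
    choose r a b mz hfl _ hab₁ hab₂ hma hmb using hr
    choose l hl₁ hl₂ hl₃ using fun i => hlift k (a i ≫ c') (a i ≫ d') (b i)
      (by rw [← hab₁, Category.assoc]) (by rw [← hab₂, Category.assoc])
    let Q : ι → 𝒳.obj := fun i => pullback (l i) (ψ k n)
    let g : ∀ i, z i ⟶ Q i := fun i => pullback.lift (mz i) (φ i ≫ e') (by
      refine hext k _ _ ?_ ?_ ?_
      · simp only [Category.assoc, hl₁, reassoc_of% hma i]
        exact congrArg (φ i ≫ ·) h₁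
      · simp only [Category.assoc, hl₂, reassoc_of% hma i]
        exact congrArg (φ i ≫ ·) h₂
      · simp only [Category.assoc, hl₃, hmb i])
    choose ν v χ hχ hva hχo using fun i => exists_affine_cover hp (Q i)
    choose z' α β hz' hsq using fun i => (hχ i).exists_pullback hp (g i)
    choose τ u' ξ hξ hua _ using fun (j : Σ i, ν i) => exists_affine_cover hp (z' j.1 j.2)
    have hflat : ∀ i (j : ν i), Flat (StMod.bmap 𝒳 (χ i j ≫ pullback.fst (l i) (ψ k n) ≫ a i)) := fun i j => by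
      haveI := hχo i j
      haveI := hfl i
      haveI := hψo k n
      haveI := flat_fst_of_flat hp (IsPullback.of_hasPullback (l i) (ψ k n)) inferInstance
      rw [StMod.bmap_comp, StMod.bmap_comp]
      infer_instance
    refine ⟨Σ j : (Σ i, ν i), τ j, fun j => u' j.1 j.2, fun j => ξ j.1 j.2 ≫ α j.1.1 j.1.2 ≫ φ j.1.1,
      (hφ.comp hz').comp hξ, fun j => ⟨hua j.1 j.2,
        ⟨v j.1.1 j.1.2, IsFlatMem.of_flat w.2 _ (hflat j.1.1 j.1.2) (hva j.1.1 j.1.2)⟩,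
        χ j.1.1 j.1.2 ≫ pullback.fst _ _ ≫ a j.1.1, χ j.1.1 j.1.2 ≫ pullback.snd _ _,
        ξ j.1 j.2 ≫ β j.1.1 j.1.2, ?_, ?_, ?_, ?_⟩⟩
    · show _ = (χ _ _ ≫ pullback.snd _ _) ≫ ψ k n ≫ c₀ k
      simp only [Category.assoc, ← pullback.condition_assoc, hl₁]
    · show _ = (χ _ _ ≫ pullback.snd _ _) ≫ ψ k n ≫ d₀ k
      simp only [Category.assoc, ← pullback.condition_assoc, hl₂]
    · simp only [Category.assoc, ← reassoc_of% (hsq j.1.1 j.1.2).w, g, pullback.lift_fst_assoc, hma]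
    · simp only [Category.assoc, ← reassoc_of% (hsq j.1.1 j.1.2).w, g, pullback.lift_snd]

end Groth.Agent.StModLib
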