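import Groth.Agent.AlgSpLib.Points
import Groth.Agent.AlgSpLib.EtLocalInst
import Groth.Agent.AlgSpPts.Field
import Mathlib.AlgebraicGeometry.Morphisms.QuasiFinite
import Mathlib.AlgebraicGeometry.Artinian

/-!
# Rational points of sheaves over a field
-/

set_option autoImplicit false
set_option linter.style.haveILetI false
set_option backward.isDefEq.respectTransparency false
set_option backward.isDefEq.respectTransparency.types false

universe u

open CategoryTheory CategoryTheory.Limits AlgebraicGeometry AlgSp Opposite
open Groth.Agent.AlgSpLib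

noncomputable section

namespace Groth.Agent.StModLib

variable {S : Scheme.{u}} {N : Sp S} {K : Type u} [Field K] {t : Spec (CommRingCat.of K) ⟶ S}

/-- A rational point is closed when its fibre in every affine etale chart is quasi-compact. -/
theorem isClosed_ofPt_section (hN : IsAlgSpace N) (q : N ⟶ (yon S).obj (Over.mk t))
    (s : (yon S).obj (Over.mk t) ⟶ N) (hs : s ≫ q = 𝟙 _)
    (hqc : ∀ (D : Over S) (a : (yon S).obj D ⟶ N) (ha : RepWith @Etale a), IsAffine D.left →
      CompactSpace ↥(ha.rep.pullback s).left)
    (c : ↥(Over.mk t).left) : IsClosed ({Points.ofPt s c} : Set (Points N)) := by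
  obtain ⟨U, p, hpe, hps⟩ := hN.atlas
  rw [← isOpen_compl_iff, isOpen_iff_chart hpe hps, Set.preimage_compl, isOpen_compl_iff,
    (TopologicalSpace.IsOpenCover.mk (iSup_affineOpens_eq_top U.left)).isClosed_iff_coe_preimage]
  intro W
  let D : Over S := Over.mk (W.1.ι ≫ U.hom)
  let j : D ⟶ U := Over.homMk W.1.ι rfl
  let a : (yon S).obj D ⟶ N := (yon S).map j ≫ p
  have ha : RepWith @Etale a :=
    repWith_comp ((repWith_yon_map_iff @Etale j).2 (inferInstanceAs (Etale W.1.ι))) hpe
  haveI : IsAffine D.left := W.2
  haveI : IsAffine (Over.mk t).left := inferInstanceAs (IsAffine (Spec (CommRingCat.of K)))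
  let A := ha.rep.pullback s
  let l : A ⟶ D := ha.rep.fst' s
  let e : A ⟶ Over.mk t := ha.rep.snd s
  haveI : CompactSpace ↥A.left := hqc D a ha W.2
  haveI : Etale e.left := ha.property_snd s
  obtain ⟨τ, hτ⟩ := (yon S).map_surjective (a ≫ q)
  have hle : l ≫ τ = e := by
    apply (yon S).map_injective
    rw [Functor.map_comp, hτ, ← Category.assoc, Functor.relativelyRepresentable.map_fst', ha.rep.w s,
      Category.assoc, hs, Category.comp_id]
  haveI : LocallyQuasiFinite e.left := AlgSpLib.locallyQuasiFinite_of_formallyUnramified e.left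
  haveI : IsArtinianRing (CommRingCat.of K) := inferInstanceAs (IsArtinianRing K)
  haveI : IsLocallyArtinian (Over.mk t).left := Scheme.isLocallyArtinianScheme_Spec.2 inferInstance
  haveI : IsLocallyArtinian A.left := IsLocallyArtinian.of_locallyQuasiFinite e.left
  haveI : DiscreteTopology ↥A.left := inferInstance
  haveI : Finite ↥A.left := finite_of_compact_of_discrete
  haveI : JacobsonSpace ↥(Over.mk t).left :=
    inferInstanceAs (JacobsonSpace (Spec (CommRingCat.of K)))
  have hcl : ∀ x : A.left, IsClosed ({l.left x} : Set D.left) := fun x => by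
    haveI := isClosed_singleton_iff_isClosedImmersion.1 (isClosed_discrete ({x} : Set A.left))
    let g := A.left.fromSpecResidueField x ≫ l.left
    haveI : IsSeparated τ.left := inferInstance
    haveI : IsFinite (g ≫ τ.left) := by
      rw [show g ≫ τ.left = A.left.fromSpecResidueField x ≫ e.left by
        rw [← hle, Over.comp_left, Category.assoc]]
      exact isFinite_iff_locallyOfFiniteType_of_jacobsonSpace.2 inferInstance
    haveI : IsFinite g := IsFinite.of_comp g τ.left
    have := g.isClosedMap.isClosed_range
    rwa [Scheme.Hom.comp_base, TopCat.coe_comp, Set.range_comp, Scheme.range_fromSpecResidueField,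
      Set.image_singleton] at this
  have hset : (Subtype.val ⁻¹' (Points.ofPt p ⁻¹' {Points.ofPt s c}) : Set W.1) = ⋃ x : A.left, {l.left x} := by
    ext d
    simp only [Set.mem_preimage, Set.mem_singleton_iff, Set.mem_iUnion]
    constructor
    · intro hd
      have h1 : Points.ofPt a (d : D.left) = Points.ofPt s c := (ofPt_comp j p d).trans hd
      obtain ⟨x, hx, -⟩ := exists_ofPt_of_eq (ha.rep.isPullback' s) h1
      exact ⟨x, hx.symm⟩
    · rintro ⟨x, rfl⟩
      refine (ofPt_comp j p (l.left x)).symm.trans ?_
      show Points.ofPt a (l.left x) = _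
      rw [← ofPt_comp, Functor.relativelyRepresentable.map_fst', ha.rep.w s, ofPt_comp]
      exact congrArg _ (@Subsingleton.elim _ (inferInstanceAs (Subsingleton (PrimeSpectrum K))) _ _)
  show IsClosed (Subtype.val ⁻¹' (Points.ofPt p ⁻¹' {Points.ofPt s c}) : Set W.1)
  rw [hset]
  exact isClosed_iUnion_of_finite hcl

/-- Rational points with the same underlying point agree. -/
theorem eq_of_ofPt_eq_section (hN : IsAlgSpace N) (q : N ⟶ (yon S).obj (Over.mk t))
    (s s' : (yon S).obj (Over.mk t) ⟶ N) (hs : s ≫ q = 𝟙 _) (hs' : s' ≫ q = 𝟙 _) (c : ↥(Over.mk t).left)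
    (h : Points.ofPt s c = Points.ofPt s' c) : s = s' := by
  have hr : Representable s := hN.representable_from_yon s
  let R := hr.pullback s'
  let f : R ⟶ Over.mk t := hr.fst' s'
  let g : R ⟶ Over.mk t := hr.snd s'
  obtain ⟨w, -, -⟩ := exists_ofPt_of_eq (hr.isPullback' s') h
  have hw : (yon S).map f ≫ s = (yon S).map g ≫ s' := by
    rw [Functor.relativelyRepresentable.map_fst']
    exact hr.w s'
  have hfg : f = g := by
    apply (yon S).map_injective
    have := congrArg (· ≫ q) hw
    simpa only [Category.assoc, hs, hs', Category.comp_id] using this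
  haveI : IsSplitMono s := IsSplitMono.mk' ⟨q, hs⟩
  haveI : Mono ((yon S).map g) := PullbackCone.mono_snd_of_is_pullback_of_mono (hr.isPullback' s').isLimit
  haveI : Mono g := (yon S).mono_of_mono_map inferInstance
  haveI : Mono g.left := inferInstance
  haveI : Nonempty ↥R.left := ⟨w⟩
  haveI : IsIso g.left := AlgSpPts.isIso_of_mono_to_field g.left
  haveI : IsIso g := by
    haveI : IsIso ((Over.forget S).map g) := ‹IsIso g.left›
    exact isIso_of_reflects_iso g (Over.forget S)
  rw [hfg] at hw
  exact (cancel_epi ((yon S).map g)).1 hw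

end Groth.Agent.StModLib
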