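import Groth.Agent.StModLib.ClosedImage

/-!
# Submodules of the sections under exactness
-/

set_option autoImplicit false
set_option linter.style.haveILetI false
set_option linter.unusedSectionVars false
set_option backward.isDefEq.respectTransparency false
set_option backward.isDefEq.respectTransparency.types false

universe u

open CategoryTheory CategoryTheory.Limits AlgebraicGeometry
open scoped TensorProduct
open Groth.Agent.AlgStLib Groth.Agent.FibBase

noncomputable section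

namespace Groth.Agent.StModLib

variable {S : Scheme.{u}} {𝒳 𝒴 : AlgSt.Cat S} (π : 𝒳 ⥤ᵇ 𝒴) (hp : FibCat.IsFibGrpd 𝒳.p)
  (hp' : FibCat.IsFibGrpd 𝒴.p) {η : 𝒴.obj} (hη : EtObj η) {x₀ : 𝒳.obj} (hd : IsDenseObj x₀) (P : PairAtlas x₀)
  [IsAffine (StMod.sch 𝒴 η)]
  (hpres : ∀ ξ : 𝒳.obj, IsAffine (StMod.sch 𝒳 ξ) → Nonempty (Pres (StMod.fibFst π η) ξ))
  (hex : ∀ (F F' : StMod.QCoh 𝒳) (q : F ⟶ F'), StMod.Mod.IsSurj q.hom →
    Function.Surjective (StMod.Mod.relSectMap π q.hom η))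
  (hun : Function.Surjective (StMod.unitSect π η)) (z : 𝒳.obj) (α : π.obj z ⟶ η)
  [IsAffine (StMod.sch 𝒳 z)]
  (hcov : ∀ (ξ : 𝒳.obj) (β : π.obj ξ ⟶ η), ∃ (κ : Type u) (y : κ → 𝒳.obj) (φ : ∀ i, y i ⟶ ξ),
    IsCov y φ ∧ ∀ i, ∃ ψ : y i ⟶ z, π.map ψ ≫ α = π.map (φ i) ≫ β)
  (F : StMod.QCoh 𝒳)

omit [IsAffine (StMod.sch 𝒴 η)] [IsAffine (StMod.sch 𝒳 z)] in
/-- An element in the image at a covering object is in the image at every affine object. -/
theorem exists_preimage_of_locally {𝒵 : AlgSt.Cat S} (hz : FibCat.IsFibGrpd 𝒵.p) {G G' : StMod.Mod 𝒵}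
    (hG : StMod.isQCoh 𝒵 G) (hG' : StMod.isQCoh 𝒵 G') (q : G ⟶ G') (s : ∀ x, Γ(G'.obj x, ⊤))
    (hs : ∀ {x' x : 𝒵.obj} (φ : x' ⟶ x), G'.mapTop φ (s x) = s x') (z₀ : AffO 𝒵) (t₀ : Γ(G.obj z₀.1, ⊤))
    (h₀ : (q.app z₀.1).app ⊤ t₀ = s z₀.1)
    (hcov₀ : ∀ x : 𝒵.obj, ∃ (ι : Type u) (y : ι → 𝒵.obj) (φ : ∀ i, y i ⟶ x),
      IsCov y φ ∧ ∀ i, Nonempty (y i ⟶ z₀.1))
    (x : 𝒵.obj) (hx : IsAffine (StMod.sch 𝒵 x)) : ∃ t, (q.app x).app ⊤ t = s x := by
  obtain ⟨ι, y, φ, hφ, hy⟩ := hcov₀ x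
  choose κ w χ hχ hwa _ using fun i => exists_affine_cover hz (y i)
  let v : (Σ i, κ i) → 𝒵.obj := fun j => w j.1 j.2
  let b : ∀ j, v j ⟶ x := fun j => χ j.1 j.2 ≫ φ j.1
  have hb := hφ.comp hχ
  haveI : ∀ j, IsAffine (StMod.sch 𝒵 (v j)) := fun j => hwa j.1 j.2
  haveI := hx
  letI : ∀ j, Algebra Γ(StMod.sch 𝒵 x, ⊤) Γ(StMod.sch 𝒵 (v j), ⊤) := fun j => (fn (b j)).toAlgebra
  haveI : ∀ j, Module.Flat Γ(StMod.sch 𝒵 x, ⊤) Γ(StMod.sch 𝒵 (v j), ⊤) := fun j => by
    haveI := hb.flat j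
    exact (HasRingHomProperty.iff_of_isAffine (P := @Flat)).1 (hb.flat j)
  let qx : Γ(G.obj x, ⊤) →ₗ[Γ(StMod.sch 𝒵 x, ⊤)] Γ(G'.obj x, ⊤) :=
    { toFun := (q.app x).app ⊤
      map_add' := map_add _
      map_smul' := fun r t => Scheme.Modules.Hom.app_smul (q.app x) r t }
  suffices h : (LinearMap.range qx).mkQ (s x) = 0 by
    obtain ⟨t, ht⟩ := (Submodule.Quotient.mk_eq_zero _).1 h
    exact ⟨t, ht⟩
  let Q := Submodule.span Γ(StMod.sch 𝒵 x, ⊤) {(LinearMap.range qx).mkQ (s x)}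
  have key := injective_of_forall_lTensor' (B := fun j => Γ(StMod.sch 𝒵 (v j), ⊤))
    (exists_prime_of_cover b fun t => hb.surj t) (0 : Q →ₗ[Γ(StMod.sch 𝒵 x, ⊤)] PUnit.{u + 1}) fun j a a' _ => ?_
  · exact congrArg Subtype.val (key (a₁ := ⟨_, Submodule.mem_span_singleton_self _⟩) (a₂ := 0) rfl)
  have hinj : Function.Injective (Q.subtype.lTensor Γ(StMod.sch 𝒵 (v j), ⊤)) :=
    Module.Flat.lTensor_preserves_injective_linearMap _ Q.injective_subtype
  have hG₁ := isSemiBC_mapTop (⟨G, hG⟩ : StMod.QCoh 𝒵) (b j) (hwa j.1 j.2) hx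
  have hG₂ := isSemiBC_mapTop (⟨G', hG'⟩ : StMod.QCoh 𝒵) (b j) (hwa j.1 j.2) hx
  obtain ⟨L, hL⟩ := exists_tensor_map (σ := fn (b j)) _ hG₁.choose
  obtain ⟨L', hL'⟩ := exists_tensor_map (σ := fn (b j)) _ hG₂.choose
  let c := χ j.1 j.2 ≫ (hy j.1).some
  obtain ⟨e, he⟩ := (bijective_of_isSemiBC hG₁ L hL).2 (G.mapTop c t₀)
  have hcomm : ∀ e, L' (qx.lTensor _ e) = (q.app (v j)).app ⊤ (L e) := fun e => by
    induction e using TensorProduct.induction_on with
    | zero => simp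
    | add a b ha hb => rw [map_add, map_add, map_add, map_add, ha, hb]
    | tmul r t =>
      rw [LinearMap.lTensor_tmul, hL, hL', Scheme.Modules.Hom.app_smul]
      refine congrArg (r • ·) ?_
      exact (StMod.Mod.mapTop_app q (b j) t).trans rfl
  have hone : qx.lTensor _ e = (1 : Γ(StMod.sch 𝒵 (v j), ⊤)) ⊗ₜ[Γ(StMod.sch 𝒵 x, ⊤)] s x :=
    (bijective_of_isSemiBC hG₂ L' hL').1 (by
      rw [hcomm, he, hL', one_smul, ← StMod.Mod.mapTop_app, h₀, hs]
      exact (hs (b j)).symm)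
  have h1 := congrArg ((LinearMap.range qx).mkQ.lTensor Γ(StMod.sch 𝒵 (v j), ⊤)) hone
  rw [← LinearMap.lTensor_comp_apply, LinearMap.range_mkQ_comp, LinearMap.lTensor_zero,
    LinearMap.lTensor_tmul] at h1
  have h0 : ∀ a, Q.subtype.lTensor Γ(StMod.sch 𝒵 (v j), ⊤) a = 0 := fun a => by
    induction a using TensorProduct.induction_on with
    | zero => simp
    | add a b ha hb => rw [map_add, ha, hb, add_zero]
    | tmul r m =>
      obtain ⟨k, hk⟩ := Submodule.mem_span_singleton.1 m.2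
      rw [LinearMap.lTensor_tmul, Submodule.subtype_apply, ← hk, ← TensorProduct.smul_tmul]
      rw [show ((k • r : Γ(StMod.sch 𝒵 (v j), ⊤))) = (k • r) • (1 : Γ(StMod.sch 𝒵 (v j), ⊤)) by rw [smul_eq_mul, mul_one],
        ← TensorProduct.smul_tmul', ← h1, LinearMap.zero_apply, smul_zero]
  exact hinj ((h0 a).trans (h0 a').symm)

/-- Evaluation at a pair. -/
def evAt (ξ : 𝒳.obj) (β : π.obj ξ ⟶ η) : StMod.Mod.RelSect π F.obj η →+ Γ(F.obj.obj ξ, ⊤) where
  toFun s := s.1 ξ β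
  map_zero' := rfl
  map_add' _ _ := rfl

theorem evAt_smul (ξ : 𝒳.obj) (β : π.obj ξ ⟶ η) (r : Γ(StMod.sch 𝒴 η, ⊤)) (s : StMod.Mod.RelSect π F.obj η) :
    evAt π F ξ β (r • s) = (StMod.baseOver π ξ β).left.appTop r • evAt π F ξ β s := rfl

include hp hcov in
/-- Sections are determined by their value at a covering object. -/
theorem evAt_injective : Function.Injective (evAt π F z α) := fun s t h => by
  refine StMod.Mod.RelSect.ext _ _ _ fun ξ β => ?_
  obtain ⟨κ, y, φ, hφ, hψ⟩ := hcov ξ β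
  refine (isSheaf_modSys hp F.property).1 y φ hφ _ _ fun i => ?_
  refine (s.2 (φ i) β).trans (Eq.trans ?_ (t.2 (φ i) β).symm)
  obtain ⟨ψ, hψ⟩ := hψ i
  rw [← hψ, ← s.2 ψ α, ← t.2 ψ α]
  exact congrArg _ h

set_option maxHeartbeats 800000 in
include hp hun in
/-- Coordinates of a compatible family over the fibre are constant. -/
theorem exists_coord
    (ρ : ∀ x : (StMod.fibCat π η).obj, Γ(StMod.sch 𝒴 η, ⊤) →+* Γ(StMod.sch (StMod.fibCat π η) x, ⊤))
    (hρ : ∀ {x' x : (StMod.fibCat π η).obj} (φ : x' ⟶ x), (fn φ).comp (ρ x) = ρ x')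
    (hρb : ∀ x : (StMod.fibCat π η).obj, ρ x = (StMod.baseOver π x.left x.hom).left.appTop.hom) {κ : Type u} [Fintype κ]
    (f : ∀ x : AffO (StMod.fibCat π η), Pull (ρ x.1) (κ → Γ(StMod.sch 𝒴 η, ⊤)))
    (hf : ∀ {x' x : AffO (StMod.fibCat π η)} (φ : x'.1 ⟶ x.1), tRes ρ hρ _ φ (f x) = f x') :
    ∃ a : κ → Γ(StMod.sch 𝒴 η, ⊤), ∀ x : AffO (StMod.fibCat π η), f x = Pull.ι (ρ x.1) _ a := by
  have hzA := isFibGrpd_fibCat π η hp
  let A := Γ(StMod.sch 𝒴 η, ⊤)
  choose g hgs hgι hgb using fun x : (StMod.fibCat π η).obj => exists_pull_self (ρ x)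
  have hgn : ∀ {x' x : (StMod.fibCat π η).obj} (φ : x' ⟶ x) (v : Pull (ρ x) A),
      g x' (tRes ρ hρ A φ v) = fn φ (g x v) := fun {x' x} φ v =>
    congr($((Pull.isSemiBC_ι (ρ x) A).ext (τ := fn φ) (g := (g x').comp (tRes ρ hρ A φ))
      (g' := (fn φ).toAddMonoidHom.comp (g x))
      (fun r w => by
        show g x' (tRes ρ hρ A φ (r • w)) = _
        rw [tRes_smul, hgs]
        rfl)
      (fun r w => by
        show fn φ (g x (r • w)) = _
        rw [hgs, map_mul]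
        rfl)
      fun a => by
        show g x' (tRes ρ hρ A φ _) = fn φ (g x _)
        rw [tRes_ι, hgι, hgι]
        exact congr($(hρ φ) a).symm) v)
  have hcomp : ∀ k : κ, ∃ a : A, ∀ x : AffO (StMod.fibCat π η),
      g x.1 (pmap (ρ x.1) (LinearMap.proj k) (f x)) = ρ x.1 a := fun k => by
    obtain ⟨r, hr, hrf⟩ := exists_sect_of_aff hzA (StMod.OQ (𝒳 := StMod.fibCat π η))
      (fun x => g x.1 (pmap (ρ x.1) (LinearMap.proj k) (f x))) fun {x' x} φ => by
        show fn φ (g x.1 (pmap (ρ x.1) (LinearMap.proj k) (f x))) = _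
        rw [← hgn, tRes_pmap, hf φ]
    let v : StMod.Mod.RelSect π (StMod.O 𝒳) η := ⟨fun ξ β => r (CostructuredArrow.mk β), fun ξ' ξ φ β =>
      hr (CostructuredArrow.homMk φ rfl : (CostructuredArrow.mk (π.map φ ≫ β) : (StMod.fibCat π η).obj) ⟶
        CostructuredArrow.mk β)⟩
    obtain ⟨a, ha⟩ := hun v
    exact ⟨a, fun x => (hrf x).symm.trans ((congrArg (fun w : StMod.Mod.RelSect π (StMod.O 𝒳) η =>
      w.1 x.1.left x.1.hom) ha).symm.trans congr($((hρb x.1).symm) a))⟩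
  choose a ha using hcomp
  exact ⟨a, fun x => pull_ext_pi _ fun k => (hgb x.1).1 (by rw [ha k x, pmap_ι, hgι]; rfl)⟩

set_option maxHeartbeats 1600000 in
include hp hp' hη hd P hpres hex hun hcov in
/-- A submodule of the sections is cut out by the submodule it generates at a covering object. -/
theorem mem_of_evAt_mem_span (N : Submodule Γ(StMod.sch 𝒴 η, ⊤) (StMod.Mod.RelSect π F.obj η))
    (s : StMod.Mod.RelSect π F.obj η)
    (hs : evAt π F z α s ∈ Submodule.span Γ(StMod.sch 𝒳 z, ⊤) (evAt π F z α '' (N : Set _))) : s ∈ N := by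
  obtain ⟨m, c, v, hcv⟩ := Submodule.mem_span_set'.1 hs
  choose n hnN hn using fun k => (v k).2
  let κ : Type u := ULift.{u} (Fin m)
  let A := Γ(StMod.sch 𝒴 η, ⊤)
  have hzA := isFibGrpd_fibCat π η hp
  let ρ : ∀ x : (StMod.fibCat π η).obj, A →+* Γ(StMod.sch (StMod.fibCat π η) x, ⊤) :=
    fun x => (StMod.baseOver π x.left x.hom).left.appTop.hom
  have hρ : ∀ {x' x : (StMod.fibCat π η).obj} (φ : x' ⟶ x), (fn φ).comp (ρ x) = ρ x' := fun {x' x} φ => by
    have e : StMod.bmap 𝒳 φ.left ≫ (StMod.baseOver π x.left x.hom).left = (StMod.baseOver π x'.left x'.hom).left :=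
      (StMod.bmap_comp_baseOver_left π φ.left x.hom).trans
        (congrArg (fun α => (StMod.baseOver π x'.left α).left) (CostructuredArrow.w φ))
    exact RingHom.ext fun r => congr($(congrArg Scheme.Hom.appTop e) r)
  let zc : AffO (StMod.fibCat π η) := ⟨CostructuredArrow.mk α, ‹IsAffine (StMod.sch 𝒳 z)›⟩
  have hcovz : ∀ x : (StMod.fibCat π η).obj, ∃ (ι : Type u) (y : ι → (StMod.fibCat π η).obj) (φ : ∀ i, y i ⟶ x),
      IsCov y φ ∧ ∀ i, Nonempty (y i ⟶ zc.1) := fun x => by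
    obtain ⟨κ, y, φ, hφ, hψ⟩ := hcov x.left x.hom
    exact ⟨κ, fun i => CostructuredArrow.mk (π.map (φ i) ≫ x.hom), fun i => CostructuredArrow.homMk (φ i) rfl,
      ⟨fun i => hφ.flat i, fun i => hφ.lfp i, fun t => hφ.surj t⟩,
      fun i => ⟨CostructuredArrow.homMk (hψ i).choose (hψ i).choose_spec⟩⟩
  -- the combination of the chosen sections
  let L : (κ → A) →ₗ[A] StMod.Mod.RelSect π F.obj η :=
    ∑ k : κ, (LinearMap.proj k : (κ → A) →ₗ[A] A).smulRight (n k.down)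
  have hL : ∀ a : κ → A, L a = ∑ k : κ, a k • n k.down := fun a => by
    simp only [L, LinearMap.sum_apply, LinearMap.smulRight_apply, LinearMap.proj_apply]
  let F' := (StMod.comapQ (StMod.fibFst π η)).obj F
  have hid : ∀ (x : (StMod.fibCat π η).obj) (r : Γ(StMod.sch (StMod.fibCat π η) x, ⊤))
      (t : Γ(F'.obj.obj x, ⊤)),
      cmp (StMod.fibFst π η) F.obj x (r • t) =
        (show Γ(StMod.sch 𝒳 x.left, ⊤) from r) • cmp (StMod.fibFst π η) F.obj x t := fun x r t => by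
    refine (cmp_smul (StMod.fibFst π η) F.obj x r t).trans ?_
    refine congrArg (fun r' : Γ(StMod.sch 𝒳 x.left, ⊤) => r' • cmp (StMod.fibFst π η) F.obj x t) ?_
    exact congr($(Scheme.Hom.id_appTop) r)
  have hk : ∀ x : AffO (StMod.fibCat π η), ∃ u : Pull (ρ x.1) (κ → A) →+ Γ(F.obj.obj x.1.left, ⊤),
      (∀ (r : Γ(StMod.sch (StMod.fibCat π η) x.1, ⊤)) (w : Pull (ρ x.1) (κ → A)),
        u (r • w) = (show Γ(StMod.sch 𝒳 x.1.left, ⊤) from r) • u w) ∧
      ∀ a, u (Pull.ι (ρ x.1) (κ → A) a) = evAt π F x.1.left x.1.hom (L a) := fun x => by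
    letI : Module Γ(StMod.sch (StMod.fibCat π η) x.1, ⊤) Γ(F.obj.obj x.1.left, ⊤) :=
      inferInstanceAs (Module Γ(StMod.sch 𝒳 x.1.left, ⊤) Γ(F.obj.obj x.1.left, ⊤))
    exact (Pull.isSemiBC_ι (ρ x.1) (κ → A)).exists_lift (RingHom.id _)
      ((evAt π F x.1.left x.1.hom).comp L.toAddMonoidHom) fun r a => by
        show evAt π F x.1.left x.1.hom (L (r • a)) = _
        rw [map_smul, evAt_smul]
        rfl
  choose u hus huι using hk
  have hun' : ∀ {x' x : AffO (StMod.fibCat π η)} (φ : x'.1 ⟶ x.1) (w : Pull (ρ x.1) (κ → A)),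
      F.obj.mapTop φ.left (u x w) = u x' (tRes ρ hρ (κ → A) φ w) := fun {x' x} φ w => by
    letI : Module Γ(StMod.sch (StMod.fibCat π η) x'.1, ⊤) Γ(F.obj.obj x'.1.left, ⊤) :=
      inferInstanceAs (Module Γ(StMod.sch 𝒳 x'.1.left, ⊤) Γ(F.obj.obj x'.1.left, ⊤))
    exact congr($((Pull.isSemiBC_ι (ρ x.1) (κ → A)).ext (τ := fn φ)
      (g := (AddMonoidHom.mk' (F.obj.mapTop φ.left) (F.obj.mapTop_add φ.left)).comp (u x))
      (g' := (u x').comp (tRes ρ hρ (κ → A) φ))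
      (fun r w => by
        show F.obj.mapTop φ.left (u x (r • w)) = _
        rw [hus, StMod.Mod.mapTop_smul]
        rfl)
      (fun r w => by
        show u x' (tRes ρ hρ (κ → A) φ (r • w)) = _
        rw [tRes_smul, hus]
        rfl)
      fun a => by
        show F.obj.mapTop φ.left (u x _) = u x' (tRes ρ hρ (κ → A) φ _)
        rw [huι, tRes_ι, huι]
        exact ((L a).2 φ.left x.1.hom).trans (congrArg ((L a).1 x'.1.left) (CostructuredArrow.w φ))) w)
  obtain ⟨G, θ, hθb, hθl, hθn⟩ := exists_tilde hzA ρ hρ (κ → A)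
  choose mv hmv using fun (x : AffO (StMod.fibCat π η)) (t : Γ(G.obj.obj x.1, ⊤)) =>
    (cmp (StMod.fibFst π η) F.obj x.1).surjective (u x (θ x t))
  obtain ⟨q, hq⟩ := exists_hom_of_denseAff hzA (isDense_affO hzA) isStableAff_affO (G := G.obj) (G' := F'.obj)
    F'.property
    (fun x : AffO (StMod.fibCat π η) => AddMonoidHom.mk' (mv x) fun a b =>
      (cmp (StMod.fibFst π η) F.obj x.1).injective (by simp only [hmv, map_add]))
    (fun x r t => (cmp (StMod.fibFst π η) F.obj x.1).injective (by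
      show cmp (StMod.fibFst π η) F.obj x.1 (mv x (r • t)) = cmp (StMod.fibFst π η) F.obj x.1 (r • mv x t)
      rw [hid, hmv, hmv, hθl, hus]))
    (fun {x' x} φ t => (cmp (StMod.fibFst π η) F.obj x'.1).injective (by
      show cmp (StMod.fibFst π η) F.obj x'.1 (F'.obj.mapTop φ (mv x t)) =
        cmp (StMod.fibFst π η) F.obj x'.1 (mv x' (G.obj.mapTop φ t))
      refine (cmp_mapTop (StMod.fibFst π η) F.obj φ (mv x t)).trans ?_
      rw [hmv, hmv, hθn]
      exact hun' φ (θ x t)))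
  -- the family to be lifted
  let sF : ∀ x : (StMod.fibCat π η).obj, Γ(F'.obj.obj x, ⊤) := fun x =>
    (cmp (StMod.fibFst π η) F.obj x).symm (s.1 x.left x.hom)
  have hsF : ∀ {x' x : (StMod.fibCat π η).obj} (φ : x' ⟶ x), F'.obj.mapTop φ (sF x) = sF x' := fun {x' x} φ =>
    (cmp (StMod.fibFst π η) F.obj x').injective (by
      refine (cmp_mapTop (StMod.fibFst π η) F.obj φ (sF x)).trans ?_
      rw [AddEquiv.apply_symm_apply, AddEquiv.apply_symm_apply]
      exact (s.2 φ.left x.hom).trans (congrArg (s.1 x'.left) (CostructuredArrow.w φ)))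
  have hloc : ∀ x, IsAffine (StMod.sch (StMod.fibCat π η) x) → ∃ t, (q.app x).app ⊤ t = sF x := fun x hx => by
    -- locally over the covering object
    have hz0 : ∃ w : Pull (ρ zc.1) (κ → A), u zc w = evAt π F z α s := by
      refine ⟨∑ k : Fin m, (show Γ(StMod.sch (StMod.fibCat π η) zc.1, ⊤) from c k) •
        Pull.ι (ρ zc.1) (κ → A) (Pi.single (ULift.up k) 1), ?_⟩
      rw [map_sum, ← hcv]
      refine Finset.sum_congr rfl fun k _ => ?_
      rw [hus, huι, hL, Finset.sum_eq_single (ULift.up k)]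
      · rw [Pi.single_eq_same, one_smul]
        exact congrArg (c k • ·) (hn k)
      · intro b _ hb
        rw [Pi.single_eq_of_ne hb, zero_smul]
      · intro h
        exact absurd (Finset.mem_univ _) h
    obtain ⟨w, hw⟩ := hz0
    obtain ⟨t₀, ht₀⟩ := (hθb zc).2 w
    have h0 : (q.app zc.1).app ⊤ t₀ = sF zc.1 := (cmp (StMod.fibFst π η) F.obj zc.1).injective (by
      rw [hq zc t₀]
      show cmp (StMod.fibFst π η) F.obj zc.1 (mv zc t₀) = cmp (StMod.fibFst π η) F.obj zc.1 (sF zc.1)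
      rw [hmv, ht₀, hw, AddEquiv.apply_symm_apply]
      rfl)
    exact exists_preimage_of_locally hzA G.property F'.property q sF hsF zc t₀ h0 hcovz x hx
  obtain ⟨t, ht, htq⟩ := exists_fibCat_lift π hp hp' hη hd P hpres hex (G := G) (G' := F') ⟨q⟩ sF hsF hloc
  -- the coordinates are constant
  obtain ⟨a, ha⟩ := exists_coord π hp hun ρ hρ (fun _ => rfl) (fun x => θ x (t x.1)) fun {x' x} φ =>
    (hθn φ (t x.1)).symm.trans (congrArg (θ x') (ht φ))
  have hta : θ zc (t zc.1) = Pull.ι (ρ zc.1) (κ → A) a := ha zc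
  have hsL : L a = s := evAt_injective π hp z α hcov F (by
    show evAt π F zc.1.left zc.1.hom (L a) = _
    rw [← huι zc a, ← hta]
    refine (hmv zc (t zc.1)).symm.trans ?_
    have := congrArg (cmp (StMod.fibFst π η) F.obj zc.1) ((hq zc (t zc.1)).symm.trans (htq zc.1))
    refine this.trans ?_
    rw [AddEquiv.apply_symm_apply]
    rfl)
  rw [← hsL, hL]
  exact N.sum_mem fun k _ => N.smul_mem _ (hnN k.down)

include hp hp' hη hd P hpres hex hun hcov in
/-- The sections are Noetherian when the values at a covering object are. -/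
theorem isNoetherian_relSect [IsNoetherian Γ(StMod.sch 𝒳 z, ⊤) Γ(F.obj.obj z, ⊤)] :
    IsNoetherian Γ(StMod.sch 𝒴 η, ⊤) (StMod.Mod.RelSect π F.obj η) := by
  let Φ : Submodule Γ(StMod.sch 𝒴 η, ⊤) (StMod.Mod.RelSect π F.obj η) →
      Submodule Γ(StMod.sch 𝒳 z, ⊤) Γ(F.obj.obj z, ⊤) := fun N => Submodule.span _ (evAt π F z α '' (N : Set _))
  have hmono : ∀ N N', Φ N ≤ Φ N' → N ≤ N' := fun N N' h s hs =>
    mem_of_evAt_mem_span π hp hp' hη hd P hpres hex hun z α hcov F N' s (h (Submodule.subset_span ⟨s, hs, rfl⟩))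
  rw [isNoetherian_iff']
  refine StrictMono.wellFoundedGT (f := Φ) fun N N' h => lt_of_le_not_ge ?_ fun h' => ?_
  · exact Submodule.span_mono (Set.image_mono h.le)
  · exact h.not_ge (hmono _ _ h')

end Groth.Agent.StModLib
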