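import Groth.Agent.StModLib.DescAlg
import Groth.Agent.StModLib.FibPullback
import Mathlib.Algebra.Category.Ring.Constructions
import Mathlib.AlgebraicGeometry.Morphisms.Affine
import Mathlib.AlgebraicGeometry.Morphisms.FinitePresentation
import Mathlib.AlgebraicGeometry.Morphisms.Flat

/-!
# Systems of sections on a category over schemes, base change, and descent along finite affine families
-/

set_option autoImplicit false
set_option linter.style.haveILetI false
set_option linter.unusedSectionVars false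
set_option backward.isDefEq.respectTransparency false
set_option backward.isDefEq.respectTransparency.types false

universe w u

open CategoryTheory CategoryTheory.Limits AlgebraicGeometry
open scoped TensorProduct

namespace Groth.Agent.StModLib

variable {S : Scheme.{u}}

/-- A system of "global sections": a module of global functions over every object, with semilinear restrictions. -/
structure Sys (𝒴 : AlgSt.Cat S) where
  /-- the sections over an object -/
  obj : 𝒴.obj → Type w
  [grp : ∀ η, AddCommGroup (obj η)]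
  [mod : ∀ η, Module Γ(StMod.sch 𝒴 η, ⊤) (obj η)]
  /-- restriction -/
  res : ∀ {η' η : 𝒴.obj}, (η' ⟶ η) → obj η →+ obj η'
  res_smul : ∀ {η' η : 𝒴.obj} (φ : η' ⟶ η) (r : Γ(StMod.sch 𝒴 η, ⊤)) (x : obj η),
    res φ (r • x) = (StMod.bmap 𝒴 φ).appTop r • res φ x
  res_id : ∀ (η : 𝒴.obj) (x : obj η), res (𝟙 η) x = x
  res_comp : ∀ {η'' η' η : 𝒴.obj} (ψ : η'' ⟶ η') (φ : η' ⟶ η) (x : obj η), res (ψ ≫ φ) x = res ψ (res φ x)

attribute [instance] Sys.grp Sys.mod

variable {𝒴 : AlgSt.Cat S}

/-- A flat, locally finitely presented, jointly surjective family of morphisms of `𝒴`. -/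
structure IsCov {η : 𝒴.obj} {ι : Type u} (z : ι → 𝒴.obj) (φ : ∀ i, z i ⟶ η) : Prop where
  flat : ∀ i, Flat (StMod.bmap 𝒴 (φ i))
  lfp : ∀ i, LocallyOfFinitePresentation (StMod.bmap 𝒴 (φ i))
  surj : ∀ t : StMod.sch 𝒴 η, ∃ i, t ∈ Set.range (StMod.bmap 𝒴 (φ i))

namespace Sys

variable (N : Sys.{w} 𝒴) {η : 𝒴.obj}

/-- Sections over the members which agree on overlaps. -/
def Agree {ι : Type*} {z : ι → 𝒴.obj} (φ : ∀ i, z i ⟶ η) (t : ∀ i, N.obj (z i)) : Prop :=
  ∀ (i j : ι) (y : 𝒴.obj) (a : y ⟶ z i) (b : y ⟶ z j), a ≫ φ i = b ≫ φ j → N.res a (t i) = N.res b (t j)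

/-- Separatedness along coverings. -/
def IsSep : Prop := ∀ ⦃η : 𝒴.obj⦄ ⦃ι : Type u⦄ (z : ι → 𝒴.obj) (φ : ∀ i, z i ⟶ η), IsCov z φ →
  ∀ s s' : N.obj η, (∀ i, N.res (φ i) s = N.res (φ i) s') → s = s'

/-- Gluing along coverings. -/
def IsSheaf : Prop := N.IsSep ∧ ∀ ⦃η : 𝒴.obj⦄ ⦃ι : Type u⦄ (z : ι → 𝒴.obj) (φ : ∀ i, z i ⟶ η), IsCov z φ →
  ∀ t : ∀ i, N.obj (z i), N.Agree φ t → ∃ s : N.obj η, ∀ i, N.res (φ i) s = t i

/-- Functions on an object over `η`. -/
abbrev Fn (z : Over η) : Type u := Γ(StMod.sch 𝒴 z.left, ⊤)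

noncomputable instance algFn (z : Over η) : Algebra Γ(StMod.sch 𝒴 η, ⊤) (Fn z) :=
  (StMod.bmap 𝒴 z.hom).appTop.hom.toAlgebra

/-- Sections over an object over `η`. -/
def Val (z : Over η) : Type w := N.obj z.left

noncomputable instance (z : Over η) : AddCommGroup (N.Val z) := inferInstanceAs (AddCommGroup (N.obj z.left))
noncomputable instance (z : Over η) : Module (Fn z) (N.Val z) :=
  inferInstanceAs (Module Γ(StMod.sch 𝒴 z.left, ⊤) (N.obj z.left))
noncomputable instance modVal (z : Over η) : Module Γ(StMod.sch 𝒴 η, ⊤) (N.Val z) :=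
  Module.compHom _ (algebraMap Γ(StMod.sch 𝒴 η, ⊤) (Fn z))
instance (z : Over η) : IsScalarTower Γ(StMod.sch 𝒴 η, ⊤) (Fn z) (N.Val z) :=
  IsScalarTower.of_algebraMap_smul fun _ _ => rfl

theorem algebraMap_eq (z : Over η) (r : Γ(StMod.sch 𝒴 η, ⊤)) :
    algebraMap Γ(StMod.sch 𝒴 η, ⊤) (Fn z) r = (StMod.bmap 𝒴 z.hom).appTop r := rfl

theorem val_smul (z : Over η) (r : Γ(StMod.sch 𝒴 η, ⊤)) (x : N.Val z) :
    r • x = algebraMap Γ(StMod.sch 𝒴 η, ⊤) (Fn z) r • x := rfl

theorem appTop_comp {y z : Over η} (f : y ⟶ z) (r : Γ(StMod.sch 𝒴 η, ⊤)) :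
    (StMod.bmap 𝒴 f.left).appTop ((StMod.bmap 𝒴 z.hom).appTop r) = (StMod.bmap 𝒴 y.hom).appTop r := by
  have e : StMod.bmap 𝒴 f.left ≫ StMod.bmap 𝒴 z.hom = StMod.bmap 𝒴 y.hom := by
    rw [← StMod.bmap_comp, Over.w]
  exact (congr($(congrArg Scheme.Hom.appTop e) r) :)

/-- Pullback of functions over `η`. -/
noncomputable def resFn {y z : Over η} (f : y ⟶ z) : Fn z →ₐ[Γ(StMod.sch 𝒴 η, ⊤)] Fn y :=
  { (StMod.bmap 𝒴 f.left).appTop.hom with commutes' := fun r => appTop_comp f r }

/-- Restriction over `η`. -/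
noncomputable def resL {y z : Over η} (f : y ⟶ z) : N.Val z →ₗ[Γ(StMod.sch 𝒴 η, ⊤)] N.Val y where
  toFun := N.res f.left
  map_add' := map_add (N.res f.left)
  map_smul' r x := by
    rw [RingHom.id_apply, val_smul, val_smul]
    refine (N.res_smul f.left _ x).trans ?_
    exact congrArg (fun t : Fn y => t • (show N.Val y from N.res f.left x)) (appTop_comp f r)

theorem resL_smul {y z : Over η} (f : y ⟶ z) (b : Fn z) (x : N.Val z) :
    N.resL f (b • x) = resFn f b • N.resL f x :=
  N.res_smul f.left b x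

theorem resL_comp {x y z : Over η} (g : x ⟶ y) (f : y ⟶ z) (a : N.Val z) :
    N.resL g (N.resL f a) = N.resL (g ≫ f) a :=
  (N.res_comp g.left f.left a).symm

theorem resL_id (z : Over η) (a : N.Val z) : N.resL (𝟙 z) a = a := N.res_id z.left a

theorem resFn_comp {x y z : Over η} (g : x ⟶ y) (f : y ⟶ z) (a : Fn z) :
    resFn g (resFn f a) = resFn (g ≫ f) a :=
  (congr($(congrArg Scheme.Hom.appTop (StMod.bmap_comp g.left f.left)) a) :).symm

theorem resFn_id (z : Over η) (a : Fn z) : resFn (𝟙 z) a = a :=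
  (congr($(congrArg Scheme.Hom.appTop (StMod.bmap_id (𝒳 := 𝒴) z.left)) a) :)

/-- Restrict a section along one morphism and multiply by a function restricted along another. -/
noncomputable def mulRes {x y z : Over η} (f : x ⟶ y) (g : x ⟶ z) :
    Fn y ⊗[Γ(StMod.sch 𝒴 η, ⊤)] N.Val z →ₗ[Γ(StMod.sch 𝒴 η, ⊤)] N.Val x :=
  TensorProduct.lift (LinearMap.mk₂ Γ(StMod.sch 𝒴 η, ⊤) (fun b a => resFn f b • N.resL g a)
    (fun b b' a => by rw [map_add, add_smul])
    (fun r b a => by rw [map_smul, smul_assoc])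
    (fun b a a' => by rw [map_add, smul_add])
    (fun r b a => by rw [map_smul, smul_comm]))

theorem mulRes_tmul {x y z : Over η} (f : x ⟶ y) (g : x ⟶ z) (b : Fn y) (a : N.Val z) :
    N.mulRes f g (b ⊗ₜ a) = resFn f b • N.resL g a := rfl

/-- Sections over the source of `f : y ⟶ z` are the base change of those over the target. -/
def BC {y z : 𝒴.obj} (f : y ⟶ z) : Prop :=
  Function.Bijective (N.mulRes (x := Over.mk f) (y := Over.mk f) (z := Over.mk (𝟙 z)) (𝟙 _)
    (Over.homMk f (Category.comp_id f)))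

/-- Along a cartesian square of affines, base change on the right side gives base change on the corner. -/
theorem bijective_mulRes (hp : FibCat.IsFibGrpd 𝒴.p) {x y z : Over η} (f : x ⟶ y) (g : x ⟶ z)
    (sq : IsPullback f.left g.left y.hom z.hom) [IsAffine (StMod.sch 𝒴 η)] [IsAffine (StMod.sch 𝒴 y.left)]
    [IsAffine (StMod.sch 𝒴 z.left)] (hBC : N.BC g.left) : Function.Bijective (N.mulRes f g) := by
  let A := Γ(StMod.sch 𝒴 η, ⊤)
  letI : Algebra (Fn y) (Fn x) := (resFn f).toRingHom.toAlgebra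
  letI : Algebra (Fn z) (Fn x) := (resFn g).toRingHom.toAlgebra
  haveI : IsScalarTower A (Fn y) (Fn x) := IsScalarTower.of_algebraMap_eq fun r => ((resFn f).commutes r).symm
  haveI : IsScalarTower A (Fn z) (Fn x) := IsScalarTower.of_algebraMap_eq fun r => ((resFn g).commutes r).symm
  haveI hpo : Algebra.IsPushout A (Fn y) (Fn z) (Fn x) :=
    CommRingCat.isPushout_iff_isPushout.1 (isPushout_appTop_of_isPullback (isPullback_bmap hp sq))
  let gs : Over z.left := Over.mk g.left
  let z₁ : Over z.left := Over.mk (𝟙 z.left)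
  let κ : Fn x ⊗[Fn z] N.Val z →+ N.Val x := TensorProduct.liftAddHom
    (AddMonoidHom.mk' (fun c : Fn x => AddMonoidHom.mk' (fun a : N.Val z => c • N.resL g a)
      fun a a' => by rw [map_add, smul_add]) fun c c' => AddMonoidHom.ext fun a => add_smul c c' _)
    (fun r c a => by
      show (resFn g r * c) • N.resL g a = c • N.resL g (r • a)
      rw [resL_smul, mul_comm, mul_smul])
  have hκt : ∀ (c : Fn x) (a : N.Val z), κ (c ⊗ₜ a) = c • N.resL g a := fun c a => rfl
  have hκ : Function.Bijective κ := by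
    have hid : ∀ r : Fn z, (StMod.bmap 𝒴 (𝟙 z.left)).appTop r = r := fun r =>
      (congr($(congrArg Scheme.Hom.appTop (StMod.bmap_id (𝒳 := 𝒴) z.left)) r) :)
    let ι : Fn x ⊗[Fn z] N.Val z →+ Fn gs ⊗[Γ(StMod.sch 𝒴 z.left, ⊤)] N.Val z₁ := TensorProduct.liftAddHom
      (AddMonoidHom.mk' (fun c : Fn x => AddMonoidHom.mk'
        (fun a : N.Val z => (show Fn gs from c) ⊗ₜ[Γ(StMod.sch 𝒴 z.left, ⊤)] (show N.Val z₁ from a))
        fun a a' => TensorProduct.tmul_add _ _ _) fun c c' => AddMonoidHom.ext fun a => TensorProduct.add_tmul _ _ _)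
      (fun r c a => by
        have h1 : (show N.Val z₁ from r • a) = (show Γ(StMod.sch 𝒴 z.left, ⊤) from r) • (show N.Val z₁ from a) :=
          congrArg (fun t : Fn z₁ => t • (show N.Val z₁ from a)) (hid r).symm
        show _ ⊗ₜ _ = _ ⊗ₜ _
        rw [h1, ← TensorProduct.smul_tmul])
    have hι : Function.Bijective ι := by
      refine Function.bijective_iff_has_inverse.2 ⟨TensorProduct.liftAddHom
        (AddMonoidHom.mk' (fun c : Fn gs => AddMonoidHom.mk'
          (fun a : N.Val z₁ => (show Fn x from c) ⊗ₜ[Fn z] (show N.Val z from a))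
          fun a a' => TensorProduct.tmul_add _ _ _) fun c c' => AddMonoidHom.ext fun a => TensorProduct.add_tmul _ _ _)
        (fun r c a => ?_), fun t => ?_, fun t => ?_⟩
      · have h1 : (show N.Val z from r • a) = (show Fn z from r) • (show N.Val z from a) :=
          congrArg (fun t : Fn z => t • (show N.Val z from a)) (hid r)
        show _ ⊗ₜ _ = _ ⊗ₜ _
        rw [h1, ← TensorProduct.smul_tmul]
      · induction t using TensorProduct.induction_on with
        | zero => simp
        | add a b ha hb => simp only [map_add, ha, hb]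
        | tmul c a => rfl
      · induction t using TensorProduct.induction_on with
        | zero => simp
        | add a b ha hb => simp only [map_add, ha, hb]
        | tmul c a => rfl
    have he : (κ : _ → N.Val x) = (N.mulRes (x := gs) (y := gs) (z := z₁) (𝟙 _)
        (Over.homMk g.left (Category.comp_id _)) : _ → _) ∘ ι := funext fun t => by
      induction t using TensorProduct.induction_on with
      | zero =>
        show κ 0 = N.mulRes (x := gs) (y := gs) (z := z₁) (𝟙 _) (Over.homMk g.left (Category.comp_id _)) (ι 0)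
        rw [map_zero, map_zero, map_zero]
      | add a b ha hb =>
        show κ (a + b) = N.mulRes (x := gs) (y := gs) (z := z₁) (𝟙 _) (Over.homMk g.left (Category.comp_id _)) (ι (a + b))
        rw [map_add, map_add, map_add, ha, hb]
        rfl
      | tmul c a =>
        refine Eq.trans ?_ (N.mulRes_tmul (x := gs) (y := gs) (z := z₁) (𝟙 _)
          (Over.homMk g.left (Category.comp_id _)) c a).symm
        rw [resFn_id]
        rfl
    rw [he]
    exact hBC.comp hι
  let e := Algebra.IsPushout.cancelBaseChange A (Fn y) (Fn z) (Fn x) (N.Val z)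
  have key : ∀ t, N.mulRes f g t = κ (e.symm t) := fun t => by
    induction t using TensorProduct.induction_on with
    | zero => simp
    | add a b ha hb => simp only [map_add, ha, hb]
    | tmul b a =>
      rw [Algebra.IsPushout.cancelBaseChange_symm_tmul, hκt]
      rfl
  rw [show (N.mulRes f g : _ → _) = κ ∘ e.symm from funext key]
  exact hκ.comp e.symm.bijective

section Family

variable (η) in
/-- An affine finite flat jointly surjective family over `η`. -/
structure AffFam where
  /-- the index type -/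
  J : Type
  [fin : Fintype J]
  [dec : DecidableEq J]
  /-- the members -/
  z : J → Over η
  aff : ∀ j, IsAffine (StMod.sch 𝒴 (z j).left)
  flat : ∀ j, Flat (StMod.bmap 𝒴 (z j).hom)
  surj : ∀ t : StMod.sch 𝒴 η, ∃ j, t ∈ Set.range (StMod.bmap 𝒴 (z j).hom)

attribute [instance] AffFam.fin AffFam.dec

variable (c : AffFam η) [HasPullbacks 𝒴.obj]

/-- Double overlaps. -/
noncomputable abbrev two (j l : c.J) : Over η :=
  Over.mk (pullback.fst (c.z j).hom (c.z l).hom ≫ (c.z j).hom)

/-- First projection. -/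
noncomputable abbrev two₀ (j l : c.J) : two c j l ⟶ c.z j := Over.homMk (pullback.fst _ _) rfl

/-- Second projection. -/
noncomputable abbrev two₁ (j l : c.J) : two c j l ⟶ c.z l :=
  Over.homMk (pullback.snd _ _) pullback.condition.symm

/-- Triple overlaps. -/
noncomputable abbrev three (j l m : c.J) : Over η :=
  Over.mk (pullback.fst (c.z j).hom (two c l m).hom ≫ (c.z j).hom)

noncomputable abbrev three₀ (j l m : c.J) : three c j l m ⟶ c.z j := Over.homMk (pullback.fst _ _) rfl

noncomputable abbrev three₁₂ (j l m : c.J) : three c j l m ⟶ two c l m :=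
  Over.homMk (pullback.snd _ _) pullback.condition.symm

/-- The morphism to a double overlap. -/
noncomputable def twoLift {j l : c.J} {w : Over η} (a : w ⟶ c.z j) (b : w ⟶ c.z l) : w ⟶ two c j l :=
  Over.homMk (pullback.lift a.left b.left (by rw [Over.w, Over.w])) (by
    simp only [Over.mk_hom]
    rw [← Category.assoc, pullback.lift_fst, Over.w])

@[reassoc]
theorem twoLift₀ {j l : c.J} {w : Over η} (a : w ⟶ c.z j) (b : w ⟶ c.z l) : twoLift c a b ≫ two₀ c j l = a :=
  Over.OverMorphism.ext (pullback.lift_fst _ _ _)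

@[reassoc]
theorem twoLift₁ {j l : c.J} {w : Over η} (a : w ⟶ c.z j) (b : w ⟶ c.z l) : twoLift c a b ≫ two₁ c j l = b :=
  Over.OverMorphism.ext (pullback.lift_snd _ _ _)

theorem two_hom_ext {j l : c.J} {w : Over η} {a b : w ⟶ two c j l} (h₀ : a ≫ two₀ c j l = b ≫ two₀ c j l)
    (h₁ : a ≫ two₁ c j l = b ≫ two₁ c j l) : a = b :=
  Over.OverMorphism.ext (pullback.hom_ext (congrArg CommaMorphism.left h₀) (congrArg CommaMorphism.left h₁))

/-- The morphism to a triple overlap. -/
noncomputable def threeLift {j l m : c.J} {w : Over η} (a : w ⟶ c.z j) (b : w ⟶ two c l m) : w ⟶ three c j l m :=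
  Over.homMk (pullback.lift a.left b.left (by rw [Over.w, Over.w])) (by
    simp only [Over.mk_hom]
    rw [← Category.assoc, pullback.lift_fst, Over.w])

@[reassoc]
theorem threeLift₀ {j l m : c.J} {w : Over η} (a : w ⟶ c.z j) (b : w ⟶ two c l m) :
    threeLift c a b ≫ three₀ c j l m = a :=
  Over.OverMorphism.ext (pullback.lift_fst _ _ _)

@[reassoc]
theorem threeLift₁₂ {j l m : c.J} {w : Over η} (a : w ⟶ c.z j) (b : w ⟶ two c l m) :
    threeLift c a b ≫ three₁₂ c j l m = b :=
  Over.OverMorphism.ext (pullback.lift_snd _ _ _)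

/-- Base change holds between affine objects over the members of the family. -/
def BCAbove : Prop := ∀ ⦃y y' : 𝒴.obj⦄ (f : y' ⟶ y) (j : c.J), Nonempty (y ⟶ (c.z j).left) →
  IsAffine (StMod.sch 𝒴 y) → IsAffine (StMod.sch 𝒴 y') → N.BC f

/-- Compatible families over the members. -/
noncomputable abbrev glueFam : Submodule Γ(StMod.sch 𝒴 η, ⊤) (∀ j, N.Val (c.z j)) :=
  DescAlg.glue (P := fun j l => N.Val (two c j l)) (fun j l => N.resL (two₀ c j l)) (fun j l => N.resL (two₁ c j l))

variable {N c}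

instance flat_Fn [IsAffine (StMod.sch 𝒴 η)] (j : c.J) : Module.Flat Γ(StMod.sch 𝒴 η, ⊤) (Fn (c.z j)) :=
  haveI := c.flat j
  haveI := c.aff j
  (HasRingHomProperty.iff_of_isAffine (P := @Flat)).1 inferInstance

theorem covers [IsAffine (StMod.sch 𝒴 η)] (p : PrimeSpectrum Γ(StMod.sch 𝒴 η, ⊤)) :
    ∃ (j : c.J) (q : PrimeSpectrum (Fn (c.z j))),
      PrimeSpectrum.comap (algebraMap Γ(StMod.sch 𝒴 η, ⊤) (Fn (c.z j))) q = p := by
  obtain ⟨j, t, ht⟩ := c.surj ((StMod.sch 𝒴 η).isoSpec.inv p)
  refine ⟨j, (StMod.sch 𝒴 (c.z j).left).toSpecΓ t, ?_⟩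
  have e := congr($(Scheme.toSpecΓ_naturality (StMod.bmap 𝒴 (c.z j).hom)).base t)
  refine Eq.trans e.symm ?_
  show (StMod.sch 𝒴 η).isoSpec.hom (StMod.bmap 𝒴 (c.z j).hom t) = p
  rw [ht, ← Scheme.Hom.comp_apply, Iso.inv_hom_id]
  rfl

theorem isAffine_two [IsAffine (StMod.sch 𝒴 η)] (hp : FibCat.IsFibGrpd 𝒴.p) (j l : c.J) :
    IsAffine (StMod.sch 𝒴 (two c j l).left) :=
  haveI := c.aff j
  haveI := c.aff l
  haveI : IsAffineHom (StMod.bmap 𝒴 (c.z l).hom) := inferInstance
  IsAffine.of_isPullback (isPullback_bmap hp (IsPullback.of_hasPullback (c.z j).hom (c.z l).hom))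

theorem isAffine_three [IsAffine (StMod.sch 𝒴 η)] (hp : FibCat.IsFibGrpd 𝒴.p) (j l m : c.J) :
    IsAffine (StMod.sch 𝒴 (three c j l m).left) :=
  haveI := c.aff j
  haveI := isAffine_two (c := c) hp l m
  haveI : IsAffineHom (StMod.bmap 𝒴 (two c l m).hom) := inferInstance
  IsAffine.of_isPullback (isPullback_bmap hp (IsPullback.of_hasPullback (c.z j).hom (two c l m).hom))

/-- Descent along an affine family: compatible families restrict bijectively to each member after base change. -/
theorem isDatum [IsAffine (StMod.sch 𝒴 η)] (hp : FibCat.IsFibGrpd 𝒴.p) (hBC : N.BCAbove c) :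
    DescAlg.IsDatum (A := Γ(StMod.sch 𝒴 η, ⊤)) (B := fun j => Fn (c.z j)) (N := fun j => N.Val (c.z j))
      (P := fun j l => N.Val (two c j l)) (Q := fun j l m => N.Val (three c j l m))
      (fun j l => N.resL (two₀ c j l)) (fun j l => N.resL (two₁ c j l))
      (fun j => N.resL (twoLift c (𝟙 (c.z j)) (𝟙 (c.z j))))
      (fun j l => N.mulRes (two₀ c j l) (two₁ c j l))
      (fun j l m => N.resL (twoLift c (three₀ c j l m) (three₁₂ c j l m ≫ two₀ c l m)))
      (fun j l m => N.resL (twoLift c (three₀ c j l m) (three₁₂ c j l m ≫ two₁ c l m)))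
      (fun j l m => N.mulRes (three₀ c j l m) (three₁₂ c j l m))
      (fun j l => N.resL (threeLift c (two₀ c j l) (twoLift c (two₁ c j l) (two₀ c j l)))) where
  u_bij j l := by
    haveI := c.aff j
    haveI := c.aff l
    exact N.bijective_mulRes hp _ _ (IsPullback.of_hasPullback _ _)
      (hBC _ l ⟨𝟙 _⟩ (c.aff l) (isAffine_two hp j l))
  w_inj j l m := by
    haveI := c.aff j
    haveI := isAffine_two (c := c) hp l m
    exact (N.bijective_mulRes hp _ _ (IsPullback.of_hasPullback _ _)
      (hBC _ l ⟨(two₀ c l m).left⟩ (isAffine_two hp l m) (isAffine_three hp j l m))).1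
  δ_r₀ j n := by
    rw [resL_comp, twoLift₀, resL_id]
  δ_u j b n := by
    rw [mulRes_tmul, resL_smul, resFn_comp, resL_comp, twoLift₀, twoLift₁, resFn_id, resL_id]
  w_r₀ j l m b n := by
    rw [mulRes_tmul, mulRes_tmul, resL_smul, resFn_comp, resL_comp, resL_comp, twoLift₀, twoLift₁]
  w_r₁ j l m b n := by
    rw [mulRes_tmul, mulRes_tmul, resL_smul, resFn_comp, resL_comp, resL_comp, twoLift₀, twoLift₁]
  ρ_s₀₁ j l p := by
    rw [resL_comp]
    refine Eq.trans (congrArg (fun k => N.resL k p) (two_hom_ext c ?_ ?_)) (N.resL_id _ p)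
    · rw [Category.assoc, twoLift₀, threeLift₀, Category.id_comp]
    · rw [Category.assoc, twoLift₁, threeLift₁₂_assoc, twoLift₀, Category.id_comp]
  ρ_s₀₂ j l p := by
    rw [resL_comp, resL_comp]
    refine congrArg (fun k => N.resL k p) (two_hom_ext c ?_ ?_)
    · rw [Category.assoc, twoLift₀, threeLift₀, Category.assoc, twoLift₀, Category.comp_id]
    · rw [Category.assoc, twoLift₁, threeLift₁₂_assoc, twoLift₁, Category.assoc, twoLift₁, Category.comp_id]
  s_r₀ j l m n := by
    rw [resL_comp, resL_comp, twoLift₀, twoLift₀]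

theorem bijective_ev [IsAffine (StMod.sch 𝒴 η)] (hp : FibCat.IsFibGrpd 𝒴.p) (hBC : N.BCAbove c) (j : c.J) :
    Function.Bijective (DescAlg.ev (B := fun j => Fn (c.z j)) (P := fun j l => N.Val (two c j l))
      (fun j l => N.resL (two₀ c j l)) (fun j l => N.resL (two₁ c j l)) j) :=
  DescAlg.bijective_ev (isDatum hp hBC) j

variable (N c)

/-- Restriction to the members. -/
noncomputable def toGlue : N.Val (Over.mk (𝟙 η)) →ₗ[Γ(StMod.sch 𝒴 η, ⊤)] N.glueFam c :=
  LinearMap.codRestrict _ (LinearMap.pi fun j => N.resL (Over.homMk (c.z j).hom (Category.comp_id _))) fun x =>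
    (DescAlg.mem_glue_iff _ _ _).2 fun j l => by
      simp only [LinearMap.pi_apply]
      rw [resL_comp, resL_comp]
      exact congrArg (fun k => N.resL k x) (Over.OverMorphism.ext pullback.condition)

variable {N c}

theorem toGlue_apply (x : N.Val (Over.mk (𝟙 η))) (j : c.J) :
    (N.toGlue c x : ∀ j, N.Val (c.z j)) j = N.res (c.z j).hom x := rfl

theorem ev_toGlue [IsAffine (StMod.sch 𝒴 η)] (j : c.J) (t : Fn (c.z j) ⊗[Γ(StMod.sch 𝒴 η, ⊤)] N.Val (Over.mk (𝟙 η))) :
    DescAlg.ev (B := fun j => Fn (c.z j)) (P := fun j l => N.Val (two c j l)) (fun j l => N.resL (two₀ c j l))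
        (fun j l => N.resL (two₁ c j l)) j ((N.toGlue c).lTensor (Fn (c.z j)) t) =
      N.mulRes (x := c.z j) (y := c.z j) (z := Over.mk (𝟙 η)) (𝟙 _)
        (Over.homMk (c.z j).hom (Category.comp_id _)) t := by
  induction t using TensorProduct.induction_on with
  | zero => simp
  | add a b ha hb => simp only [map_add, ha, hb]
  | tmul b x =>
    rw [LinearMap.lTensor_tmul, DescAlg.ev_tmul, mulRes_tmul, resFn_id]
    rfl

/-- If every member has base change from `η` then sections over `η` are the compatible families. -/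
theorem bijective_toGlue [IsAffine (StMod.sch 𝒴 η)] (hp : FibCat.IsFibGrpd 𝒴.p) (hBC : N.BCAbove c)
    (h : ∀ j, N.BC (c.z j).hom) : Function.Bijective (N.toGlue c) :=
  DescAlg.bijective_of_datum (isDatum hp hBC) covers (N.toGlue c) fun j => by
    simp only [ev_toGlue]
    exact h j

/-- If sections over `η` are the compatible families then every member has base change from `η`. -/
theorem bc_of_bijective_toGlue [IsAffine (StMod.sch 𝒴 η)] (hp : FibCat.IsFibGrpd 𝒴.p) (hBC : N.BCAbove c)
    (h : Function.Bijective (N.toGlue c)) (j : c.J) : N.BC (c.z j).hom := by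
  have e : (fun t => N.mulRes (x := c.z j) (y := c.z j) (z := Over.mk (𝟙 η)) (𝟙 _)
        (Over.homMk (c.z j).hom (Category.comp_id _)) t) = _ :=
    funext fun t => (ev_toGlue j t).symm
  show Function.Bijective (fun t => N.mulRes (x := c.z j) (y := c.z j) (z := Over.mk (𝟙 η)) (𝟙 _)
        (Over.homMk (c.z j).hom (Category.comp_id _)) t)
  rw [e]
  exact (bijective_ev hp hBC j).comp
    ((LinearEquiv.ofBijective (N.toGlue c) h).lTensor (Fn (c.z j))).bijective

end Family

end Sys

end Groth.Agent.StModLib
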