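import Groth.Agent.StModLib.SysMod
import Groth.Agent.OmegaLib.AffineHom
import Groth.Agent.QCoh.ClosedPush
import Groth.Agent.QCoh.Local
import Mathlib.Algebra.Module.LocalizedModule.IsLocalization

/-!
# A sheaf system with base change is a quasi-coherent module
-/

set_option autoImplicit false
set_option linter.style.haveILetI false
set_option backward.isDefEq.respectTransparency false
set_option backward.isDefEq.respectTransparency.types false

universe u

open CategoryTheory CategoryTheory.Limits AlgebraicGeometry Opposite TopologicalSpace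
open scoped TensorProduct

namespace Groth.Agent.StModLib

theorem appLE_congr_hom {X Y : Scheme.{u}} {f g : X ⟶ Y} (e : f = g) {U : Y.Opens} {V : X.Opens}
    (h : V ≤ f ⁻¹ᵁ U) (h' : V ≤ g ⁻¹ᵁ U) (r : Γ(Y, U)) : f.appLE U V h r = g.appLE U V h' r := by
  subst e; rfl

theorem isIso_appLE_of_eq {X Y : Scheme.{u}} (f : X ⟶ Y) [IsOpenImmersion f] (U : Y.Opens) (V : X.Opens)
    (h : V ≤ f ⁻¹ᵁ U) (hU : U ≤ f.opensRange) (e : f ⁻¹ᵁ U = V) : IsIso (f.appLE U V h) := by
  subst e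
  rw [Scheme.Hom.appLE_eq_app]
  exact Scheme.Hom.isIso_app f U hU

variable {S : Scheme.{u}} {𝒴 : AlgSt.Cat S}

section Lift

variable (hp : FibCat.IsFibGrpd 𝒴.p) (η : 𝒴.obj) (U : (StMod.sch 𝒴 η).Opens)

/-- The object over an open of the scheme under `η`. -/
noncomputable def lft : 𝒴.obj := (exists_lift_bmap hp U.ι).choose

/-- Its scheme. -/
noncomputable def lftIso : StMod.sch 𝒴 (lft hp η U) ≅ (U : Scheme.{u}) :=
  (exists_lift_bmap hp U.ι).choose_spec.choose

/-- Its morphism to `η`. -/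
noncomputable def lftι : lft hp η U ⟶ η := (exists_lift_bmap hp U.ι).choose_spec.choose_spec.choose

theorem bmap_lftι : StMod.bmap 𝒴 (lftι hp η U) = (lftIso hp η U).hom ≫ U.ι :=
  (exists_lift_bmap hp U.ι).choose_spec.choose_spec.choose_spec

instance : IsOpenImmersion (StMod.bmap 𝒴 (lftι hp η U)) := by
  rw [bmap_lftι]
  infer_instance

theorem opensRange_lftι : (StMod.bmap 𝒴 (lftι hp η U)).opensRange = U := by
  refine Opens.ext (Set.ext fun t => ⟨?_, fun ht => ?_⟩)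
  · rintro ⟨p, rfl⟩
    rw [bmap_lftι, Scheme.Hom.comp_apply]
    exact ((lftIso hp η U).hom p).2
  · refine ⟨(lftIso hp η U).inv ⟨t, ht⟩, ?_⟩
    rw [bmap_lftι, ← Scheme.Hom.comp_apply, ← Category.assoc, Iso.inv_hom_id, Category.id_comp]
    rfl

theorem top_le_lftι : ⊤ ≤ StMod.bmap 𝒴 (lftι hp η U) ⁻¹ᵁ U := fun p _ => by
  have : StMod.bmap 𝒴 (lftι hp η U) p ∈ (StMod.bmap 𝒴 (lftι hp η U)).opensRange := ⟨p, rfl⟩
  rwa [opensRange_lftι] at this

theorem lftι_mono {z : 𝒴.obj} {a b : z ⟶ lft hp η U} (e : a ≫ lftι hp η U = b ≫ lftι hp η U) : a = b := by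
  refine hom_ext_of_map hp (lftι hp η U) (Over.OverMorphism.ext ?_) e
  have := congrArg (StMod.bmap 𝒴) e
  rw [StMod.bmap_comp, StMod.bmap_comp] at this
  exact (cancel_mono (StMod.bmap 𝒴 (lftι hp η U))).1 this

variable {η U}

theorem exists_fac {z : 𝒴.obj} (φ : z ⟶ η) (h : ⊤ ≤ StMod.bmap 𝒴 φ ⁻¹ᵁ U) :
    ∃ χ : z ⟶ lft hp η U, χ ≫ lftι hp η U = φ := by
  obtain ⟨χ, ⟨-, hχ⟩, -⟩ := existsUnique_lift_bmap hp (lftι hp η U) φ
    (IsOpenImmersion.lift (StMod.bmap 𝒴 (lftι hp η U)) (StMod.bmap 𝒴 φ) (by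
      rintro _ ⟨p, rfl⟩
      show StMod.bmap 𝒴 φ p ∈ (StMod.bmap 𝒴 (lftι hp η U)).opensRange
      rw [opensRange_lftι]
      exact h trivial)) (IsOpenImmersion.lift_fac _ _ _)
  exact ⟨χ, hχ⟩

/-- Factorisation through the object over an open. -/
noncomputable def fac {z : 𝒴.obj} (φ : z ⟶ η) (h : ⊤ ≤ StMod.bmap 𝒴 φ ⁻¹ᵁ U) : z ⟶ lft hp η U :=
  (exists_fac hp φ h).choose

theorem fac_ι {z : 𝒴.obj} (φ : z ⟶ η) (h : ⊤ ≤ StMod.bmap 𝒴 φ ⁻¹ᵁ U) : fac hp φ h ≫ lftι hp η U = φ :=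
  (exists_fac hp φ h).choose_spec

theorem eq_fac {z : 𝒴.obj} {φ : z ⟶ η} (h : ⊤ ≤ StMod.bmap 𝒴 φ ⁻¹ᵁ U) {χ : z ⟶ lft hp η U}
    (e : χ ≫ lftι hp η U = φ) : χ = fac hp φ h := lftι_mono hp η U (e.trans (fac_ι hp φ h).symm)

variable (η) in
/-- Restriction between objects over opens. -/
noncomputable def lftLE {V W : (StMod.sch 𝒴 η).Opens} (hle : V ≤ W) : lft hp η V ⟶ lft hp η W :=
  fac hp (lftι hp η V) ((top_le_lftι hp η V).trans ((Opens.map _).map (homOfLE hle)).le)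

theorem lftLE_ι {V W : (StMod.sch 𝒴 η).Opens} (hle : V ≤ W) : lftLE hp η hle ≫ lftι hp η W = lftι hp η V :=
  fac_ι hp _ _

theorem le_comp {V : (StMod.sch 𝒴 η).Opens} {η' : 𝒴.obj} (φ : η' ⟶ η) :
    ⊤ ≤ StMod.bmap 𝒴 (lftι hp η' (StMod.bmap 𝒴 φ ⁻¹ᵁ V) ≫ φ) ⁻¹ᵁ V := by
  rw [StMod.bmap_comp]
  exact top_le_lftι hp η' _

/-- The scalars on the object over an open. -/
noncomputable def lftScal (η : 𝒴.obj) (U : (StMod.sch 𝒴 η).Opens) :
    Γ(StMod.sch 𝒴 η, U) →+* Γ(StMod.sch 𝒴 (lft hp η U), ⊤) :=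
  ((StMod.bmap 𝒴 (lftι hp η U)).appLE U ⊤ (top_le_lftι hp η U)).hom

theorem lftScal_comp {V : (StMod.sch 𝒴 η).Opens} {z : 𝒴.obj} (χ : z ⟶ lft hp η V) (φ : z ⟶ η)
    (e : χ ≫ lftι hp η V = φ) (h : ⊤ ≤ StMod.bmap 𝒴 φ ⁻¹ᵁ V) (r : Γ(StMod.sch 𝒴 η, V)) :
    (StMod.bmap 𝒴 χ).appTop (lftScal hp η V r) = (StMod.bmap 𝒴 φ).appLE V ⊤ h r := by
  subst e
  have hh : ⊤ ≤ (StMod.bmap 𝒴 χ ≫ StMod.bmap 𝒴 (lftι hp η V)) ⁻¹ᵁ V := by rwa [← StMod.bmap_comp]
  rw [← appLE_congr_hom (StMod.bmap_comp χ (lftι hp η V)).symm hh h r]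
  show ((StMod.bmap 𝒴 (lftι hp η V)).appLE V ⊤ _ ≫ (StMod.bmap 𝒴 χ).appTop) r = _
  congr 2
  rw [Scheme.Hom.appTop, ← Scheme.Hom.appLE_eq_app, Scheme.Hom.appLE_comp_appLE]
  rfl

end Lift

namespace Eff

variable (hp : FibCat.IsFibGrpd 𝒴.p) (N : Sys.{u} 𝒴)

/-- The sections of the glued module. -/
def Sect (η : 𝒴.obj) (U : (StMod.sch 𝒴 η).Opens) : Type u := N.obj (lft hp η U)

noncomputable instance (η : 𝒴.obj) (U : (StMod.sch 𝒴 η).Opens) : AddCommGroup (Sect hp N η U) :=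
  inferInstanceAs (AddCommGroup (N.obj (lft hp η U)))

noncomputable instance (η : 𝒴.obj) (U : (StMod.sch 𝒴 η).Opens) : Module Γ(StMod.sch 𝒴 η, U) (Sect hp N η U) :=
  Module.compHom (N.obj (lft hp η U)) (lftScal hp η U)

/-- The abelian presheaf. -/
noncomputable def pre (η : 𝒴.obj) : (StMod.sch 𝒴 η).Opensᵒᵖ ⥤ Ab.{u} where
  obj U := AddCommGrpCat.of (Sect hp N η U.unop)
  map {U V} i := AddCommGrpCat.ofHom (N.res (lftLE hp η i.unop.le))
  map_id U := AddCommGrpCat.ext fun x => by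
    have e : lftLE hp η ((𝟙 U : U ⟶ U).unop.le) = 𝟙 _ :=
      lftι_mono hp η _ ((lftLE_ι hp _).trans (Category.id_comp _).symm)
    exact (congrArg (fun χ => N.res χ x) e).trans (N.res_id _ x)
  map_comp {U V W} i j := AddCommGrpCat.ext fun x => by
    have e : lftLE hp η (i ≫ j).unop.le = lftLE hp η j.unop.le ≫ lftLE hp η i.unop.le :=
      lftι_mono hp η _ (by rw [Category.assoc, lftLE_ι, lftLE_ι, lftLE_ι])
    exact (congrArg (fun χ => N.res χ x) e).trans (N.res_comp _ _ x)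

/-- The presheaf of modules. -/
noncomputable def preMod (η : 𝒴.obj) : PresheafOfModules.{u} (StMod.sch 𝒴 η).ringCatSheaf.obj :=
  @PresheafOfModules.ofPresheaf _ _ (StMod.sch 𝒴 η).ringCatSheaf.obj (pre hp N η)
    (fun U => inferInstanceAs (Module Γ(StMod.sch 𝒴 η, U.unop) (Sect hp N η U.unop)))
    (fun {U V} i r m => by
      show N.res (lftLE hp η i.unop.le) (lftScal hp η U.unop r • (show N.obj _ from m)) =
        lftScal hp η V.unop ((StMod.sch 𝒴 η).presheaf.map i r) • N.res (lftLE hp η i.unop.le) (show N.obj _ from m)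
      rw [N.res_smul, lftScal_comp hp _ _ (lftLE_ι hp i.unop.le)
        ((top_le_lftι hp η V.unop).trans ((Opens.map _).map (homOfLE i.unop.le)).le)]
      congr 1
      exact (congr($(Scheme.Hom.map_appLE (StMod.bmap 𝒴 (lftι hp η V.unop)) (top_le_lftι hp η V.unop) i) r) :).symm)

variable {N}

theorem isSheaf_pre (hN : N.IsSheaf) (η : 𝒴.obj) : TopCat.Presheaf.IsSheaf (pre hp N η) := by
  rw [TopCat.Presheaf.isSheaf_iff_isSheafUniqueGluing]
  intro ι U sf hcomp
  let W := iSup U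
  have hle : ∀ i, U i ≤ W := le_iSup U
  have hcov : IsCov (fun i => lft hp η (U i)) (fun i => lftLE hp η (hle i)) := by
    have ho : ∀ i, IsOpenImmersion (StMod.bmap 𝒴 (lftLE hp η (hle i))) := fun i => by
      haveI : IsOpenImmersion (StMod.bmap 𝒴 (lftLE hp η (hle i)) ≫ StMod.bmap 𝒴 (lftι hp η W)) := by
        rw [← StMod.bmap_comp, lftLE_ι]
        infer_instance
      exact IsOpenImmersion.of_comp _ (StMod.bmap 𝒴 (lftι hp η W))
    refine ⟨fun i => ?_, fun i => ?_, fun t => ?_⟩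
    · haveI := ho i
      infer_instance
    · haveI := ho i
      infer_instance
    · have ht : StMod.bmap 𝒴 (lftι hp η W) t ∈ W := top_le_lftι hp η W trivial
      obtain ⟨i, hi⟩ := Opens.mem_iSup.1 ht
      rw [← opensRange_lftι hp η (U i)] at hi
      obtain ⟨p, hp'⟩ := hi
      refine ⟨i, p, ?_⟩
      refine (StMod.bmap 𝒴 (lftι hp η W)).isOpenEmbedding.injective ?_
      rw [← Scheme.Hom.comp_apply, ← StMod.bmap_comp, lftLE_ι, hp']
  have hag : N.Agree (fun i => lftLE hp η (hle i)) sf := fun i j y a b e => by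
    have e' : a ≫ lftι hp η (U i) = b ≫ lftι hp η (U j) := by
      rw [← lftLE_ι hp (hle i), ← lftLE_ι hp (hle j), ← Category.assoc, e, Category.assoc]
    have hy : ⊤ ≤ StMod.bmap 𝒴 (a ≫ lftι hp η (U i)) ⁻¹ᵁ (U i ⊓ U j) := fun p _ => by
      refine ⟨?_, ?_⟩
      · show StMod.bmap 𝒴 (a ≫ lftι hp η (U i)) p ∈ U i
        rw [StMod.bmap_comp, Scheme.Hom.comp_apply]
        exact top_le_lftι hp η (U i) trivial
      · show StMod.bmap 𝒴 (a ≫ lftι hp η (U i)) p ∈ U j
        rw [e', StMod.bmap_comp, Scheme.Hom.comp_apply]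
        exact top_le_lftι hp η (U j) trivial
    have ha : a = fac hp _ hy ≫ lftLE hp η inf_le_left :=
      lftι_mono hp η _ (by rw [Category.assoc, lftLE_ι, fac_ι])
    have hb : b = fac hp _ hy ≫ lftLE hp η inf_le_right :=
      lftι_mono hp η _ (by rw [Category.assoc, lftLE_ι, fac_ι, e'])
    rw [ha, hb, N.res_comp, N.res_comp]
    exact congrArg (N.res _) (hcomp i j)
  obtain ⟨s, hs⟩ := hN.2 _ _ hcov sf hag
  exact ⟨s, hs, fun s' hs' => hN.1 _ _ hcov s' s fun i => (hs' i).trans (hs i).symm⟩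

/-- The glued module on the scheme under `η`. -/
noncomputable def gMod (hN : N.IsSheaf) (η : 𝒴.obj) : (StMod.sch 𝒴 η).Modules :=
  ⟨preMod hp N η, isSheaf_pre hp hN η⟩

variable (hN : N.IsSheaf)

theorem gMod_map (η : 𝒴.obj) {U V : (StMod.sch 𝒴 η).Opens} (i : V ⟶ U) (x : Γ(gMod hp hN η, U)) :
    (gMod hp hN η).presheaf.map i.op x = N.res (lftLE hp η i.le) x := rfl

theorem gMod_smul (η : 𝒴.obj) (U : (StMod.sch 𝒴 η).Opens) (r : Γ(StMod.sch 𝒴 η, U)) (x : Γ(gMod hp hN η, U)) :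
    (r • x : Γ(gMod hp hN η, U)) = (lftScal hp η U r • (show N.obj (lft hp η U) from x) : N.obj _) := rfl

/-- The comparison maps of the glued module. -/
noncomputable def gMap {η' η : 𝒴.obj} (φ : η' ⟶ η) {g : StMod.sch 𝒴 η' ⟶ StMod.sch 𝒴 η}
    (hg : StMod.bmap 𝒴 φ = g) : gMod hp hN η ⟶ (Scheme.Modules.pushforward g).obj (gMod hp hN η') :=
  SheafOfModules.Hom.mk (PresheafOfModules.homMk
    { app := fun U => AddCommGrpCat.ofHom
        (N.res (fac hp (lftι hp η' (g ⁻¹ᵁ U.unop) ≫ φ) (by subst hg; exact le_comp hp φ)))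
      naturality := fun U V i => AddCommGrpCat.ext fun x => by
        subst hg
        show N.res _ (N.res (lftLE hp η i.unop.le) x) =
          N.res (lftLE hp η' ((Opens.map _).map i.unop).le) (N.res _ x)
        rw [← N.res_comp, ← N.res_comp]
        refine congrArg (fun χ => N.res χ x) (lftι_mono hp η _ ?_)
        rw [Category.assoc, lftLE_ι, fac_ι, Category.assoc, fac_ι, ← Category.assoc, lftLE_ι] }
    (fun U r m => by
      subst hg
      show N.res (fac hp (lftι hp η' (StMod.bmap 𝒴 φ ⁻¹ᵁ U.unop) ≫ φ) (le_comp hp φ))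
          (lftScal hp η U.unop r • (show N.obj (lft hp η U.unop) from m)) =
        lftScal hp η' (StMod.bmap 𝒴 φ ⁻¹ᵁ U.unop) ((StMod.bmap 𝒴 φ).app U.unop r) •
          N.res (fac hp (lftι hp η' (StMod.bmap 𝒴 φ ⁻¹ᵁ U.unop) ≫ φ) (le_comp hp φ)) (show N.obj (lft hp η U.unop) from m)
      rw [N.res_smul, lftScal_comp hp _ _ (fac_ι hp _ (le_comp hp φ)) (le_comp hp φ)]
      congr 1
      have e : (StMod.bmap 𝒴 (lftι hp η' (StMod.bmap 𝒴 φ ⁻¹ᵁ U.unop)) ≫ StMod.bmap 𝒴 φ).appLE U.unop ⊤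
          (top_le_lftι hp η' _) r =
          lftScal hp η' (StMod.bmap 𝒴 φ ⁻¹ᵁ U.unop) ((StMod.bmap 𝒴 φ).app U.unop r) := by
        rw [Scheme.Hom.comp_appLE]
        rfl
      exact (appLE_congr_hom (StMod.bmap_comp _ _) _ _ r).trans e))

theorem gMap_app {η' η : 𝒴.obj} (φ : η' ⟶ η) {g : StMod.sch 𝒴 η' ⟶ StMod.sch 𝒴 η}
    (hg : StMod.bmap 𝒴 φ = g) (U : (StMod.sch 𝒴 η).Opens) (x : N.obj (lft hp η U))
    (h : ⊤ ≤ StMod.bmap 𝒴 (lftι hp η' (g ⁻¹ᵁ U) ≫ φ) ⁻¹ᵁ U) :
    (gMap hp hN φ hg).app U x = N.res (fac hp (lftι hp η' (g ⁻¹ᵁ U) ≫ φ) h) x := rfl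

/-- The glued module. -/
noncomputable def gModule : StMod.Mod 𝒴 where
  obj := gMod hp hN
  map φ _ hg := gMap hp hN φ hg
  map_id η := by
    refine Scheme.Modules.hom_ext _ _ fun U => ?_
    ext x
    show N.res _ (show N.obj (lft hp η U) from x) = x
    refine (congrArg (fun χ => N.res χ (show N.obj (lft hp η U) from x)) ?_).trans (N.res_id _ _)
    exact lftι_mono hp η U ((fac_ι hp _ _).trans ((Category.comp_id _).trans (Category.id_comp _).symm))
  map_comp {η'' η' η} ψ φ h g hh hg := by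
    refine Scheme.Modules.hom_ext _ _ fun U => ?_
    ext x
    show N.res _ (show N.obj (lft hp η U) from x) = N.res _ (N.res _ (show N.obj (lft hp η U) from x))
    rw [← N.res_comp]
    refine congrArg (fun χ => N.res χ (show N.obj (lft hp η U) from x)) (lftι_mono hp η U ?_)
    rw [fac_ι, Category.assoc, fac_ι]
    refine Eq.trans ?_ (Category.assoc _ _ _)
    erw [fac_ι]
    exact (Category.assoc _ _ _).symm

/-- Sections over the top open. -/
noncomputable def topEquiv (η : 𝒴.obj) : Γ(gMod hp hN η, ⊤) → N.obj η :=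
  N.res (fac hp (𝟙 η) (U := ⊤) le_top)

theorem bijective_topEquiv (η : 𝒴.obj) : Function.Bijective (topEquiv hp hN η) := by
  refine Function.bijective_iff_has_inverse.2 ⟨N.res (lftι hp η ⊤), fun x => ?_, fun x => ?_⟩
  · show N.res (lftι hp η ⊤) (N.res _ (show N.obj (lft hp η ⊤) from x)) = x
    rw [← N.res_comp]
    refine (congrArg (fun χ => N.res χ (show N.obj (lft hp η ⊤) from x)) ?_).trans (N.res_id _ _)
    exact lftι_mono hp η ⊤ (by rw [Category.assoc, fac_ι, Category.comp_id, Category.id_comp])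
  · show N.res _ (N.res (lftι hp η ⊤) x) = x
    rw [← N.res_comp, fac_ι, N.res_id]

theorem topEquiv_add (η : 𝒴.obj) (x y : Γ(gMod hp hN η, ⊤)) :
    topEquiv hp hN η (x + y) = topEquiv hp hN η x + topEquiv hp hN η y := map_add _ _ _

theorem topEquiv_smul (η : 𝒴.obj) (r : Γ(StMod.sch 𝒴 η, ⊤)) (x : Γ(gMod hp hN η, ⊤)) :
    topEquiv hp hN η (r • x) = r • topEquiv hp hN η x := by
  show N.res _ (lftScal hp η ⊤ r • (show N.obj (lft hp η ⊤) from x)) = r • N.res _ (show N.obj (lft hp η ⊤) from x)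
  rw [N.res_smul, lftScal_comp hp _ _ (fac_ι hp (𝟙 η) le_top) le_top]
  congr 1
  refine (appLE_congr_hom (StMod.bmap_id (𝒳 := 𝒴) η) _ le_top r).trans ?_
  rw [Scheme.Hom.appLE, Scheme.Hom.id_app]
  exact QCoh.ringMap_id (homOfLE le_top) r

theorem topEquiv_mapTop {η' η : 𝒴.obj} (φ : η' ⟶ η) (x : Γ(gMod hp hN η, ⊤)) :
    topEquiv hp hN η' ((gModule hp hN).mapTop φ x) = N.res φ (topEquiv hp hN η x) := by
  show N.res _ (N.res _ (show N.obj (lft hp η ⊤) from x)) = N.res φ (N.res _ (show N.obj (lft hp η ⊤) from x))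
  rw [← N.res_comp, ← N.res_comp]
  refine congrArg (fun χ => N.res χ (show N.obj (lft hp η ⊤) from x)) (lftι_mono hp η ⊤ ?_)
  erw [Category.assoc, fac_ι, Category.assoc, fac_ι, ← Category.assoc, fac_ι, Category.id_comp, Category.comp_id]

variable (hBC : N.HasBC)

include hBC in
theorem bijective_gMap_app {η' η : 𝒴.obj} (φ : η' ⟶ η) [IsOpenImmersion (StMod.bmap 𝒴 φ)]
    (U : (StMod.sch 𝒴 η).Opens) (hU : U ≤ (StMod.bmap 𝒴 φ).opensRange) :
    Function.Bijective ((gMap hp hN φ rfl).app U) := by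
  obtain ⟨χ, hχ⟩ : ∃ χ : lft hp η U ⟶ lft hp η' (StMod.bmap 𝒴 φ ⁻¹ᵁ U),
      χ ≫ lftι hp η' (StMod.bmap 𝒴 φ ⁻¹ᵁ U) ≫ φ = lftι hp η U := by
    obtain ⟨m, ⟨hm, hm'⟩, -⟩ := existsUnique_lift_bmap hp φ (lftι hp η U)
      (IsOpenImmersion.lift (StMod.bmap 𝒴 φ) (StMod.bmap 𝒴 (lftι hp η U)) (by
        rintro _ ⟨p, rfl⟩
        exact hU (top_le_lftι hp η U trivial))) (IsOpenImmersion.lift_fac _ _ _)
    have hm'' : ⊤ ≤ StMod.bmap 𝒴 m ⁻¹ᵁ (StMod.bmap 𝒴 φ ⁻¹ᵁ U) := fun p _ => by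
      show StMod.bmap 𝒴 φ (StMod.bmap 𝒴 m p) ∈ U
      rw [← Scheme.Hom.comp_apply, ← StMod.bmap_comp, hm']
      exact top_le_lftι hp η U trivial
    exact ⟨fac hp m hm'', by rw [← Category.assoc, fac_ι, hm']⟩
  have hf := fac_ι hp (lftι hp η' (StMod.bmap 𝒴 φ ⁻¹ᵁ U) ≫ φ) (U := U) (le_comp hp φ)
  refine Function.bijective_iff_has_inverse.2 ⟨N.res χ, fun x => ?_, fun x => ?_⟩
  · show N.res χ (N.res _ (show N.obj (lft hp η U) from x)) = x
    rw [← N.res_comp]
    refine (congrArg (fun m => N.res m (show N.obj (lft hp η U) from x)) ?_).trans (N.res_id _ _)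
    exact lftι_mono hp η U (by rw [Category.assoc, hf, hχ, Category.id_comp])
  · show N.res _ (N.res χ x) = x
    rw [← N.res_comp]
    refine (congrArg (fun m => N.res m x) ?_).trans (N.res_id _ x)
    refine lftι_mono hp η' _ (hom_ext_of_map hp φ (Over.OverMorphism.ext ?_) ?_)
    · refine (cancel_mono (StMod.bmap 𝒴 φ)).1 ?_
      show StMod.bmap 𝒴 _ ≫ StMod.bmap 𝒴 φ = StMod.bmap 𝒴 _ ≫ StMod.bmap 𝒴 φ
      rw [← StMod.bmap_comp, ← StMod.bmap_comp]
      congr 1
      rw [Category.assoc, Category.assoc, hχ, hf, Category.id_comp]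
    · rw [Category.assoc, Category.assoc, hχ, hf, Category.id_comp]

include hBC in
/-- The adjoint along an open immersion is an isomorphism of restrictions. -/
theorem nonempty_restrict_iso {η' η : 𝒴.obj} (φ : η' ⟶ η) [IsOpenImmersion (StMod.bmap 𝒴 φ)] :
    Nonempty ((gMod hp hN η).restrict (StMod.bmap 𝒴 φ) ≅ gMod hp hN η') := by
  let g := StMod.bmap 𝒴 φ
  let m := gMap hp hN φ (rfl : StMod.bmap 𝒴 φ = g)
  let u := ((Scheme.Modules.restrictAdjunction g).homEquiv _ _).symm m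
  have hm' : m = (Scheme.Modules.restrictAdjunction g).unit.app _ ≫ (Scheme.Modules.pushforward g).map u :=
    (((Scheme.Modules.restrictAdjunction g).homEquiv _ _).apply_symm_apply m).symm.trans
      ((Scheme.Modules.restrictAdjunction g).homEquiv_apply _ _ u)
  have hu : ∀ V, IsIso (u.app V) := fun V => by
    obtain ⟨U, rfl, hU⟩ : ∃ U, g ⁻¹ᵁ U = V ∧ U ≤ g.opensRange :=
      ⟨g ''ᵁ V, g.preimage_image_eq V, g.image_le_opensRange V⟩
    have hb' : Function.Bijective (m.app U) := bijective_gMap_app hp hN hBC φ U hU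
    have hb : Function.Bijective (u.app (g ⁻¹ᵁ U) ∘ (gMod hp hN η).presheaf.map (homOfLE (g.image_preimage_le U)).op) := by
      have e : (m.app U : _ → _) = u.app (g ⁻¹ᵁ U) ∘ (gMod hp hN η).presheaf.map (homOfLE (g.image_preimage_le U)).op := by
        rw [hm']
        rfl
      exact e ▸ hb'
    have hr : IsIso ((gMod hp hN η).presheaf.map (homOfLE (g.image_preimage_le U)).op) := by
      rw [show (homOfLE (g.image_preimage_le U)).op = eqToHom (congrArg op (show U = g ''ᵁ g ⁻¹ᵁ U by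
        rw [g.image_preimage_eq_opensRange_inf, inf_eq_right.2 hU])) from Subsingleton.elim _ _]
      infer_instance
    refine (ConcreteCategory.isIso_iff_bijective _).2 ?_
    exact (Function.Bijective.of_comp_iff _ (ConcreteCategory.bijective_of_isIso _)).1 hb
  haveI : IsIso u := Scheme.Modules.Hom.isIso_iff_isIso_app.2 hu
  exact ⟨asIso u⟩

include hBC in
theorem globLocalized (η : 𝒴.obj) [IsAffine (StMod.sch 𝒴 η)] : OmegaLib.GlobLocalized (gMod hp hN η) := by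
  intro r
  let T := StMod.sch 𝒴 η
  let D := T.basicOpen r
  have hD : IsAffineOpen D := (isAffineOpen_top T).basicOpen r
  haveI : IsAffine (D : Scheme.{u}) := hD
  haveI : IsAffine (StMod.sch 𝒴 (lft hp η D)) := IsAffine.of_isIso (lftIso hp η D).hom
  let f := lftι hp η D
  have hbc : IsSemiBC (StMod.bmap 𝒴 f).appTop.hom (N.res f) := (Sys.bc_iff f).1 (hBC f inferInstance inferInstance)
  obtain ⟨hl, hb⟩ := hbc
  let A := Γ(T, ⊤)
  let B := Γ(StMod.sch 𝒴 (lft hp η D), ⊤)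
  letI : Algebra A B := (StMod.bmap 𝒴 f).appTop.hom.toAlgebra
  letI : Module A (N.obj (lft hp η D)) := Module.compHom _ (StMod.bmap 𝒴 f).appTop.hom
  haveI : IsScalarTower A B (N.obj (lft hp η D)) := IsScalarTower.of_algebraMap_smul fun _ _ => rfl
  -- functions on the object over the basic open are the localisation
  let σ : Γ(T, D) →+* B := lftScal hp η D
  have hσr : ∀ a : A, σ (T.presheaf.map (homOfLE (le_top : D ≤ ⊤)).op a) = (StMod.bmap 𝒴 f).appTop a := fun a => by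
    show ((T.presheaf.map (homOfLE (le_top : D ≤ ⊤)).op) ≫ (StMod.bmap 𝒴 f).appLE D ⊤ _) a = _
    rw [Scheme.Hom.map_appLE, Scheme.Hom.appLE]
    simp
    rfl
  have hσ : Function.Bijective σ := by
    haveI : IsIso ((StMod.bmap 𝒴 f).appLE D ⊤ (top_le_lftι hp η D)) :=
      isIso_appLE_of_eq (StMod.bmap 𝒴 f) D ⊤ _ (opensRange_lftι hp η D).ge (top_le_iff.1 (top_le_lftι hp η D))
    exact ConcreteCategory.bijective_of_isIso _
  letI := (T.presheaf.map (homOfLE (le_top : D ≤ ⊤)).op).hom.toAlgebra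
  haveI hloc : IsLocalization.Away r Γ(T, D) := (isAffineOpen_top T).isLocalization_basicOpen r
  let e : Γ(T, D) ≃ₐ[A] B := AlgEquiv.ofBijective { σ with commutes' := hσr } hσ
  haveI : IsLocalization.Away r B := IsLocalization.isLocalization_of_algEquiv _ e
  let L : N.obj η →ₗ[A] N.obj (lft hp η D) := { toFun := N.res f, map_add' := map_add _, map_smul' := hl }
  haveI hL : IsLocalizedModule (Submonoid.powers r) L :=
    (isLocalizedModule_iff_isBaseChange (Submonoid.powers r) B L).2 hb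
  have hres : ∀ x : Γ(gMod hp hN η, ⊤),
      (show N.obj (lft hp η D) from (gMod hp hN η).presheaf.map (homOfLE (le_top : D ≤ ⊤)).op x) =
        L (topEquiv hp hN η x) := fun x => by
    show N.res _ (show N.obj (lft hp η ⊤) from x) = N.res f (N.res _ (show N.obj (lft hp η ⊤) from x))
    rw [← N.res_comp]
    refine congrArg (fun χ => N.res χ (show N.obj (lft hp η ⊤) from x)) (lftι_mono hp η ⊤ ?_)
    rw [lftLE_ι, Category.assoc, fac_ι, Category.comp_id]
  have hpow : ∀ (n : ℕ) (k : Γ(gMod hp hN η, D)),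
      (show N.obj (lft hp η D) from (T.presheaf.map (homOfLE (le_top : D ≤ ⊤)).op r) ^ n • k) =
        r ^ n • (show N.obj (lft hp η D) from k) := fun n k => by
    show σ ((T.presheaf.map (homOfLE (le_top : D ≤ ⊤)).op r) ^ n) • (show N.obj (lft hp η D) from k) = _
    rw [map_pow, hσr, ← map_pow]
    rfl
  refine ⟨fun k => ?_, fun k₀ hk => ?_⟩
  · obtain ⟨⟨m, ⟨_, n, rfl⟩⟩, hm⟩ := IsLocalizedModule.surj (Submonoid.powers r) L (show N.obj (lft hp η D) from k)
    obtain ⟨k₀, hk₀⟩ := (bijective_topEquiv hp hN η).2 m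
    refine ⟨n, k₀, (hpow n k).trans (hm.trans ?_)⟩
    rw [← hk₀]
    exact (hres k₀).symm
  · have h0 : L (topEquiv hp hN η k₀) = 0 := (hres k₀).symm.trans hk
    obtain ⟨⟨_, n, rfl⟩, hn⟩ := (IsLocalizedModule.eq_zero_iff (Submonoid.powers r) L).1 h0
    refine ⟨n, (bijective_topEquiv hp hN η).1 ?_⟩
    rw [topEquiv_smul]
    exact hn.trans (map_zero (N.res _)).symm

include hBC in
theorem isQCoh_gMod (η : 𝒴.obj) : Coh.IsQCoh (gMod hp hN η) := by
  let T := StMod.sch 𝒴 η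
  refine QCoh.isQCoh_of_isOpenCover (fun V : T.affineOpens => V.1) (iSup_affineOpens_eq_top T) fun V => ?_
  haveI : IsAffine ((V.1 : T.Opens) : Scheme.{u}) := V.2
  let η' := lft hp η V.1
  let e := lftIso hp η V.1
  haveI : IsAffine (StMod.sch 𝒴 η') := IsAffine.of_isIso e.hom
  have hq : Coh.IsQCoh (gMod hp hN η') := by
    let P := StMod.sch 𝒴 η'
    haveI := OmegaLib.isIso_fromTildeΓ_toSpecMod (globLocalized hp hN hBC η')
    have h1 : Coh.IsQCoh (OmegaLib.toSpecMod (gMod hp hN η')) := (isQuasicoherent_iff_isIso_fromTildeΓ _).2 inferInstance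
    refine (QCoh.isQCoh_iff_iso ?_).1 (QCoh.isQCoh_restrict P.isoSpec.hom h1)
    exact (asIso ((Scheme.Modules.restrictAdjunction P.isoSpec.hom).counit.app (gMod hp hN η')))
  obtain ⟨i⟩ := nonempty_restrict_iso hp hN hBC (lftι hp η V.1)
  have h2 : Coh.IsQCoh ((gMod hp hN η).restrict (StMod.bmap 𝒴 (lftι hp η V.1))) := (QCoh.isQCoh_iff_iso i).2 hq
  refine (QCoh.isQCoh_iff_iso ?_).1 (QCoh.isQCoh_restrict e.inv h2)
  exact QCoh.restrictRestrict _ _ _ ≪≫ (Scheme.Modules.restrictFunctorCongr (by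
    rw [bmap_lftι, Iso.inv_hom_id_assoc])).app _

include hBC in
theorem isCartesian_gModule : (gModule hp hN).IsCartesian := by
  intro η' η φ g hg
  subst hg
  let g := StMod.bmap 𝒴 φ
  let G := gMod hp hN η
  let P := (Scheme.Modules.pullback g).obj G
  let u : P ⟶ gMod hp hN η' :=
    ((Scheme.Modules.pullbackPushforwardAdjunction g).homEquiv _ _).symm (gMap hp hN φ rfl)
  have hu : (Scheme.Modules.pullbackPushforwardAdjunction g).unit.app G ≫ (Scheme.Modules.pushforward g).map u =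
      gMap hp hN φ rfl :=
    ((Scheme.Modules.pullbackPushforwardAdjunction g).homEquiv_apply _ _ u).symm.trans (Equiv.apply_symm_apply _ _)
  let B : Set (StMod.sch 𝒴 η').Opens :=
    {W | IsAffineOpen W ∧ ∃ V : (StMod.sch 𝒴 η).Opens, IsAffineOpen V ∧ W ≤ g ⁻¹ᵁ V}
  have hB : Opens.IsBasis B := by
    rw [Opens.isBasis_iff_nbhd]
    intro U x hx
    obtain ⟨_, ⟨V, hV, rfl⟩, hxV, -⟩ :=
      (StMod.sch 𝒴 η).isBasis_affineOpens.exists_subset_of_mem_open (Set.mem_univ (g x)) isOpen_univ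
    obtain ⟨_, ⟨W, hW, rfl⟩, hxW, hWU⟩ := (StMod.sch 𝒴 η').isBasis_affineOpens.exists_subset_of_mem_open
      (show x ∈ U ⊓ g ⁻¹ᵁ V from ⟨hx, hxV⟩) (U ⊓ g ⁻¹ᵁ V).2
    exact ⟨W, ⟨hW, V, hV, fun y hy => (hWU hy).2⟩, hxW, fun y hy => (hWU hy).1⟩
  refine QCoh.isIso_of_isBasis u hB fun W hW' => ?_
  obtain ⟨hW, V, hV, hle⟩ := hW'
  haveI : IsAffine ((V : (StMod.sch 𝒴 η).Opens) : Scheme.{u}) := hV
  haveI : IsAffine ((W : (StMod.sch 𝒴 η').Opens) : Scheme.{u}) := hW
  haveI : IsAffine (StMod.sch 𝒴 (lft hp η V)) := IsAffine.of_isIso (lftIso hp η V).hom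
  haveI : IsAffine (StMod.sch 𝒴 (lft hp η' W)) := IsAffine.of_isIso (lftIso hp η' W).hom
  let A := Γ(StMod.sch 𝒴 η, V)
  let C := Γ(StMod.sch 𝒴 η', W)
  let A' := Γ(StMod.sch 𝒴 (lft hp η V), ⊤)
  let C' := Γ(StMod.sch 𝒴 (lft hp η' W), ⊤)
  have hh : ⊤ ≤ StMod.bmap 𝒴 (lftι hp η' W ≫ φ) ⁻¹ᵁ V := by
    rw [StMod.bmap_comp]
    exact (top_le_lftι hp η' W).trans ((Opens.map _).map (homOfLE hle)).le
  let f := fac hp (lftι hp η' W ≫ φ) hh
  have hf : f ≫ lftι hp η V = lftι hp η' W ≫ φ := fac_ι hp _ hh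
  obtain ⟨hl, hb⟩ := (Sys.bc_iff f).1 (hBC f inferInstance inferInstance)
  letI : Algebra A C := (g.appLE V W hle).hom.toAlgebra
  letI : Module A Γ(P, W) := Module.compHom _ (algebraMap A C)
  haveI : IsScalarTower A C Γ(P, W) := IsScalarTower.of_algebraMap_smul fun _ _ => rfl
  let l : Γ(G, V) →ₗ[A] Γ(P, W) :=
    { toFun := QCoh.pullSec g G hle
      map_add' := QCoh.pullSec_add g G hle
      map_smul' := fun r x => QCoh.pullSec_smul g G hle r x }
  have hp' : IsBaseChange C l :=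
    QCoh.isBaseChange_pullback hV g hW (isQCoh_gMod hp hN hBC η) hle (fun _ => rfl) l fun _ => rfl
  -- `u` sends base changed sections to restrictions
  have hul : ∀ x : Γ(G, V), (show N.obj (lft hp η' W) from u.app W (l x)) = N.res f (show N.obj (lft hp η V) from x) :=
    fun x => by
      have e1 := congr($(congrArg (fun m => Scheme.Modules.Hom.app m V) hu) x)
      have e2 : u.app W (QCoh.pullSec g G hle x) =
          (gMod hp hN η').presheaf.map (homOfLE hle).op (u.app (g ⁻¹ᵁ V)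
            (((Scheme.Modules.pullbackPushforwardAdjunction g).unit.app G).app V x)) :=
        congr($((Scheme.Modules.Hom.mapPresheaf u).naturality (homOfLE hle).op)
          (((Scheme.Modules.pullbackPushforwardAdjunction g).unit.app G).app V x))
      refine (show _ = _ from e2).trans ((congrArg ((gMod hp hN η').presheaf.map (homOfLE hle).op) e1).trans ?_)
      show N.res _ (N.res _ (show N.obj (lft hp η V) from x)) = _
      rw [← N.res_comp]
      refine congrArg (fun χ => N.res χ (show N.obj (lft hp η V) from x)) (lftι_mono hp η V ?_)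
      rw [Category.assoc, fac_ι, ← Category.assoc, lftLE_ι, hf]
  letI : Algebra A' C' := (StMod.bmap 𝒴 f).appTop.hom.toAlgebra
  letI : Module A' (N.obj (lft hp η' W)) := Module.compHom _ (StMod.bmap 𝒴 f).appTop.hom
  haveI : IsScalarTower A' C' (N.obj (lft hp η' W)) := IsScalarTower.of_algebraMap_smul fun _ _ => rfl
  -- change of scalars on both sides
  let sA : A →+* A' := lftScal hp η V
  let sC : C →+* C' := lftScal hp η' W
  have hsC : Function.Bijective sC := by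
    haveI : IsIso ((StMod.bmap 𝒴 (lftι hp η' W)).appLE W ⊤ (top_le_lftι hp η' W)) :=
      isIso_appLE_of_eq (StMod.bmap 𝒴 (lftι hp η' W)) W ⊤ _ (opensRange_lftι hp η' W).ge
        (top_le_iff.1 (top_le_lftι hp η' W))
    exact ConcreteCategory.bijective_of_isIso _
  have hsA : Function.Bijective sA := by
    haveI : IsIso ((StMod.bmap 𝒴 (lftι hp η V)).appLE V ⊤ (top_le_lftι hp η V)) :=
      isIso_appLE_of_eq (StMod.bmap 𝒴 (lftι hp η V)) V ⊤ _ (opensRange_lftι hp η V).ge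
        (top_le_iff.1 (top_le_lftι hp η V))
    exact ConcreteCategory.bijective_of_isIso _
  have hAC : ∀ a : A, (StMod.bmap 𝒴 f).appTop (sA a) = sC (g.appLE V W hle a) := fun a => by
    rw [lftScal_comp hp f _ hf hh]
    have e : (StMod.bmap 𝒴 (lftι hp η' W ≫ φ)).appLE V ⊤ hh a =
        (StMod.bmap 𝒴 (lftι hp η' W) ≫ g).appLE V ⊤ (by rw [← StMod.bmap_comp]; exact hh) a :=
      appLE_congr_hom (StMod.bmap_comp _ _) _ _ a
    rw [e, ← Scheme.Hom.appLE_comp_appLE _ g V W ⊤ hle (top_le_lftι hp η' W)]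
    rfl
  let R : C' ⊗[A'] N.obj (lft hp η V) →+ C ⊗[A] Γ(G, V) := TensorProduct.liftAddHom
    (AddMonoidHom.mk' (fun c : C' => AddMonoidHom.mk'
      (fun x : N.obj (lft hp η V) => (RingEquiv.ofBijective sC hsC).symm c ⊗ₜ[A] (show Γ(G, V) from x))
      fun x y => TensorProduct.tmul_add _ _ _)
      fun c c' => AddMonoidHom.ext fun x => by
        show _ ⊗ₜ _ = _ ⊗ₜ _ + _ ⊗ₜ _
        rw [map_add, TensorProduct.add_tmul])
    fun r c x => by
      obtain ⟨a, rfl⟩ := hsA.2 r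
      show (RingEquiv.ofBijective sC hsC).symm (sA a • c) ⊗ₜ[A] (show Γ(G, V) from x) =
        (RingEquiv.ofBijective sC hsC).symm c ⊗ₜ[A] (a • (show Γ(G, V) from x))
      rw [TensorProduct.tmul_smul, TensorProduct.smul_tmul']
      congr 1
      rw [Algebra.smul_def, Algebra.smul_def]
      show (RingEquiv.ofBijective sC hsC).symm ((StMod.bmap 𝒴 f).appTop (sA a) * c) = g.appLE V W hle a * _
      rw [hAC, map_mul]
      congr 1
      exact (RingEquiv.ofBijective sC hsC).symm_apply_apply _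
  let bb := hb.equiv
  have hRs : Function.Surjective R := fun t => by
    induction t using TensorProduct.induction_on with
    | zero => exact ⟨0, map_zero R⟩
    | add a b ha hb =>
      obtain ⟨a, rfl⟩ := ha
      obtain ⟨b, rfl⟩ := hb
      exact ⟨a + b, map_add R a b⟩
    | tmul c x =>
      refine ⟨sC c ⊗ₜ[A'] (show N.obj (lft hp η V) from x), ?_⟩
      show (RingEquiv.ofBijective sC hsC).symm (sC c) ⊗ₜ[A] _ = _
      rw [show (RingEquiv.ofBijective sC hsC).symm (sC c) = c from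
        (RingEquiv.ofBijective sC hsC).symm_apply_apply c]
  have hcomm : ∀ t, (show N.obj (lft hp η' W) from u.app W (hp'.equiv (R t))) = bb t := fun t => by
    induction t using TensorProduct.induction_on with
    | zero => simp only [map_zero]
    | add a b ha hb => simp only [map_add]; exact (congrArg₂ (· + ·) ha hb :)
    | tmul c x =>
      show (show N.obj (lft hp η' W) from u.app W (hp'.equiv
        ((RingEquiv.ofBijective sC hsC).symm c ⊗ₜ[A] (show Γ(G, V) from x)))) = _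
      rw [IsBaseChange.equiv_tmul, Scheme.Modules.Hom.app_smul]
      show sC ((RingEquiv.ofBijective sC hsC).symm c) • (show N.obj (lft hp η' W) from u.app W (l x)) = _
      rw [hul, show sC ((RingEquiv.ofBijective sC hsC).symm c) = c from
        (RingEquiv.ofBijective sC hsC).apply_symm_apply c]
      exact (IsBaseChange.equiv_tmul hb c x).symm
  refine ⟨fun a b hab => ?_, fun n => ?_⟩
  · obtain ⟨a', rfl⟩ := hp'.equiv.surjective a
    obtain ⟨b', rfl⟩ := hp'.equiv.surjective b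
    obtain ⟨a'', rfl⟩ := hRs a'
    obtain ⟨b'', rfl⟩ := hRs b'
    rw [bb.injective ((hcomm a'').symm.trans (Eq.trans (show _ = _ from hab) (hcomm b'')))]
  · obtain ⟨t, ht⟩ := bb.surjective (show N.obj (lft hp η' W) from n)
    exact ⟨hp'.equiv (R t), (hcomm t).trans ht⟩

end Eff

/-- A sheaf system with base change between affines is the system of a quasi-coherent module. -/
theorem exists_qcoh_of_sys (hp : FibCat.IsFibGrpd 𝒴.p) (N : Sys.{u} 𝒴) (hN : N.IsSheaf) (hBC : N.HasBC) :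
    ∃ (G : StMod.QCoh 𝒴) (θ : ∀ η, Γ(G.obj.obj η, ⊤) →+ N.obj η),
      (∀ η, Function.Bijective (θ η)) ∧
      (∀ η (r : Γ(StMod.sch 𝒴 η, ⊤)) (x : Γ(G.obj.obj η, ⊤)), θ η (r • x) = r • θ η x) ∧
      ∀ {η' η : 𝒴.obj} (φ : η' ⟶ η) (x : Γ(G.obj.obj η, ⊤)), θ η' (G.obj.mapTop φ x) = N.res φ (θ η x) :=
  ⟨⟨Eff.gModule hp hN, Eff.isCartesian_gModule hp hN hBC, Eff.isQCoh_gMod hp hN hBC⟩,
    fun η => AddMonoidHom.mk' (Eff.topEquiv hp hN η) (Eff.topEquiv_add hp hN η),
    Eff.bijective_topEquiv hp hN, Eff.topEquiv_smul hp hN, Eff.topEquiv_mapTop hp hN⟩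

end Groth.Agent.StModLib
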