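import Groth.Agent.StModLib.FibOver

/-!
# A twisted line bundle on a gerbe split by an object
-/

set_option autoImplicit false
set_option linter.style.haveILetI false
set_option linter.unusedSectionVars false
set_option backward.isDefEq.respectTransparency false
set_option backward.isDefEq.respectTransparency.types false

universe u

open CategoryTheory CategoryTheory.Limits AlgebraicGeometry Opposite

namespace Groth.Agent.StModLib

variable {S : Scheme.{u}} {𝒳 𝒴 : AlgSt.Cat S} (π : 𝒳 ⥤ᵇ 𝒴) (x₀ : 𝒳.obj)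

/-- The category over the image of `x₀`. -/
abbrev OverPt : AlgSt.Cat S := StMod.fibCat π (π.obj x₀)

/-- The tautological point. -/
def ptObj : (OverPt π x₀).obj := CostructuredArrow.mk (𝟙 (π.obj x₀))

/-- Objects with a morphism to the tautological point. -/
def Trivd : Type (u + 1) := Σ z : (OverPt π x₀).obj, (z ⟶ ptObj π x₀)

/-- The underlying object. -/
def trivdObj (t : Trivd π x₀) : (OverPt π x₀).obj := t.1

theorem isStable_trivd : IsStable (trivdObj π x₀) := fun η t φ => ⟨⟨η, φ ≫ t.2⟩, ⟨Iso.refl η⟩⟩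

variable {π x₀} {A : (Over S)ᵒᵖ ⥤ GrpCat.{u}} {ι : TwSh.BandHom 𝒳 A} (χ : A ⟶ TwSh.GmPsh S)
  (hπ : TwSh.IsBandedGerbe (QuotSh.J Scheme.fppfPrecoverage S) π ι)
  (hp : FibCat.IsFibGrpd 𝒳.p) (hp' : FibCat.IsFibGrpd 𝒴.p)

include hπ hp hp' in
theorem isDense_trivd : IsDense (trivdObj π x₀) := fun ξ => by
  obtain ⟨κ, z, φ, hc, hψ⟩ := exists_cov_hom π hπ.1.2 hp hp' (show π.obj ξ.left ⟶ π.obj x₀ from ξ.hom)
  choose ψ hψ using hψ
  let Z : κ → (OverPt π x₀).obj := fun i => CostructuredArrow.mk (π.map (φ i) ≫ ξ.hom)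
  let g : ∀ i, Z i ⟶ ξ := fun i => CostructuredArrow.homMk (φ i) rfl
  let q : ∀ i, Z i ⟶ ptObj π x₀ := fun i =>
    CostructuredArrow.homMk (ψ i) ((Category.comp_id _).trans (hψ i).symm)
  exact ⟨κ, fun i => ⟨Z i, q i⟩, g, ⟨fun i => hc.flat i, fun i => hc.lfp i, fun t => hc.surj t⟩⟩

/-- The value of the twisting character on a band element. -/
noncomputable def trivdScal (t : Trivd π x₀) (a : A.obj (op (𝒳.p.obj t.1.left))) :
    Γ(StMod.sch (OverPt π x₀) (trivdObj π x₀ t), ⊤) :=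
  twScal χ t.1.left a

include hπ hp hp' in
theorem exists_trivd_decomp {t' t : Trivd π x₀} (b : trivdObj π x₀ t' ⟶ trivdObj π x₀ t) :
    ∃ a : A.obj (op (𝒳.p.obj t'.1.left)), (ι.hom t'.1.left a).hom.1 ≫ t'.2.left = b.left ≫ t.2.left := by
  refine exists_band π hπ hp hp' ?_
  rw [Functor.map_comp]
  have h₁ : π.map t.2.left = t.1.hom := (Category.comp_id _).symm.trans (CostructuredArrow.w t.2)
  have h₂ : π.map t'.2.left = t'.1.hom := (Category.comp_id _).symm.trans (CostructuredArrow.w t'.2)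
  rw [h₁, h₂]
  exact (CostructuredArrow.w b).symm

include hπ hp in
theorem trivd_decomp_unique {t' : Trivd π x₀} {a a' : A.obj (op (𝒳.p.obj t'.1.left))}
    (h : (ι.hom t'.1.left a).hom.1 ≫ t'.2.left = (ι.hom t'.1.left a').hom.1 ≫ t'.2.left) : a = a' := by
  refine (hπ.2 _).1 (Aut.ext (Functor.Fiber.hom_ext (hom_ext_of_map hp t'.2.left ?_ h)))
  show 𝒳.p.map (ι.hom _ a).hom.1 = 𝒳.p.map (ι.hom _ a').hom.1
  rw [TwSh.map_autO_hom, TwSh.map_autO_hom]

/-- Restriction between trivialised objects. -/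
noncomputable def lineRes {t' t : Trivd π x₀} (b : trivdObj π x₀ t' ⟶ trivdObj π x₀ t) :
    Γ(StMod.sch (OverPt π x₀) (trivdObj π x₀ t), ⊤) →+ Γ(StMod.sch (OverPt π x₀) (trivdObj π x₀ t'), ⊤) :=
  (AddMonoidHom.mulLeft (trivdScal χ t' (exists_trivd_decomp hπ hp hp' b).choose)).comp
    (StMod.bmap (OverPt π x₀) b).appTop.hom.toAddMonoidHom

theorem lineRes_eq {t' t : Trivd π x₀} (b : trivdObj π x₀ t' ⟶ trivdObj π x₀ t)
    {a : A.obj (op (𝒳.p.obj t'.1.left))}
    (h : (ι.hom t'.1.left a).hom.1 ≫ t'.2.left = b.left ≫ t.2.left)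
    (n : Γ(StMod.sch (OverPt π x₀) (trivdObj π x₀ t), ⊤)) :
    lineRes χ hπ hp hp' b n = trivdScal χ t' a * (StMod.bmap (OverPt π x₀) b).appTop n := by
  obtain rfl := trivd_decomp_unique hπ hp ((exists_trivd_decomp hπ hp hp' b).choose_spec.trans h.symm)
  rfl

theorem lineRes_plain {t' t : Trivd π x₀} (b : trivdObj π x₀ t' ⟶ trivdObj π x₀ t)
    (h : t'.2.left = b.left ≫ t.2.left) (n : Γ(StMod.sch (OverPt π x₀) (trivdObj π x₀ t), ⊤)) :
    lineRes χ hπ hp hp' b n = (StMod.bmap (OverPt π x₀) b).appTop n := by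
  rw [lineRes_eq χ hπ hp hp' b (a := 1) (by rw [map_one, ← h]; exact Category.id_comp _), trivdScal, twScal_one]
  exact one_mul _

theorem lineRes_comp {t'' t' t : Trivd π x₀} (b' : trivdObj π x₀ t'' ⟶ trivdObj π x₀ t')
    (b : trivdObj π x₀ t' ⟶ trivdObj π x₀ t) (n : Γ(StMod.sch (OverPt π x₀) (trivdObj π x₀ t), ⊤)) :
    lineRes χ hπ hp hp' (b' ≫ b) n = lineRes χ hπ hp hp' b' (lineRes χ hπ hp hp' b n) := by
  obtain ⟨a, ha⟩ := exists_trivd_decomp hπ hp hp' b
  obtain ⟨a', ha'⟩ := exists_trivd_decomp hπ hp hp' b'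
  let a'' : A.obj (op (𝒳.p.obj t''.1.left)) := A.map (𝒳.p.map b'.left).op a
  rw [lineRes_eq χ hπ hp hp' b ha, lineRes_eq χ hπ hp hp' b' ha',
    lineRes_eq χ hπ hp hp' (b' ≫ b) (a := a' * a'') (by
      rw [map_mul]
      show ((ι.hom t''.1.left a'').hom.1 ≫ (ι.hom _ a').hom.1) ≫ t''.2.left =
        (b'.left ≫ b.left) ≫ t.2.left
      rw [Category.assoc, Category.assoc, ha', ← Category.assoc]
      erw [ι.natural b'.left a]
      rw [Category.assoc]
      exact congrArg (b'.left ≫ ·) ha),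
    map_mul]
  have e : trivdScal χ t'' a'' =
      (StMod.bmap (OverPt π x₀) b').appTop (trivdScal χ t' a) := twScal_map χ b'.left a
  rw [trivdScal, twScal_mul, ← trivdScal, ← trivdScal, e, StMod.bmap_comp, Scheme.Hom.comp_appTop, mul_assoc]
  rfl

/-- The twisted functions on trivialised objects. -/
noncomputable def lineSys : DSys (trivdObj π x₀) where
  obj t := Γ(StMod.sch (OverPt π x₀) (trivdObj π x₀ t), ⊤)
  res := lineRes χ hπ hp hp'
  res_smul {t' t} b r n := by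
    obtain ⟨a, ha⟩ := exists_trivd_decomp hπ hp hp' b
    show lineRes χ hπ hp hp' b (r * n) = (StMod.bmap (OverPt π x₀) b).appTop r * lineRes χ hπ hp hp' b n
    rw [lineRes_eq χ hπ hp hp' b ha, lineRes_eq χ hπ hp hp' b ha, map_mul, mul_left_comm]
  res_id t n := by
    rw [lineRes_plain χ hπ hp hp' (𝟙 (trivdObj π x₀ t)) (Category.id_comp _).symm, StMod.bmap_id]
    rfl
  res_comp b' b n := lineRes_comp χ hπ hp hp' b' b n

theorem isSheaf_lineSys : (lineSys χ hπ hp hp' (x₀ := x₀)).IsSheaf := by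
  intro t κ k b hb
  have hq : FibCat.IsFibGrpd (OverPt π x₀).p := isFibGrpd_fibCat π _ hp
  have hS := isSheaf_modSys hq (StMod.OQ (𝒳 := OverPt π x₀)).property
  let N := lineSys χ hπ hp hp' (x₀ := x₀)
  let k' : κ → Trivd π x₀ := fun i => ⟨trivdObj π x₀ (k i), b i ≫ t.2⟩
  let e : ∀ i, trivdObj π x₀ (k' i) ⟶ trivdObj π x₀ (k i) := fun i => 𝟙 _
  let e' : ∀ i, trivdObj π x₀ (k i) ⟶ trivdObj π x₀ (k' i) := fun i => 𝟙 _
  have hplain : ∀ i s, N.res (t' := k' i) (b i) s =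
      (StMod.bmap (OverPt π x₀) (b i)).appTop s := fun i s => lineRes_plain χ hπ hp hp' (t' := k' i) (b i) rfl s
  have hback : ∀ i (x : N.obj (k i)), N.res (e' i) (N.res (e i) x) = x := fun i x => by
    rw [← N.res_comp, show e' i ≫ e i = 𝟙 _ from Category.comp_id _, N.res_id]
  have hsplit : ∀ i s, N.res (b i) s = N.res (e' i) (N.res (t' := k' i) (b i) s) := fun i s => by
    rw [← N.res_comp]
    exact congrArg (fun c => N.res c s) (Category.id_comp (b i)).symm
  have hsplit' : ∀ i s, N.res (t' := k' i) (b i) s = N.res (e i) (N.res (b i) s) := fun i s => by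
    rw [← N.res_comp]
    exact congrArg (fun c => N.res c s) (Category.id_comp (b i)).symm
  refine ⟨fun s s' h => hS.1 _ _ hb s s' fun i => ?_, fun x hx => ?_⟩
  · show (StMod.bmap (OverPt π x₀) (b i)).appTop s = (StMod.bmap (OverPt π x₀) (b i)).appTop s'
    rw [← hplain, ← hplain, hsplit', hsplit', h]
  · obtain ⟨s, hs⟩ := hS.2 _ _ hb (fun i => (N.res (e i) (x i) :)) fun i j y a c h => by
      let t'' : Trivd π x₀ := ⟨y, a ≫ b i ≫ t.2⟩
      let a' : trivdObj π x₀ t'' ⟶ trivdObj π x₀ (k' i) := a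
      let c' : trivdObj π x₀ t'' ⟶ trivdObj π x₀ (k' j) := c
      show (StMod.bmap (OverPt π x₀) a).appTop (N.res (e i) (x i)) =
        (StMod.bmap (OverPt π x₀) c).appTop (N.res (e j) (x j))
      refine (lineRes_plain χ hπ hp hp' a' rfl _).symm.trans (Eq.trans ?_ (lineRes_plain χ hπ hp hp' c' ?_ _))
      · show N.res a' (N.res (e i) (x i)) = N.res c' (N.res (e j) (x j))
        rw [← N.res_comp, ← N.res_comp]
        refine hx i j t'' _ _ ?_
        show (a ≫ 𝟙 _) ≫ b i = (c ≫ 𝟙 _) ≫ b j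
        simpa using h
      · show (a ≫ b i ≫ t.2).left = (c ≫ b j ≫ t.2).left
        rw [reassoc_of% h]
    refine ⟨s, fun i => ?_⟩
    have h1 : N.res (t' := k' i) (b i) s = N.res (e i) (x i) := (hplain i s).trans (hs i)
    rw [hsplit, h1, hback]

theorem hasBC_lineSys : (lineSys χ hπ hp hp' (x₀ := x₀)).HasBC := by
  intro t' t f ht ht'
  obtain ⟨a, ha⟩ := exists_trivd_decomp hπ hp hp' f
  let B := Γ(StMod.sch (OverPt π x₀) (trivdObj π x₀ t'), ⊤)
  let c : B := trivdScal χ t' a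
  have hc : IsUnit c := ⟨((TwSh.charUnit χ t'.1.left a ^ (1 : ℤ))⁻¹ : _), rfl⟩
  have h₁ : IsSemiBC (StMod.bmap (OverPt π x₀) f).appTop.hom
      ((modSys (StMod.O (OverPt π x₀))).res f) :=
    (Sys.bc_iff f).1 (hasBC_modSys (StMod.OQ (𝒳 := OverPt π x₀)).property f ht ht')
  let mulc : (modSys (StMod.O (OverPt π x₀))).obj (trivdObj π x₀ t') →+
      (lineSys χ hπ hp hp' (x₀ := x₀)).obj t' := AddMonoidHom.mulLeft (R := B) c
  have h₂ : IsSemiBC (RingHom.id B) mulc := by
    refine isSemiBC_of_bijective (fun r n => ?_) Function.bijective_id ?_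
    · show c * (r * (show B from n)) = r * (c * (show B from n))
      exact mul_left_comm _ _ _
    · obtain ⟨v, hv⟩ := hc
      refine Function.bijective_iff_has_inverse.2 ⟨fun n => ((v⁻¹).val * (show B from n) : B), fun n => ?_, fun n => ?_⟩
      · show (v⁻¹).val * (c * (show B from n)) = (show B from n)
        rw [← hv, ← mul_assoc, Units.inv_mul, one_mul]
      · show c * ((v⁻¹).val * (show B from n)) = (show B from n)
        rw [← hv, ← mul_assoc, Units.mul_inv, one_mul]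
  have h₃ := h₁.comp h₂
  have e : mulc.comp ((modSys (StMod.O (OverPt π x₀))).res f) = (lineSys χ hπ hp hp' (x₀ := x₀)).res f :=
    AddMonoidHom.ext fun n => (lineRes_eq χ hπ hp hp' f ha n).symm
  rw [e, RingHom.id_comp] at h₃
  exact h₃

include hπ hp hp' in
/-- The twisted line bundle, with its trivialisation on trivialised objects and the action of the band. -/
theorem exists_line : ∃ (L : StMod.QCoh (OverPt π x₀))
      (θ : ∀ t : Trivd π x₀, Γ(L.obj.obj (trivdObj π x₀ t), ⊤) →+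
        Γ(StMod.sch (OverPt π x₀) (trivdObj π x₀ t), ⊤)),
      (∀ t, Function.Bijective (θ t)) ∧
      (∀ t (r : Γ(StMod.sch (OverPt π x₀) (trivdObj π x₀ t), ⊤)) (s : Γ(L.obj.obj (trivdObj π x₀ t), ⊤)),
        θ t (r • s) = r * θ t s) ∧
      ∀ (z : (OverPt π x₀).obj) (γ : z ⟶ z) (a : A.obj (op (𝒳.p.obj z.left))),
        γ.left = (ι.hom z.left a).hom.1 → ∀ s : Γ(L.obj.obj z, ⊤),
          L.obj.mapTop γ s = (show Γ(StMod.sch (OverPt π x₀) z, ⊤) from twScal χ z.left a) • s := by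
  have hq : FibCat.IsFibGrpd (OverPt π x₀).p := isFibGrpd_fibCat π _ hp
  have hd : IsDense (trivdObj π x₀) := isDense_trivd hπ hp hp'
  obtain ⟨L, θ, hb, hl, hn⟩ := exists_qcoh_of_dense hq hd (isStable_trivd π x₀) (lineSys χ hπ hp hp')
    (isSheaf_lineSys χ hπ hp hp') (hasBC_lineSys χ hπ hp hp')
  refine ⟨L, θ, hb, hl, fun z γ a hγ s => ?_⟩
  obtain ⟨κ, k, g, hg⟩ := hd z
  refine (isSheaf_modSys hq L.property).1 _ g hg _ _ fun i => ?_
  show L.obj.mapTop (g i) _ = L.obj.mapTop (g i) _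
  let t := k i
  let a' := A.map (𝒳.p.map (g i).left).op a
  let γ' : trivdObj π x₀ t ⟶ trivdObj π x₀ t := CostructuredArrow.homMk (ι.hom t.1.left a').hom.1 (by
    rw [hπ.map_hom_eq_id]
    exact Category.id_comp _)
  have hcomm : g i ≫ γ = γ' ≫ g i := CostructuredArrow.hom_ext _ _ (by
    show (g i).left ≫ γ.left = (ι.hom t.1.left a').hom.1 ≫ (g i).left
    rw [hγ]
    exact (ι.natural (g i).left a).symm)
  rw [← StMod.Mod.mapTop_comp, hcomm, StMod.Mod.mapTop_comp, StMod.Mod.mapTop_smul]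
  refine Eq.trans ?_ (congrArg (· • L.obj.mapTop (g i) s) (twScal_map χ (g i).left a))
  refine (hb t).1 ((hn _ _).trans (Eq.trans ?_ (hl t _ _).symm))
  refine (lineRes_eq χ hπ hp hp' γ' (a := a') rfl _).trans ?_
  have e1 : StMod.bmap (OverPt π x₀) γ' = 𝟙 _ := TwSh.bmap_autO _ (ι.hom t.1.left a')
  rw [e1]
  rfl

end Groth.Agent.StModLib
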