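import Groth.Agent.StModLib.ConnFibre
import Groth.Agent.AlgStLib.Graph

/-!
# Morphisms out of an etale scheme over a good moduli space
-/

set_option autoImplicit false
set_option linter.style.haveILetI false
set_option linter.unusedSectionVars false
set_option backward.isDefEq.respectTransparency false
set_option backward.isDefEq.respectTransparency.types false

universe u

open CategoryTheory CategoryTheory.Limits AlgebraicGeometry AlgSp Opposite
open Groth.Agent.AlgStLib Groth.Agent.AlgSpLib Groth.Agent.FibBase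

noncomputable section

namespace Groth.Agent.StModLib

variable {S : Scheme.{u}} {𝒳 : AlgSt.Cat S} {M : Sp S}

local notation "K₀" => Scheme.fppfPrecoverage

/-- The morphism of etale objects over a map of schemes. -/
def etaHom {E' E : EtOver M} (j : E'.obj.left ⟶ E.obj.left)
    (hj : (yon S).map j ≫ E.obj.hom = E'.obj.hom) : StMod.etaOf E' ⟶ StMod.etaOf E :=
  ⟨j, (map_sec_iff (o' := StMod.etaOf E') (o := StMod.etaOf E) j).2 (by rw [eltMap_etaOf, eltMap_etaOf]; exact hj)⟩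

variable (π : 𝒳 ⥤ᵇ AlgSt.ofSp M)

theorem yon_baseOver (E : EtOver M) (ξ : 𝒳.obj) (α : π.obj ξ ⟶ StMod.etaOf E) :
    (yon S).map (StMod.baseOver π ξ α) ≫ E.obj.hom =
      (yon S).map (eqToHom (π.w_obj ξ).symm) ≫ eltMap (π.obj ξ) := by
  have e := yon_map_eltMap α
  rw [eltMap_etaOf] at e
  rw [← e, ← Category.assoc, ← Functor.map_comp]
  rfl

theorem baseOver_etaHom {E' E : EtOver M} (j : E'.obj.left ⟶ E.obj.left)
    (hj : (yon S).map j ≫ E.obj.hom = E'.obj.hom) (ξ : 𝒳.obj) (α : π.obj ξ ⟶ StMod.etaOf E') :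
    StMod.baseOver π ξ (α ≫ etaHom j hj) = StMod.baseOver π ξ α ≫ j := by
  show eqToHom _ ≫ α.hom ≫ j = (eqToHom _ ≫ α.hom) ≫ j
  rw [Category.assoc]

/-- A piece of an object lying in an etale scheme over the target gives an object over it. -/
theorem exists_lift_etaOf (hp : FibCat.IsFibGrpd 𝒳.p) (E : EtOver M) (ξ : 𝒳.obj) {W : Over S}
    (u : W ⟶ 𝒳.p.obj ξ) (m : W ⟶ E.obj.left)
    (hm : (yon S).map m ≫ E.obj.hom = (yon S).map (u ≫ eqToHom (π.w_obj ξ).symm) ≫ eltMap (π.obj ξ)) :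
    ∃ (ξ' : 𝒳.obj) (φ : ξ' ⟶ ξ) (e : 𝒳.p.obj ξ' = W) (α : π.obj ξ' ⟶ StMod.etaOf E),
      𝒳.p.map φ = eqToHom e ≫ u ∧ StMod.baseOver π ξ' α = eqToHom e ≫ m := by
  obtain ⟨ξ', φ, hφ⟩ := hp.exists_lift (x := ξ) u
  have e : 𝒳.p.obj ξ' = W := IsHomLift.domain_eq 𝒳.p u φ
  have he : 𝒳.p.map φ = eqToHom e ≫ u := by
    rw [IsHomLift.fac' 𝒳.p u φ]
    simp
  refine ⟨ξ', φ, e, ⟨eqToHom ((π.w_obj ξ').trans e) ≫ m,
    (map_sec_iff (o' := π.obj ξ') (o := StMod.etaOf E) (eqToHom ((π.w_obj ξ').trans e) ≫ m)).2 ?_⟩, he, ?_⟩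
  · rw [eltMap_etaOf, Functor.map_comp, Category.assoc, hm, ← yon_map_eltMap (π.map φ), ← Category.assoc,
      ← Functor.map_comp]
    refine congrArg (fun k => (yon S).map k ≫ eltMap (π.obj ξ)) ?_
    have e' : (π.map φ).hom = eqToHom (π.w_obj ξ') ≫ 𝒳.p.map φ ≫ eqToHom (π.w_obj ξ).symm := map_w π φ
    rw [e', he]
    simp
  · show eqToHom _ ≫ eqToHom _ ≫ m = eqToHom e ≫ m
    rw [eqToHom_trans_assoc]

variable {Z : Over S} (ψ : 𝒳 ⥤ᵇ AlgSt.ofSch Z)

/-- The map to a scheme under an object. -/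
def sh (ξ : 𝒳.obj) : 𝒳.p.obj ξ ⟶ Z := eqToHom (ψ.w_obj ξ).symm ≫ (ψ.obj ξ).sec.down

theorem map_sh {ξ' ξ : 𝒳.obj} (φ : ξ' ⟶ ξ) : 𝒳.p.map φ ≫ sh ψ ξ = sh ψ ξ' := by
  have e : (ψ.map φ).hom = eqToHom (ψ.w_obj ξ') ≫ 𝒳.p.map φ ≫ eqToHom (ψ.w_obj ξ).symm := map_w ψ φ
  have h : (ψ.map φ).hom ≫ (ψ.obj ξ).sec.down = (ψ.obj ξ').sec.down := congrArg ULift.down (ψ.map φ).map_sec
  rw [sh, sh, ← h, e]
  simp

/-- A map from an etale scheme over the target agreeing with a functor to a scheme. -/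
def Compat (E : EtOver M) (k : E.obj.left ⟶ Z) : Prop :=
  ∀ (ξ : 𝒳.obj) (α : π.obj ξ ⟶ StMod.etaOf E), StMod.baseOver π ξ α ≫ k = sh ψ ξ

theorem Compat.apply (hp : FibCat.IsFibGrpd 𝒳.p) {E : EtOver M} {k : E.obj.left ⟶ Z} (hk : Compat π ψ E k)
    (ξ : 𝒳.obj) {W : Over S} (u : W ⟶ 𝒳.p.obj ξ) (m : W ⟶ E.obj.left)
    (hm : (yon S).map m ≫ E.obj.hom = (yon S).map (u ≫ eqToHom (π.w_obj ξ).symm) ≫ eltMap (π.obj ξ)) :
    m ≫ k = u ≫ sh ψ ξ := by
  obtain ⟨ξ', φ, e, α, hφ, hα⟩ := exists_lift_etaOf π hp E ξ u m hm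
  have h := hk ξ' α
  rw [hα, ← map_sh ψ φ, hφ, Category.assoc, Category.assoc, cancel_epi] at h
  exact h

theorem Compat.restrict {E' E : EtOver M} {k : E.obj.left ⟶ Z} (hk : Compat π ψ E k)
    (j : E'.obj.left ⟶ E.obj.left) (hj : (yon S).map j ≫ E.obj.hom = E'.obj.hom) : Compat π ψ E' (j ≫ k) :=
  fun ξ α => by rw [← Category.assoc, ← baseOver_etaHom π j hj, hk]

section Good

variable (h𝒳 : AlgSt.IsAlgStack K₀ 𝒳) (hs : AlgSt.IsSurjective π) (hun : StMod.UnitIsIso π)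

include h𝒳 hs in
/-- Every point of an etale scheme over the target lies under an object. -/
theorem exists_over_pt (E : EtOver M) (t : E.obj.left.left) :
    ∃ (ξ : 𝒳.obj) (α : π.obj ξ ⟶ StMod.etaOf E) (s : StMod.sch 𝒳 ξ), (StMod.baseOver π ξ α).left s = t := by
  let x : (FibCat.overCat E.obj.left : AlgSt.Cat S).obj :=
    Over.mk (Over.homMk (E.obj.left.left.fromSpecResidueField t) rfl :
      Over.mk (E.obj.left.left.fromSpecResidueField t ≫ E.obj.left.hom) ⟶ E.obj.left)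
  let p' : AlgSt.FPt (AlgSt.ofSp M) :=
    { K := ↥(E.obj.left.left.residueField t), str := E.obj.left.left.fromSpecResidueField t ≫ E.obj.left.hom,
      obj := (overOfMap E.obj.hom).obj x, lies := (overOfMap E.obj.hom).w_obj x }
  let b : p'.obj ⟶ StMod.etaOf E := (overOfMap E.obj.hom).map
    (Over.homMk (x : Over E.obj.left).hom (Category.comp_id _) : x ⟶ Over.mk (𝟙 E.obj.left))
  obtain ⟨y, hy⟩ := hs (AlgSt.Points.mk p')
  obtain ⟨q, rfl⟩ := AlgSt.Points.mk_surjective y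
  obtain ⟨r, a, b', -⟩ := (pts_mk_eq_iff (isFibGrpd_ofSp M)).1 hy
  obtain ⟨o, ho, -, j, -⟩ := exists_lift_fpt h𝒳.isStack.1 (isFibGrpd_ofSp M) π q r a
  let c : π.obj o ⟶ p'.obj := j.inv ≫ b'
  let α : π.obj o ⟶ StMod.etaOf E := c ≫ b
  haveI : Nonempty (StMod.sch 𝒳 o) :=
    ⟨(eqToHom ho.symm).left (IsLocalRing.closedPoint r.K : Spec (CommRingCat.of r.K))⟩
  obtain ⟨s⟩ := (inferInstance : Nonempty (StMod.sch 𝒳 o))
  refine ⟨o, α, s, ?_⟩
  show ((eqToHom (π.w_obj o).symm).left ≫ c.hom.left ≫ E.obj.left.left.fromSpecResidueField t) s = t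
  rw [← Category.assoc, Scheme.Hom.comp_apply]
  refine Eq.trans ?_ (Scheme.fromSpecResidueField_apply (X := E.obj.left.left) t
    (IsLocalRing.closedPoint (E.obj.left.left.residueField t)))
  exact congrArg _ (@Subsingleton.elim _ (inferInstanceAs (Subsingleton (PrimeSpectrum (E.obj.left.left.residueField t)))) _ _)

include h𝒳 hs hun in
/-- Maps out of an etale scheme over the target are determined by the objects over it. -/
theorem eq_of_baseOver (E : EtOver M) {Y : Scheme.{u}} (a a' : E.obj.left.left ⟶ Y)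
    (h : ∀ (ξ : 𝒳.obj) (α : π.obj ξ ⟶ StMod.etaOf E),
      (StMod.baseOver π ξ α).left ≫ a = (StMod.baseOver π ξ α).left ≫ a') : a = a' := by
  have hpt : ∀ t, a t = a' t := fun t => by
    obtain ⟨ξ, α, s, rfl⟩ := exists_over_pt π h𝒳 hs E t
    exact (congr($(h ξ α) s) :)
  have hloc : ∀ t, ∃ D : E.obj.left.left.Opens, t ∈ D ∧ D.ι ≫ a = D.ι ≫ a' := fun t => by
    obtain ⟨W, hW, htW, -⟩ := exists_isAffineOpen_mem_and_subset (x := a t) (U := ⊤) trivial
    obtain ⟨D, hD, htD, hDW⟩ := exists_isAffineOpen_mem_and_subset (x := t) (U := a ⁻¹ᵁ W ⊓ a' ⁻¹ᵁ W)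
      ⟨htW, (hpt t ▸ htW : a' t ∈ W)⟩
    refine ⟨D, htD, ?_⟩
    haveI : IsAffine W.toScheme := hW
    let V : Over S := Over.mk (D.ι ≫ E.obj.left.hom)
    let j : V ⟶ E.obj.left := Over.homMk D.ι rfl
    let E' : EtOver M := EtOver.mk ((yon S).map j ≫ E.obj.hom)
      (repWith_comp ((repWith_yon_map_iff @Etale j).2 (inferInstanceAs (Etale D.ι))) E.property)
    have hr : Set.range (D.ι ≫ a) ⊆ Set.range W.ι := by
      rintro _ ⟨d, rfl⟩
      rw [Scheme.Opens.range_ι]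
      exact (hDW d.2).1
    have hr' : Set.range (D.ι ≫ a') ⊆ Set.range W.ι := by
      rintro _ ⟨d, rfl⟩
      rw [Scheme.Opens.range_ι]
      exact (hDW d.2).2
    let b := IsOpenImmersion.lift W.ι _ hr
    let b' := IsOpenImmersion.lift W.ι _ hr'
    have hb : b ≫ W.ι = D.ι ≫ a := IsOpenImmersion.lift_fac _ _ _
    have hb' : b' ≫ W.ι = D.ι ≫ a' := IsOpenImmersion.lift_fac _ _ _
    suffices hbb : b = b' by rw [← hb, ← hb', hbb]
    refine ext_of_isAffine (CommRingCat.hom_ext (RingHom.ext fun r => ?_))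
    refine (hun E').1 (StMod.Mod.RelSect.ext _ _ _ fun ξ α => ?_)
    have e : (StMod.baseOver π ξ α).left ≫ b = (StMod.baseOver π ξ α).left ≫ b' := by
      rw [← cancel_mono W.ι, Category.assoc, hb, Category.assoc, hb']
      have := h ξ (α ≫ etaHom (E' := E') j rfl)
      rw [baseOver_etaHom π j rfl ξ α, Over.comp_left, Category.assoc, Category.assoc] at this
      exact this
    exact congr($(congrArg Scheme.Hom.appTop e) r)
  choose D hD hDe using hloc
  refine Scheme.Cover.hom_ext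
    (Scheme.openCoverOfIsOpenCover _ D (TopologicalSpace.Opens.ext (Set.eq_univ_of_forall fun t =>
      TopologicalSpace.Opens.mem_iSup.2 ⟨t, hD t⟩))) _ _ hDe

include h𝒳 hs hun in
theorem Compat.unique {E : EtOver M} {k k' : E.obj.left ⟶ Z} (hk : Compat π ψ E k) (hk' : Compat π ψ E k') :
    k = k' :=
  Over.OverMorphism.ext (eq_of_baseOver π h𝒳 hs hun E k.left k'.left fun ξ α =>
    congrArg CommaMorphism.left ((hk ξ α).trans (hk' ξ α).symm))

end Good

end Groth.Agent.StModLib
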